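import Cfsg.Agent.StdRank2.HexTwoRel

/-!
# The torus of a hexagonal root system in characteristic two

`hh x k` is multiplicative (the Steinberg symbols vanish), the torus is `{hh x 1 s * hh x 6 t}`.
-/

set_option autoImplicit false

namespace Cfsg.Agent.StdRank2.Hex

open Cfsg.Agent.SplitTwo
open scoped commutatorElement

section Ch

variable {E : Type*} [Field E] {σ : E ≃+* E}

theorem nrm_mul (s t : E) : nrm σ (s * t) = nrm σ s * nrm σ t := by
  unfold nrm; rw [map_mul, map_mul]; ring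

theorem shp_mul (s t : E) : shp σ (s * t) = shp σ s * shp σ t := by
  unfold shp; rw [map_mul, map_mul]; ring

theorem nrm_one : nrm σ (1 : E) = 1 := by unfold nrm; simp

theorem shp_one : shp σ (1 : E) = 1 := by unfold shp; simp

theorem nrm_ne_zero {t : E} (ht : t ≠ 0) : nrm σ t ≠ 0 := by
  unfold nrm
  have h1 : σ t ≠ 0 := fun e => ht (σ.injective (by rw [e, map_zero]))
  have h2 : σ (σ t) ≠ 0 := fun e => h1 (σ.injective (by rw [e, map_zero]))
  exact mul_ne_zero (mul_ne_zero ht h1) h2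

theorem shp_ne_zero {t : E} (ht : t ≠ 0) : shp σ t ≠ 0 := by
  unfold shp
  have h1 : σ t ≠ 0 := fun e => ht (σ.injective (by rw [e, map_zero]))
  have h2 : σ (σ t) ≠ 0 := fun e => h1 (σ.injective (by rw [e, map_zero]))
  exact mul_ne_zero h1 h2

theorem chS_mul (d : ZMod 12) (s t : E) : chS σ d (s * t) = chS σ d s * chS σ d t := by
  have : ∀ d : Fin 12, chS σ (d : ZMod 12) (s * t) = chS σ d s * chS σ d t := by
    intro d
    fin_cases d <;> simp [chS, nrm_mul, shp_mul, mul_pow] <;> ring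
  exact this d

theorem chL_mul (d : ZMod 12) (s t : E) : chL d (s * t) = chL d s * chL d t := by
  have : ∀ d : Fin 12, chL (d : ZMod 12) (s * t) = chL d s * chL d t := by
    intro d
    fin_cases d <;> simp [chL, mul_pow] <;> ring
  exact this d

theorem ch_mul (k d : ZMod 12) (s t : E) : ch σ k d (s * t) = ch σ k d s * ch σ k d t := by
  unfold ch
  split_ifs
  · exact chL_mul d s t
  · exact chS_mul d s t

theorem ch_one (k d : ZMod 12) : ch σ k d (1 : E) = 1 := by
  unfold ch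
  split_ifs
  · have : ∀ d : Fin 12, chL (d : ZMod 12) (1 : E) = 1 := by
      intro d
      fin_cases d <;> simp [chL]
    exact this d
  · have : ∀ d : Fin 12, chS σ (d : ZMod 12) (1 : E) = 1 := by
      intro d
      fin_cases d <;> simp [chS, nrm_one, shp_one]
    exact this d

theorem ch_ne_zero (k d : ZMod 12) {t : E} (ht : t ≠ 0) : ch σ k d t ≠ 0 := by
  intro h0
  have h1 := ch_mul (σ := σ) k d t t⁻¹
  rw [h0, zero_mul, mul_inv_cancel₀ ht, ch_one] at h1
  exact one_ne_zero h1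

theorem ch_inv (k d : ZMod 12) (t : E) : ch σ k d t⁻¹ = (ch σ k d t)⁻¹ := by
  by_cases ht : t = 0
  · subst ht
    unfold ch
    split_ifs
    · have : ∀ d : Fin 12, chL (d : ZMod 12) (0 : E)⁻¹ = (chL (d : ZMod 12) (0 : E))⁻¹ := by
        intro d
        fin_cases d <;> simp [chL]
      exact this d
    · have : ∀ d : Fin 12, chS σ (d : ZMod 12) (0 : E)⁻¹ = (chS σ (d : ZMod 12) (0 : E))⁻¹ := by
        intro d
        fin_cases d <;> simp [chS, nrm, shp]
      exact this d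
  · refine eq_inv_of_mul_eq_one_left ?_
    rw [← ch_mul, inv_mul_cancel₀ ht, ch_one]

theorem ch_opp (k d : ZMod 12) (t : E) : ch σ k (d + 6) t = (ch σ k d t)⁻¹ := by
  unfold ch
  split_ifs
  · have : ∀ d : Fin 12, chL (@id (ZMod 12) d + 6) t = (chL (d : ZMod 12) t)⁻¹ := by
      intro d
      fin_cases d
      · exact rfl
      · exact rfl
      · exact rfl
      · exact inv_one.symm
      · exact (inv_inv t).symm
      · exact (inv_inv t).symm
      · exact (inv_inv (t ^ 2)).symm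
      · exact (inv_inv t).symm
      · exact (inv_inv t).symm
      · exact inv_one.symm
      · exact rfl
      · exact rfl
    exact this d
  · have : ∀ d : Fin 12, chS σ (@id (ZMod 12) d + 6) t = (chS σ (d : ZMod 12) t)⁻¹ := by
      intro d
      have e : t * (shp σ t)⁻¹ = (t⁻¹ * shp σ t)⁻¹ := by rw [mul_inv, inv_inv]
      have e' : t⁻¹ * shp σ t = (t * (shp σ t)⁻¹)⁻¹ := by rw [mul_inv, inv_inv]
      fin_cases d
      · exact rfl
      · exact rfl
      · exact e
      · exact inv_one.symm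
      · exact e'
      · exact (inv_inv _).symm
      · exact (inv_inv (t ^ 2)).symm
      · exact (inv_inv _).symm
      · exact e'
      · exact inv_one.symm
      · exact e
      · exact rfl
    exact this d

theorem ch_zero_right (k : ZMod 12) (t : E) : ch σ k 0 t = t ^ 2 := by
  unfold ch
  split_ifs <;> rfl

end Ch

namespace HexTwo

variable {E : Type*} [Field E] {σ : E ≃+* E} {Γ : Type*} [Group Γ] {x : ZMod 12 → E → Γ} (h : HexTwo σ x)

include h

theorem hh_mul_nn (k : ZMod 12) (t : E) : hh x k t * nn x k = nt x k t := by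
  unfold hh
  rw [mul_assoc, h.nn_sq, mul_one]

theorem hh_one (k : ZMod 12) : hh x k 1 = 1 := by
  unfold hh
  rw [nt_one, h.nn_sq]

/-- action of `nt x k t` -/
theorem nt_act (k j : ZMod 12) {t a : E} (ht : t ≠ 0) (hok : Ok σ k t) (ha : Ok σ j a) :
    nt x k t * x j a * (nt x k t)⁻¹ = x (2 * k + 6 - j) (ch σ k (k + 6 - j) t * a) := by
  rw [← h.hh_mul_nn]
  have e : hh x k t * nn x k * x j a * (hh x k t * nn x k)⁻¹ =
      hh x k t * (nn x k * x j a * (nn x k)⁻¹) * (hh x k t)⁻¹ := by group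
  rw [e, h.refl k j ha, h.tor k _ ht hok (ha.congr (val_refl k j))]
  congr 3
  ring

theorem nt_opp (k : ZMod 12) {t : E} (ht : t ≠ 0) (hok : Ok σ k t) : nt x (k + 6) t⁻¹ = nt x k t := by
  have h1 : nt x k t * nt x k t * (nt x k t)⁻¹ = nt x (k + 6) t⁻¹ := by
    refine conj_nt ?_ ?_
    · rw [h.nt_act k k ht hok hok]
      congr 1
      · ring
      · rw [show k + 6 - k = 0 + 6 by ring, ch_opp, ch_zero_right]
        field_simp
    · rw [h.nt_act k (k + 6) ht hok (hok.inv.congr (val_add_6 k))]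
      congr 1
      · have : ∀ k : ZMod 12, 2 * k + 6 - (k + 6) = k + 6 + 6 := by decide
        exact this k
      · rw [show k + 6 - (k + 6) = 0 by ring, ch_zero_right]
        field_simp
  rw [← h1, mul_inv_cancel_right]

theorem hh_opp (k : ZMod 12) {t : E} (ht : t ≠ 0) (hok : Ok σ k t) : hh x (k + 6) t = hh x k t⁻¹ := by
  unfold hh
  have := h.nt_opp k (inv_ne_zero ht) hok.inv
  rw [inv_inv] at this
  rw [this, h.nn_opp]

/-- conjugation of `nt` by the torus -/
theorem hh_conj_nt (k l : ZMod 12) {t u : E} (ht : t ≠ 0) (hok : Ok σ k t) (hu : Ok σ l u) :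
    hh x k t * nt x l u * (hh x k t)⁻¹ = nt x l (ch σ k (l - k) t * u) := by
  refine conj_nt (h.tor k l ht hok hu) ?_
  rw [h.tor k (l + 6) ht hok (hu.inv.congr (val_add_6 l)), show l + 6 - k = (l - k) + 6 by ring, ch_opp, mul_inv]

theorem ok_chi (k l : ZMod 12) {t : E} (hok : Ok σ k t) : Ok σ l (ch σ k (l - k) t) := by
  have := ok_ch h.cube k (l - k) hok
  rwa [add_sub_cancel] at this

/-- conjugation of `hh` by the torus -/
theorem hh_conj_hh (k l : ZMod 12) {t u : E} (ht : t ≠ 0) (hok : Ok σ k t) (hu : Ok σ l u) :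
    hh x k t * hh x l u * (hh x k t)⁻¹ = hh x l (ch σ k (l - k) t * u) * (hh x l (ch σ k (l - k) t))⁻¹ := by
  have e1 : hh x k t * hh x l u * (hh x k t)⁻¹ =
      (hh x k t * nt x l u * (hh x k t)⁻¹) * (hh x k t * nt x l 1 * (hh x k t)⁻¹) := by
    rw [nt_one]
    change hh x k t * (nt x l u * nn x l) * (hh x k t)⁻¹ = _
    group
  have hχ := h.ok_chi k l hok
  rw [e1, h.hh_conj_nt k l ht hok hu, h.hh_conj_nt k l ht hok (ok_one σ l), mul_one,
    ← h.hh_mul_nn l (ch σ k (l - k) t * u), ← h.nt_inv hχ, ← h.hh_mul_nn l (ch σ k (l - k) t)]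
  rw [mul_inv_rev, h.nn_inv, mul_assoc, ← mul_assoc (nn x l) (nn x l), h.nn_sq, one_mul]

/-- reflections of torus elements -/
theorem nn_conj_hh (k l : ZMod 12) {t : E} (ht : t ≠ 0) (hok : Ok σ l t) :
    hh x (2 * k + 6 - l) t = hh x k (ch σ l (k - l) t)⁻¹ * hh x l t := by
  have hχ := h.ok_chi l k hok
  have hχ0 := ch_ne_zero (σ := σ) l (k - l) ht
  rw [← h.conj_nn_hh k l hok]
  have e1 : nn x k * hh x l t * (nn x k)⁻¹ = nn x k * (hh x l t * nt x k 1 * (hh x l t)⁻¹) * hh x l t := by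
    rw [nt_one, h.nn_inv]
    group
  rw [e1, h.hh_conj_nt l k ht hok (ok_one σ k), mul_one, ← h.hh_mul_nn]
  have e2 : nn x k * (hh x k (ch σ l (k - l) t) * nn x k) = nn x k * hh x k (ch σ l (k - l) t) * (nn x k)⁻¹ := by
    rw [h.nn_inv, mul_assoc]
  rw [e2, h.conj_nn_hh k k hχ, show 2 * k + 6 - k = k + 6 by ring, h.hh_opp k hχ0 hχ]

/-! ### The Steinberg symbols vanish -/

/-- The elements centralising all root elements. -/
def Zx (σ : E ≃+* E) (x : ZMod 12 → E → Γ) : Subgroup Γ where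
  carrier := {g | ∀ j a, Ok σ j a → g * x j a * g⁻¹ = x j a}
  mul_mem' := by
    intro g g' hg hg' j a ha
    have e : g * g' * x j a * (g * g')⁻¹ = g * (g' * x j a * g'⁻¹) * g⁻¹ := by group
    rw [e, hg' j a ha, hg j a ha]
  one_mem' := by intro j a _; group
  inv_mem' := by
    intro g hg j a ha
    have := hg j a ha
    have e : g⁻¹ * x j a * g⁻¹⁻¹ = g⁻¹ * (g * x j a * g⁻¹) * g := by rw [this]; group
    rw [e]; group

omit h in
theorem mem_Zx {g : Γ} : g ∈ Zx σ x ↔ ∀ j a, Ok σ j a → g * x j a * g⁻¹ = x j a := Iff.rfl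

omit h in
theorem Zx_comm_x {g : Γ} (hg : g ∈ Zx σ x) {j : ZMod 12} {a : E} (ha : Ok σ j a) : Commute g (x j a) := by
  have := hg j a ha
  rw [mul_inv_eq_iff_eq_mul] at this
  exact this

omit h in
theorem Zx_comm_nt {g : Γ} (hg : g ∈ Zx σ x) {j : ZMod 12} {a : E} (ha : Ok σ j a) : Commute g (nt x j a) :=
  ((Zx_comm_x hg ha).mul_right (Zx_comm_x hg (ha.inv.congr (val_add_6 j)))).mul_right (Zx_comm_x hg ha)

omit h in
theorem Zx_comm_hh {g : Γ} (hg : g ∈ Zx σ x) {j : ZMod 12} {a : E} (ha : Ok σ j a) : Commute g (hh x j a) := by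
  have := Zx_comm_nt hg (ok_one σ j)
  rw [nt_one] at this
  exact (Zx_comm_nt hg ha).mul_right this

theorem symbol_mem (l : ZMod 12) {s t : E} (hs : s ≠ 0) (ht : t ≠ 0) (hs' : Ok σ l s) (ht' : Ok σ l t) :
    hh x l s * hh x l t * (hh x l (s * t))⁻¹ ∈ Zx σ x := by
  intro j a ha
  have hst := mul_ne_zero hs ht
  have hok := hs'.mul ht'
  -- `hh (s t)⁻¹ x_j(a) hh (s t) = x_j (χ(st)⁻¹ a)`
  have hχ : Ok σ j (ch σ l (j - l) (s * t)) := h.ok_chi l j hok
  have hχ0 := ch_ne_zero (σ := σ) l (j - l) hst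
  have e1 : (hh x l (s * t))⁻¹ * x j a * hh x l (s * t) = x j ((ch σ l (j - l) (s * t))⁻¹ * a) := by
    have := h.tor l j hst hok (hχ.inv.mul ha)
    rw [mul_inv_cancel_left₀ hχ0] at this
    rw [← this]
    group
  have e2 : hh x l s * hh x l t * (hh x l (s * t))⁻¹ * x j a * (hh x l s * hh x l t * (hh x l (s * t))⁻¹)⁻¹ =
      hh x l s * (hh x l t * ((hh x l (s * t))⁻¹ * x j a * hh x l (s * t)) * (hh x l t)⁻¹) * (hh x l s)⁻¹ := by
    group
  have ok1 := hχ.inv.mul ha
  have ok2 := (h.ok_chi l j ht').mul ok1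
  rw [e2, e1, h.tor l j ht ht' ok1, h.tor l j hs hs' ok2, ch_mul]
  congr 1
  have h1 := ch_ne_zero (σ := σ) l (j - l) hs
  have h2 := ch_ne_zero (σ := σ) l (j - l) ht
  field_simp

/-- `[hh k s, hh l t]` is a Steinberg symbol -/
theorem commute_iff (k l : ZMod 12) {s t : E} (hs : s ≠ 0) (hs' : Ok σ k s) (ht' : Ok σ l t) :
    Commute (hh x k s) (hh x l t) ↔
      hh x l (t * ch σ k (l - k) s) = hh x l t * hh x l (ch σ k (l - k) s) := by
  rw [mul_comm t, ← mul_inv_eq_iff_eq_mul, ← h.hh_conj_hh k l hs hs' ht', mul_inv_eq_iff_eq_mul]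
  rfl

theorem sq_eq_one {t : E} (ht : t * t = 1) : t = 1 := by
  have h1 : (t + 1) * (t + 1) = 0 := by
    have : (t + 1) * (t + 1) = t * t + (t + t) + 1 := by ring
    rw [this, ht, h.add_self, add_zero, h.add_self]
  have h2 : t + 1 = 0 := mul_self_eq_zero.1 h1
  rw [← h.sub_eq] at h2
  exact sub_eq_zero.1 h2

theorem hh_sq (l : ZMod 12) {t : E} (ht : t ≠ 0) (ht' : Ok σ l t) : hh x l (t * t) = hh x l t * hh x l t := by
  have h1 : nt x l t * nn x l * (nt x l t)⁻¹ = nt x l (t * t) := by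
    have hok2 : Ok σ l (t * t) := ht'.mul ht'
    rw [← h.nt_opp l (mul_ne_zero ht ht) hok2, ← nt_one]
    refine conj_nt ?_ ?_
    · rw [h.nt_act l l ht ht' (ok_one σ l)]
      congr 1
      · ring
      · rw [show l + 6 - l = 0 + 6 by ring, ch_opp, ch_zero_right, mul_one, pow_two]
    · rw [h.nt_act l (l + 6) ht ht' (ok_one σ (l + 6)).inv]
      congr 1
      · have : ∀ k : ZMod 12, 2 * k + 6 - (k + 6) = k + 6 + 6 := by decide
        exact this l
      · rw [show l + 6 - (l + 6) = 0 by ring, ch_zero_right, inv_one, mul_one, inv_inv, pow_two]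
  calc hh x l (t * t) = nt x l (t * t) * nn x l := rfl
    _ = nt x l t * nn x l * (nt x l t) * nn x l := by rw [← h1, h.nt_inv ht']
    _ = hh x l t * hh x l t := by unfold hh; group

theorem eq_one_of_shp {c : E} (hc : c ≠ 0) (e1 : shp σ c = c) : c = 1 := by
  have e2 : σ (σ c) * c = σ c := by
    have := congrArg σ e1
    unfold shp at this
    rw [map_mul, h.cube] at this
    exact this
  have hs : σ c ≠ 0 := fun e => hc (σ.injective (by rw [e, map_zero]))
  have e3 : σ (σ c) * σ (σ c) = 1 := by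
    have h1 : σ (σ c) * σ (σ c) * σ c = σ c := by
      calc σ (σ c) * σ (σ c) * σ c = σ (σ c) * (σ c * σ (σ c)) := by ring
        _ = σ (σ c) * c := by
          unfold shp at e1
          rw [e1]
        _ = σ c := e2
    exact mul_right_cancel₀ hs (by rw [h1, one_mul])
  have e4 := h.sq_eq_one e3
  apply σ.injective
  apply σ.injective
  rw [e4, map_one, map_one]

/-- the character `t ↦ t⁻¹ σ t σσ t` is injective -/
theorem shp_injective {a b : E} (ha : a ≠ 0) (hb : b ≠ 0) (e : a⁻¹ * shp σ a = b⁻¹ * shp σ b) : a = b := by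
  have hc : a * b⁻¹ ≠ 0 := mul_ne_zero ha (inv_ne_zero hb)
  have e1 : shp σ (a * b⁻¹) = a * b⁻¹ := by
    have h1 : shp σ (a * b⁻¹) * shp σ b = shp σ a := by
      rw [← shp_mul, inv_mul_cancel_right₀ hb]
    have h2 := shp_ne_zero (σ := σ) hb
    have h3 : shp σ a = a * b⁻¹ * shp σ b := by
      have := congrArg (fun y => a * y) e
      simp only [mul_inv_cancel_left₀ ha] at this
      rw [this]
      ring
    rw [h3] at h1
    exact mul_right_cancel₀ h2 h1
  have := h.eq_one_of_shp hc e1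
  rwa [mul_inv_eq_one₀ hb] at this

/-- the character `t ↦ t⁻¹ σ t σσ t` is surjective -/
theorem shp_surjective [Finite E] {b : E} (hb : b ≠ 0) : ∃ a, a ≠ 0 ∧ a⁻¹ * shp σ a = b := by
  have h0 : ∀ a : E, a⁻¹ * shp σ a = 0 → a = 0 := by
    intro a ha
    by_contra h1
    exact mul_ne_zero (inv_ne_zero h1) (shp_ne_zero h1) ha
  have hz : (0 : E)⁻¹ * shp σ (0 : E) = 0 := by simp
  have hinj : Function.Injective (fun a : E => a⁻¹ * shp σ a) := by
    intro a b e
    simp only at e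
    by_cases ha : a = 0
    · subst ha
      rw [hz] at e
      exact (h0 b e.symm).symm
    by_cases hb : b = 0
    · subst hb
      rw [hz] at e
      exact h0 a e
    exact h.shp_injective ha hb e
  obtain ⟨a, ha⟩ := Finite.injective_iff_surjective.1 hinj b
  refine ⟨a, ?_, ha⟩
  rintro rfl
  apply hb
  rw [← ha]
  exact hz

/-- a second root `k` such that the torus elements of `k` act surjectively on the admissible parameters of `l` -/
theorem exists_partner [Finite E] (l : ZMod 12) {b : E} (hb : b ≠ 0) (hb' : Ok σ l b) :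
    ∃ a, a ≠ 0 ∧ Ok σ (l - 2) a ∧ ch σ (l - 2) (l - (l - 2)) a = b := by
  have hv : (l - 2).val % 2 = l.val % 2 := by
    have : ∀ l : ZMod 12, (l - 2).val % 2 = l.val % 2 := by decide
    exact this l
  have hd : l - (l - 2) = 2 := by ring
  rw [hd]
  by_cases hl : l.val % 2 = 0
  · refine ⟨b, hb, hb'.congr hv, ?_⟩
    unfold ch
    rw [if_pos (by rw [hv]; exact hl)]
    rfl
  · obtain ⟨a, ha, e⟩ := h.shp_surjective hb
    refine ⟨a, ha, fun h0 => absurd (by rw [← hv]; exact h0) hl, ?_⟩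
    unfold ch
    rw [if_neg (by rw [hv]; exact hl)]
    exact e

/-- modulo elements centralising everything, `hh` is multiplicative -/
theorem hh_pow_mod (l : ZMod 12) {t : E} (ht : t ≠ 0) (ht' : Ok σ l t) (n : ℕ) :
    ∃ z ∈ Zx σ x, hh x l (t ^ n) = z * hh x l t ^ n := by
  induction n with
  | zero => exact ⟨1, one_mem _, by rw [pow_zero, pow_zero, mul_one, h.hh_one]⟩
  | succ n ih =>
    obtain ⟨z, hz, e⟩ := ih
    have hokn : ∀ n : ℕ, Ok σ l (t ^ n) := fun n h0 => by rw [map_pow, ht' h0]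
    have hsym := h.symbol_mem l (pow_ne_zero n ht) ht (hokn n) ht'
    refine ⟨(hh x l (t ^ n) * hh x l t * (hh x l (t ^ n * t))⁻¹)⁻¹ * z, mul_mem (inv_mem hsym) hz, ?_⟩
    have e2 : (hh x l (t ^ n) * hh x l t * (hh x l (t ^ n * t))⁻¹)⁻¹ * z * hh x l t ^ (n + 1) =
        hh x l (t ^ n * t) * (hh x l t)⁻¹ * (hh x l (t ^ n))⁻¹ * (z * hh x l t ^ n) * hh x l t := by
      rw [pow_succ]
      group
    rw [e2, ← e, pow_succ]
    group

/-- **The Steinberg symbols vanish.** -/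
theorem hh_mul [Finite E] (l : ZMod 12) {s t : E} (hs : s ≠ 0) (ht : t ≠ 0) (hs' : Ok σ l s) (ht' : Ok σ l t) :
    hh x l (s * t) = hh x l s * hh x l t := by
  -- the group of admissible units
  let P : Subgroup Eˣ :=
    { carrier := {u | Ok σ l (u : E)}
      mul_mem' := fun {a b} ha hb => by
        simp only [Set.mem_ofPred_eq, Units.val_mul] at *
        exact Ok.mul ha hb
      one_mem' := by
        simp only [Set.mem_ofPred_eq, Units.val_one]
        exact ok_one σ l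
      inv_mem' := fun {a} ha => by
        simp only [Set.mem_ofPred_eq, Units.val_inv_eq_inv_val] at *
        exact Ok.inv ha }
  obtain ⟨⟨ζ, hζ⟩, hgen⟩ := (inferInstance : IsCyclic P).exists_generator
  have hζ' : Ok σ l (ζ : E) := hζ
  have hpow : ∀ u : E, u ≠ 0 → Ok σ l u → ∃ n : ℕ, u = (ζ : E) ^ n := by
    intro u hu hu'
    obtain ⟨n, hn⟩ := (mem_powers_iff_mem_zpowers).2 (hgen ⟨Units.mk0 u hu, hu'⟩)
    refine ⟨n, ?_⟩
    have := congrArg (fun y : P => ((y : Eˣ) : E)) hn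
    simpa using this.symm
  obtain ⟨s0, hs0, hs0', e0⟩ := h.exists_partner l (Units.ne_zero ζ) hζ'
  set k := l - 2 with hk
  have hχ : Ok σ l (ch σ k (l - k) s0) := by rw [e0]; exact hζ'
  have hcomm : Commute (hh x k s0) (hh x l ζ) := by
    rw [h.commute_iff k l hs0 hs0' hζ', e0]
    exact h.hh_sq l (Units.ne_zero ζ) hζ'
  have hs0n : ∀ n : ℕ, Ok σ k (s0 ^ n) := fun n h0 => by rw [map_pow, hs0' h0]
  have key : ∀ i j : ℕ, Commute (hh x k (s0 ^ j)) (hh x l ((ζ : E) ^ i)) := by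
    intro i j
    obtain ⟨z, hz, e⟩ := h.hh_pow_mod l (Units.ne_zero ζ) hζ' i
    obtain ⟨z', hz', e'⟩ := h.hh_pow_mod k hs0 hs0' j
    have c1 : Commute z (hh x k (s0 ^ j)) := Zx_comm_hh hz (hs0n j)
    have c2 : Commute (hh x k (s0 ^ j)) (hh x l (ζ : E) ^ i) := by
      rw [e']
      exact (((Zx_comm_hh hz' hζ').pow_right i)).mul_left (hcomm.pow_pow j i)
    rw [e]
    exact c1.symm.mul_right c2
  obtain ⟨i, rfl⟩ := hpow s hs hs'
  obtain ⟨j, rfl⟩ := hpow t ht ht'
  have ej : ch σ k (l - k) (s0 ^ j) = (ζ : E) ^ j := by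
    clear key
    induction j with
    | zero => rw [pow_zero, pow_zero, ch_one]
    | succ j ih =>
      have htj : Ok σ l ((ζ : E) ^ j) := fun h0 => by rw [map_pow, hζ' h0]
      rw [pow_succ, pow_succ, ch_mul, ih (pow_ne_zero _ (Units.ne_zero ζ)) htj, e0]
  have := (h.commute_iff k l (pow_ne_zero j hs0) (hs0n j) hs').1 (key i j)
  rwa [ej] at this

theorem hh_commute [Finite E] (k l : ZMod 12) {s t : E} (hs : s ≠ 0) (ht : t ≠ 0) (hs' : Ok σ k s) (ht' : Ok σ l t) :
    Commute (hh x k s) (hh x l t) := by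
  rw [h.commute_iff k l hs hs' ht']
  exact h.hh_mul l ht (ch_ne_zero _ _ hs) ht' (h.ok_chi k l hs')

theorem hh_inv [Finite E] (l : ZMod 12) {t : E} (ht : t ≠ 0) (ht' : Ok σ l t) : (hh x l t)⁻¹ = hh x l t⁻¹ := by
  refine inv_eq_of_mul_eq_one_left ?_
  rw [← h.hh_mul l (inv_ne_zero ht) ht ht'.inv ht', inv_mul_cancel₀ ht, h.hh_one]

/-- The torus. -/
def H [Finite E] : Subgroup Γ where
  carrier := {g | ∃ s t : E, s ≠ 0 ∧ t ≠ 0 ∧ σ t = t ∧ g = hh x 1 s * hh x 6 t}
  mul_mem' := by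
    rintro _ _ ⟨s, t, hs, ht, ht', rfl⟩ ⟨s', t', hs', ht0, ht0', rfl⟩
    refine ⟨s * s', t * t', mul_ne_zero hs hs', mul_ne_zero ht ht0, by rw [map_mul, ht', ht0'], ?_⟩
    rw [h.hh_mul 1 hs hs' (ok1 s) (ok1 s'), h.hh_mul 6 ht ht0 (ok_of_fix _ ht') (ok_of_fix _ ht0')]
    have := (h.hh_commute 6 1 ht hs' (ok_of_fix _ ht') (ok1 s')).eq
    calc hh x 1 s * hh x 6 t * (hh x 1 s' * hh x 6 t') = hh x 1 s * (hh x 6 t * hh x 1 s') * hh x 6 t' := by group
      _ = _ := by rw [this]; group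
  one_mem' := ⟨1, 1, one_ne_zero, one_ne_zero, map_one σ, by rw [h.hh_one, h.hh_one, mul_one]⟩
  inv_mem' := by
    rintro _ ⟨s, t, hs, ht, ht', rfl⟩
    refine ⟨s⁻¹, t⁻¹, inv_ne_zero hs, inv_ne_zero ht, by rw [map_inv₀, ht'], ?_⟩
    rw [mul_inv_rev, h.hh_inv 1 hs (ok1 s), h.hh_inv 6 ht (ok_of_fix _ ht')]
    exact (h.hh_commute 6 1 (inv_ne_zero ht) (inv_ne_zero hs) (ok_of_fix _ ht').inv (ok1 _)).eq

theorem mem_H [Finite E] {g : Γ} : g ∈ h.H ↔ ∃ s t : E, s ≠ 0 ∧ t ≠ 0 ∧ σ t = t ∧ g = hh x 1 s * hh x 6 t := Iff.rfl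

theorem hh1_mem_H [Finite E] {s : E} (hs : s ≠ 0) : hh x 1 s ∈ h.H :=
  ⟨s, 1, hs, one_ne_zero, map_one σ, by rw [h.hh_one, mul_one]⟩

theorem hh6_mem_H [Finite E] {t : E} (ht : t ≠ 0) (ht' : σ t = t) : hh x 6 t ∈ h.H :=
  ⟨1, t, one_ne_zero, ht, ht', by rw [h.hh_one, one_mul]⟩

/-- the values of the torus characters -/
theorem H_act [Finite E] {s t : E} (hs : s ≠ 0) (ht : t ≠ 0) (ht' : σ t = t) {j : ZMod 12} {a : E} (ha : Ok σ j a) :
    hh x 1 s * hh x 6 t * x j a * (hh x 1 s * hh x 6 t)⁻¹ =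
      x j (ch σ 1 (j - 1) s * ch σ 6 (j - 6) t * a) := by
  have e : hh x 1 s * hh x 6 t * x j a * (hh x 1 s * hh x 6 t)⁻¹ =
      hh x 1 s * (hh x 6 t * x j a * (hh x 6 t)⁻¹) * (hh x 1 s)⁻¹ := by group
  rw [e, h.tor 6 j ht (ok_of_fix _ ht') ha, h.tor 1 j hs (ok1 s) ((h.ok_chi 6 j (ok_of_fix _ ht')).mul ha), mul_assoc]

end HexTwo

end Cfsg.Agent.StdRank2.Hex
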