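import Cfsg.Agent.StdRank2.HexTorus

/-!
# Normal forms in the unipotent subgroups of a hexagonal root system in characteristic two

`gen σ x S` is generated by the root groups in `S`; for an arc `S = {k, …, k + n - 1}`, `n ≤ 6`, it is the product of its root
groups, with unique factors.
-/

set_option autoImplicit false

namespace Cfsg.Agent.StdRank2.Hex

open Cfsg.Agent.SplitTwo
open scoped commutatorElement

section Gen

variable {E : Type*} [Field E] (σ : E ≃+* E) {Γ : Type*} [Group Γ] (x : ZMod 12 → E → Γ)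

/-- The subgroup generated by the root groups in `S`. -/
def gen (S : Set (ZMod 12)) : Subgroup Γ := Subgroup.closure {y : Γ | ∃ k ∈ S, ∃ a, Ok σ k a ∧ y = x k a}

/-- The arc `k, k + 1, …, k + n - 1`. -/
def arc (k : ZMod 12) (n : ℕ) : Set (ZMod 12) := {l | (l - k).val < n}

variable {σ x}

theorem val_succ : ∀ k : ZMod 12, (k + 1).val % 2 = (k.val + 1) % 2 := by decide

theorem x_mem_gen {S : Set (ZMod 12)} {k : ZMod 12} (hk : k ∈ S) {a : E} (ha : Ok σ k a) : x k a ∈ gen σ x S :=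
  Subgroup.subset_closure ⟨k, hk, a, ha, rfl⟩

theorem gen_le {S : Set (ZMod 12)} {P : Subgroup Γ} (hP : ∀ k ∈ S, ∀ a, Ok σ k a → x k a ∈ P) : gen σ x S ≤ P := by
  refine (Subgroup.closure_le P).2 ?_
  rintro y ⟨k, hk, a, ha, rfl⟩
  exact hP k hk a ha

theorem gen_mono {S T : Set (ZMod 12)} (hST : S ⊆ T) : gen σ x S ≤ gen σ x T :=
  gen_le fun _ hk _ ha => x_mem_gen (hST hk) ha

/-- conjugation of the generated subgroups -/
theorem conj_gen {S T : Set (ZMod 12)} {g : Γ} (hg : ∀ k ∈ S, ∀ a, Ok σ k a → g * x k a * g⁻¹ ∈ gen σ x T) {y : Γ}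
    (hy : y ∈ gen σ x S) : g * y * g⁻¹ ∈ gen σ x T := by
  have key : gen σ x S ≤ (gen σ x T).comap (MulAut.conj g).toMonoidHom :=
    gen_le fun k hk a ha => hg k hk a ha
  exact key hy

theorem mem_arc {k l : ZMod 12} {n : ℕ} : l ∈ arc k n ↔ (l - k).val < n := Iff.rfl

theorem arc_mono {k : ZMod 12} {m n : ℕ} (h : m ≤ n) : arc k m ⊆ arc k n := fun _ hl => lt_of_lt_of_le hl h

theorem self_mem_arc {k : ZMod 12} {n : ℕ} (hn : 0 < n) : k ∈ arc k n := by
  rw [mem_arc, sub_self]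
  exact hn

theorem succ_arc : ∀ (k l : ZMod 12) (n : Fin 12), (l - (k + 1)).val < n.val → (l - k).val < n.val + 1 := by decide

theorem arc_succ_sub {k : ZMod 12} {n : ℕ} (hn : n < 12) : arc (k + 1) n ⊆ arc k (n + 1) := fun l hl =>
  succ_arc k l ⟨n, hn⟩ hl

theorem succ_arc' : ∀ (k l : ZMod 12) (n : Fin 12), (l - k).val < n.val + 1 → l = k ∨ (l - (k + 1)).val < n.val := by decide

theorem mem_arc_succ {k l : ZMod 12} {n : ℕ} (hn : n < 12) (hl : l ∈ arc k (n + 1)) : l = k ∨ l ∈ arc (k + 1) n :=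
  succ_arc' k l ⟨n, hn⟩ hl

theorem mem_arc_last {k l : ZMod 12} {n : ℕ} (hl : l ∈ arc k (n + 1)) : l ∈ arc k n ∨ l = k + (n : ZMod 12) := by
  rcases Nat.lt_succ_iff_lt_or_eq.1 hl with h | h
  · exact Or.inl h
  · right
    have : ((l - k).val : ZMod 12) = l - k := ZMod.natCast_zmod_val _
    rw [h] at this
    rw [this]
    ring

/-- position in an arc -/
theorem exists_pos {k l : ZMod 12} {n : ℕ} (hl : l ∈ arc (k + 1) n) :
    ∃ d : ℕ, 1 ≤ d ∧ d ≤ n ∧ l = k + (d : ZMod 12) := by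
  refine ⟨(l - (k + 1)).val + 1, by omega, hl, ?_⟩
  have : ((l - (k + 1)).val : ZMod 12) = l - (k + 1) := ZMod.natCast_zmod_val _
  push_cast
  rw [this]
  ring

theorem set_pos : ∀ l : ZMod 12, (l - 1).val < 6 ↔ l = 1 ∨ l = 2 ∨ l = 3 ∨ l = 4 ∨ l = 5 ∨ l = 6 := by decide

theorem set_neg : ∀ l : ZMod 12, (l - 7).val < 6 ↔ l = 7 ∨ l = 8 ∨ l = 9 ∨ l = 10 ∨ l = 11 ∨ l = 0 := by decide

theorem val_sub_two_mul : ∀ l m : ZMod 12, (l - 2 * m).val % 2 = l.val % 2 := by decide

theorem five_sub : ∀ d : ZMod 12, d.val < 6 → (5 - d).val < 6 := by decide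

theorem parity_cases : ∀ k : ZMod 12, (∃ m : Fin 6, k = 1 + 2 * ((m : ℕ) : ZMod 12)) ∨ ∃ c : ZMod 12, 2 * c = k := by
  decide

theorem twelve_eq : (12 : ZMod 12) = 0 := rfl

theorem four_sub : ∀ d : ZMod 12, d.val < 5 → (4 - d).val < 5 := by decide

theorem sub_mem_aux : ∀ (m : Fin 6) (d : ZMod 12), d.val < m.val → (d - m.val + 5 : ZMod 12).val < 5 := by decide

end Gen

namespace HexTwo

variable {E : Type*} [Field E] {σ : E ≃+* E} {Γ : Type*} [Group Γ] {x : ZMod 12 → E → Γ} (h : HexTwo σ x)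

include h

theorem mem_gen_singleton {k : ZMod 12} {g : Γ} : g ∈ gen σ x {k} ↔ ∃ a, Ok σ k a ∧ g = x k a := by
  constructor
  · intro hg
    let P : Subgroup Γ :=
      { carrier := {g | ∃ a, Ok σ k a ∧ g = x k a}
        mul_mem' := by
          rintro _ _ ⟨a, ha, rfl⟩ ⟨b, hb, rfl⟩
          exact ⟨a + b, ha.add hb, (h.add k a b ha hb).symm⟩
        one_mem' := ⟨0, ok_zero σ k, (h.x_zero k).symm⟩
        inv_mem' := by
          rintro _ ⟨a, ha, rfl⟩
          exact ⟨a, ha, h.x_inv ha⟩ }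
    have : gen σ x {k} ≤ P := gen_le fun l hl a ha => by
      rw [Set.mem_singleton_iff] at hl
      subst hl
      exact ⟨a, ha, rfl⟩
    exact this hg
  · rintro ⟨a, ha, rfl⟩
    exact x_mem_gen (Set.mem_singleton k) ha

/-- commutators of two root elements at distance `d ≤ 5` -/
theorem comm_mem (k : ZMod 12) (d : ℕ) (h1 : 1 ≤ d) (h5 : d ≤ 5) {a b : E} (ha : Ok σ k a)
    (hb : Ok σ (k + (d : ZMod 12)) b) : ⁅x k a, x (k + (d : ZMod 12)) b⁆ ∈ gen σ x (arc (k + 1) (d - 1)) := by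
  have mm : ∀ (m : ℕ), m + 1 < d → ∀ c, Ok σ (k + 1 + (m : ZMod 12)) c → x (k + 1 + (m : ZMod 12)) c ∈
      gen σ x (arc (k + 1) (d - 1)) := by
    intro m hm c hc
    refine x_mem_gen ?_ hc
    rw [mem_arc, add_sub_cancel_left, ZMod.val_natCast_of_lt (by omega)]
    omega
  have p1 : (k + 1).val % 2 = (k.val + 1) % 2 := val_succ k
  have tf := trc_fix h.cube
  have nf := nrm_fix h.cube
  rcases Nat.mod_two_eq_zero_or_one k.val with hk | hk
  · -- long
    have ht : σ a = a := ha hk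
    have m1 : ∀ c, 2 ≤ d → x (k + 1) c ∈ gen σ x (arc (k + 1) (d - 1)) := fun c hd => by
      have := mm 0 (by omega) c (ok_odd (by push_cast; rw [add_zero, p1]; omega) c)
      simpa using this
    have m3 : ∀ c, 4 ≤ d → x (k + 3) c ∈ gen σ x (arc (k + 1) (d - 1)) := fun c hd => by
      have e : k + 1 + ((2 : ℕ) : ZMod 12) = k + 3 := by push_cast; ring
      have := mm 2 (by omega) c (ok_odd (by
        rw [e]
        have : ∀ k : ZMod 12, k.val % 2 = 0 → (k + 3).val % 2 = 1 := by decide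
        exact this k hk) c)
      rwa [e] at this
    have m2 : ∀ c, σ c = c → 3 ≤ d → x (k + 2) c ∈ gen σ x (arc (k + 1) (d - 1)) := fun c hc hd => by
      have e : k + 1 + ((1 : ℕ) : ZMod 12) = k + 2 := by push_cast; ring
      have := mm 1 (by omega) c (ok_of_fix _ hc)
      rwa [e] at this
    have m4 : ∀ c, σ c = c → 5 ≤ d → x (k + 4) c ∈ gen σ x (arc (k + 1) (d - 1)) := fun c hc hd => by
      have e : k + 1 + ((3 : ℕ) : ZMod 12) = k + 4 := by push_cast; ring
      have := mm 3 (by omega) c (ok_of_fix _ hc)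
      rwa [e] at this
    interval_cases d
    · rw [Nat.cast_one, h.commL1 hk ht b]
      exact one_mem _
    · have hu : σ b = b := hb (by
        have : ∀ k : ZMod 12, k.val % 2 = 0 → (k + ((2 : ℕ) : ZMod 12)).val % 2 = 0 := by decide
        exact this k hk)
      have := h.commL2 hk ht hu
      rw [show k + ((2 : ℕ) : ZMod 12) = k + 2 from rfl, this]
      exact one_mem _
    · have := h.commL3 hk ht b
      rw [show k + ((3 : ℕ) : ZMod 12) = k + 3 from rfl, this]
      exact one_mem _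
    · have hu : σ b = b := hb (by
        have : ∀ k : ZMod 12, k.val % 2 = 0 → (k + ((4 : ℕ) : ZMod 12)).val % 2 = 0 := by decide
        exact this k hk)
      have := h.commL4 hk ht hu
      rw [show k + ((4 : ℕ) : ZMod 12) = k + 4 from rfl, this]
      exact m2 _ (by rw [map_mul, ht, hu]) (by norm_num)
    · have := h.commL5 hk ht b
      rw [show k + ((5 : ℕ) : ZMod 12) = k + 5 from rfl, this]
      exact mul_mem (mul_mem (mul_mem (m1 _ (by norm_num)) (m2 _ (by rw [map_mul, map_pow, ht, nf]) (by norm_num)))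
        (m3 _ (by norm_num))) (m4 _ (by rw [map_mul, ht, nf]) (by norm_num))
  · -- short
    have m1 : ∀ c, σ c = c → 2 ≤ d → x (k + 1) c ∈ gen σ x (arc (k + 1) (d - 1)) := fun c hc hd => by
      have := mm 0 (by omega) c (ok_of_fix _ hc)
      simpa using this
    have m3 : ∀ c, σ c = c → 4 ≤ d → x (k + 3) c ∈ gen σ x (arc (k + 1) (d - 1)) := fun c hc hd => by
      have e : k + 1 + ((2 : ℕ) : ZMod 12) = k + 3 := by push_cast; ring
      have := mm 2 (by omega) c (ok_of_fix _ hc)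
      rwa [e] at this
    have m2 : ∀ c, 3 ≤ d → x (k + 2) c ∈ gen σ x (arc (k + 1) (d - 1)) := fun c hd => by
      have e : k + 1 + ((1 : ℕ) : ZMod 12) = k + 2 := by push_cast; ring
      have := mm 1 (by omega) c (ok_odd (by
        rw [e]
        have : ∀ k : ZMod 12, k.val % 2 = 1 → (k + 2).val % 2 = 1 := by decide
        exact this k hk) c)
      rwa [e] at this
    have m4 : ∀ c, 5 ≤ d → x (k + 4) c ∈ gen σ x (arc (k + 1) (d - 1)) := fun c hd => by
      have e : k + 1 + ((3 : ℕ) : ZMod 12) = k + 4 := by push_cast; ring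
      have := mm 3 (by omega) c (ok_odd (by
        rw [e]
        have : ∀ k : ZMod 12, k.val % 2 = 1 → (k + 4).val % 2 = 1 := by decide
        exact this k hk) c)
      rwa [e] at this
    interval_cases d
    · have hu : σ b = b := hb (by
        have : ∀ k : ZMod 12, k.val % 2 = 1 → (k + ((1 : ℕ) : ZMod 12)).val % 2 = 0 := by decide
        exact this k hk)
      rw [Nat.cast_one, h.commS1 hk a hu]
      exact one_mem _
    · have := h.commS2 hk a b
      rw [show k + ((2 : ℕ) : ZMod 12) = k + 2 from rfl, this]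
      exact m1 _ (tf _ _) (by norm_num)
    · have hu : σ b = b := hb (by
        have : ∀ k : ZMod 12, k.val % 2 = 1 → (k + ((3 : ℕ) : ZMod 12)).val % 2 = 0 := by decide
        exact this k hk)
      have := h.commS3 hk a hu
      rw [show k + ((3 : ℕ) : ZMod 12) = k + 3 from rfl, this]
      exact one_mem _
    · have := h.commS4 hk a b
      rw [show k + ((4 : ℕ) : ZMod 12) = k + 4 from rfl, this]
      exact mul_mem (mul_mem (m1 _ (tf _ _) (by norm_num)) (m2 _ (by norm_num))) (m3 _ (tf _ _) (by norm_num))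
    · have hu : σ b = b := hb (by
        have : ∀ k : ZMod 12, k.val % 2 = 1 → (k + ((5 : ℕ) : ZMod 12)).val % 2 = 0 := by decide
        exact this k hk)
      have := h.commS5 hk a hu
      rw [show k + ((5 : ℕ) : ZMod 12) = k + 5 from rfl, this]
      exact mul_mem (mul_mem (mul_mem (m1 _ (by rw [map_mul, hu, nf]) (by norm_num)) (m2 _ (by norm_num)))
        (m3 _ (by rw [map_mul, map_pow, hu, nf]) (by norm_num))) (m4 _ (by norm_num))

theorem comm_mem' {k l : ZMod 12} {n : ℕ} (hn : n ≤ 5) (hl : l ∈ arc (k + 1) n) {a b : E} (ha : Ok σ k a)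
    (hb : Ok σ l b) : ⁅x k a, x l b⁆ ∈ gen σ x (arc (k + 1) (n - 1)) := by
  obtain ⟨d, h1, h2, rfl⟩ := exists_pos hl
  exact gen_mono (arc_mono (by omega)) (h.comm_mem k d h1 (by omega) ha hb)

/-- the first root group normalises the rest of the arc -/
theorem conj_first {k : ZMod 12} {n : ℕ} (hn : n ≤ 5) {a : E} (ha : Ok σ k a) {y : Γ}
    (hy : y ∈ gen σ x (arc (k + 1) n)) : x k a * y * (x k a)⁻¹ ∈ gen σ x (arc (k + 1) n) := by
  refine conj_gen (fun l hl b hb => ?_) hy
  have e : x k a * x l b * (x k a)⁻¹ = ⁅x k a, x l b⁆ * x l b := by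
    rw [commutatorElement_def]; group
  rw [e]
  exact mul_mem (gen_mono (arc_mono (by omega)) (h.comm_mem' hn hl ha hb)) (x_mem_gen hl hb)

/-- the last root group normalises the rest of the arc -/
theorem conj_last {k : ZMod 12} {n : ℕ} (hn : n ≤ 5) {b : E} (hb : Ok σ (k + (n : ZMod 12)) b) {y : Γ}
    (hy : y ∈ gen σ x (arc k n)) :
    x (k + (n : ZMod 12)) b * y * (x (k + (n : ZMod 12)) b)⁻¹ ∈ gen σ x (arc k n) := by
  refine conj_gen (fun l hl a ha => ?_) hy
  have e : x (k + (n : ZMod 12)) b * x l a * (x (k + (n : ZMod 12)) b)⁻¹ =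
      ⁅x l a, x (k + (n : ZMod 12)) b⁆⁻¹ * x l a := by
    rw [commutatorElement_def]; group
  rw [e]
  refine mul_mem (inv_mem ?_) (x_mem_gen hl ha)
  -- `l = k + m`, `m < n`
  have hm : (l - k).val < n := hl
  have hlk : l = k + ((l - k).val : ZMod 12) := by
    rw [ZMod.natCast_zmod_val]; ring
  set m := (l - k).val with hmdef
  have e2 : k + (n : ZMod 12) = l + ((n - m : ℕ) : ZMod 12) := by
    rw [hlk, Nat.cast_sub hm.le]; ring
  rw [e2] at hb ⊢
  have h3 := h.comm_mem l (n - m) (by omega) (by omega) ha hb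
  refine gen_mono ?_ h3
  intro j hj
  rw [mem_arc] at hj ⊢
  have hj' : j = k + ((j - (l + 1)).val + (m + 1) : ℕ) := by
    push_cast
    rw [ZMod.natCast_zmod_val]
    rw [hlk]
    ring
  rw [hj', add_sub_cancel_left, ZMod.val_natCast_of_lt (by omega)]
  omega

theorem mem_gen_first {k : ZMod 12} {n : ℕ} (hn : n ≤ 5) {g : Γ} :
    g ∈ gen σ x (arc k (n + 1)) ↔ ∃ a, Ok σ k a ∧ ∃ v ∈ gen σ x (arc (k + 1) n), g = x k a * v := by
  constructor
  · intro hg
    let P : Subgroup Γ :=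
      { carrier := {g | ∃ a, Ok σ k a ∧ ∃ v ∈ gen σ x (arc (k + 1) n), g = x k a * v}
        mul_mem' := by
          rintro _ _ ⟨a, ha, v, hv, rfl⟩ ⟨b, hb, w, hw, rfl⟩
          refine ⟨a + b, ha.add hb, (x k b * v * (x k b)⁻¹) * w, mul_mem (h.conj_first hn hb hv) hw, ?_⟩
          rw [h.add k a b ha hb]
          have e1 : x k b * (x k b * v * (x k b)⁻¹) = v * x k b := by
            rw [← mul_assoc, ← mul_assoc, h.x_sq hb, one_mul, h.x_inv hb]
          calc x k a * v * (x k b * w) = x k a * (v * x k b) * w := by group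
            _ = x k a * (x k b * (x k b * v * (x k b)⁻¹)) * w := by rw [e1]
            _ = _ := by group
        one_mem' := ⟨0, ok_zero σ k, 1, one_mem _, by rw [h.x_zero, one_mul]⟩
        inv_mem' := by
          rintro _ ⟨a, ha, v, hv, rfl⟩
          refine ⟨a, ha, x k a * v⁻¹ * (x k a)⁻¹, h.conj_first hn ha (inv_mem hv), ?_⟩
          rw [mul_inv_rev, ← mul_assoc, ← mul_assoc, h.x_sq ha, one_mul] }
    have : gen σ x (arc k (n + 1)) ≤ P := gen_le fun l hl a ha => by
      rcases mem_arc_succ (by omega) hl with rfl | hl'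
      · exact ⟨a, ha, 1, one_mem _, by rw [mul_one]⟩
      · exact ⟨0, ok_zero σ k, x l a, x_mem_gen hl' ha, by rw [h.x_zero, one_mul]⟩
    exact this hg
  · rintro ⟨a, ha, v, hv, rfl⟩
    exact mul_mem (x_mem_gen (self_mem_arc (by omega)) ha) (gen_mono (arc_succ_sub (by omega)) hv)

theorem mem_gen_last {k : ZMod 12} {n : ℕ} (hn : n ≤ 5) {g : Γ} :
    g ∈ gen σ x (arc k (n + 1)) ↔
      ∃ v ∈ gen σ x (arc k n), ∃ b, Ok σ (k + (n : ZMod 12)) b ∧ g = v * x (k + (n : ZMod 12)) b := by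
  constructor
  · intro hg
    let P : Subgroup Γ :=
      { carrier := {g | ∃ v ∈ gen σ x (arc k n), ∃ b, Ok σ (k + (n : ZMod 12)) b ∧ g = v * x (k + (n : ZMod 12)) b}
        mul_mem' := by
          rintro _ _ ⟨v, hv, a, ha, rfl⟩ ⟨w, hw, b, hb, rfl⟩
          refine ⟨v * (x (k + (n : ZMod 12)) a * w * (x (k + (n : ZMod 12)) a)⁻¹),
            mul_mem hv (h.conj_last hn ha hw), a + b, ha.add hb, ?_⟩
          rw [h.add _ a b ha hb]
          group
        one_mem' := ⟨1, one_mem _, 0, ok_zero σ _, by rw [h.x_zero, mul_one]⟩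
        inv_mem' := by
          rintro _ ⟨v, hv, b, hb, rfl⟩
          refine ⟨x (k + (n : ZMod 12)) b * v⁻¹ * (x (k + (n : ZMod 12)) b)⁻¹, h.conj_last hn hb (inv_mem hv), b, hb, ?_⟩
          rw [mul_inv_rev, h.x_inv hb, mul_assoc, h.x_sq hb, mul_one] }
    have : gen σ x (arc k (n + 1)) ≤ P := gen_le fun l hl a ha => by
      rcases mem_arc_last hl with hl' | rfl
      · exact ⟨x l a, x_mem_gen hl' ha, 0, ok_zero σ _, by rw [h.x_zero, mul_one]⟩
      · exact ⟨1, one_mem _, a, ha, by rw [one_mul]⟩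
    exact this hg
  · rintro ⟨v, hv, b, hb, rfl⟩
    refine mul_mem (gen_mono (arc_mono (by omega)) hv) (x_mem_gen ?_ hb)
    rw [mem_arc, add_sub_cancel_left, ZMod.val_natCast_of_lt (by omega)]
    omega

/-! ### Opposite systems -/

/-- conjugation of a generated subgroup by a reflection -/
theorem nn_conj_gen {S T : Set (ZMod 12)} (c : ZMod 12) (hST : ∀ l ∈ S, 2 * c + 6 - l ∈ T) {y : Γ}
    (hy : y ∈ gen σ x S) : nn x c * y * (nn x c)⁻¹ ∈ gen σ x T := by
  refine conj_gen (fun l hl a ha => ?_) hy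
  rw [h.refl c l ha]
  exact x_mem_gen (hST l hl) (ha.congr (val_refl c l))

theorem opp_one {g : Γ} (h1 : g ∈ gen σ x (arc 1 6)) (h2 : g ∈ gen σ x (arc (1 + 6) 6)) : g = 1 := by
  refine h.opp g ?_ ?_
  · refine gen_mono (x := x) (σ := σ) (S := arc 1 6) ?_ h1
    intro l hl
    exact (set_pos l).1 hl
  · refine gen_mono (x := x) (σ := σ) (S := arc (1 + 6) 6) ?_ h2
    intro l hl
    exact (set_neg l).1 hl

theorem opp_odd_aux (m : ℕ) {g : Γ} (h1 : g ∈ gen σ x (arc (1 + 2 * m) 6))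
    (h2 : g ∈ gen σ x (arc (1 + 2 * m + 6) 6)) : g = 1 := by
  have key : ∀ (k : ZMod 12) (n : ℕ) (y : Γ), y ∈ gen σ x (arc (k + 2 * m) n) →
      ((nn x 1 * nn x 6) ^ m)⁻¹ * y * (((nn x 1 * nn x 6) ^ m)⁻¹)⁻¹ ∈ gen σ x (arc k n) := by
    intro k n y hy
    refine conj_gen (fun l hl a ha => ?_) hy
    have e := h.rot_pow m (l - 2 * m) (a := a) (ha.congr (by
      exact val_sub_two_mul l m))
    rw [sub_add_cancel] at e
    rw [← e]
    have e2 : ((nn x 1 * nn x 6) ^ m)⁻¹ * ((nn x 1 * nn x 6) ^ m * x (l - 2 * m) a * ((nn x 1 * nn x 6) ^ m)⁻¹) *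
        (((nn x 1 * nn x 6) ^ m)⁻¹)⁻¹ = x (l - 2 * m) a := by group
    rw [e2]
    refine x_mem_gen ?_ (ha.congr (by
      exact val_sub_two_mul l m))
    rw [mem_arc] at hl ⊢
    have : l - 2 * (m : ZMod 12) - k = l - (k + 2 * m) := by ring
    rw [this]
    exact hl
  have a1 := key 1 6 g h1
  have a2 := key (1 + 6) 6 g (by
    have : (1 : ZMod 12) + 6 + 2 * m = 1 + 2 * m + 6 := by ring
    rw [this]
    exact h2)
  have := h.opp_one a1 a2
  rwa [mul_inv_eq_one, inv_mul_eq_iff_eq_mul, mul_inv_cancel] at this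

/-- **Opposite unipotent subgroups intersect trivially.** -/
theorem opp_all (k : ZMod 12) {g : Γ} (h1 : g ∈ gen σ x (arc k 6)) (h2 : g ∈ gen σ x (arc (k + 6) 6)) : g = 1 := by
  rcases parity_cases k with ⟨m, rfl⟩ | ⟨c, rfl⟩
  · exact h.opp_odd_aux m h1 h2
  · have a1 := h.nn_conj_gen c (T := arc 1 6) (fun l hl => by
      rw [mem_arc] at hl ⊢
      have := five_sub _ hl
      have e : 2 * c + 6 - l - 1 = 5 - (l - 2 * c) := by ring
      rwa [e]) h1
    have a2 := h.nn_conj_gen c (T := arc (1 + 6) 6) (fun l hl => by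
      rw [mem_arc] at hl ⊢
      have := five_sub _ hl
      have e : 2 * c + 6 - l - (1 + 6) = 5 - (l - (2 * c + 6)) - 12 := by ring
      rwa [e, twelve_eq, sub_zero]) h2
    have := h.opp_one a1 a2
    rwa [mul_inv_eq_one, mul_eq_left] at this

/-! ### Uniqueness -/

theorem mem_first_eq_zero {k : ZMod 12} {a : E} (ha : Ok σ k a) (hm : x k a ∈ gen σ x (arc (k + 1) 5)) : a = 0 := by
  have h1 := h.nn_conj_gen k (T := arc (k + 1) 5) (fun l hl => by
    rw [mem_arc] at hl ⊢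
    have := four_sub _ hl
    have e : 2 * k + 6 - l - (k + 1) = 4 - (l - (k + 1)) := by ring
    rwa [e]) hm
  rw [h.refl k k ha, show 2 * k + 6 - k = k + 6 by ring] at h1
  have h2 : x (k + 6) a ∈ gen σ x (arc k 6) := gen_mono (arc_succ_sub (by norm_num)) h1
  have hok : Ok σ (k + 6) a := ha.congr (val_add_6 k)
  have h3 : x (k + 6) a ∈ gen σ x (arc (k + 6) 6) := x_mem_gen (self_mem_arc (by norm_num)) hok
  exact h.inj _ _ hok (h.opp_all k h2 h3)

theorem mem_last_eq_zero {k : ZMod 12} {b : E} (hb : Ok σ k b) (hm : x k b ∈ gen σ x (arc (k - 5) 5)) : b = 0 := by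
  have h1 := h.nn_conj_gen k (T := arc (k - 5) 5) (fun l hl => by
    rw [mem_arc] at hl ⊢
    have := four_sub _ hl
    have e : 2 * k + 6 - l - (k - 5) = 4 - (l - (k - 5)) + 12 := by ring
    rwa [e, twelve_eq, add_zero]) hm
  rw [h.refl k k hb, show 2 * k + 6 - k = k + 6 by ring] at h1
  have h2 : x (k + 6) b ∈ gen σ x (arc (k - 5) 6) := gen_mono (arc_mono (by norm_num)) h1
  have hok : Ok σ (k + 6) b := hb.congr (val_add_6 k)
  have h3 : x (k + 6) b ∈ gen σ x (arc (k - 5 + 6) 6) := by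
    refine x_mem_gen ?_ hok
    rw [mem_arc, show k + 6 - (k - 5 + 6) = 5 by ring]
    decide
  exact h.inj _ _ hok (h.opp_all (k - 5) h2 h3)

theorem uniq_first {k : ZMod 12} {n : ℕ} (hn : n ≤ 5) {a a' : E} (ha : Ok σ k a) (ha' : Ok σ k a') {v v' : Γ}
    (hv : v ∈ gen σ x (arc (k + 1) n)) (hv' : v' ∈ gen σ x (arc (k + 1) n)) (e : x k a * v = x k a' * v') :
    a = a' ∧ v = v' := by
  have e1 : x k (a' + a) = v' * v⁻¹ := by
    rw [h.add k a' a ha' ha]
    calc x k a' * x k a = x k a' * (x k a * v) * v⁻¹ := by group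
      _ = (x k a' * x k a') * v' * v⁻¹ := by rw [e]; group
      _ = _ := by rw [h.x_sq ha', one_mul]
  have h1 : x k (a' + a) ∈ gen σ x (arc (k + 1) 5) := by
    rw [e1]
    exact gen_mono (arc_mono hn) (mul_mem hv' (inv_mem hv))
  have h2 := h.mem_first_eq_zero (ha'.add ha) h1
  have h3 : a = a' := by
    have := eq_neg_of_add_eq_zero_right h2
    rw [this, h.neg_eq]
  subst h3
  exact ⟨rfl, mul_left_cancel e⟩

theorem uniq_last {k : ZMod 12} {n : ℕ} (hn : n ≤ 5) {b b' : E} (hb : Ok σ (k + (n : ZMod 12)) b)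
    (hb' : Ok σ (k + (n : ZMod 12)) b') {v v' : Γ} (hv : v ∈ gen σ x (arc k n)) (hv' : v' ∈ gen σ x (arc k n))
    (e : v * x (k + (n : ZMod 12)) b = v' * x (k + (n : ZMod 12)) b') : v = v' ∧ b = b' := by
  have e1 : x (k + (n : ZMod 12)) (b + b') = v⁻¹ * v' := by
    rw [h.add _ b b' hb hb']
    calc x (k + (n : ZMod 12)) b * x (k + (n : ZMod 12)) b' =
          v⁻¹ * (v * x (k + (n : ZMod 12)) b) * x (k + (n : ZMod 12)) b' := by group
      _ = v⁻¹ * v' * (x (k + (n : ZMod 12)) b' * x (k + (n : ZMod 12)) b') := by rw [e]; group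
      _ = _ := by rw [h.x_sq hb', mul_one]
  have h1 : x (k + (n : ZMod 12)) (b + b') ∈ gen σ x (arc (k + (n : ZMod 12) - 5) 5) := by
    rw [e1]
    refine gen_mono ?_ (mul_mem (inv_mem hv) hv')
    intro l hl
    rw [mem_arc] at hl ⊢
    have := sub_mem_aux ⟨n, by omega⟩ (l - k) hl
    have e : l - (k + (n : ZMod 12) - 5) = l - k - n + 5 := by ring
    rwa [e]
  have h2 := h.mem_last_eq_zero (hb.add hb') h1
  have h3 : b = b' := by
    have := eq_neg_of_add_eq_zero_right h2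
    rw [this, h.neg_eq]
  subst h3
  exact ⟨mul_right_cancel e, rfl⟩

/-! ### Cardinalities -/

omit h in
theorem gen_arc_zero (k : ZMod 12) : gen σ x (arc k 0) = ⊥ := by
  rw [eq_bot_iff]
  exact gen_le fun l hl => absurd hl (Nat.not_lt_zero _)

/-- factorisation of an arc -/
noncomputable def arcEquiv (k : ZMod 12) {n : ℕ} (hn : n ≤ 5) :
    {a : E // Ok σ k a} × gen σ x (arc (k + 1) n) ≃ gen σ x (arc k (n + 1)) :=
  Equiv.ofBijective (fun p => ⟨x k p.1.1 * p.2.1, (h.mem_gen_first hn).2 ⟨_, p.1.2, _, p.2.2, rfl⟩⟩) (by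
    constructor
    · rintro ⟨⟨a, ha⟩, ⟨v, hv⟩⟩ ⟨⟨a', ha'⟩, ⟨v', hv'⟩⟩ e
      have := h.uniq_first hn ha ha' hv hv' (congrArg Subtype.val e)
      rw [Prod.mk.injEq, Subtype.mk.injEq, Subtype.mk.injEq]
      exact this
    · rintro ⟨g, hg⟩
      obtain ⟨a, ha, v, hv, rfl⟩ := (h.mem_gen_first hn).1 hg
      exact ⟨⟨⟨a, ha⟩, ⟨v, hv⟩⟩, rfl⟩)

theorem card_arc_succ (k : ZMod 12) {n : ℕ} (hn : n ≤ 5) :
    Nat.card (gen σ x (arc k (n + 1))) = Nat.card {a : E // Ok σ k a} * Nat.card (gen σ x (arc (k + 1) n)) := by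
  rw [← Nat.card_congr (h.arcEquiv k hn), Nat.card_prod]

omit h in
theorem card_ok_odd {k : ZMod 12} (hk : k.val % 2 = 1) : Nat.card {a : E // Ok σ k a} = Nat.card E :=
  Nat.card_congr (Equiv.subtypeUnivEquiv fun a => ok_odd hk a)

omit h in
theorem card_ok_even {k : ZMod 12} (hk : k.val % 2 = 0) : Nat.card {a : E // Ok σ k a} = Nat.card {a : E // σ a = a} :=
  Nat.card_congr (Equiv.subtypeEquivRight fun _ => ⟨fun h => h hk, fun h _ => h⟩)

theorem card_U : Nat.card (gen σ x (arc 1 6)) = Nat.card E ^ 3 * Nat.card {a : E // σ a = a} ^ 3 := by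
  rw [h.card_arc_succ 1 (by norm_num), h.card_arc_succ _ (by norm_num), h.card_arc_succ _ (by norm_num),
    h.card_arc_succ _ (by norm_num), h.card_arc_succ _ (by norm_num), h.card_arc_succ _ (by norm_num), gen_arc_zero,
    card_ok_odd (by decide), card_ok_even (by decide), card_ok_odd (by decide), card_ok_even (by decide),
    card_ok_odd (by decide), card_ok_even (by decide), Subgroup.card_bot]
  ring

end HexTwo

end Cfsg.Agent.StdRank2.Hex
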