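import Cfsg.Agent.StdRank2.HexOpp

/-!
# Two hexagonal systems generating the same group are conjugate up to a field automorphism
-/

set_option autoImplicit false
set_option maxHeartbeats 400000
set_option linter.unusedSimpArgs false

namespace Cfsg.Agent.StdRank2.Hex

open Cfsg.Agent.SplitTwo
open scoped commutatorElement

namespace HexTwo

variable {E : Type*} [Field E] {σ : E ≃+* E} {Γ : Type*} [Group Γ] {x : ZMod 12 → E → Γ} (h : HexTwo σ x)

/-- the exceptional case `G₂(2)` is excluded -/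
def NotTwo (σ : E ≃+* E) : Prop := (∃ l : E, σ l = l ∧ l ^ 2 ≠ l) ∨ ∃ a, σ a ≠ a

include h

/-- `Z₂(U) = X₂X₄` -/
theorem mem_W_of_U (hN : NotTwo σ) {g : Γ} (hg : g ∈ UU σ x) (hc : ∀ v ∈ UU σ x, ⁅g, v⁆ ∈ gen σ x {4}) :
    g ∈ gen σ x {2, 4} := by
  have z : σ (0 : E) = 0 := map_zero σ
  have hQ := h.mem_Q1_of_U hg fun c => hc _ (x_mem_gen (by rw [mem_arc]; decide) (ok3 c))
  obtain ⟨b, c, d, e, f, hb, hd, hf, rfl⟩ := h.mem_Q1.1 hQ
  have key : ∀ y, e + f * y = e ∧ c + crs σ y e + f * shp σ y = c ∧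
      b + trc σ y c + trc σ (shp σ y) e + f * nrm σ y = b := by
    intro y
    have h1 := hc _ (x_mem_gen (k := 1) (a := y) (by rw [mem_arc]; decide) (ok1 y))
    have h2 : ⁅x 1 y, q x b c d e f⁆ ∈ gen σ x {4} := by
      rw [← commutatorElement_inv]
      exact inv_mem h1
    obtain ⟨t, ht, e1⟩ := h.mem_gen_singleton.1 h2
    have ht' : σ t = t := ht (by decide)
    have e2 := conj_eq_of_comm e1
    rw [h.x1_q y hb hd hf, mul_inv_cancel_right, ← h.q4, h.q_mul z ht' z hb hd hf] at e2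
    have t1 := h.fix_trc y c
    have t2 := h.fix_trc (shp σ y) e
    have t3 := h.fix_trc y (shp σ e)
    have t4 := h.fix_nrm y
    have t5 := h.fix_trc c 0
    obtain ⟨r1, r2, -, r4, -⟩ := h.q_inj (by simp only [map_add, map_mul, hb, t1, t2, hf, t4])
      (by simp only [map_add, map_mul, map_pow, hd, t2, t3, hf, t4]) hf (by rw [map_add, z, hb])
      (by simp only [map_add, map_mul, hd, ht', hb, z, t5]) (by rw [map_add, z, hf]) e2
    rw [zero_add] at r1 r2 r4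
    exact ⟨r4, r2, r1⟩
  have hf0 : f = 0 := by
    have := (key 1).1
    rw [mul_one, add_eq_left] at this
    exact this
  subst hf0
  have k2 : ∀ y, crs σ y e = 0 := by
    intro y
    have := (key y).2.1
    rw [zero_mul, add_zero, add_eq_left] at this
    exact this
  have k3 : ∀ y, trc σ y c + trc σ (shp σ y) e = 0 := by
    intro y
    have := (key y).2.2
    rw [zero_mul, add_zero, add_assoc, add_eq_left] at this
    exact this
  have he : e = 0 := by
    by_contra he0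
    by_cases hσ : ∀ a, σ a = a
    · rcases hN with ⟨l, -, hl⟩ | ⟨a, ha⟩
      · have m1 := k3 1
        have m2 := k3 l
        have e1 : trc σ (shp σ (1 : E)) e = e := by
          rw [shp_one]
          exact h.trc_one_right (hσ e)
        have e2 : trc σ (1 : E) c = c := h.trc_one_right (hσ c)
        rw [e1, e2] at m1
        have e3 : trc σ l c = l * c := by
          rw [← h.trc_one_right (hσ c), ← trc_smul_left (hσ l), mul_one]
          rw [h.trc_one_right (hσ c)]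
        have e4 : trc σ (shp σ l) e = l ^ 2 * e := by
          have : shp σ l = l ^ 2 * 1 := by
            unfold shp
            rw [hσ, hσ]
            ring
          rw [this, trc_smul_left (hσ _), h.trc_one_right (hσ e)]
        rw [e3, e4] at m2
        have hce : c = e := by
          have := eq_neg_of_add_eq_zero_left m1
          rwa [h.neg_eq] at this
        rw [hce, ← add_mul] at m2
        have m3 := (mul_eq_zero.1 m2).resolve_right he0
        have m4 := eq_neg_of_add_eq_zero_left m3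
        rw [h.neg_eq] at m4
        exact hl m4.symm
      · exact ha (hσ a)
    · obtain ⟨a, ha⟩ := not_forall.1 hσ
      apply ha
      have m := k2 (a * e)
      unfold crs at m
      rw [map_mul, map_mul] at m
      have e1 : σ e * σ (σ e) * (σ a + σ (σ a)) = 0 := by rw [← m]; ring
      have e2 := (mul_eq_zero.1 e1).resolve_left (shp_ne_zero (σ := σ) he0)
      have e3 := eq_neg_of_add_eq_zero_left e2
      rw [h.neg_eq] at e3
      exact (σ.injective e3).symm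
  subst he
  have hc0 : c = 0 := h.eq_zero_of_trc fun y => by
    have := k3 y
    rwa [trc_zero_right, add_zero, trc_comm] at this
  subst hc0
  exact h.mem_24.2 ⟨b, d, hb, hd, rfl⟩

omit [Field E] [Group Γ] h in
theorem add_six_ne (k : ZMod 12) : k + 6 ≠ k := by
  have : ∀ k : ZMod 12, k + 6 ≠ k := by decide
  exact this k

theorem nt_unique {k : ZMod 12} {a b : E} (ha : Ok σ k a) (hb : Ok σ k b) (ha0 : a ≠ 0)
    (hm : x k a * x (k + 6) b * x k a * x (k + 6) 1 * (x k a * x (k + 6) b * x k a)⁻¹ ∈ gen σ x {k}) :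
    b = a⁻¹ := by
  by_contra hne
  have hai := ha.inv
  have v6 := val_add_6 k
  have hd : Ok σ k (b + a⁻¹) := hb.add hai
  have hd0 : b + a⁻¹ ≠ 0 := by
    intro h0
    have := eq_neg_of_add_eq_zero_left h0
    rw [h.neg_eq] at this
    exact hne this
  have e1 : x (k + 6) b = x (k + 6) (b + a⁻¹) * x (k + 6) a⁻¹ := by
    rw [← h.add _ _ _ (hd.congr v6) (hai.congr v6), add_assoc, h.add_self, add_zero]
  have e2 := h.nt_act k (k + 6) ha0 ha (ok_one σ (k + 6))
  rw [show 2 * k + 6 - (k + 6) = k by ring, sub_self, ch_zero_right, mul_one] at e2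
  have hc1 : Ok σ k (a ^ 2) := by rw [pow_two]; exact ha.mul ha
  have e3 : x k a * x (k + 6) b * x k a * x (k + 6) 1 * (x k a * x (k + 6) b * x k a)⁻¹ =
      x k a * (x (k + 6) (b + a⁻¹) * x k (a ^ 2) * (x (k + 6) (b + a⁻¹))⁻¹) * (x k a)⁻¹ := by
    have c1 := (h.x_comm_same ha hc1).eq
    have e4 : x k a * x (k + 6) b * x k a = x k a * x (k + 6) (b + a⁻¹) * (x k a)⁻¹ * nt x k a := by
      rw [e1]
      unfold nt
      group
    rw [e4]
    calc x k a * x (k + 6) (b + a⁻¹) * (x k a)⁻¹ * nt x k a * x (k + 6) 1 *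
        (x k a * x (k + 6) (b + a⁻¹) * (x k a)⁻¹ * nt x k a)⁻¹ =
        x k a * x (k + 6) (b + a⁻¹) * (x k a)⁻¹ * (nt x k a * x (k + 6) 1 * (nt x k a)⁻¹) * x k a *
          (x (k + 6) (b + a⁻¹))⁻¹ * (x k a)⁻¹ := by group
      _ = x k a * x (k + 6) (b + a⁻¹) * (x k a)⁻¹ * (x k (a ^ 2) * x k a) *
          (x (k + 6) (b + a⁻¹))⁻¹ * (x k a)⁻¹ := by rw [e2]; group
      _ = _ := by rw [← c1]; group
  rw [e3] at hm
  have hka : x k a ∈ gen σ x {k} := x_mem_gen (Set.mem_singleton _) ha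
  have hm2 := mul_mem (mul_mem (inv_mem hka) hm) hka
  have e5 : (x k a)⁻¹ * (x k a * (x (k + 6) (b + a⁻¹) * x k (a ^ 2) * (x (k + 6) (b + a⁻¹))⁻¹) * (x k a)⁻¹) *
      x k a = x (k + 6) (b + a⁻¹) * x k (a ^ 2) * (x (k + 6) (b + a⁻¹))⁻¹ := by group
  rw [e5] at hm2
  generalize b + a⁻¹ = d at hd hd0 hm2
  rw [h.rank_one_eq k hd] at hm2
  have hdi := hd.inv
  have hkd : x k d⁻¹ ∈ gen σ x {k} := x_mem_gen (Set.mem_singleton _) hdi
  have hm3 := mul_mem (mul_mem (inv_mem hkd) hm2) hkd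
  have c2 := (h.x_comm_same hdi hc1).eq
  have r1 := h.refl k k hc1
  rw [show 2 * k + 6 - k = k + 6 by ring] at r1
  have r2 := h.tor k (k + 6) (inv_ne_zero hd0) hdi (hc1.congr v6)
  have e6 : (x k d⁻¹)⁻¹ * (x k d⁻¹ * (hh x k d⁻¹ * nn x k) * x k d⁻¹ * x k (a ^ 2) *
      (x k d⁻¹ * (hh x k d⁻¹ * nn x k) * x k d⁻¹)⁻¹) * x k d⁻¹ =
      x (k + 6) (ch σ k (k + 6 - k) d⁻¹ * a ^ 2) := by
    rw [← r2, ← r1]
    calc (x k d⁻¹)⁻¹ * (x k d⁻¹ * (hh x k d⁻¹ * nn x k) * x k d⁻¹ * x k (a ^ 2) *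
        (x k d⁻¹ * (hh x k d⁻¹ * nn x k) * x k d⁻¹)⁻¹) * x k d⁻¹ =
        hh x k d⁻¹ * nn x k * (x k d⁻¹ * x k (a ^ 2)) * (x k d⁻¹)⁻¹ * (hh x k d⁻¹ * nn x k)⁻¹ := by group
      _ = _ := by rw [c2]; group
  rw [e6] at hm3
  obtain ⟨c, hc, e7⟩ := h.mem_gen_singleton.1 hm3
  have hne0 : ch σ k (k + 6 - k) d⁻¹ * a ^ 2 ≠ 0 := mul_ne_zero (ch_ne_zero _ _ (inv_ne_zero hd0)) (pow_ne_zero 2 ha0)
  have hok : Ok σ (k + 6) (ch σ k (k + 6 - k) d⁻¹ * a ^ 2) := (h.ok_chi k (k + 6) hdi).mul (hc1.congr v6)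
  exact add_six_ne k (h.root_unique hok hc hne0 e7)

end HexTwo

/-! ### Pairs of systems -/

section Pair

variable {E : Type*} [Field E] {σ : E ≃+* E} {Γ : Type*} [Group Γ] {x y : ZMod 12 → E → Γ}

open HexTwo

/-- two systems with the same `U`, `U⁻` and `A` -/
structure Pair (σ : E ≃+* E) (x y : ZMod 12 → E → Γ) : Prop where
  hx : HexTwo σ x
  hy : HexTwo σ y
  eA : AA σ y = AA σ x
  eU : UU σ y = UU σ x
  eV : gen σ y (arc 7 6) = gen σ x (arc 7 6)

namespace Pair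

theorem symm (P : Pair σ x y) : Pair σ y x := ⟨P.hy, P.hx, P.eA.symm, P.eU.symm, P.eV.symm⟩

theorem shift (P : Pair σ x y) : Pair σ (fun j => x (j + 6)) (fun j => y (j + 6)) := by
  have h6 : (6 : ZMod 12).val % 2 = 0 := by decide
  refine ⟨P.hx.shift h6, P.hy.shift h6, ?_, ?_, ?_⟩
  · rw [AA_shift 6 h6, AA_shift 6 h6, P.eA]
  · unfold UU
    rw [gen_shift_arc 6 h6, gen_shift_arc 6 h6]
    exact P.eV
  · rw [gen_shift_arc 6 h6, gen_shift_arc 6 h6]
    exact P.eU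

theorem le4 (P : Pair σ x y) : gen σ y {4} ≤ gen σ x {4} := by
  refine gen_le fun k hk a ha => ?_
  rw [Set.mem_singleton_iff] at hk
  subst hk
  have h1 : y 4 a ∈ UU σ y := x_mem_gen (by rw [mem_arc]; decide) ha
  refine P.hx.mem_X4_of_U (by rw [← P.eU]; exact h1) fun v hv => ?_
  refine P.hy.comm_gen_long (by decide) ha ?_
  rw [← P.eU] at hv
  exact gen_mono (arc_mono (by norm_num)) hv

theorem eq4 (P : Pair σ x y) : gen σ y {4} = gen σ x {4} := le_antisymm P.le4 P.symm.le4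

theorem eqP1 [Finite E] (P : Pair σ x y) : gen σ y (arc 1 7) = gen σ x (arc 1 7) := by
  have h1 : y 4 1 ∈ gen σ x {4} := by
    rw [← P.eq4]
    exact x_mem_gen (Set.mem_singleton _) (ok_one σ 4)
  obtain ⟨t, ht, e1⟩ := P.hx.mem_gen_singleton.1 h1
  have ht' : σ t = t := ht (by decide)
  have ht0 : t ≠ 0 := by
    rintro rfl
    rw [P.hx.x_zero] at e1
    exact one_ne_zero (P.hy.inj 4 1 (ok_one σ 4) e1)
  ext g
  constructor
  · intro hg
    have hA : g ∈ AA σ y := gen_le_AA _ hg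
    have h2 := (P.hy.mem_centralizer_x4 hA (map_one σ) one_ne_zero).2 hg
    rw [e1] at h2
    exact (P.hx.mem_centralizer_x4 (by rw [← P.eA]; exact hA) ht' ht0).1 h2
  · intro hg
    have hA : g ∈ AA σ x := gen_le_AA _ hg
    have h2 := (P.hx.mem_centralizer_x4 hA ht' ht0).2 hg
    rw [← e1] at h2
    exact (P.hy.mem_centralizer_x4 (by rw [P.eA]; exact hA) (map_one σ) one_ne_zero).1 h2

theorem le7 [Finite E] (P : Pair σ x y) : gen σ y {7} ≤ gen σ x {7} := by
  intro g hg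
  refine P.hx.mem_X7 ?_ ?_
  · rw [← P.eV]
    exact gen_mono (by
      intro l hl
      rw [Set.mem_singleton_iff] at hl
      subst hl
      rw [mem_arc]; decide) hg
  · rw [← P.eqP1]
    exact gen_mono (by
      intro l hl
      rw [Set.mem_singleton_iff] at hl
      subst hl
      rw [mem_arc]; decide) hg

theorem leW (P : Pair σ x y) (hN : NotTwo σ) : gen σ y {2, 4} ≤ gen σ x {2, 4} := by
  intro g hg
  have hgU : g ∈ UU σ y := gen_mono (by
    intro l hl
    rcases hl with rfl | hl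
    · rw [mem_arc]; decide
    · rw [Set.mem_singleton_iff] at hl
      subst hl
      rw [mem_arc]; decide) hg
  refine P.hx.mem_W_of_U hN (by rw [← P.eU]; exact hgU) fun v hv => ?_
  rw [← P.eU] at hv
  rw [← P.eq4]
  obtain ⟨b, d, hb, hd, rfl⟩ := P.hy.mem_24.1 hg
  obtain ⟨a, b', c, d', e, f, hb', hd', hf, rfl⟩ := P.hy.mem_UU.1 hv
  have z : σ (0 : E) = 0 := map_zero σ
  have e1 := P.hy.uu_q234 (a := a) (c := c) (e := e) (C := 0) hb' hd' hf hb hd
  rw [trc_zero_left, trc_zero_right, add_zero, add_zero] at e1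
  have hbf : σ (b * f) = b * f := by rw [map_mul, hb, hf]
  have e2 : q y b 0 (d + b * f) 0 0 = y 4 (b * f) * q y b 0 d 0 0 := by
    rw [← P.hy.q4, P.hy.q_mul z hbf z hb hd z]
    simp only [zero_mul, zero_add, add_zero, mul_zero, trc_zero_right, trc_zero_left]
    rw [add_comm]
  have e3 : ⁅q y b 0 d 0 0, uu y a b' c d' e f⁆ = (y 4 (b * f))⁻¹ := by
    rw [e2] at e1
    rw [commutatorElement_def]
    calc q y b 0 d 0 0 * uu y a b' c d' e f * (q y b 0 d 0 0)⁻¹ * (uu y a b' c d' e f)⁻¹ =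
        q y b 0 d 0 0 * (uu y a b' c d' e f * q y b 0 d 0 0 * (uu y a b' c d' e f)⁻¹)⁻¹ := by group
      _ = q y b 0 d 0 0 * (y 4 (b * f) * q y b 0 d 0 0)⁻¹ := by rw [e1, mul_inv_cancel_right]
      _ = (y 4 (b * f))⁻¹ := by group
  rw [e3]
  exact inv_mem (x_mem_gen (Set.mem_singleton _) (ok_of_fix 4 hbf))

theorem eqW (P : Pair σ x y) (hN : NotTwo σ) : gen σ y {2, 4} = gen σ x {2, 4} :=
  le_antisymm (P.leW hN) (P.symm.leW hN)

theorem leQ2 (P : Pair σ x y) (hN : NotTwo σ) : gen σ y (arc 1 5) ≤ gen σ x (arc 1 5) := by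
  intro g hg
  have hgU : g ∈ UU σ y := gen_mono (arc_mono (by norm_num)) hg
  refine P.hx.mem_Q2_of_U (by rw [← P.eU]; exact hgU) ?_
  have h2 : x 2 1 ∈ gen σ y {2, 4} := by
    rw [P.eqW hN]
    exact x_mem_gen (by simp) (ok_one σ 2)
  -- `W` centralises `Q₂`
  have hc : ∀ w ∈ gen σ y {2, 4}, Commute g w := by
    intro w hw
    obtain ⟨b, d, hb, hd, rfl⟩ := P.hy.mem_24.1 hw
    have e0 : q y b 0 d 0 0 = y 2 b * y 4 d := by
      rw [P.hy.q_234, P.hy.x_zero, mul_one]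
    rw [e0]
    refine Commute.mul_right ?_ ?_
    · refine (comm_gen (σ := σ) ?_ hg).symm
      intro l hl a ha
      refine P.hy.comm_long (by decide) ?_ (ok_of_fix 2 hb) ha
      have : ∀ l : ZMod 12, (l - 1).val < 5 → (l - (2 - 3)).val < 7 := by decide
      exact this l hl
    · refine (comm_gen (σ := σ) ?_ hg).symm
      intro l hl a ha
      refine P.hy.comm_long (by decide) ?_ (ok_of_fix 4 hd) ha
      have : ∀ l : ZMod 12, (l - 1).val < 5 → (l - (4 - 3)).val < 7 := by decide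
      exact this l hl
  exact hc _ h2

theorem eqQ2 (P : Pair σ x y) (hN : NotTwo σ) : gen σ y (arc 1 5) = gen σ x (arc 1 5) :=
  le_antisymm (P.leQ2 hN) (P.symm.leQ2 hN)

theorem le0 [Finite E] (P : Pair σ x y) (hN : NotTwo σ) : gen σ y {0} ≤ gen σ x {0} := by
  intro g hg
  refine P.hx.mem_X0 ?_ ?_
  · rw [← P.eV]
    exact gen_mono (by
      intro l hl
      rw [Set.mem_singleton_iff] at hl
      subst hl
      rw [mem_arc]; decide) hg
  · rw [← P.eqQ2 hN]
    intro v hv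
    exact P.hy.L_conj 0 (gen_mono (by simp) hg) hv

theorem le1 [Finite E] (P : Pair σ x y) : gen σ y {1} ≤ gen σ x {1} := by
  have h := P.shift.le7
  have h6 : (6 : ZMod 12).val % 2 = 0 := by decide
  rw [gen_shift 6 h6, gen_shift 6 h6] at h
  have e : {l : ZMod 12 | l - 6 ∈ ({7} : Set (ZMod 12))} = {1} := by
    ext l
    rw [Set.mem_ofPred_eq, Set.mem_singleton_iff, Set.mem_singleton_iff]
    revert l; decide
  rwa [e] at h

theorem le6 [Finite E] (P : Pair σ x y) (hN : NotTwo σ) : gen σ y {6} ≤ gen σ x {6} := by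
  have h := P.shift.le0 hN
  have h6 : (6 : ZMod 12).val % 2 = 0 := by decide
  rw [gen_shift 6 h6, gen_shift 6 h6] at h
  have e : {l : ZMod 12 | l - 6 ∈ ({0} : Set (ZMod 12))} = {6} := by
    ext l
    rw [Set.mem_ofPred_eq, Set.mem_singleton_iff, Set.mem_singleton_iff]
    revert l; decide
  rwa [e] at h

theorem exists_alpha (P : Pair σ x y) {k : ZMod 12} (ek : gen σ y {k} = gen σ x {k}) :
    ∃ α : E → E, ∀ a, Ok σ k a → Ok σ k (α a) ∧ y k a = x k (α a) := by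
  have : ∀ a, ∃ b, Ok σ k a → Ok σ k b ∧ y k a = x k b := by
    intro a
    by_cases ha : Ok σ k a
    · have h1 : y k a ∈ gen σ x {k} := by
        rw [← ek]
        exact x_mem_gen (Set.mem_singleton _) ha
      obtain ⟨b, hb, e⟩ := P.hx.mem_gen_singleton.1 h1
      exact ⟨b, fun _ => ⟨hb, e⟩⟩
    · exact ⟨0, fun h => absurd h ha⟩
  choose α hα using this
  exact ⟨α, hα⟩

theorem rank (P : Pair σ x y) {k : ZMod 12} (ek : gen σ y {k} = gen σ x {k})
    (ek' : gen σ y {k + 6} = gen σ x {k + 6}) {α : E → E}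
    (hα : ∀ a, Ok σ k a → Ok σ k (α a) ∧ y k a = x k (α a)) :
    (∀ a, Ok σ k a → a ≠ 0 → α a ≠ 0) ∧ ∀ s, Ok σ k s → s ≠ 0 → nt y k s = nt x k (α s) := by
  have hne : ∀ a, Ok σ k a → a ≠ 0 → α a ≠ 0 := by
    intro a ha ha0 h0
    have e := (hα a ha).2
    rw [h0, P.hx.x_zero] at e
    exact ha0 (P.hy.inj k a ha e)
  refine ⟨hne, fun s hs hs0 => ?_⟩
  obtain ⟨β, hβ⟩ := P.exists_alpha ek'
  have v6 := val_add_6 k
  obtain ⟨h1, e1⟩ := hα s hs
  obtain ⟨h2, e2⟩ := hβ s⁻¹ (hs.inv.congr v6)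
  have h2' : Ok σ k (β s⁻¹) := h2.congr v6.symm
  have key : β s⁻¹ = (α s)⁻¹ := by
    refine P.hx.nt_unique h1 h2' (hne s hs hs0) ?_
    have h3 : x (k + 6) 1 ∈ gen σ y {k + 6} := by
      rw [ek']
      exact x_mem_gen (Set.mem_singleton _) (ok_one σ _)
    obtain ⟨c, hc, e3⟩ := P.hy.mem_gen_singleton.1 h3
    have e4 : x k (α s) * x (k + 6) (β s⁻¹) * x k (α s) = nt y k s := by
      unfold nt
      rw [e1, e2]
    rw [e4, e3, P.hy.nt_act k (k + 6) hs0 hs hc, ← ek, show 2 * k + 6 - (k + 6) = k by ring]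
    refine x_mem_gen (Set.mem_singleton _) ?_
    have h5 : Ok σ k c := hc.congr v6.symm
    refine Ok.mul ?_ h5
    rw [sub_self, ch_zero_right, pow_two]
    exact hs.mul hs
  unfold nt
  rw [e1, e2, key]

theorem rank_hh [Finite E] (P : Pair σ x y) {k : ZMod 12} (ek : gen σ y {k} = gen σ x {k})
    (ek' : gen σ y {k + 6} = gen σ x {k + 6}) {α : E → E}
    (hα : ∀ a, Ok σ k a → Ok σ k (α a) ∧ y k a = x k (α a)) (h1 : α 1 = 1) :
    (∀ s, Ok σ k s → s ≠ 0 → hh y k s = hh x k (α s)) ∧ nn y k = nn x k ∧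
      (∀ a b, Ok σ k a → Ok σ k b → α (a + b) = α a + α b) ∧
      (∀ a b, Ok σ k a → Ok σ k b → α (a * b) = α a * α b) := by
  obtain ⟨hne, hnt⟩ := P.rank ek ek' hα
  have hnn : nn y k = nn x k := by
    rw [← nt_one, ← nt_one, hnt 1 (ok_one σ k) one_ne_zero, h1]
  have hhh : ∀ s, Ok σ k s → s ≠ 0 → hh y k s = hh x k (α s) := by
    intro s hs hs0
    unfold hh
    rw [hnn, hnt s hs hs0]
  have hadd : ∀ a b, Ok σ k a → Ok σ k b → α (a + b) = α a + α b := by
    intro a b ha hb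
    have e := (hα _ (ha.add hb)).2
    rw [P.hy.add k a b ha hb, (hα a ha).2, (hα b hb).2, ← P.hx.add k _ _ (hα a ha).1 (hα b hb).1] at e
    exact ((P.hx.x_inj ((hα a ha).1.add (hα b hb).1) (hα _ (ha.add hb)).1).1 e).symm
  have h0 : α 0 = 0 := by
    have e := (hα 0 (ok_zero σ k)).2
    rw [P.hy.x_zero] at e
    exact P.hx.inj k _ (hα 0 (ok_zero σ k)).1 e.symm
  have hsq : ∀ s a, Ok σ k s → Ok σ k a → α (s * s * a) = α s * α s * α a := by
    intro s a hs ha
    by_cases hs0 : s = 0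
    · rw [hs0, zero_mul, zero_mul, h0, zero_mul, zero_mul]
    have e1 := P.hy.tor k k hs0 hs ha
    rw [sub_self, ch_zero_right, pow_two, hhh s hs hs0, (hα a ha).2,
      P.hx.tor k k (hne s hs hs0) (hα s hs).1 (hα a ha).1, sub_self, ch_zero_right, pow_two,
      (hα _ ((hs.mul hs).mul ha)).2] at e1
    exact ((P.hx.x_inj (((hα s hs).1.mul (hα s hs).1).mul (hα a ha).1) (hα _ ((hs.mul hs).mul ha)).1).1 e1).symm
  refine ⟨hhh, hnn, hadd, fun a b ha hb => ?_⟩
  obtain ⟨s, hs⟩ := P.hx.exists_sqrt a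
  have hsok : Ok σ k s := fun hk => P.hx.sqrt_fix hs (ha hk)
  have e2 := hsq s 1 hsok (ok_one σ k)
  rw [mul_one, h1, mul_one, hs] at e2
  rw [← hs, hsq s b hsok hb, hs, e2]

/-- conjugation of the second system by an element normalising everything -/
theorem conj (P : Pair σ x y) {g : Γ} (hA : g ∈ AA σ x) (hU : ∀ v ∈ UU σ x, g * v * g⁻¹ ∈ UU σ x)
    (hU' : ∀ v ∈ UU σ x, g⁻¹ * v * g ∈ UU σ x) (hV : ∀ v ∈ gen σ x (arc 7 6), g * v * g⁻¹ ∈ gen σ x (arc 7 6))
    (hV' : ∀ v ∈ gen σ x (arc 7 6), g⁻¹ * v * g ∈ gen σ x (arc 7 6)) : Pair σ x (cj g y) := by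
  refine ⟨P.hx, P.hy.conj g, ?_, ?_, ?_⟩
  · ext v
    unfold AA
    rw [mem_gen_cj]
    change g⁻¹ * v * g ∈ AA σ y ↔ v ∈ AA σ x
    rw [P.eA]
    constructor
    · intro hv
      have e : v = g * (g⁻¹ * v * g) * g⁻¹ := by group
      rw [e]
      exact mul_mem (mul_mem hA hv) (inv_mem hA)
    · intro hv
      exact mul_mem (mul_mem (inv_mem hA) hv) hA
  · ext v
    unfold UU
    rw [mem_gen_cj]
    change g⁻¹ * v * g ∈ UU σ y ↔ v ∈ UU σ x
    rw [P.eU]
    constructor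
    · intro hv
      have e : v = g * (g⁻¹ * v * g) * g⁻¹ := by group
      rw [e]
      exact hU _ hv
    · intro hv
      exact hU' _ hv
  · ext v
    rw [mem_gen_cj, P.eV]
    constructor
    · intro hv
      have e : v = g * (g⁻¹ * v * g) * g⁻¹ := by group
      rw [e]
      exact hV _ hv
    · intro hv
      exact hV' _ hv

/-- **A normalised pair differs by a field automorphism.** -/
theorem field_aut [Finite E] (P : Pair σ x y) (hN : NotTwo σ) (n1 : y 1 1 = x 1 1) (n6 : y 6 1 = x 6 1) :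
    ∃ τ : E ≃+* E, ∀ k a, Ok σ k a → y k a = x k (τ a) := by
  have e1 : gen σ y {1} = gen σ x {1} := le_antisymm P.le1 P.symm.le1
  have e7 : gen σ y {1 + 6} = gen σ x {1 + 6} := le_antisymm P.le7 P.symm.le7
  have e6 : gen σ y {6} = gen σ x {6} := le_antisymm (P.le6 hN) (P.symm.le6 hN)
  have e0 : gen σ y {6 + 6} = gen σ x {6 + 6} := le_antisymm (P.le0 hN) (P.symm.le0 hN)
  obtain ⟨α, hα⟩ := P.exists_alpha e1
  obtain ⟨β, hβ⟩ := P.exists_alpha e6
  have α1 : α 1 = 1 := by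
    have := (hα 1 (ok1 1)).2
    rw [n1] at this
    exact ((P.hx.x_inj (ok1 _) (ok1 _)).1 this).symm
  have β1 : β 1 = 1 := by
    have := (hβ 1 (ok_one σ 6)).2
    rw [n6] at this
    exact ((P.hx.x_inj (ok_one σ 6) (hβ 1 (ok_one σ 6)).1).1 this).symm
  obtain ⟨-, nn1, add1, mul1⟩ := P.rank_hh e1 e7 hα α1
  obtain ⟨-, nn6, add6, mul6⟩ := P.rank_hh e6 e0 hβ β1
  -- all roots
  have key : ∀ k : ZMod 12, ∀ a, Ok σ k a →
      Ok σ k (if k.val % 2 = 1 then α a else β a) ∧ y k a = x k (if k.val % 2 = 1 then α a else β a) := by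
    refine root_induction ?_ ?_ ?_ ?_
    · intro a ha
      rw [if_pos (by decide)]
      exact hα a ha
    · intro a ha
      rw [if_neg (by decide)]
      exact hβ a ha
    · intro l ih a ha
      have ha' : Ok σ l a := ha.congr (val_8_sub l).symm
      obtain ⟨h1, h2⟩ := ih a ha'
      rw [val_8_sub]
      refine ⟨h1.congr (val_8_sub l), ?_⟩
      have h3 := P.hy.refl1 l a ha'
      have h4 := P.hx.refl1 l _ h1
      rw [← h3, ← h4, nn1, h2]
    · intro l ih a ha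
      have ha' : Ok σ l a := ha.congr (val_6_sub l).symm
      obtain ⟨h1, h2⟩ := ih a ha'
      rw [val_6_sub]
      refine ⟨h1.congr (val_6_sub l), ?_⟩
      have h3 := P.hy.refl6 l a ha'
      have h4 := P.hx.refl6 l _ h1
      rw [← h3, ← h4, nn6, h2]
  -- `β = α` on the fixed field
  have hβα : ∀ t, σ t = t → β t = α t := by
    intro t ht
    have hβt : σ (β t) = β t := (hβ t (ok_of_fix 6 ht)).1 (by decide)
    have c1 := P.hy.commS5 (k := 1) (by decide) 1 ht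
    have c2 := P.hx.commS5 (k := 1) (by decide) 1 hβt
    have k3 := (key 3 t (ok3 t)).2
    have k5 := (key 5 t (ok5 t)).2
    have k2 := key 2 t (ok_of_fix 2 ht)
    have ht2 : σ (t ^ 2) = t ^ 2 := by rw [map_pow, ht]
    have k4 := key 4 (t ^ 2) (ok_of_fix 4 ht2)
    rw [if_pos (by decide)] at k3 k5
    rw [if_neg (by decide)] at k2 k4
    rw [nrm_one, shp_one, mul_one, mul_one, show (1 : ZMod 12) + 1 = 2 by decide,
      show (1 : ZMod 12) + 2 = 3 by decide, show (1 : ZMod 12) + 3 = 4 by decide,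
      show (1 : ZMod 12) + 4 = 5 by decide, show (1 : ZMod 12) + 5 = 6 by decide] at c1 c2
    rw [n1, (hβ t (ok_of_fix 6 ht)).2, c2, k3, k5, k2.2, k4.2] at c1
    have w : ∀ b c d e, q x b c d e 0 = x 2 b * x 3 c * x 4 d * x 5 e := by
      intro b c d e
      unfold q
      rw [P.hx.x_zero, mul_one]
    rw [← w, ← w] at c1
    have z : σ (0 : E) = 0 := map_zero σ
    exact (P.hx.q_inj hβt (by rw [map_pow, hβt]) z (k2.1 (by decide)) (k4.1 (by decide)) z c1).2.1
  have α0 : α 0 = 0 := by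
    have := add1 0 0 (ok1 0) (ok1 0)
    rw [add_zero] at this
    exact left_eq_add.1 this
  let f : E →+* E :=
    { toFun := α
      map_one' := α1
      map_mul' := fun a b => mul1 a b (ok1 a) (ok1 b)
      map_zero' := α0
      map_add' := fun a b => add1 a b (ok1 a) (ok1 b) }
  have hbij : Function.Bijective f := Finite.injective_iff_bijective.1 f.injective
  refine ⟨RingEquiv.ofBijective f hbij, fun k a ha => ?_⟩
  change y k a = x k (α a)
  rw [(key k a ha).2]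
  by_cases hk : k.val % 2 = 1
  · rw [if_pos hk]
  · rw [if_neg hk, hβα a (ha (by omega))]

end Pair

/-- **Uniqueness of the hexagonal system of a group.** -/
theorem exists_conj [Finite E] [Finite Γ] (h : HexTwo σ x) (h' : HexTwo σ y) (hN : NotTwo σ)
    (eA : AA σ y = AA σ x) : ∃ g ∈ AA σ x, ∃ τ : E ≃+* E, ∀ k a, Ok σ k a → y k a = g * x k (τ a) * g⁻¹ := by
  -- conjugate `U(y)` to `U(x)`
  obtain ⟨p, hp, hpU⟩ := h.sylow_conj (S := AA σ x) (gen_le_AA _) le_rfl (Q := UU σ y) h'.isPGroup_U (by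
    rw [← eA]
    exact gen_le_AA _)
  have h1 : HexTwo σ (cj p y) := h'.conj p
  have eU1 : UU σ (cj p y) = UU σ x := by
    have hle : UU σ (cj p y) ≤ UU σ x := by
      intro v hv
      unfold UU at hv
      rw [mem_gen_cj] at hv
      have := hpU _ hv
      have e : p * (p⁻¹ * v * p) * p⁻¹ = v := by group
      rwa [e] at this
    refine Subgroup.eq_of_le_of_card_ge hle ?_
    unfold UU
    rw [h1.card_U, h.card_U]
  have eA1 : AA σ (cj p y) = AA σ x := by
    ext v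
    unfold AA
    rw [mem_gen_cj]
    change p⁻¹ * v * p ∈ AA σ y ↔ v ∈ AA σ x
    rw [eA]
    constructor
    · intro hv
      have e : v = p * (p⁻¹ * v * p) * p⁻¹ := by group
      rw [e]
      exact mul_mem (mul_mem hp hv) (inv_mem hp)
    · intro hv
      exact mul_mem (mul_mem (inv_mem hp) hv) hp
  -- conjugate the opposite
  set y1 := cj p y with hy1
  have hact : ∀ j a, Ok σ j a → (nn y1 1 * nn y1 6) ^ 3 * y1 j a * ((nn y1 1 * nn y1 6) ^ 3)⁻¹ = y1 (j + 6) a := by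
    intro j a ha
    rw [h1.rot_pow 3 j ha]
    congr 1
  have hg : (nn y1 1 * nn y1 6) ^ 3 ∈ AA σ x := by
    rw [← eA1]
    exact pow_mem (mul_mem (nn_mem_AA 1) (nn_mem_AA 6)) 3
  generalize (nn y1 1 * nn y1 6) ^ 3 = g at hact hg
  have hgU : ∀ v ∈ UU σ y1, g * v * g⁻¹ ∈ gen σ y1 (arc 7 6) := fun v hv =>
    conj_gen (by
      intro k hk a ha
      rw [hact k a ha]
      exact x_mem_gen (val_pos hk) (ha.congr (val_add_6 k))) hv
  have hgV : ∀ v ∈ gen σ y1 (arc 7 6), g⁻¹ * v * g ∈ UU σ y1 := by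
    intro v hv
    have hinv : ∀ j a, Ok σ j a → g⁻¹ * y1 j a * g = y1 (j + 6) a := by
      intro j a ha
      have h2 := hact (j + 6) a (ha.congr (val_add_6 j))
      have e3 : j + 6 + 6 = j := by
        have := idx_back j
        rwa [one_mul] at this
      rw [e3] at h2
      rw [← h2]
      group
    have := conj_gen (σ := σ) (x := y1) (g := g⁻¹) (S := arc 7 6) (T := arc 1 6) (by
      intro k hk a ha
      rw [inv_inv, hinv k a ha]
      refine x_mem_gen ?_ (ha.congr (val_add_6 k))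
      have : ∀ k : ZMod 12, (k - 7).val < 6 → (k + 6 - 1).val < 6 := by decide
      exact this k hk) hv
    rwa [inv_inv] at this
  obtain ⟨u, hu, huv⟩ := h.opp_conj hg (by
    intro v hv hv'
    rw [← eU1] at hv hv'
    have h2 := h1.opp_one hv' (hgU v hv)
    rwa [mul_inv_eq_one, mul_eq_left] at h2)
  have hAu : u ∈ AA σ x := gen_le_AA _ hu
  have h2 : HexTwo σ (cj u⁻¹ y1) := h1.conj u⁻¹
  have P0 : Pair σ x (cj u⁻¹ y1) := by
    refine ⟨h, h2, ?_, ?_, ?_⟩
    · ext v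
      unfold AA
      rw [mem_gen_cj, inv_inv]
      change u * v * u⁻¹ ∈ AA σ y1 ↔ v ∈ AA σ x
      rw [eA1]
      constructor
      · intro hv
        have e : v = u⁻¹ * (u * v * u⁻¹) * u := by group
        rw [e]
        exact mul_mem (mul_mem (inv_mem hAu) hv) hAu
      · intro hv
        exact mul_mem (mul_mem hAu hv) (inv_mem hAu)
    · ext v
      unfold UU
      rw [mem_gen_cj, inv_inv]
      change u * v * u⁻¹ ∈ UU σ y1 ↔ v ∈ UU σ x
      rw [eU1]
      constructor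
      · intro hv
        have e : v = u⁻¹ * (u * v * u⁻¹) * u := by group
        rw [e]
        exact mul_mem (mul_mem (inv_mem hu) hv) hu
      · intro hv
        exact mul_mem (mul_mem hu hv) (inv_mem hu)
    · ext v
      rw [mem_gen_cj, inv_inv, huv]
      constructor
      · intro hv
        rw [← eU1]
        exact hgV _ hv
      · intro hv
        rw [← eU1] at hv
        have := hgU _ hv
        have e : g * (g⁻¹ * (u * v * u⁻¹) * g) * g⁻¹ = u * v * u⁻¹ := by group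
        rwa [e] at this
  set y2 := cj u⁻¹ y1 with hy2
  -- normalise by the torus
  obtain ⟨a, ha, ea⟩ := h.mem_gen_singleton.1 (P0.le1 (x_mem_gen (Set.mem_singleton _) (ok_one σ 1)))
  obtain ⟨c, hc, ec⟩ := h.mem_gen_singleton.1 (P0.le6 hN (x_mem_gen (Set.mem_singleton _) (ok_one σ 6)))
  have ha0 : a ≠ 0 := by
    rintro rfl
    rw [h.x_zero] at ea
    exact one_ne_zero (h2.inj 1 1 (ok_one σ 1) ea)
  have hc0 : c ≠ 0 := by
    rintro rfl
    rw [h.x_zero] at ec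
    exact one_ne_zero (h2.inj 6 1 (ok_one σ 6) ec)
  have hcf : σ c = c := hc (by decide)
  obtain ⟨s, hs0, hs⟩ := h.shp_surjective (b := a⁻¹) (inv_ne_zero ha0)
  have hci : σ c⁻¹ = c⁻¹ := by rw [map_inv₀, hcf]
  have hH : hh x 3 s * hh x 4 c⁻¹ ∈ h.H :=
    mul_mem (h.hh_mem_H 3 hs0 (ok3 s)) (h.hh_mem_H 4 (inv_ne_zero hc0) (ok_of_fix 4 hci))
  set t := hh x 3 s * hh x 4 c⁻¹ with ht
  have P1 : Pair σ x (cj t y2) := P0.conj (h.H_le_AA hH) (fun v hv => h.H_conj_gen hH _ hv)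
    (fun v hv => h.H_conj_gen' hH _ hv) (fun v hv => h.H_conj_gen hH _ hv) (fun v hv => h.H_conj_gen' hH _ hv)
  have n1 : cj t y2 1 1 = x 1 1 := by
    unfold cj
    change t * y2 1 1 * t⁻¹ = _
    rw [ea, ht]
    have r1 := h.tor 4 1 (inv_ne_zero hc0) (ok_of_fix 4 hci) ha
    have r2 := h.tor 3 1 hs0 (ok3 s) (ok1 (ch σ 4 (1 - 4) c⁻¹ * a))
    have e1 : hh x 3 s * hh x 4 c⁻¹ * x 1 a * (hh x 3 s * hh x 4 c⁻¹)⁻¹ =
        hh x 3 s * (hh x 4 c⁻¹ * x 1 a * (hh x 4 c⁻¹)⁻¹) * (hh x 3 s)⁻¹ := by group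
    rw [e1, r1, r2]
    congr 1
    have e2 : ch σ 4 (1 - 4) c⁻¹ = 1 := rfl
    have e3 : ch σ 3 (1 - 3) s = s⁻¹ * shp σ s := rfl
    rw [e2, e3, one_mul, hs, inv_mul_cancel₀ ha0]
  have n6 : cj t y2 6 1 = x 6 1 := by
    unfold cj
    change t * y2 6 1 * t⁻¹ = _
    rw [ec, ht]
    have r1 := h.tor 4 6 (inv_ne_zero hc0) (ok_of_fix 4 hci) hc
    have hok : Ok σ 6 (ch σ 4 (6 - 4) c⁻¹ * c) := (h.ok_chi 4 6 (ok_of_fix 4 hci)).mul hc
    have r2 := h.tor 3 6 hs0 (ok3 s) hok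
    have e1 : hh x 3 s * hh x 4 c⁻¹ * x 6 c * (hh x 3 s * hh x 4 c⁻¹)⁻¹ =
        hh x 3 s * (hh x 4 c⁻¹ * x 6 c * (hh x 4 c⁻¹)⁻¹) * (hh x 3 s)⁻¹ := by group
    rw [e1, r1, r2]
    congr 1
    have e2 : ch σ 4 (6 - 4) c⁻¹ = c⁻¹ := rfl
    have e3 : ch σ 3 (6 - 3) s = 1 := rfl
    rw [e2, e3, one_mul, inv_mul_cancel₀ hc0]
  obtain ⟨τ, hτ⟩ := P1.field_aut hN n1 n6
  have htA : t ∈ AA σ x := h.H_le_AA hH
  refine ⟨p⁻¹ * u * t⁻¹, mul_mem (mul_mem (inv_mem hp) hAu) (inv_mem htA), τ, fun k b hb => ?_⟩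
  rw [← hτ k b hb, hy2, hy1]
  unfold cj
  group

end Pair

end Cfsg.Agent.StdRank2.Hex
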