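import Cfsg.Agent.StdRank2.HexBN

/-!
# Borel subgroup, Sylow 2-subgroup, centralisers of long root elements
-/

set_option autoImplicit false

namespace Cfsg.Agent.StdRank2.Hex

open Cfsg.Agent.SplitTwo
open scoped commutatorElement Pointwise

/-- the set of positive roots kept positive by an element of the Weyl group is an initial or a final arc -/
theorem weyl_arc : ∀ e c : ZMod 12, (e = 1 ∨ e = -1) → c.val % 2 = 0 → ∃ n : Fin 7,
    ((∀ k : ZMod 12, (k - 1).val < n.val → (e * k + c - 1).val < 6) ∧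
      (∀ k : ZMod 12, (k - (1 + (n.val : ZMod 12))).val < 6 - n.val → (e * k + c - 7).val < 6)) ∨
    ((∀ k : ZMod 12, (k - 1).val < n.val → (e * k + c - 7).val < 6) ∧
      (∀ k : ZMod 12, (k - (1 + (n.val : ZMod 12))).val < 6 - n.val → (e * k + c - 1).val < 6)) := by
  decide +kernel

theorem weyl_id : ∀ e c : ZMod 12, (e = 1 ∨ e = -1) → c.val % 2 = 0 →
    (∀ k : ZMod 12, (k - 1).val < 6 → (e * k + c - 1).val < 6) → e = 1 ∧ c = 0 := by
  decide +kernel

namespace HexTwo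

variable {E : Type*} [Field E] {σ : E ≃+* E} {Γ : Type*} [Group Γ] {x : ZMod 12 → E → Γ} (h : HexTwo σ x)

include h

/-- two non-trivial root elements of different roots are different -/
theorem root_unique {k l : ZMod 12} {a b : E} (ha : Ok σ k a) (hb : Ok σ l b) (ha0 : a ≠ 0) (e : x k a = x l b) :
    k = l := by
  by_contra hkl
  apply ha0
  have key : ∀ k l : ZMod 12, k ≠ l → (l - (k + 1)).val < 5 ∨ (l - (k - 5)).val < 5 ∨ l = k + 6 := by decide
  rcases key k l hkl with h1 | h1 | h1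
  · refine h.mem_first_eq_zero ha ?_
    rw [e]
    exact x_mem_gen h1 hb
  · refine h.mem_last_eq_zero ha ?_
    rw [e]
    exact x_mem_gen h1 hb
  · subst h1
    refine h.inj k a ha (h.opp_all k (x_mem_gen (self_mem_arc (by norm_num)) ha) ?_)
    rw [e]
    exact x_mem_gen (self_mem_arc (by norm_num)) hb

/-- factorisation of an arc into two arcs -/
theorem split_arc (k : ZMod 12) (m n : ℕ) (hmn : m + n ≤ 6) {g : Γ} (hg : g ∈ gen σ x (arc k (m + n))) :
    ∃ u ∈ gen σ x (arc k m), ∃ v ∈ gen σ x (arc (k + (m : ZMod 12)) n), g = u * v := by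
  induction m generalizing k g with
  | zero =>
    refine ⟨1, one_mem _, g, ?_, by rw [one_mul]⟩
    simpa using hg
  | succ m ih =>
    have e : m + 1 + n = (m + n) + 1 := by ring
    rw [e] at hg
    obtain ⟨a, ha, v, hv, rfl⟩ := (h.mem_gen_first (by omega)).1 hg
    obtain ⟨u, hu, w, hw, rfl⟩ := ih (k + 1) (by omega) hv
    refine ⟨x k a * u, ?_, w, ?_, by rw [mul_assoc]⟩
    · exact (h.mem_gen_first (by omega)).2 ⟨a, ha, u, hu, rfl⟩
    · have e2 : k + 1 + (m : ZMod 12) = k + ((m + 1 : ℕ) : ZMod 12) := by push_cast; ring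
      rwa [e2] at hw

omit h in
theorem conj_gen_act {w : Γ} {e c : ZMod 12} (hc : c.val % 2 = 0) (he : e = 1 ∨ e = -1)
    (hw : ∀ j a, Ok σ j a → w * x j a * w⁻¹ = x (e * j + c) a) {S T : Set (ZMod 12)}
    (hST : ∀ l ∈ S, e * l + c ∈ T) {y : Γ} (hy : y ∈ gen σ x S) : w * y * w⁻¹ ∈ gen σ x T := by
  refine conj_gen (fun l hl a ha => ?_) hy
  rw [hw l a ha]
  refine x_mem_gen (hST l hl) (ha.congr ?_)
  have : ∀ e c l : ZMod 12, c.val % 2 = 0 → (e = 1 ∨ e = -1) → (e * l + c).val % 2 = l.val % 2 := by decide +kernel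
  exact this e c l hc he

/-- **`U ∩ U^w`** -/
theorem mem_of_conj {w : Γ} {e c : ZMod 12} (hc : c.val % 2 = 0) (he : e = 1 ∨ e = -1)
    (hw : ∀ j a, Ok σ j a → w * x j a * w⁻¹ = x (e * j + c) a) {u : Γ} (hu : u ∈ UU σ x)
    (hwu : w * u * w⁻¹ ∈ UU σ x) : u ∈ gen σ x {k | k ∈ arc 1 6 ∧ e * k + c ∈ arc 1 6} := by
  obtain ⟨n, hn⟩ := weyl_arc e c he hc
  have hn6 : n.val + (6 - n.val) = 6 := by omega
  obtain ⟨u1, hu1, u2, hu2, rfl⟩ := h.split_arc 1 n.val (6 - n.val) (by omega) (by rw [hn6]; exact hu)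
  have hsub : ∀ k : ZMod 12, (k - (1 + (n.val : ZMod 12))).val < 6 - n.val → (k - 1).val < 6 := by
    have : ∀ (n : Fin 7) (k : ZMod 12), (k - (1 + (n.val : ZMod 12))).val < 6 - n.val → (k - 1).val < 6 := by
      decide +kernel
    exact this n
  have e1 : w * (u1 * u2) * w⁻¹ = (w * u1 * w⁻¹) * (w * u2 * w⁻¹) := by group
  rw [e1] at hwu
  rcases hn with ⟨hA, hB⟩ | ⟨hA, hB⟩
  · have p1 : w * u1 * w⁻¹ ∈ UU σ x := conj_gen_act hc he hw (T := arc 1 6) (fun l hl => hA l hl) hu1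
    have p2 : w * u2 * w⁻¹ ∈ UU σ x := (Subgroup.mul_mem_cancel_left _ p1).1 hwu
    have p3 : w * u2 * w⁻¹ ∈ gen σ x (arc (1 + 6) 6) := conj_gen_act hc he hw (T := arc (1 + 6) 6) (fun l hl => by
      rw [show (1 : ZMod 12) + 6 = 7 by ring]
      exact hB l hl) hu2
    have p4 := h.opp_one p2 p3
    have p5 : u2 = 1 := by rwa [mul_inv_eq_one, mul_eq_left] at p4
    rw [p5, mul_one]
    refine gen_mono ?_ hu1
    intro k hk
    have hk' : (k - 1).val < n.val := hk
    exact ⟨mem_arc.2 (by have := n.2; omega), mem_arc.2 (hA k hk')⟩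
  · have p2 : w * u2 * w⁻¹ ∈ UU σ x := conj_gen_act hc he hw (T := arc 1 6) (fun l hl => hB l hl) hu2
    have p1 : w * u1 * w⁻¹ ∈ UU σ x := (Subgroup.mul_mem_cancel_right _ p2).1 hwu
    have p3 : w * u1 * w⁻¹ ∈ gen σ x (arc (1 + 6) 6) := conj_gen_act hc he hw (T := arc (1 + 6) 6) (fun l hl => by
      rw [show (1 : ZMod 12) + 6 = 7 by ring]
      exact hA l hl) hu1
    have p4 := h.opp_one p1 p3
    have p5 : u1 = 1 := by rwa [mul_inv_eq_one, mul_eq_left] at p4
    rw [p5, one_mul]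
    refine gen_mono ?_ hu2
    intro k hk
    exact ⟨mem_arc.2 (hsub k hk), mem_arc.2 (hB k hk)⟩

/-- faithful action of the Weyl group -/
theorem isW_faithful {w : Γ} (hw : IsW x w) {f : ZMod 12 → ZMod 12}
    (hf : ∀ j a, Ok σ j a → w * x j a * w⁻¹ = x (f j) a) : (f = id → w = 1) ∧ (∀ c, f = (fun j => 2 * c + 6 - j) → w = nn x c) := by
  have uniq : ∀ (g : ZMod 12 → ZMod 12) (j : ZMod 12), w * x j 1 * w⁻¹ = x (g j) 1 → g j = f j := by
    intro g j e
    have e2 := hf j 1 (ok_one σ j)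
    rw [e] at e2
    exact h.root_unique (ok_one σ _) (ok_one σ _) one_ne_zero e2
  rcases hw with ⟨m, rfl⟩ | ⟨d, rfl⟩
  · have h1 := uniq (fun j => j + 2 * m) 0 (h.rot_pow m 0 (ok_one σ 0))
    have h2 := uniq (fun j => j + 2 * m) 1 (h.rot_pow m 1 (ok_one σ 1))
    beta_reduce at h1 h2
    constructor
    · rintro rfl
      -- `2 m = 0`
      have h3 : ((2 * m : ℕ) : ZMod 12) = 0 := by
        push_cast
        simpa using h1
      rw [ZMod.natCast_eq_zero_iff] at h3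
      obtain ⟨r, hr⟩ : 6 ∣ m := by omega
      rw [hr, pow_mul, h.rho_pow_six, one_pow]
    · rintro c rfl
      exfalso
      have : ∀ m c : ZMod 12, 0 + 2 * m = 2 * c + 6 - 0 → 1 + 2 * m = 2 * c + 6 - 1 → False := by decide
      exact this _ _ h1 h2
  · have h1 := uniq (fun j => 2 * d + 6 - j) 0 (h.refl d 0 (ok_one σ 0))
    have h2 := uniq (fun j => 2 * d + 6 - j) 1 (h.refl d 1 (ok_one σ 1))
    beta_reduce at h1 h2
    constructor
    · rintro rfl
      exfalso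
      have : ∀ d : ZMod 12, 2 * d + 6 - 0 = 0 → 2 * d + 6 - 1 = 1 → False := by decide
      exact this _ h1 h2
    · rintro c rfl
      have : ∀ d c : ZMod 12, 2 * d + 6 - 0 = 2 * c + 6 - 0 → d = c ∨ d = c + 6 := by decide
      rcases this _ _ h1 with rfl | rfl
      · rfl
      · exact h.nn_opp c

/-! ### The normaliser of `U` -/

theorem mem_normalizer_U [Finite E] {g : Γ} (hg : g ∈ AA σ x) (hn : ∀ u ∈ UU σ x, g * u * g⁻¹ ∈ UU σ x) :
    ∃ u ∈ UU σ x, ∃ t ∈ h.H, g = u * t := by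
  obtain ⟨u, hu, t, ht, w, hw, u', hu', rfl⟩ := h.bruhat hg
  have hwn : ∀ y ∈ UU σ x, w * y * w⁻¹ ∈ UU σ x := by
    intro y hy
    have h1 := hn (u'⁻¹ * y * u') (mul_mem (mul_mem (inv_mem hu') hy) hu')
    have h2 := mul_mem (mul_mem (inv_mem hu) h1) hu
    have h3 := h.H_conj_gen' ht _ h2
    have e : t⁻¹ * (u⁻¹ * (u * t * w * u' * (u'⁻¹ * y * u') * (u * t * w * u')⁻¹) * u) * t = w * y * w⁻¹ := by
      group
    rwa [e] at h3
  obtain ⟨e, c, he, hc, hact⟩ := h.isW_act hw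
  have hid : e = 1 ∧ c = 0 := by
    refine weyl_id e c he hc fun k hk => ?_
    -- `x (e k + c) 1 ∈ U`
    have h1 := hwn (x k 1) (x_mem_gen hk (ok_one σ k))
    rw [hact k 1 (ok_one σ k)] at h1
    by_contra hneg
    have h2 : (e * k + c - 7).val < 6 := by
      have : ∀ j : ZMod 12, ¬ (j - 1).val < 6 → (j - 7).val < 6 := by decide
      exact this _ hneg
    have h3 : x (e * k + c) 1 ∈ gen σ x (arc (1 + 6) 6) := x_mem_gen (by
      rw [mem_arc, show (1 : ZMod 12) + 6 = 7 by ring]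
      exact h2) (ok_one σ _)
    exact one_ne_zero (h.inj _ _ (ok_one σ _) (h.opp_one h1 h3))
  have hw1 : w = 1 := by
    refine (h.isW_faithful hw (f := fun j => e * j + c) hact).1 ?_
    funext j
    rw [hid.1, hid.2]
    simp
  subst hw1
  refine ⟨u * (t * u' * t⁻¹), mul_mem hu (h.H_conj_gen ht _ hu'), t, ht, ?_⟩
  group

end HexTwo

end Cfsg.Agent.StdRank2.Hex
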