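import Cfsg.Agent.StdRank2.HexCent

/-!
# Shifting the indices of a `HexTwo`
-/

set_option autoImplicit false

namespace Cfsg.Agent.StdRank2.Hex

open Cfsg.Agent.SplitTwo
open scoped commutatorElement Pointwise

namespace HexTwo

variable {E : Type*} [Field E] {σ : E ≃+* E} {Γ : Type*} [Group Γ] {x : ZMod 12 → E → Γ} (h : HexTwo σ x)

include h

/-! ### Shifting the indices -/

theorem shift {c : ZMod 12} (hc : c.val % 2 = 0) : HexTwo σ (fun j => x (j + c)) := by
  have v : ∀ j : ZMod 12, (j + c).val % 2 = j.val % 2 := by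
    have : ∀ c j : ZMod 12, c.val % 2 = 0 → (j + c).val % 2 = j.val % 2 := by decide
    exact fun j => this c j hc
  have okc : ∀ {j : ZMod 12} {a : E}, Ok σ j a → Ok σ (j + c) a := fun ha => ha.congr (v _)
  have enn : ∀ k, nn (fun j => x (j + c)) k = nn x (k + c) := by
    intro k
    unfold nn
    beta_reduce
    rw [show k + 6 + c = k + c + 6 by ring]
  have ent : ∀ k t, nt (fun j => x (j + c)) k t = nt x (k + c) t := by
    intro k t
    unfold nt
    beta_reduce
    rw [show k + 6 + c = k + c + 6 by ring]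
  have ehh : ∀ k t, hh (fun j => x (j + c)) k t = hh x (k + c) t := by
    intro k t
    unfold hh
    rw [ent, enn]
  have odd : ∀ {j : ZMod 12} (n : ZMod 12), j = n + c → n.val % 2 = 1 → j.val % 2 = 1 := by
    rintro j n rfl hn
    rw [v]; exact hn
  have even : ∀ {j : ZMod 12} (n : ZMod 12), j = n + c → n.val % 2 = 0 → j.val % 2 = 0 := by
    rintro j n rfl hn
    rw [v]; exact hn
  have o1 : (1 + c).val % 2 = 1 := odd 1 rfl (by decide)
  have o3 : (3 + c).val % 2 = 1 := odd 3 rfl (by decide)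
  have o5 : (5 + c).val % 2 = 1 := odd 5 rfl (by decide)
  have e2 : (2 + c).val % 2 = 0 := even 2 rfl (by decide)
  have e4 : (4 + c).val % 2 = 0 := even 4 rfl (by decide)
  have e6 : (6 + c).val % 2 = 0 := even 6 rfl (by decide)
  have tf := trc_fix h.cube
  have kkc : ∀ {j l : ZMod 12} {a b : E}, Ok σ j a → Ok σ l b → kk (x j a) (x l b) = ⁅x j a, x l b⁆ :=
    fun ha hb => (h.comm_eq_kk ha hb).symm
  refine ⟨h.two, ?_, ?_, ?_, ?_, ?_, ?_, ?_, ?_⟩
  · refine ⟨h.cube, fun a b => h.add _ a b (ok_odd o1 a) (ok_odd o1 b),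
      fun a b ha hb => h.add _ a b (ok_of_fix _ ha) (ok_of_fix _ hb),
      fun a b => h.add _ a b (ok_odd o3 a) (ok_odd o3 b),
      fun a b ha hb => h.add _ a b (ok_of_fix _ ha) (ok_of_fix _ hb),
      fun a b => h.add _ a b (ok_odd o5 a) (ok_odd o5 b),
      fun a b ha hb => h.add _ a b (ok_of_fix _ ha) (ok_of_fix _ hb), ?_, ?_, ?_, ?_, ?_, ?_, ?_, ?_, ?_, ?_, ?_, ?_, ?_, ?_, ?_⟩
    · intro a t ht
      rw [kkc (ok_odd o1 a) (ok_of_fix _ ht), show (2 : ZMod 12) + c = 1 + c + 1 by ring]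
      exact h.commS1 o1 a ht
    · intro a b
      rw [kkc (ok_odd o1 a) (ok_odd o3 b), show (3 : ZMod 12) + c = 1 + c + 2 by ring,
        show (2 : ZMod 12) + c = 1 + c + 1 by ring]
      exact h.commS2 o1 a b
    · intro a t ht
      rw [kkc (ok_odd o1 a) (ok_of_fix _ ht), show (4 : ZMod 12) + c = 1 + c + 3 by ring]
      exact h.commS3 o1 a ht
    · intro a b
      rw [kkc (ok_odd o1 a) (ok_odd o5 b), show (5 : ZMod 12) + c = 1 + c + 4 by ring,
        show (2 : ZMod 12) + c = 1 + c + 1 by ring, show (3 : ZMod 12) + c = 1 + c + 2 by ring,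
        show (4 : ZMod 12) + c = 1 + c + 3 by ring, h.neg_eq]
      exact h.commS4 o1 a b
    · intro a t ht
      rw [kkc (ok_odd o1 a) (ok_of_fix _ ht), show (6 : ZMod 12) + c = 1 + c + 5 by ring,
        show (2 : ZMod 12) + c = 1 + c + 1 by ring, show (3 : ZMod 12) + c = 1 + c + 2 by ring,
        show (4 : ZMod 12) + c = 1 + c + 3 by ring, show (5 : ZMod 12) + c = 1 + c + 4 by ring, h.neg_eq, h.neg_eq]
      exact h.commS5 o1 a ht
    · intro t a ht
      rw [kkc (ok_of_fix _ ht) (ok_odd o3 a), show (3 : ZMod 12) + c = 2 + c + 1 by ring]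
      exact h.commL1 e2 ht a
    · intro t u ht hu
      rw [kkc (ok_of_fix _ ht) (ok_of_fix _ hu), show (4 : ZMod 12) + c = 2 + c + 2 by ring]
      exact h.commL2 e2 ht hu
    · intro t a ht
      rw [kkc (ok_of_fix _ ht) (ok_odd o5 a), show (5 : ZMod 12) + c = 2 + c + 3 by ring]
      exact h.commL3 e2 ht a
    · intro t u ht hu
      rw [kkc (ok_of_fix _ ht) (ok_of_fix _ hu), show (6 : ZMod 12) + c = 2 + c + 4 by ring,
        show (4 : ZMod 12) + c = 2 + c + 2 by ring]
      exact h.commL4 e2 ht hu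
    · intro a t ht
      rw [kkc (ok_odd o3 a) (ok_of_fix _ ht), show (4 : ZMod 12) + c = 3 + c + 1 by ring]
      exact h.commS1 o3 a ht
    · intro a b
      rw [kkc (ok_odd o3 a) (ok_odd o5 b), show (5 : ZMod 12) + c = 3 + c + 2 by ring,
        show (4 : ZMod 12) + c = 3 + c + 1 by ring]
      exact h.commS2 o3 a b
    · intro a t ht
      rw [kkc (ok_odd o3 a) (ok_of_fix _ ht), show (6 : ZMod 12) + c = 3 + c + 3 by ring]
      exact h.commS3 o3 a ht
    · intro t a ht
      rw [kkc (ok_of_fix _ ht) (ok_odd o5 a), show (5 : ZMod 12) + c = 4 + c + 1 by ring]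
      exact h.commL1 e4 ht a
    · intro t u ht hu
      rw [kkc (ok_of_fix _ ht) (ok_of_fix _ hu), show (6 : ZMod 12) + c = 4 + c + 2 by ring]
      exact h.commL2 e4 ht hu
    · intro a t ht
      rw [kkc (ok_odd o5 a) (ok_of_fix _ ht), show (6 : ZMod 12) + c = 5 + c + 1 by ring]
      exact h.commS1 o5 a ht
  · intro k a b ha hb
    exact h.add _ a b (okc ha) (okc hb)
  · intro k a ha e
    exact h.inj _ a (okc ha) e
  · intro j a ha
    rw [enn]
    have := h.refl (1 + c) (j + c) (okc ha)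
    rw [this]
    congr 1
    ring
  · intro j a ha
    rw [enn]
    have := h.refl (6 + c) (j + c) (okc ha)
    rw [this]
    have : ∀ c j : ZMod 12, 2 * (6 + c) + 6 - (j + c) = 6 - j + c := by decide
    rw [this]
  · intro t ht j a ha
    rw [ehh]
    have := h.tor (1 + c) (j + c) ht (ok_odd o1 t) (okc ha)
    rw [this, show j + c - (1 + c) = j - 1 by ring]
    have : ch σ (1 + c) (j - 1) t = chS σ (j - 1) t := by
      unfold ch
      rw [if_neg (by rw [o1]; decide)]
    rw [this]
  · intro t ht ht' j a ha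
    rw [ehh]
    have := h.tor (6 + c) (j + c) ht (ok_of_fix _ ht') (okc ha)
    rw [this, show j + c - (6 + c) = j - 6 by ring]
    have : ch σ (6 + c) (j - 6) t = chL (j - 6) t := by
      unfold ch
      rw [if_pos e6]
    rw [this]
  · intro g h1 h2
    refine h.opp_all (1 + c) ?_ ?_
    · refine (Subgroup.closure_mono ?_) h1
      rintro _ ⟨k, hk, a, ha, rfl⟩
      refine ⟨k + c, ?_, a, okc ha, rfl⟩
      rw [mem_arc, show k + c - (1 + c) = k - 1 by ring]
      exact (set_pos k).2 hk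
    · refine (Subgroup.closure_mono ?_) h2
      rintro _ ⟨k, hk, a, ha, rfl⟩
      refine ⟨k + c, ?_, a, okc ha, rfl⟩
      rw [mem_arc, show k + c - (1 + c + 6) = k - 7 by ring]
      exact (set_neg k).2 hk

end HexTwo

end Cfsg.Agent.StdRank2.Hex
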