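import Cfsg.Agent.StdRank2.HexInv
import Cfsg.Agent.StdRank2.HexShift

/-!
# Centralisers of `Q₁`, `Q₂`, ... in `A`
-/

set_option autoImplicit false
set_option linter.unusedSimpArgs false

namespace Cfsg.Agent.StdRank2.Hex

open Cfsg.Agent.SplitTwo
open scoped commutatorElement

namespace HexTwo

variable {E : Type*} [Field E] {σ : E ≃+* E} {Γ : Type*} [Group Γ] {x : ZMod 12 → E → Γ} (h : HexTwo σ x)

include h

/-- multiplication from the left by an element of `Q₁` -/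
theorem q_uu {B C D E' F' a b c d e f : E} (hB : σ B = B) (hD : σ D = D) (hF : σ F' = F') (hb : σ b = b)
    (hd : σ d = d) (hf : σ f = f) :
    q x B C D E' F' * uu x a b c d e f = uu x a (B + trc σ a C + trc σ (shp σ a) E' + F' * nrm σ a + b)
        (C + crs σ a E' + F' * shp σ a + c)
        (D + trc σ a (shp σ E') + F' ^ 2 * nrm σ a + F' * trc σ (shp σ a) E' + d + b * F' + trc σ c (E' + F' * a))
        (E' + F' * a + e) (F' + f) := by
  rw [← h.uq, h.uu_mul hB hD hF hb hd hf, zero_add]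

/-- multiplication from the right by an element of `Q₁` -/
theorem uu_q {B C D E' F' a b c d e f : E} (hB : σ B = B) (hD : σ D = D) (hF : σ F' = F') (hb : σ b = b)
    (hd : σ d = d) (hf : σ f = f) :
    uu x a b c d e f * q x B C D E' F' = uu x a (b + B) (c + C) (d + D + B * f + trc σ C e) (e + E') (f + F') := by
  unfold uu
  rw [mul_assoc, h.q_mul hb hd hf hB hD hF]

theorem mem_234 {g : Γ} : g ∈ gen σ x (arc 2 3) ↔ ∃ b c d, σ b = b ∧ σ d = d ∧ g = q x b c d 0 0 := by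
  constructor
  · intro hg
    obtain ⟨b, hb, g1, hg1, rfl⟩ := (h.mem_gen_first (n := 2) (by norm_num)).1 hg
    obtain ⟨c, hc, g2, hg2, rfl⟩ := (h.mem_gen_first (n := 1) (by norm_num)).1 hg1
    obtain ⟨d, hd, g3, hg3, rfl⟩ := (h.mem_gen_first (n := 0) (by norm_num)).1 hg2
    rw [gen_arc_zero, Subgroup.mem_bot] at hg3
    refine ⟨b, c, d, hb (by decide), hd (by decide), ?_⟩
    rw [hg3, mul_one, h.q_234, mul_assoc]
    rfl
  · rintro ⟨b, c, d, hb, hd, rfl⟩
    rw [h.q_234]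
    exact mul_mem (mul_mem (x_mem_gen (by rw [mem_arc]; decide) (ok_of_fix _ hb))
      (x_mem_gen (by rw [mem_arc]; decide) (ok3 c))) (x_mem_gen (by rw [mem_arc]; decide) (ok_of_fix _ hd))

theorem mem_24 {g : Γ} : g ∈ gen σ x {2, 4} ↔ ∃ b d, σ b = b ∧ σ d = d ∧ g = q x b 0 d 0 0 := by
  have e0 : ∀ b d, q x b 0 d 0 0 = x 2 b * x 4 d := by
    intro b d
    rw [h.q_234, h.x_zero, mul_one]
  constructor
  · intro hg
    refine Subgroup.closure_induction (p := fun g _ => ∃ b d, σ b = b ∧ σ d = d ∧ g = q x b 0 d 0 0) ?_ ?_ ?_ ?_ hg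
    · rintro _ ⟨k, hk, a, ha, rfl⟩
      rcases hk with hk | hk
      · subst hk
        exact ⟨a, 0, ha (by decide), map_zero σ, by rw [h.q2]⟩
      · rw [Set.mem_singleton_iff] at hk
        subst hk
        exact ⟨0, a, map_zero σ, ha (by decide), by rw [h.q4]⟩
    · exact ⟨0, 0, map_zero σ, map_zero σ, h.q_zero.symm⟩
    · rintro _ _ - - ⟨b, d, hb, hd, rfl⟩ ⟨b', d', hb', hd', rfl⟩
      refine ⟨b + b', d + d', by rw [map_add, hb, hb'], by rw [map_add, hd, hd'], ?_⟩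
      rw [h.q_mul hb hd (map_zero σ) hb' hd' (map_zero σ)]
      simp only [mul_zero, trc_zero_right, add_zero]
    · rintro _ - ⟨b, d, hb, hd, rfl⟩
      refine ⟨b, d, hb, hd, ?_⟩
      refine inv_eq_of_mul_eq_one_left ?_
      rw [h.q_mul hb hd (map_zero σ) hb hd (map_zero σ)]
      simp only [mul_zero, trc_zero_right, add_zero, h.add_self, h.q_zero]
  · rintro ⟨b, d, hb, hd, rfl⟩
    rw [e0]
    exact mul_mem (x_mem_gen (by simp) (ok_of_fix _ hb)) (x_mem_gen (by simp) (ok_of_fix _ hd))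

/-- conjugation of an element of `X₂X₃X₄` by an element of `U` -/
theorem uu_q234 {a b c d e f B C D : E} (hb : σ b = b) (hd : σ d = d) (hf : σ f = f) (hB : σ B = B) (hD : σ D = D) :
    uu x a b c d e f * q x B C D 0 0 = q x (B + trc σ a C) C (D + B * f + trc σ C e) 0 0 * uu x a b c d e f := by
  have z : σ (0 : E) = 0 := map_zero σ
  have t1 := h.fix_trc a C
  have t2 := h.fix_trc C e
  rw [h.uu_q hB hD z hb hd hf, h.q_uu (by rw [map_add, hB, t1])
    (by rw [map_add, map_add, map_mul, hB, hD, hf, t2]) z hb hd hf]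
  simp only [zero_mul, zero_add, add_zero, mul_zero, trc_zero_right, trc_zero_left, crs_zero_left,
    crs_zero_right, shp_zero, nrm_zero, show (0 : E) ^ 2 = 0 by norm_num]
  congr 1
  · rw [show B + trc σ a C + trc σ a C + b = B + (trc σ a C + trc σ a C) + b by ring, h.add_self]
    ring
  · ring
  · ring

/-- conjugation of an element of `Q₁` by an element of `U`, the coordinates at `5`, `6` -/
theorem uu_conj_q {u : Γ} (hu : u ∈ UU σ x) {b c d e f : E} (hb : σ b = b) (hd : σ d = d) (hf : σ f = f) :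
    ∃ a B C D, σ B = B ∧ σ D = D ∧ u * q x b c d e f = q x B C D (e + f * a) f * u := by
  obtain ⟨a, b', c', d', e', f', hb', hd', hf', rfl⟩ := h.mem_UU.1 hu
  have t2 := h.fix_trc (shp σ a) e
  have t3 := h.fix_trc a (shp σ e)
  have t4 := h.fix_nrm a
  have t5 := h.fix_trc a c
  -- first the element of `Q₁`
  have e1 : q x b' c' d' e' f' * q x b c d e f =
      q x b c (d + b * f' + b' * f + trc σ c e' + trc σ c' e) e f * q x b' c' d' e' f' := by
    have s1 := h.fix_trc c e'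
    have s2 := h.fix_trc c' e
    rw [h.q_mul hb' hd' hf' hb hd hf, h.q_mul hb (by simp only [map_add, map_mul, hd, hb, hf', hb', hf, s1, s2]) hf
      hb' hd' hf']
    have e2 : b' * f + b' * f = 0 := h.add_self _
    have e3 : trc σ c' e + trc σ c' e = 0 := h.add_self _
    congr 1
    · ring
    · ring
    · rw [show d + b * f' + b' * f + trc σ c e' + trc σ c' e + d' + b' * f + trc σ c' e =
        d + b * f' + trc σ c e' + d' + (b' * f + b' * f) + (trc σ c' e + trc σ c' e) by ring, e2, e3]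
      ring
    · ring
    · ring
  have hD' : σ (d + b * f' + b' * f + trc σ c e' + trc σ c' e) = d + b * f' + b' * f + trc σ c e' + trc σ c' e := by
    have s1 := h.fix_trc c e'
    have s2 := h.fix_trc c' e
    simp only [map_add, map_mul, hd, hb, hf', hb', hf, s1, s2]
  have e5 : uu x a b' c' d' e' f' * q x b c d e f =
      q x (b + trc σ a c + trc σ (shp σ a) e + f * nrm σ a) (c + crs σ a e + f * shp σ a)
        (d + b * f' + b' * f + trc σ c e' + trc σ c' e + trc σ a (shp σ e) + f ^ 2 * nrm σ a +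
          f * trc σ (shp σ a) e) (e + f * a) f * uu x a b' c' d' e' f' := by
    unfold uu
    rw [mul_assoc, e1, ← mul_assoc, h.x1_q a hb hD' hf, mul_assoc]
  refine ⟨a, _, _, _, ?_, ?_, e5⟩
  · simp only [map_add, map_mul, hb, t5, t2, hf, t4]
  · have s1 := h.fix_trc c e'
    have s2 := h.fix_trc c' e
    simp only [map_add, map_mul, map_pow, hd, hb, hb', hf', s1, s2, t2, t3, hf, t4]

omit [Field E] h in
theorem conj_eq_of_comm {g y z : Γ} (e : ⁅g, y⁆ = z) : g * y * g⁻¹ = z * y := by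
  rw [← e, commutatorElement_def]
  group

/-- **An element of `A` centralising `x 4 1` and `x 3 1` modulo `X₂X₄` lies in `U`.** -/
theorem mem_U_of [Finite E] {g : Γ} (hg : g ∈ AA σ x) (h4 : g * x 4 1 * g⁻¹ = x 4 1)
    (h3 : ⁅g, x 3 1⁆ ∈ gen σ x {2, 4}) : g ∈ UU σ x := by
  have z : σ (0 : E) = 0 := map_zero σ
  have hgP := (h.mem_centralizer_x4 hg (map_one σ) one_ne_zero).1 h4
  obtain ⟨b₀, d₀, hb₀, hd₀, e0⟩ := h.mem_24.1 h3
  have e1 : g * x 3 1 * g⁻¹ = q x b₀ 1 d₀ 0 0 := by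
    rw [conj_eq_of_comm e0, ← h.q3, h.q_mul hb₀ hd₀ z z z z]
    simp only [zero_mul, zero_add, add_zero, mul_zero, trc_zero_right]
  rcases h.bruhat_P 1 hgP with ⟨u, hu, s, -, hs, rfl⟩ | ⟨u, hu, s, b, -, hs, -, rfl⟩
  · obtain ⟨a, b, c, d, e, f, hb, hd, hf, rfl⟩ := h.mem_UU.1 hu
    have e2 := h.tor 1 3 hs (ok1 s) (ok3 (1 : E))
    have e3 : uu x a b c d e f * hh x 1 s * x 3 1 * (uu x a b c d e f * hh x 1 s)⁻¹ =
        q x (trc σ a (s⁻¹ * shp σ s)) (s⁻¹ * shp σ s) (trc σ (s⁻¹ * shp σ s) e) 0 0 := by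
      have e4 : ch σ 1 (3 - 1) s * 1 = s⁻¹ * shp σ s := by
        rw [mul_one]
        rfl
      calc uu x a b c d e f * hh x 1 s * x 3 1 * (uu x a b c d e f * hh x 1 s)⁻¹ =
          uu x a b c d e f * (hh x 1 s * x 3 1 * (hh x 1 s)⁻¹) * (uu x a b c d e f)⁻¹ := by group
        _ = _ := by rw [e2, e4, h.uu_x3 hb hd hf, mul_inv_cancel_right]
    rw [e3] at e1
    have e5 := (h.q_inj (h.fix_trc _ _) (h.fix_trc _ _) z hb₀ hd₀ z e1).2.1
    have e6 : s = 1 := h.eq_one_of_shp hs (by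
      rw [inv_mul_eq_iff_eq_mul₀ hs, mul_one] at e5
      exact e5)
    rw [e6, h.hh_one, mul_one]
    exact hu
  · exfalso
    have e2 : x 1 b * x 3 1 = q x (trc σ b 1) 1 0 0 0 * x 1 b := by
      rw [h.c13, h.q_234, h.x_zero, mul_one]
    have t1 := h.fix_trc b 1
    have e3 := h.nn1_q (b := trc σ b 1) (c := 1) (d := 0) (e := 0) (f := 0) t1 z z
    simp only [zero_mul, zero_add, add_zero, mul_zero, trc_zero_left] at e3
    have r5 := h.tor 1 5 hs (ok1 s) (ok5 (1 : E))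
    have r6 := h.tor 1 6 hs (ok1 s) (ok_of_fix 6 t1)
    have hc6 : σ (ch σ 1 (6 - 1) s * trc σ b 1) = ch σ 1 (6 - 1) s * trc σ b 1 :=
      ((h.ok_chi 1 6 (ok1 s)).mul (ok_of_fix 6 t1)) (by decide)
    have e4 : hh x 1 s * q x 0 0 0 1 (trc σ b 1) =
        q x 0 0 0 (ch σ 1 (5 - 1) s * 1) (ch σ 1 (6 - 1) s * trc σ b 1) * hh x 1 s := by
      have w : ∀ e f, q x 0 0 0 e f = x 5 e * x 6 f := by
        intro e f
        unfold q
        rw [h.x_zero, h.x_zero, h.x_zero, one_mul, one_mul, one_mul]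
      rw [w, w, ← r5, ← r6]
      group
    obtain ⟨a, B, C, D, hB, hD, e5⟩ := h.uu_conj_q (x := x) hu (b := 0) (c := 0) (d := 0)
      (e := ch σ 1 (5 - 1) s * 1) z z hc6
    have e6 : u * hh x 1 s * nn x 1 * x 1 b * x 3 1 * (u * hh x 1 s * nn x 1 * x 1 b)⁻¹ =
        q x B C D (ch σ 1 (5 - 1) s * 1 + ch σ 1 (6 - 1) s * trc σ b 1 * a) (ch σ 1 (6 - 1) s * trc σ b 1) := by
      rw [mul_inv_eq_iff_eq_mul]
      calc u * hh x 1 s * nn x 1 * x 1 b * x 3 1 = u * hh x 1 s * nn x 1 * (x 1 b * x 3 1) := by group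
        _ = u * hh x 1 s * (nn x 1 * q x (trc σ b 1) 1 0 0 0) * x 1 b := by rw [e2]; group
        _ = u * (hh x 1 s * q x 0 0 0 1 (trc σ b 1)) * nn x 1 * x 1 b := by rw [e3]; group
        _ = (u * q x 0 0 0 (ch σ 1 (5 - 1) s * 1) (ch σ 1 (6 - 1) s * trc σ b 1)) * hh x 1 s * nn x 1 * x 1 b := by
            rw [e4]; group
        _ = _ := by rw [e5]; group
    rw [e6] at e1
    obtain ⟨-, -, -, k5, k6⟩ := h.q_inj hB hD hc6 hb₀ hd₀ z e1
    rw [k6, zero_mul, add_zero, mul_one] at k5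
    exact ch_ne_zero 1 _ hs k5

/-- elements of `U` act trivially on `X₃` modulo `X₂X₄` -/
theorem U_x3 {u : Γ} (hu : u ∈ UU σ x) {y y' : E} (h0 : ⁅u, x 3 y⁆ * x 3 y * x 3 y' ∈ gen σ x {2, 4}) : y = y' := by
  obtain ⟨a, b, c, d, e, f, hb, hd, hf, rfl⟩ := h.mem_UU.1 hu
  have z : σ (0 : E) = 0 := map_zero σ
  have e1 : ⁅uu x a b c d e f, x 3 y⁆ * x 3 y = q x (trc σ a y) y (trc σ y e) 0 0 := by
    rw [commutatorElement_def, inv_mul_cancel_right, h.uu_x3 hb hd hf, mul_inv_cancel_right]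
  rw [e1] at h0
  obtain ⟨b', d', hb', hd', e2⟩ := h.mem_24.1 h0
  rw [← h.q3, h.q_mul (h.fix_trc _ _) (h.fix_trc _ _) z z z z] at e2
  simp only [zero_mul, zero_add, add_zero, mul_zero, trc_zero_right] at e2
  have e3 := (h.q_inj (h.fix_trc _ _) (h.fix_trc _ _) z hb' hd' z e2).2.1
  have e4 := eq_neg_of_add_eq_zero_left e3
  rwa [h.neg_eq] at e4

theorem eq_zero_of_trc {a : E} (ha : ∀ y, trc σ a y = 0) : a = 0 := by
  by_contra h0
  have := ha (1 / a)
  rw [h.trc_div h0 (map_one σ)] at this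
  exact one_ne_zero this

/-- an element of `U` centralising `X₃` modulo `X₄` lies in `Q₁` -/
theorem mem_Q1_of_U {g : Γ} (hg : g ∈ UU σ x) (h3 : ∀ c, ⁅g, x 3 c⁆ ∈ gen σ x {4}) : g ∈ gen σ x (arc 2 5) := by
  have z : σ (0 : E) = 0 := map_zero σ
  obtain ⟨a, b, c, d, e, f, hb, hd, hf, rfl⟩ := h.mem_UU.1 hg
  have ha : a = 0 := by
    refine h.eq_zero_of_trc fun y => ?_
    obtain ⟨t, ht, e1⟩ := (h.mem_gen_singleton (k := 4)).1 (h3 y)
    have ht' : σ t = t := ht (by decide)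
    have e2 := conj_eq_of_comm e1
    rw [h.uu_x3 hb hd hf, mul_inv_cancel_right, ← h.q4, ← h.q3, h.q_mul z ht' z z z z] at e2
    simp only [zero_mul, zero_add, add_zero, mul_zero, trc_zero_right] at e2
    exact (h.q_inj (h.fix_trc _ _) (h.fix_trc _ _) z z ht' z e2).1
  rw [ha, h.uq]
  exact q_mem hb hd hf

/-- **An element of `A` centralising `X₄` and `Q₁/X₄` lies in `Q₁`.** -/
theorem mem_Q1_of [Finite E] {g : Γ} (hg : g ∈ AA σ x) (h4 : g * x 4 1 * g⁻¹ = x 4 1)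
    (h3 : ∀ c, ⁅g, x 3 c⁆ ∈ gen σ x {4}) : g ∈ gen σ x (arc 2 5) :=
  h.mem_Q1_of_U (h.mem_U_of hg h4 (gen_mono (by simp) (h3 1))) h3

/-- `Z(Q₁) = X₄` -/
theorem mem_X4_of_Q1 {g : Γ} (hg : g ∈ gen σ x (arc 2 5)) (hc : ∀ v ∈ gen σ x (arc 2 5), Commute g v) :
    g ∈ gen σ x {4} := by
  have z : σ (0 : E) = 0 := map_zero σ
  obtain ⟨b, c, d, e, f, hb, hd, hf, rfl⟩ := h.mem_Q1.1 hg
  have key : ∀ {B C D E' F' : E}, σ B = B → σ D = D → σ F' = F' → b * F' + B * f + trc σ c E' + trc σ C e = 0 := by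
    intro B C D E' F' hB hD hF
    have e1 := (hc _ (q_mem (c := C) (e := E') hB hD hF)).eq
    have t1 := h.fix_trc C e
    have t2 := h.fix_trc c E'
    rw [h.q_mul hb hd hf hB hD hF, h.q_mul hB hD hF hb hd hf] at e1
    have e2 := (h.q_inj (by rw [map_add, hb, hB]) (by simp only [map_add, map_mul, hd, hD, hB, hf, t1])
      (by rw [map_add, hf, hF]) (by rw [map_add, hb, hB]) (by simp only [map_add, map_mul, hd, hD, hb, hF, t2])
      (by rw [map_add, hf, hF]) e1).2.2.1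
    calc b * F' + B * f + trc σ c E' + trc σ C e =
        (d + D + B * f + trc σ C e) + (D + d + b * F' + trc σ c E') + 2 * -(d + D) := by ring
      _ = 0 := by rw [e2, h.add_self, h.two]; ring
  have o : σ (1 : E) = 1 := map_one σ
  have hb0 : b = 0 := by
    have := key (B := 0) (C := 0) (D := 0) (E' := 0) (F' := 1) z z o
    simpa only [zero_mul, zero_add, add_zero, mul_one, trc_zero_right, trc_zero_left] using this
  have hf0 : f = 0 := by
    have := key (B := 1) (C := 0) (D := 0) (E' := 0) (F' := 0) o z z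
    simpa only [zero_mul, zero_add, add_zero, mul_zero, one_mul, trc_zero_right, trc_zero_left] using this
  have hc0 : c = 0 := by
    refine h.eq_zero_of_trc fun y => ?_
    have := key (B := 0) (C := 0) (D := 0) (E' := y) (F' := 0) z z z
    simpa only [zero_mul, zero_add, add_zero, mul_zero, one_mul, trc_zero_right, trc_zero_left] using this
  have he0 : e = 0 := by
    refine h.eq_zero_of_trc fun y => ?_
    have := key (B := 0) (C := y) (D := 0) (E' := 0) (F' := 0) z z z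
    rw [trc_comm]
    simpa only [zero_mul, zero_add, add_zero, mul_zero, one_mul, trc_zero_right, trc_zero_left] using this
  rw [hb0, hf0, hc0, he0, h.q4]
  exact x_mem_gen (by simp) (ok_of_fix _ hd)

/-- **`C_A(Q₁) = X₄`.** -/
theorem mem_X4_of [Finite E] {g : Γ} (hg : g ∈ AA σ x) (hc : ∀ v ∈ gen σ x (arc 2 5), Commute g v) :
    g ∈ gen σ x {4} := by
  have c4 : Commute g (x 4 1) := hc _ (x_mem_gen (by rw [mem_arc]; decide) (ok_one σ 4))
  have c3 : ∀ c, Commute g (x 3 c) := fun c => hc _ (x_mem_gen (by rw [mem_arc]; decide) (ok3 c))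
  refine h.mem_X4_of_Q1 (h.mem_Q1_of hg ?_ fun c => ?_) hc
  · rw [c4.eq, mul_inv_cancel_right]
  · rw [commutatorElement_eq_one_iff_commute.2 (c3 c)]
    exact one_mem _

/-- `C_U(W) = Q₂` -/
theorem mem_Q2_of_U {g : Γ} (hg : g ∈ UU σ x) (h2 : Commute g (x 2 1)) : g ∈ gen σ x (arc 1 5) := by
  have z : σ (0 : E) = 0 := map_zero σ
  have o : σ (1 : E) = 1 := map_one σ
  obtain ⟨a, b, c, d, e, f, hb, hd, hf, rfl⟩ := h.mem_UU.1 hg
  have e1 := h2.eq
  rw [← h.q2, h.uu_q234 hb hd hf o z] at e1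
  have e2 := mul_right_cancel e1
  rw [trc_zero_right, trc_zero_left] at e2
  simp only [zero_mul, zero_add, add_zero, mul_zero, one_mul] at e2
  have hf0 := (h.q_inj o hf z o z z e2).2.2.1
  subst hf0
  refine mul_mem (x_mem_gen (by rw [mem_arc]; decide) (ok1 a)) ?_
  unfold q
  rw [h.x_zero, mul_one]
  exact mul_mem (mul_mem (mul_mem (x_mem_gen (by rw [mem_arc]; decide) (ok_of_fix _ hb))
    (x_mem_gen (by rw [mem_arc]; decide) (ok3 c))) (x_mem_gen (by rw [mem_arc]; decide) (ok_of_fix _ hd)))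
    (x_mem_gen (by rw [mem_arc]; decide) (ok5 e))

/-- **An element of `A` centralising `W = X₂X₄` and `X₃` modulo `W` lies in `Q₂`.** -/
theorem mem_Q2_of [Finite E] {g : Γ} (hg : g ∈ AA σ x) (h4 : Commute g (x 4 1)) (h2 : Commute g (x 2 1))
    (h3 : ⁅g, x 3 1⁆ ∈ gen σ x {2, 4}) : g ∈ gen σ x (arc 1 5) :=
  h.mem_Q2_of_U (h.mem_U_of hg (by rw [h4.eq, mul_inv_cancel_right]) h3) h2

theorem mem_Q2 {g : Γ} : g ∈ gen σ x (arc 1 5) ↔
    ∃ a b c d e, σ b = b ∧ σ d = d ∧ g = uu x a b c d e 0 := by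
  constructor
  · intro hg
    obtain ⟨a, ha, g0, hg0, rfl⟩ := (h.mem_gen_first (n := 4) (by norm_num)).1 hg
    obtain ⟨b, hb, g1, hg1, rfl⟩ := (h.mem_gen_first (n := 3) (by norm_num)).1 hg0
    obtain ⟨c, hc, g2, hg2, rfl⟩ := (h.mem_gen_first (n := 2) (by norm_num)).1 hg1
    obtain ⟨d, hd, g3, hg3, rfl⟩ := (h.mem_gen_first (n := 1) (by norm_num)).1 hg2
    obtain ⟨e, he, g4, hg4, rfl⟩ := (h.mem_gen_first (n := 0) (by norm_num)).1 hg3
    rw [gen_arc_zero, Subgroup.mem_bot] at hg4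
    refine ⟨a, b, c, d, e, hb (by decide), hd (by decide), ?_⟩
    rw [hg4, mul_one]
    unfold uu q
    rw [h.x_zero, mul_one]
    simp only [mul_assoc]
    rfl
  · rintro ⟨a, b, c, d, e, hb, hd, rfl⟩
    unfold uu q
    rw [h.x_zero, mul_one]
    refine mul_mem (x_mem_gen (by rw [mem_arc]; decide) (ok1 a)) ?_
    exact mul_mem (mul_mem (mul_mem (x_mem_gen (by rw [mem_arc]; decide) (ok_of_fix _ hb))
      (x_mem_gen (by rw [mem_arc]; decide) (ok3 c))) (x_mem_gen (by rw [mem_arc]; decide) (ok_of_fix _ hd)))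
      (x_mem_gen (by rw [mem_arc]; decide) (ok5 e))

/-- `Z(Q₂) = X₂X₄` -/
theorem mem_W_of_Q2 {g : Γ} (hg : g ∈ gen σ x (arc 1 5)) (hc : ∀ v ∈ gen σ x (arc 1 5), Commute g v) :
    g ∈ gen σ x {2, 4} := by
  have z : σ (0 : E) = 0 := map_zero σ
  obtain ⟨a, b, c, d, e, hb, hd, rfl⟩ := h.mem_Q2.1 hg
  have k3 : ∀ y, trc σ a y = 0 ∧ trc σ y e = 0 := by
    intro y
    have e1 := (hc (x 3 y) (x_mem_gen (by rw [mem_arc]; decide) (ok3 y))).eq
    rw [h.uu_x3 hb hd z, ← h.q3] at e1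
    have e2 := mul_right_cancel e1
    obtain ⟨r1, -, r2, -, -⟩ := h.q_inj (h.fix_trc _ _) (h.fix_trc _ _) z z z z e2
    exact ⟨r1, r2⟩
  have ha : a = 0 := h.eq_zero_of_trc fun y => (k3 y).1
  have he : e = 0 := h.eq_zero_of_trc fun y => by rw [trc_comm]; exact (k3 y).2
  subst ha he
  have hc0 : c = 0 := by
    refine h.eq_zero_of_trc fun y => ?_
    have e1 := (hc (x 5 y) (x_mem_gen (by rw [mem_arc]; decide) (ok5 y))).eq
    rw [h.uq, ← h.q5, h.q_mul hb hd z z z z, h.q_mul z z z hb hd z] at e1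
    simp only [zero_mul, zero_add, add_zero, mul_zero, one_mul, trc_zero_right, trc_zero_left] at e1
    have e2 := (h.q_inj hb hd z hb (by rw [map_add, hd, h.fix_trc]) z e1).2.2.1
    have e3 : d + 0 = d + trc σ c y := by rw [add_zero]; exact e2
    exact (add_left_cancel e3).symm
  subst hc0
  rw [h.uq]
  exact h.mem_24.2 ⟨b, d, hb, hd, rfl⟩

/-- **`C_A(Q₂) = X₂X₄`.** -/
theorem mem_W_of [Finite E] {g : Γ} (hg : g ∈ AA σ x) (hc : ∀ v ∈ gen σ x (arc 1 5), Commute g v) :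
    g ∈ gen σ x {2, 4} := by
  have c4 : Commute g (x 4 1) := hc _ (x_mem_gen (by rw [mem_arc]; decide) (ok_one σ 4))
  have c2 : Commute g (x 2 1) := hc _ (x_mem_gen (by rw [mem_arc]; decide) (ok_one σ 2))
  have c3 : Commute g (x 3 1) := hc _ (x_mem_gen (by rw [mem_arc]; decide) (ok3 1))
  refine h.mem_W_of_Q2 (h.mem_Q2_of hg c4 c2 ?_) hc
  rw [commutatorElement_eq_one_iff_commute.2 c3]
  exact one_mem _

/-- `Z(U) = X₄` -/
theorem mem_X4_of_U {g : Γ} (hg : g ∈ UU σ x) (hc : ∀ v ∈ UU σ x, Commute g v) : g ∈ gen σ x {4} := by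
  refine h.mem_X4_of_Q1 (h.mem_Q1_of_U hg fun c => ?_) fun v hv => hc v ?_
  · rw [commutatorElement_eq_one_iff_commute.2 (hc _ (x_mem_gen (by rw [mem_arc]; decide) (ok3 c)))]
    exact one_mem _
  · exact gen_mono (fun l hl => arc_succ_sub (k := 1) (n := 5) (by norm_num) hl) hv

end HexTwo

end Cfsg.Agent.StdRank2.Hex
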