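import Cfsg.Agent.StdRank2.HexQ

/-!
# Parabolic subgroups: factorisations, normalisers and centralisers of the radicals
-/

set_option autoImplicit false

namespace Cfsg.Agent.StdRank2.Hex

open Cfsg.Agent.SplitTwo
open scoped commutatorElement Pointwise

theorem arc7_cases : ∀ k l : ZMod 12, (l - k).val < 7 → l = k ∨ l = k + 6 ∨ (l - (k + 1)).val < 5 := by decide

namespace HexTwo

variable {E : Type*} [Field E] {σ : E ≃+* E} {Γ : Type*} [Group Γ] {x : ZMod 12 → E → Γ} (h : HexTwo σ x)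

include h

/-- the Levi factor normalises the radical -/
theorem L_conj (k : ZMod 12) {l : Γ} (hl : l ∈ gen σ x {k, k + 6}) {q : Γ} (hq : q ∈ gen σ x (arc (k + 1) 5)) :
    l * q * l⁻¹ ∈ gen σ x (arc (k + 1) 5) := by
  have key : ∀ y ∈ {y : Γ | ∃ j ∈ ({k, k + 6} : Set (ZMod 12)), ∃ a, Ok σ j a ∧ y = x j a}, ∀ q ∈ gen σ x (arc (k + 1) 5),
      y * q * y⁻¹ ∈ gen σ x (arc (k + 1) 5) ∧ y⁻¹ * q * y ∈ gen σ x (arc (k + 1) 5) := by
    rintro y ⟨j, hj, a, ha, rfl⟩ q hq
    have h1 : x j a * q * (x j a)⁻¹ ∈ gen σ x (arc (k + 1) 5) := by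
      rcases hj with rfl | hj
      · exact h.conj_first (by norm_num) ha hq
      · rw [Set.mem_singleton_iff] at hj
        subst hj
        have e : k + 6 = k + 1 + ((5 : ℕ) : ZMod 12) := by push_cast; ring
        rw [e] at ha ⊢
        exact h.conj_last (by norm_num) ha hq
    refine ⟨h1, ?_⟩
    rw [h.x_inv ha] at h1 ⊢
    exact h1
  unfold gen at hl
  have : ∀ q ∈ gen σ x (arc (k + 1) 5), l * q * l⁻¹ ∈ gen σ x (arc (k + 1) 5) ∧ l⁻¹ * q * l ∈ gen σ x (arc (k + 1) 5) := by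
    clear hq q
    induction hl using Subgroup.closure_induction with
    | mem y hy => exact key y hy
    | one => intro q hq; simpa using hq
    | mul a b _ _ ha hb =>
      intro z hz
      have e1 : a * b * z * (a * b)⁻¹ = a * (b * z * b⁻¹) * a⁻¹ := by group
      have e2 : (a * b)⁻¹ * z * (a * b) = b⁻¹ * (a⁻¹ * z * a) * b := by group
      rw [e1, e2]
      exact ⟨(ha _ (hb z hz).1).1, (hb _ (ha z hz).2).2⟩
    | inv a _ ha =>
      intro z hz
      rw [inv_inv]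
      exact ⟨(ha z hz).2, (ha z hz).1⟩
  exact (this q hq).1

/-- **Levi decomposition.** -/
theorem mem_P (k : ZMod 12) {g : Γ} : g ∈ gen σ x (arc k 7) ↔
    ∃ q ∈ gen σ x (arc (k + 1) 5), ∃ l ∈ gen σ x {k, k + 6}, g = q * l := by
  constructor
  · intro hg
    let P : Subgroup Γ :=
      { carrier := {g | ∃ q ∈ gen σ x (arc (k + 1) 5), ∃ l ∈ gen σ x {k, k + 6}, g = q * l}
        mul_mem' := by
          rintro _ _ ⟨q, hq, l, hl, rfl⟩ ⟨q', hq', l', hl', rfl⟩
          exact ⟨q * (l * q' * l⁻¹), mul_mem hq (h.L_conj k hl hq'), l * l', mul_mem hl hl', by group⟩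
        one_mem' := ⟨1, one_mem _, 1, one_mem _, by rw [one_mul]⟩
        inv_mem' := by
          rintro _ ⟨q, hq, l, hl, rfl⟩
          refine ⟨l⁻¹ * q⁻¹ * l⁻¹⁻¹, h.L_conj k (inv_mem hl) (inv_mem hq), l⁻¹, inv_mem hl, by group⟩ }
    have : gen σ x (arc k 7) ≤ P := gen_le fun l hl a ha => by
      rcases arc7_cases k l hl with rfl | rfl | hl'
      · exact ⟨1, one_mem _, x l a, x_mem_gen (Set.mem_insert _ _) ha, by rw [one_mul]⟩
      · exact ⟨1, one_mem _, x (k + 6) a, x_mem_gen (Set.mem_insert_of_mem _ (Set.mem_singleton _)) ha, by rw [one_mul]⟩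
      · exact ⟨x l a, x_mem_gen hl' ha, 1, one_mem _, by rw [mul_one]⟩
    exact this hg
  · rintro ⟨q, hq, l, hl, rfl⟩
    refine mul_mem (gen_mono ?_ hq) (gen_mono ?_ hl)
    · intro j hj
      rw [mem_arc] at hj ⊢
      have : ∀ k l : ZMod 12, (l - (k + 1)).val < 5 → (l - k).val < 7 := by decide
      exact this k j hj
    · intro j hj
      rw [mem_arc]
      rcases hj with rfl | hj
      · rw [sub_self]; decide
      · rw [Set.mem_singleton_iff] at hj
        subst hj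
        rw [add_sub_cancel_left]; decide

/-- **Bruhat decomposition of a parabolic subgroup.** -/
theorem bruhat_P [Finite E] (k : ZMod 12) {g : Γ} (hg : g ∈ gen σ x (arc k 7)) :
    (∃ u ∈ gen σ x (arc k 6), ∃ s, Ok σ k s ∧ s ≠ 0 ∧ g = u * hh x k s) ∨
    (∃ u ∈ gen σ x (arc k 6), ∃ s b, Ok σ k s ∧ s ≠ 0 ∧ Ok σ k b ∧ g = u * hh x k s * nn x k * x k b) := by
  obtain ⟨q, hq, l, hl, rfl⟩ := (h.mem_P k).1 hg
  have hq' : q ∈ gen σ x (arc k 6) := gen_mono (arc_succ_sub (by norm_num)) hq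
  have hx : ∀ a, Ok σ k a → x k a ∈ gen σ x (arc k 6) := fun a ha => x_mem_gen (self_mem_arc (by norm_num)) ha
  rcases h.mem_L k hl with ⟨a, s, ha, hs, hs0, rfl⟩ | ⟨a, s, b, ha, hs, hs0, hb, rfl⟩
  · exact Or.inl ⟨q * x k a, mul_mem hq' (hx a ha), s, hs, hs0, by group⟩
  · exact Or.inr ⟨q * x k a, mul_mem hq' (hx a ha), s, b, hs, hs0, hb, by group⟩

/-! ### The radical `Q₁` -/

/-- `[Q₁, Q₁] ≤ X 4` (at every long root) -/
theorem comm_Q1 {k : ZMod 12} (hk : k.val % 2 = 0) {u v : Γ} (hu : u ∈ gen σ x (arc (k - 2) 5))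
    (hv : v ∈ gen σ x (arc (k - 2) 5)) : ⁅u, v⁆ ∈ gen σ x {k} := by
  have hc : ∀ j ∈ arc (k - 2) 5, ∀ a, Ok σ j a → ∀ z ∈ gen σ x {k}, x j a * z * (x j a)⁻¹ ∈ gen σ x {k} := by
    intro j hj a ha z hz
    obtain ⟨t, ht, rfl⟩ := h.mem_gen_singleton.1 hz
    have hj' : (j - (k - 3)).val < 7 := by
      have : ∀ k j : ZMod 12, (j - (k - 2)).val < 5 → (j - (k - 3)).val < 7 := by decide
      exact this k j hj
    have := (h.comm_long hk hj' ht ha).eq
    rw [← this, mul_inv_cancel_right]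
    exact hz
  refine h.comm_gen_mem hc hc ?_ hu hv
  intro j hj l hl a b ha hb
  have key : ∀ k j l : ZMod 12, (j - (k - 2)).val < 5 → (l - (k - 2)).val < 5 →
      (j = k ∨ l = k ∨ j = l) ∨ ((l = j + 1 ∨ j = l + 1) ∨ (l = j + 3 ∨ j = l + 3)) ∨
      ((j = k - 2 ∧ l = j + 4) ∨ (l = k - 2 ∧ j = l + 4)) ∨ ((j = k - 1 ∧ l = j + 2) ∨ (l = k - 1 ∧ j = l + 2)) := by
    decide +kernel
  have one {y z : Γ} (hc : Commute y z) : ⁅y, z⁆ ∈ gen σ x {k} := by
    rw [commutatorElement_eq_one_iff_commute.2 hc]; exact one_mem _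
  have sym {y z : Γ} (hc : ⁅y, z⁆ ∈ gen σ x {k}) : ⁅z, y⁆ ∈ gen σ x {k} := by
    rw [← commutatorElement_inv]; exact inv_mem hc
  have parity : ∀ j : ZMod 12, j.val % 2 = 0 ∨ j.val % 2 = 1 := fun j => Nat.mod_two_eq_zero_or_one _
  have d1 : ∀ (j : ZMod 12) (a b : E), Ok σ j a → Ok σ (j + 1) b → Commute (x j a) (x (j + 1) b) := by
    intro j a b ha hb
    rcases parity j with hj | hj
    · exact commutatorElement_eq_one_iff_commute.1 (h.commL1 hj (ha hj) b)
    · exact commutatorElement_eq_one_iff_commute.1 (h.commS1 hj a (hb (by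
        have : ∀ j : ZMod 12, j.val % 2 = 1 → (j + 1).val % 2 = 0 := by decide
        exact this j hj)))
  have d3 : ∀ (j : ZMod 12) (a b : E), Ok σ j a → Ok σ (j + 3) b → Commute (x j a) (x (j + 3) b) := by
    intro j a b ha hb
    rcases parity j with hj | hj
    · exact commutatorElement_eq_one_iff_commute.1 (h.commL3 hj (ha hj) b)
    · exact commutatorElement_eq_one_iff_commute.1 (h.commS3 hj a (hb (by
        have : ∀ j : ZMod 12, j.val % 2 = 1 → (j + 3).val % 2 = 0 := by decide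
        exact this j hj)))
  have d4 : ∀ (a b : E), Ok σ (k - 2) a → Ok σ (k - 2 + 4) b → ⁅x (k - 2) a, x (k - 2 + 4) b⁆ ∈ gen σ x {k} := by
    intro a b ha hb
    have e0 : (k - 2).val % 2 = 0 := by
      have : ∀ k : ZMod 12, k.val % 2 = 0 → (k - 2).val % 2 = 0 := by decide
      exact this k hk
    have e1 : (k - 2 + 4).val % 2 = 0 := by
      have : ∀ k : ZMod 12, k.val % 2 = 0 → (k - 2 + 4).val % 2 = 0 := by decide
      exact this k hk
    rw [h.commL4 e0 (ha e0) (hb e1), show k - 2 + 2 = k by ring]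
    exact x_mem_gen (Set.mem_singleton k) (fun _ => by rw [map_mul, ha e0, hb e1])
  have d2 : ∀ (a b : E), ⁅x (k - 1) a, x (k - 1 + 2) b⁆ ∈ gen σ x {k} := by
    intro a b
    have e0 : (k - 1).val % 2 = 1 := by
      have : ∀ k : ZMod 12, k.val % 2 = 0 → (k - 1).val % 2 = 1 := by decide
      exact this k hk
    rw [h.commS2 e0 a b, show k - 1 + 1 = k by ring]
    exact x_mem_gen (Set.mem_singleton k) (fun _ => trc_fix h.cube a b)
  have near : ∀ j : ZMod 12, (j - (k - 2)).val < 5 → (j - (k - 3)).val < 7 := by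
    have : ∀ k j : ZMod 12, (j - (k - 2)).val < 5 → (j - (k - 3)).val < 7 := by decide
    exact this k
  rcases key k j l hj hl with (rfl | rfl | rfl) | ((rfl | rfl) | (rfl | rfl)) | (⟨rfl, rfl⟩ | ⟨rfl, rfl⟩) | (⟨rfl, rfl⟩ | ⟨rfl, rfl⟩)
  · exact one (h.comm_long hk (near l hl) ha hb)
  · exact sym (one (h.comm_long hk (near j hj) hb ha))
  · exact one (h.x_comm_same ha hb)
  · exact one (d1 j a b ha hb)
  · exact sym (one (d1 l b a hb ha))
  · exact one (d3 j a b ha hb)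
  · exact sym (one (d3 l b a hb ha))
  · exact d4 a b ha hb
  · exact sym (d4 b a hb ha)
  · exact d2 a b
  · exact sym (d2 b a)

end HexTwo

end Cfsg.Agent.StdRank2.Hex
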