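import Cfsg.Agent.StdRank2.HexSylow
import Cfsg.Agent.SuzukiRankOne.SLTwoRel

/-!
# The rank one subgroups `⟨X_k, X_{k+6}⟩` of a hexagonal root system in characteristic two (S1778)

`K` is a field with an embedding `ι : K →+* E` onto the admissible parameters of the root `k` (`Par σ k ι`;
`Par.odd` : `K = E` for `k` odd, `Par.even` : the fixed field for `k` even).
* `exists_sl` : an injective homomorphism `θ : SL₂(K) → Γ` with `θ (U a) = x k (ι a)`, `θ (Dg c) = hh x k (ι c)`,
  `θ (Tm) = nn x k`, `θ (tU a) = x (k + 6) (ι a)` and range `gen {k, k + 6}`;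
* `exists_equiv_sl` : `gen {k, k + 6} ≃* SL₂(K)`;
* `rank_bruhat` : Bruhat decomposition of `gen {k, k + 6}`;
* `x_mem_commutator`, `commutator_gen_pair` : `gen {k, k + 6}` is perfect if `4 ≤ |K|`.
-/

set_option autoImplicit false

namespace Cfsg.Agent.StdRank2.Hex

open Cfsg.Agent.SplitTwo Cfsg.Agent.SuzukiRankOne.SLTwoRel
open Matrix (SpecialLinearGroup)
open scoped commutatorElement

/-- `ι` is an embedding of the field `K` onto the admissible parameters of the root `k`. -/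
structure Par {E : Type*} [Field E] (σ : E ≃+* E) (k : ZMod 12) {K : Type*} [Field K] (ι : K →+* E) : Prop where
  ok : ∀ a, Ok σ k (ι a)
  surj : ∀ b, Ok σ k b → ∃ a, ι a = b

section Par

variable {E : Type*} [Field E] {σ : E ≃+* E}

theorem Par.odd {k : ZMod 12} (hk : k.val % 2 = 1) : Par σ k (RingHom.id E) where
  ok a := ok_odd hk a
  surj b _ := ⟨b, rfl⟩

/-- The fixed field of `σ`. -/
def Fix (σ : E ≃+* E) : Subfield E where
  carrier := {a | σ a = a}
  mul_mem' := by
    intro a b ha hb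
    change σ (a * b) = a * b
    rw [map_mul, show σ a = a from ha, show σ b = b from hb]
  one_mem' := map_one σ
  add_mem' := by
    intro a b ha hb
    change σ (a + b) = a + b
    rw [map_add, show σ a = a from ha, show σ b = b from hb]
  zero_mem' := map_zero σ
  neg_mem' := by
    intro a ha
    change σ (-a) = -a
    rw [map_neg, show σ a = a from ha]
  inv_mem' := by
    intro a ha
    change σ a⁻¹ = a⁻¹
    rw [map_inv₀, show σ a = a from ha]

theorem mem_Fix {a : E} : a ∈ Fix σ ↔ σ a = a := Iff.rfl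

theorem Par.even {k : ZMod 12} (hk : k.val % 2 = 0) : Par σ k (Fix σ).subtype where
  ok a := fun _ => a.2
  surj b hb := ⟨⟨b, hb hk⟩, rfl⟩

theorem Par.congr {k l : ZMod 12} (hkl : k.val % 2 = l.val % 2) {K : Type*} [Field K] {ι : K →+* E}
    (P : Par σ k ι) : Par σ l ι where
  ok a := (P.ok a).congr hkl.symm
  surj b hb := P.surj b (hb.congr hkl)

end Par

namespace HexTwo

variable {E : Type*} [Field E] {σ : E ≃+* E} {Γ : Type*} [Group Γ] {x : ZMod 12 → E → Γ} (h : HexTwo σ x)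

include h

theorem charP_two : CharP E 2 := by
  rw [CharP.charP_iff_prime_eq_zero Nat.prime_two]
  exact_mod_cast h.two

theorem charP_of {K : Type*} [Field K] (ι : K →+* E) : CharP K 2 := by
  rw [CharP.charP_iff_prime_eq_zero Nat.prime_two]
  apply ι.injective
  rw [map_natCast, map_zero]
  exact_mod_cast h.two

section rank

variable {k : ZMod 12} {K : Type*} [Field K] {ι : K →+* E}

/-- the homomorphism from the units -/
def hhHom [Finite E] (P : Par σ k ι) : Kˣ →* Γ where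
  toFun c := hh x k (ι c)
  map_one' := by rw [Units.val_one, map_one, h.hh_one]
  map_mul' c d := by
    rw [Units.val_mul, map_mul]
    exact h.hh_mul k (by simp) (by simp) (P.ok _) (P.ok _)

theorem rel_sl [Finite E] (P : Par σ k ι) : Rel (fun a => x k (ι a)) (h.hhHom P) (nn x k) where
  add a b := by
    rw [map_add]
    exact h.add k _ _ (P.ok a) (P.ok b)
  conj c a := by
    have hc : ι (c : K) ≠ 0 := by simp
    change hh x k (ι c) * x k (ι a) * (hh x k (ι c))⁻¹ = x k (ι ((c : K) ^ 2 * a))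
    rw [h.tor k k hc (P.ok _) (P.ok a), sub_self, ch_zero_right, map_mul, map_pow]
  tt := h.nn_sq k
  tk c := by
    have hc : ι (c : K) ≠ 0 := by simp
    change nn x k * hh x k (ι c) * nn x k = (hh x k (ι c))⁻¹
    have h1 := h.conj_nn_hh k k (P.ok (c : K))
    rw [h.nn_inv, show 2 * k + 6 - k = k + 6 by ring, h.hh_opp k hc (P.ok _)] at h1
    rw [h1, h.hh_inv k hc (P.ok _)]
  te c := by
    change nn x k * x k (ι c) * nn x k = x k (ι ((c⁻¹ : Kˣ) : K)) * hh x k (ι ((c⁻¹ : Kˣ) : K)) * nn x k *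
      x k (ι ((c⁻¹ : Kˣ) : K))
    rw [h.refl' k k (P.ok _), show 2 * k + 6 - k = k + 6 by ring]
    have h1 : hh x k (ι ((c⁻¹ : Kˣ) : K)) * nn x k = nt x k (ι ((c⁻¹ : Kˣ) : K)) := h.hh_mul_nn k _
    have h2 := h.x_sq (P.ok ((c⁻¹ : Kˣ) : K))
    rw [mul_assoc (x k _), h1]
    unfold nt
    have e : (ι ((c⁻¹ : Kˣ) : K))⁻¹ = ι (c : K) := by
      rw [Units.val_inv_eq_inv_val, map_inv₀, inv_inv]
    rw [e]
    calc x (k + 6) (ι (c : K)) = 1 * x (k + 6) (ι (c : K)) * 1 := by group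
      _ = _ := by rw [← h2]; group

/-- an element of the torus is not a non-trivial root element -/
theorem x_notMem_H [Finite E] {a : E} (ha : Ok σ k a) (hm : x k a ∈ h.H) : a = 0 :=
  (h.x_eq_one ha).1 (h.H_two hm (n := 1) (by rw [pow_one, pow_two]; exact h.x_sq ha))

theorem hh_eq_one [Finite E] {t : E} (ht : t ≠ 0) (hok : Ok σ k t) (e : hh x k t = 1) : t = 1 := by
  have h1 := h.tor k k ht hok (ok_one σ k)
  rw [e, one_mul, inv_one, mul_one, sub_self, ch_zero_right, mul_one, h.x_inj (ok_one σ k)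
    (by rw [pow_two]; exact hok.mul hok), eq_comm, pow_two] at h1
  exact h.sq_eq_one h1

/-- the reflection is not in the Borel subgroup of the rank one group -/
theorem x_hh_nn_x_ne_one [Finite E] {a b t : E} (ha : Ok σ k a) (hb : Ok σ k b) (ht : t ≠ 0) (hok : Ok σ k t)
    (e : x k a * hh x k t * nn x k * x k b = 1) : False := by
  have e1 : nn x k = (hh x k t)⁻¹ * (x k a * x k b) := by
    have h1 : x k a * hh x k t * nn x k = x k b := by
      rw [← h.x_inv hb]
      exact eq_inv_of_mul_eq_one_left e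
    calc nn x k = (hh x k t)⁻¹ * (x k a)⁻¹ * (x k a * hh x k t * nn x k) := by group
      _ = _ := by rw [h1, h.x_inv ha]; group
  have hH : hh x k t ∈ h.H := h.hh_mem_H k ht hok
  have h2 : nn x k * x k 1 * (nn x k)⁻¹ ∈ gen σ x {k} := by
    rw [e1]
    have e2 : (hh x k t)⁻¹ * (x k a * x k b) * x k 1 * ((hh x k t)⁻¹ * (x k a * x k b))⁻¹ =
        (hh x k t)⁻¹ * (x k a * x k b * x k 1 * (x k a * x k b)⁻¹) * ((hh x k t)⁻¹)⁻¹ := by group
    rw [e2]
    refine h.H_conj_gen (inv_mem hH) _ ?_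
    have ma := x_mem_gen (Set.mem_singleton k) ha (x := x)
    have mb := x_mem_gen (Set.mem_singleton k) hb (x := x)
    exact mul_mem (mul_mem (mul_mem ma mb) (x_mem_gen (Set.mem_singleton k) (ok_one σ k)))
      (inv_mem (mul_mem ma mb))
  rw [h.refl k k (ok_one σ k), show 2 * k + 6 - k = k + 6 by ring, h.mem_gen_singleton] at h2
  obtain ⟨c, hc, e3⟩ := h2
  have h4 := h.root_unique (ok_one σ (k + 6)) hc one_ne_zero e3
  have h5 : ∀ k : ZMod 12, k + 6 ≠ k := by decide
  exact h5 k h4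

/-- the lower root element of `SL₂` -/
def loU {K : Type*} [Field K] [CharP K 2] (a : K) : SpecialLinearGroup (Fin 2) K := Tm K * U a * Tm K

/-- **The homomorphism `SL₂(K) → Γ`.** -/
theorem exists_sl [Finite E] [CharP K 2] (P : Par σ k ι) :
    ∃ θ : SpecialLinearGroup (Fin 2) K →* Γ, Function.Injective θ ∧ (∀ a, θ (U a) = x k (ι a)) ∧
      (∀ c : Kˣ, θ (Dg c) = hh x k (ι c)) ∧ θ (Tm K) = nn x k ∧ (∀ a, θ (loU a) = x (k + 6) (ι a)) ∧
      θ.range = gen σ x {k, k + 6} := by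
  obtain ⟨θ, h1, h2, h3⟩ := (h.rel_sl P).exists_hom
  have h4 : ∀ a, θ (loU a) = x (k + 6) (ι a) := by
    intro a
    unfold loU
    rw [map_mul, map_mul, h1, h3, h.refl' k k (P.ok a), show 2 * k + 6 - k = k + 6 by ring]
  have hk : k ∈ ({k, k + 6} : Set (ZMod 12)) := Set.mem_insert _ _
  have hk6 : k + 6 ∈ ({k, k + 6} : Set (ZMod 12)) := Set.mem_insert_of_mem _ rfl
  refine ⟨θ, ?_, h1, h2, h3, h4, le_antisymm ?_ ?_⟩
  · rw [injective_iff_map_eq_one]
    intro A hA
    rcases exists_form A with ⟨a, c, rfl⟩ | ⟨a, c, b, rfl⟩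
    · rw [map_mul, h1, h2] at hA
      have hc : ι (c : K) ≠ 0 := by simp
      have h5 : a = 0 := by
        have : x k (ι a) ∈ h.H := by
          change x k (ι a) * hh x k (ι c) = 1 at hA
          rw [eq_inv_of_mul_eq_one_left hA]
          exact inv_mem (h.hh_mem_H k hc (P.ok _))
        exact (map_eq_zero ι).1 (h.x_notMem_H (P.ok a) this)
      subst h5
      change x k (ι 0) * hh x k (ι c) = 1 at hA
      rw [map_zero, h.x_zero, one_mul] at hA
      have h6 := h.hh_eq_one hc (P.ok _) hA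
      have h7 : c = 1 := by
        apply Units.ext
        rw [Units.val_one]
        exact ι.injective (by rw [h6, map_one])
      rw [h7, map_one, rel_model.zero, one_mul]
    · rw [map_mul, map_mul, map_mul, h1, h1, h2, h3] at hA
      exact (h.x_hh_nn_x_ne_one (P.ok a) (P.ok b) (by simp) (P.ok _) hA).elim
  · rintro _ ⟨A, rfl⟩
    have mx : ∀ a, x k (ι a) ∈ gen σ x {k, k + 6} := fun a => x_mem_gen hk (P.ok a)
    have mh : ∀ c : Kˣ, hh x k (ι c) ∈ gen σ x {k, k + 6} := fun c => hh_mem_gen hk hk6 (P.ok _)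
    have mn : nn x k ∈ gen σ x {k, k + 6} := nn_mem_gen hk hk6
    rcases exists_form A with ⟨a, c, rfl⟩ | ⟨a, c, b, rfl⟩
    · rw [map_mul, h1, h2]
      exact mul_mem (mx a) (mh c)
    · rw [map_mul, map_mul, map_mul, h1, h1, h2, h3]
      exact mul_mem (mul_mem (mul_mem (mx a) (mh c)) mn) (mx b)
  · refine gen_le fun l hl a ha => ?_
    rcases hl with rfl | hl
    · obtain ⟨b, rfl⟩ := P.surj a ha
      exact ⟨_, h1 b⟩
    · rw [Set.mem_singleton_iff] at hl
      subst hl
      obtain ⟨b, rfl⟩ := P.surj a (ha.congr (val_add_6 k).symm)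
      exact ⟨_, h4 b⟩

theorem exists_equiv_sl [Finite E] [CharP K 2] (P : Par σ k ι) :
    Nonempty (SpecialLinearGroup (Fin 2) K ≃* ↥(gen σ x {k, k + 6})) := by
  obtain ⟨θ, hi, -, -, -, -, hr⟩ := h.exists_sl P
  exact ⟨(MonoidHom.ofInjective hi).trans (MulEquiv.subgroupCongr hr)⟩

/-- Bruhat decomposition of a rank one group. -/
theorem rank_bruhat [Finite E] {g : Γ} (hg : g ∈ gen σ x {k, k + 6}) :
    (∃ a t, Ok σ k a ∧ Ok σ k t ∧ t ≠ 0 ∧ g = x k a * hh x k t) ∨
      ∃ a t b, Ok σ k a ∧ Ok σ k t ∧ Ok σ k b ∧ t ≠ 0 ∧ g = x k a * hh x k t * nn x k * x k b := by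
  have key : ∀ {K : Type _} [Field K] {ι : K →+* E}, Par σ k ι → (∃ a t, Ok σ k a ∧ Ok σ k t ∧ t ≠ 0 ∧
      g = x k a * hh x k t) ∨
      ∃ a t b, Ok σ k a ∧ Ok σ k t ∧ Ok σ k b ∧ t ≠ 0 ∧ g = x k a * hh x k t * nn x k * x k b := by
    intro K _ ι P
    have := h.charP_of ι
    obtain ⟨θ, -, h1, h2, h3, -, hr⟩ := h.exists_sl P
    rw [← hr] at hg
    obtain ⟨A, rfl⟩ := hg
    rcases exists_form A with ⟨a, c, rfl⟩ | ⟨a, c, b, rfl⟩
    · exact Or.inl ⟨ι a, ι c, P.ok _, P.ok _, by simp, by rw [map_mul, h1, h2]⟩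
    · exact Or.inr ⟨ι a, ι c, ι b, P.ok _, P.ok _, P.ok _, by simp,
        by rw [map_mul, map_mul, map_mul, h1, h1, h2, h3]⟩
  rcases Nat.mod_two_eq_zero_or_one k.val with hk | hk
  · exact key (Par.even hk)
  · exact key (Par.odd hk)

/-- root elements are commutators in the rank one group -/
theorem x_eq_comm [Finite E] {t a : E} (ht : t ≠ 0) (hok : Ok σ k t) (h1 : t ≠ 1) (ha : Ok σ k a) :
    ⁅hh x k t, x k ((t ^ 2 + 1)⁻¹ * a)⁆ = x k a := by
  have ok2 : Ok σ k (t ^ 2 + 1) := by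
    rw [pow_two]
    exact (hok.mul hok).add (ok_one σ k)
  have hne : t ^ 2 + 1 ≠ 0 := by
    intro e
    apply h1
    apply h.sq_eq_one
    rw [← pow_two]
    rw [← h.sub_eq] at e
    exact sub_eq_zero.1 e
  have okb : Ok σ k ((t ^ 2 + 1)⁻¹ * a) := ok2.inv.mul ha
  rw [commutatorElement_def, h.tor k k ht hok okb, sub_self, ch_zero_right, h.x_inv okb,
    ← h.add k _ _ (Ok.mul (by rw [pow_two]; exact hok.mul hok) okb) okb]
  congr 1
  field_simp

theorem pair_le_commutator [Finite E] {t : E} (ht : t ≠ 0) (hok : Ok σ k t) (h1 : t ≠ 1) :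
    gen σ x {k, k + 6} ≤ ⁅gen σ x {k, k + 6}, gen σ x {k, k + 6}⁆ := by
  have hk : k ∈ ({k, k + 6} : Set (ZMod 12)) := Set.mem_insert _ _
  have hk6 : k + 6 ∈ ({k, k + 6} : Set (ZMod 12)) := Set.mem_insert_of_mem _ rfl
  have hk12 : k + 6 + 6 = k := by
    have : ∀ k : ZMod 12, k + 6 + 6 = k := by decide
    exact this k
  refine gen_le fun l hl a ha => ?_
  rcases hl with rfl | hl
  · rw [← h.x_eq_comm ht hok h1 ha]
    refine Subgroup.commutator_mem_commutator (hh_mem_gen hk hk6 hok) (x_mem_gen hk ?_)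
    refine Ok.mul (Ok.inv ?_) ha
    rw [pow_two]
    exact (hok.mul hok).add (ok_one σ _)
  · rw [Set.mem_singleton_iff] at hl
    subst hl
    have hok' : Ok σ (k + 6) t := hok.congr (val_add_6 k)
    rw [← h.x_eq_comm ht hok' h1 ha]
    refine Subgroup.commutator_mem_commutator (hh_mem_gen hk6 (by rw [hk12]; exact hk) hok') (x_mem_gen hk6 ?_)
    refine Ok.mul (Ok.inv ?_) ha
    rw [pow_two]
    exact (hok'.mul hok').add (ok_one σ _)

/-- The rank one groups are perfect if there are at least four (three) admissible parameters. -/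
theorem pair_perfect [Finite E] {t : E} (ht : t ≠ 0) (hok : Ok σ k t) (h1 : t ≠ 1) :
    ⁅gen σ x {k, k + 6}, gen σ x {k, k + 6}⁆ = gen σ x {k, k + 6} :=
  le_antisymm (Subgroup.commutator_le_self _) (h.pair_le_commutator ht hok h1)

end rank

end HexTwo

end Cfsg.Agent.StdRank2.Hex
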