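import Cfsg.Agent.StdRank2.HexPar

/-!
# `U` is a Sylow 2-subgroup of every subgroup between `U` and `A`
-/

set_option autoImplicit false

namespace Cfsg.Agent.StdRank2.Hex

open Cfsg.Agent.SplitTwo
open scoped commutatorElement Pointwise

namespace HexTwo

variable {E : Type*} [Field E] {σ : E ≃+* E} {Γ : Type*} [Group Γ] {x : ZMod 12 → E → Γ} (h : HexTwo σ x)

include h

theorem exists_card [Finite E] : ∃ n : ℕ, 1 ≤ n ∧ Nat.card E = 2 ^ n := by
  have : Fintype E := Fintype.ofFinite E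
  have h2 : CharP E 2 := by
    refine ⟨fun m => ?_⟩
    constructor
    · intro hm
      by_contra hodd
      have : m % 2 = 1 := by omega
      have h1 : (m : E) = 1 := by
        rw [← Nat.div_add_mod m 2, this]
        push_cast
        rw [h.two]
        ring
      rw [h1] at hm
      exact one_ne_zero hm
    · rintro ⟨r, rfl⟩
      push_cast
      rw [h.two, zero_mul]
  obtain ⟨n, -, hn⟩ := FiniteField.card E 2
  exact ⟨n, n.2, by rw [Nat.card_eq_fintype_card, hn]⟩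

theorem exists_card_fix [Finite E] : ∃ n : ℕ, 1 ≤ n ∧ Nat.card {a : E // σ a = a} = 2 ^ n := by
  -- the additive group of fixed elements is a 2-group
  obtain ⟨m, hm1, hm⟩ := h.exists_card
  let F : AddSubgroup E :=
    { carrier := {a | σ a = a}
      add_mem' := fun {a b} ha hb => by
        rw [Set.mem_ofPred_eq] at *
        rw [map_add, ha, hb]
      zero_mem' := map_zero σ
      neg_mem' := fun {a} ha => by
        rw [Set.mem_ofPred_eq] at *
        rw [map_neg, ha] }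
  have h1 : Nat.card F ∣ Nat.card E := F.card_addSubgroup_dvd_card
  rw [hm] at h1
  obtain ⟨n, -, hn⟩ := (Nat.dvd_prime_pow Nat.prime_two).1 h1
  refine ⟨n, ?_, hn⟩
  by_contra h0
  have hn0 : n = 0 := by omega
  rw [hn0, pow_zero] at hn
  have : Subsingleton F := (Nat.card_eq_one_iff_unique.1 hn).1
  have := Subsingleton.elim (⟨0, map_zero σ⟩ : F) ⟨1, map_one σ⟩
  exact zero_ne_one (congrArg Subtype.val this)

theorem isPGroup_U [Finite E] : IsPGroup 2 (UU σ x) := by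
  obtain ⟨m, -, hm⟩ := h.exists_card
  obtain ⟨n, -, hn⟩ := h.exists_card_fix
  refine IsPGroup.of_card (n := 3 * m + 3 * n) ?_
  rw [UU, h.card_U, hm, hn]
  ring

/-- torus elements have odd order -/
theorem H_pow [Finite E] {g : Γ} (hg : g ∈ h.H) : g ^ (Nat.card E - 1) = 1 := by
  obtain ⟨s, t, hs, ht, ht', rfl⟩ := hg
  have : Fintype E := Fintype.ofFinite E
  have key : ∀ l : ZMod 12, ∀ u : E, u ≠ 0 → Ok σ l u → hh x l u ^ (Nat.card E - 1) = 1 := by
    intro l u hu hok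
    have hp : ∀ n : ℕ, hh x l u ^ n = hh x l (u ^ n) := by
      intro n
      induction n with
      | zero => rw [pow_zero, pow_zero, h.hh_one]
      | succ n ih =>
        rw [pow_succ, ih, pow_succ, h.hh_mul l (pow_ne_zero n hu) hu (fun h0 => by rw [map_pow, hok h0]) hok]
    rw [hp, Nat.card_eq_fintype_card, FiniteField.pow_card_sub_one_eq_one u hu, h.hh_one]
  rw [(h.hh_commute 1 6 hs ht (ok1 s) (ok_of_fix _ ht')).mul_pow, key 1 s hs (ok1 s), key 6 t ht (ok_of_fix _ ht'),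
    one_mul]

theorem H_two [Finite E] {g : Γ} (hg : g ∈ h.H) {n : ℕ} (hn : g ^ 2 ^ n = 1) : g = 1 := by
  obtain ⟨m, hm1, hm⟩ := h.exists_card
  have h1 := h.H_pow hg
  have hodd : Nat.Coprime (Nat.card E - 1) (2 ^ n) := by
    refine Nat.Coprime.pow_right n ?_
    rw [hm, Nat.coprime_two_right]
    obtain ⟨r, rfl⟩ := Nat.exists_eq_add_of_le hm1
    rw [pow_add, pow_one]
    have : 0 < 2 ^ r := by positivity
    exact ⟨2 ^ r - 1, by omega⟩
  have h2 := orderOf_dvd_of_pow_eq_one h1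
  have h3 := orderOf_dvd_of_pow_eq_one hn
  exact orderOf_eq_one_iff.1 (Nat.eq_one_of_dvd_coprimes hodd h2 h3)

/-- **`U` is a Sylow 2-subgroup of every subgroup of `A` containing it**, conjugation form. -/
theorem sylow_conj [Finite E] [Finite Γ] {S : Subgroup Γ} (hS : UU σ x ≤ S) (hSA : S ≤ AA σ x) {Q : Subgroup Γ}
    (hQ : IsPGroup 2 Q) (hQS : Q ≤ S) : ∃ p ∈ S, ∀ y ∈ Q, p * y * p⁻¹ ∈ UU σ x := by
  have hprime : Fact (Nat.Prime 2) := ⟨Nat.prime_two⟩
  have hU2 : IsPGroup 2 ((UU σ x).subgroupOf S) :=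
    h.isPGroup_U.of_equiv (Subgroup.subgroupOfEquivOfLe hS).symm
  obtain ⟨P, hP⟩ := hU2.exists_le_sylow
  -- `P = U`
  have hPU : (P : Subgroup S) ≤ (UU σ x).subgroupOf S := by
    by_contra hlt
    have hnil : Group.IsNilpotent P := P.isPGroup'.isNilpotent
    let V : Subgroup P := ((UU σ x).subgroupOf S).subgroupOf P
    have hV : V < ⊤ := by
      rw [lt_top_iff_ne_top]
      intro e
      apply hlt
      intro y hy
      have : (⟨y, hy⟩ : P) ∈ V := by rw [e]; trivial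
      exact this
    have hN := Group.normalizerCondition_of_isNilpotent (G := P) V hV
    obtain ⟨g, hgN, hgV⟩ := SetLike.exists_of_lt hN
    apply hgV
    have memP : ∀ {u : Γ} (hu : u ∈ UU σ x), (⟨u, hS hu⟩ : S) ∈ (P : Subgroup S) := fun hu =>
      hP (Subgroup.mem_subgroupOf.2 hu)
    -- `g` normalises `U`
    have hg1 : ∀ u ∈ UU σ x, ((g : S) : Γ) * u * ((g : S) : Γ)⁻¹ ∈ UU σ x := by
      intro u hu
      have hu' : (⟨⟨u, hS hu⟩, memP hu⟩ : P) ∈ V := hu
      exact (Subgroup.mem_normalizer_iff.1 hgN _).1 hu'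
    obtain ⟨u, hu, t, ht, e⟩ := h.mem_normalizer_U (hSA (g : S).2) hg1
    have ht2 : ∃ n : ℕ, t ^ 2 ^ n = 1 := by
      obtain ⟨n, hn⟩ := P.isPGroup' ((⟨⟨u, hS hu⟩, memP hu⟩ : P)⁻¹ * g)
      refine ⟨n, ?_⟩
      have h2 : (u⁻¹ * ((g : S) : Γ)) ^ 2 ^ n = 1 := congrArg (fun y : P => ((y : S) : Γ)) hn
      rw [e, inv_mul_cancel_left] at h2
      exact h2
    obtain ⟨n, hn⟩ := ht2
    have ht1 := h.H_two ht hn
    rw [ht1, mul_one] at e
    change ((g : S) : Γ) ∈ UU σ x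
    rw [e]
    exact hu
  have hQ2 : IsPGroup 2 (Q.subgroupOf S) := hQ.of_equiv (Subgroup.subgroupOfEquivOfLe hQS).symm
  obtain ⟨R, hR⟩ := hQ2.exists_le_sylow
  obtain ⟨g, hg⟩ := MulAction.exists_smul_eq S R P
  refine ⟨g, g.2, fun y hy => ?_⟩
  have h1 : (⟨y, hQS hy⟩ : S) ∈ (R : Subgroup S) := hR (Subgroup.mem_subgroupOf.2 hy)
  have h2 : g * (⟨y, hQS hy⟩ : S) * g⁻¹ ∈ ((g • R : Sylow 2 S) : Subgroup S) := by
    rw [Sylow.coe_subgroup_smul]
    exact Subgroup.smul_mem_pointwise_smul _ (MulAut.conj g) _ h1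
  rw [hg] at h2
  exact hPU h2

end HexTwo

end Cfsg.Agent.StdRank2.Hex
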