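import Mathlib.GroupTheory.Sylow
import Mathlib.GroupTheory.PGroup
import Mathlib.GroupTheory.SpecificGroups.Cyclic

/-!
# Lifting 2-elements and 2-subgroups through a central kernel of odd order

`f : A →* K` surjective with central kernel of odd order.  Every 2-element `k` of `K` has exactly one lift `lift2 f k`
which is a 2-element; `lift2` is equivariant under conjugation and multiplicative on every 2-subgroup of `K`.
-/

set_option autoImplicit false

namespace Cfsg.Agent.StdRank2.FrameLift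

open scoped commutatorElement

variable {A K : Type*} [Group A] [Group K]

/-- `x` is a 2-element. -/
def Is2 {X : Type*} [Group X] (x : X) : Prop := ∃ n : ℕ, x ^ 2 ^ n = 1

section Is2

variable {X : Type*} [Group X]

theorem is2_one : Is2 (1 : X) := ⟨0, one_pow _⟩

theorem Is2.mono {x : X} {n m : ℕ} (h : x ^ 2 ^ n = 1) (hnm : n ≤ m) : x ^ 2 ^ m = 1 := by
  obtain ⟨k, rfl⟩ := Nat.exists_eq_add_of_le hnm
  rw [pow_add, pow_mul, h, one_pow]

theorem Is2.inv {x : X} (h : Is2 x) : Is2 x⁻¹ := by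
  obtain ⟨n, hn⟩ := h
  exact ⟨n, by rw [inv_pow, hn, inv_one]⟩

theorem Is2.conj {x : X} (h : Is2 x) (g : X) : Is2 (g * x * g⁻¹) := by
  obtain ⟨n, hn⟩ := h
  exact ⟨n, by rw [conj_pow, hn, mul_one, mul_inv_cancel]⟩

theorem Is2.map {Y : Type*} [Group Y] {x : X} (h : Is2 x) (f : X →* Y) : Is2 (f x) := by
  obtain ⟨n, hn⟩ := h
  exact ⟨n, by rw [← map_pow, hn, map_one]⟩

theorem Is2.of_mem {P : Subgroup X} (hP : IsPGroup 2 P) {x : X} (hx : x ∈ P) : Is2 x := by
  obtain ⟨n, hn⟩ := hP ⟨x, hx⟩
  exact ⟨n, by simpa using congrArg Subtype.val hn⟩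

theorem is2_of_sq {x : X} (h : x * x = 1) : Is2 x := ⟨1, by rw [pow_one, pow_two, h]⟩

theorem is2_of_pow_four {x : X} (h : x ^ 4 = 1) : Is2 x := ⟨2, h⟩

end Is2

/-- `f` is surjective with a central kernel of odd order. -/
structure OddCover (f : A →* K) : Prop where
  surj : Function.Surjective f
  central : ∀ z ∈ f.ker, ∀ a : A, z * a = a * z
  exists_odd : ∃ m : ℕ, Odd m ∧ ∀ z ∈ f.ker, z ^ m = 1

theorem OddCover.of_card {f : A →* K} (hs : Function.Surjective f) (hc : f.ker ≤ Subgroup.center A)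
    (ho : Odd (Nat.card f.ker)) : OddCover f where
  surj := hs
  central z hz a := (Subgroup.mem_center_iff.1 (hc hz) a).symm
  exists_odd := ⟨Nat.card f.ker, ho, fun z hz => by
    have h := pow_card_eq_one' (x := (⟨z, hz⟩ : f.ker))
    simpa using congrArg Subtype.val h⟩

/-- The quotient map followed by an isomorphism. -/
theorem OddCover.of_center (e : A ⧸ Subgroup.center A ≃* K)
    (hZ : Odd (Nat.card (Subgroup.center A))) :
    OddCover (e.toMonoidHom.comp (QuotientGroup.mk' (Subgroup.center A))) := by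
  have hk : (e.toMonoidHom.comp (QuotientGroup.mk' (Subgroup.center A))).ker = Subgroup.center A := by
    ext a
    rw [MonoidHom.mem_ker, MonoidHom.comp_apply]
    constructor
    · intro h
      have h1 : QuotientGroup.mk' (Subgroup.center A) a = 1 := by
        apply e.injective
        rw [map_one]
        exact h
      exact (QuotientGroup.eq_one_iff a).1 h1
    · intro h
      have h1 : QuotientGroup.mk' (Subgroup.center A) a = 1 := (QuotientGroup.eq_one_iff a).2 h
      rw [h1, map_one]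
  refine OddCover.of_card ?_ hk.le (by rw [hk]; exact hZ)
  exact e.surjective.comp (QuotientGroup.mk'_surjective _)

namespace OddCover

variable {f : A →* K} (h : OddCover f)
include h

/-- Two 2-elements with the same image are equal. -/
theorem eq_of_map_eq {a b : A} (ha : Is2 a) (hb : Is2 b) (hab : f a = f b) : a = b := by
  obtain ⟨m, hm, hm1⟩ := h.exists_odd
  obtain ⟨n1, h1⟩ := ha
  obtain ⟨n2, h2⟩ := hb
  have ha' := Is2.mono h1 (le_max_left n1 n2)
  have hb' := Is2.mono h2 (le_max_right n1 n2)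
  set n := max n1 n2
  have hz : a⁻¹ * b ∈ f.ker := by
    rw [MonoidHom.mem_ker, map_mul, map_inv, hab, inv_mul_cancel]
  have hcomm : Commute a (a⁻¹ * b) := (h.central _ hz a).symm
  have hb2 : b = a * (a⁻¹ * b) := by group
  have h3 : (a⁻¹ * b) ^ 2 ^ n = 1 := by
    have h4 : b ^ 2 ^ n = a ^ 2 ^ n * (a⁻¹ * b) ^ 2 ^ n := by
      conv_lhs => rw [hb2]
      exact hcomm.mul_pow _
    rw [ha', hb', one_mul] at h4
    exact h4.symm
  have h5 := hm1 _ hz
  have h6 : orderOf (a⁻¹ * b) ∣ 2 ^ n := orderOf_dvd_of_pow_eq_one h3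
  have h7 : orderOf (a⁻¹ * b) ∣ m := orderOf_dvd_of_pow_eq_one h5
  have h8 : Nat.Coprime (2 ^ n) m := Nat.Coprime.pow_left n (Nat.coprime_two_left.2 hm)
  have h9 : orderOf (a⁻¹ * b) = 1 := Nat.eq_one_of_dvd_coprimes h8 h6 h7
  have h10 : a⁻¹ * b = 1 := orderOf_eq_one_iff.1 h9
  exact (inv_mul_eq_one.1 h10)

/-- A 2-element has a lift which is a 2-element. -/
theorem exists_lift {k : K} (hk : Is2 k) : ∃ a : A, f a = k ∧ Is2 a := by
  obtain ⟨m, hm, hm1⟩ := h.exists_odd
  obtain ⟨n, hn⟩ := hk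
  obtain ⟨a, ha⟩ := h.surj k
  have hcop : Nat.Coprime m (2 ^ n) := (Nat.Coprime.pow_left n (Nat.coprime_two_left.2 hm)).symm
  rcases Nat.eq_zero_or_pos n with rfl | hpos
  · refine ⟨1, ?_, is2_one⟩
    rw [map_one]
    simpa using hn.symm
  obtain ⟨s, hs⟩ := Nat.exists_mul_mod_eq_one_of_coprime hcop
    (by calc 1 < 2 := by norm_num
          _ = 2 ^ 1 := by norm_num
          _ ≤ 2 ^ n := Nat.pow_le_pow_right (by norm_num) hpos)
  refine ⟨a ^ (m * s), ?_, n, ?_⟩
  · rw [map_pow, ha]
    have h1 : m * s = 2 ^ n * (m * s / 2 ^ n) + m * s % 2 ^ n := (Nat.div_add_mod _ _).symm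
    rw [h1, hs.2, pow_add, pow_mul, hn, one_pow, one_mul, pow_one]
  · have hker : a ^ 2 ^ n ∈ f.ker := by
      rw [MonoidHom.mem_ker, map_pow, ha, hn]
    rw [← pow_mul, show m * s * 2 ^ n = 2 ^ n * m * s by ring, pow_mul, pow_mul, hm1 _ hker,
      one_pow]

end OddCover

open Classical in
/-- The 2-element above the 2-element `k` (junk value for other `k`). -/
noncomputable def lift2 (f : A →* K) (k : K) : A :=
  if h : ∃ a : A, f a = k ∧ Is2 a then h.choose else 1

namespace OddCover

variable {f : A →* K} (h : OddCover f)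
include h

theorem map_lift2 {k : K} (hk : Is2 k) : f (lift2 f k) = k := by
  have h1 := h.exists_lift hk
  rw [lift2, dif_pos h1]
  exact h1.choose_spec.1

theorem is2_lift2 {k : K} (hk : Is2 k) : Is2 (lift2 f k) := by
  have h1 := h.exists_lift hk
  rw [lift2, dif_pos h1]
  exact h1.choose_spec.2

/-- The lift is characterised by being a 2-element. -/
theorem lift2_eq {k : K} {a : A} (ha : Is2 a) (hak : f a = k) : lift2 f k = a := by
  subst hak
  exact h.eq_of_map_eq (h.is2_lift2 (ha.map f)) ha (h.map_lift2 (ha.map f))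

theorem lift2_map {a : A} (ha : Is2 a) : lift2 f (f a) = a := h.lift2_eq ha rfl

theorem lift2_one : lift2 f 1 = 1 := h.lift2_eq is2_one (map_one f)

theorem lift2_inv {k : K} (hk : Is2 k) : lift2 f k⁻¹ = (lift2 f k)⁻¹ :=
  h.lift2_eq (h.is2_lift2 hk).inv (by rw [map_inv, h.map_lift2 hk])

theorem lift2_conj {k : K} (hk : Is2 k) (g : A) :
    lift2 f (f g * k * (f g)⁻¹) = g * lift2 f k * g⁻¹ :=
  h.lift2_eq ((h.is2_lift2 hk).conj g) (by rw [map_mul, map_mul, map_inv, h.map_lift2 hk])

/-- Equivariance in the form used below: if `g` lies above `w` then a conjugation relation in `K`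
lifts. -/
theorem conj_eq {k k' w : K} (hk : Is2 k) {g : A} (hg : f g = w) (e : w * k * w⁻¹ = k') :
    g * lift2 f k * g⁻¹ = lift2 f k' := by
  subst hg
  subst e
  exact (h.lift2_conj hk g).symm

theorem lift2_injOn {k k' : K} (hk : Is2 k) (hk' : Is2 k') (e : lift2 f k = lift2 f k') : k = k' := by
  rw [← h.map_lift2 hk, ← h.map_lift2 hk', e]

/-- The product of the kernel with a 2-subgroup upstairs: the 2-elements above a 2-subgroup form a
subgroup. -/
theorem exists_lift_subgroup [Finite A] {P : Subgroup K} (hP : IsPGroup 2 P) :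
    ∃ Q : Subgroup A, IsPGroup 2 Q ∧ Q.map f = P := by
  have hfin : Finite (P.comap f) := inferInstance
  let g : (P.comap f) →* P := (f.comp (P.comap f).subtype).codRestrict P (fun x => x.2)
  have hg : Function.Surjective g := by
    rintro ⟨k, hk⟩
    obtain ⟨a, rfl⟩ := h.surj k
    exact ⟨⟨a, hk⟩, rfl⟩
  obtain ⟨S⟩ : Nonempty (Sylow 2 (P.comap f)) := inferInstance
  have hfin' : Finite P := Finite.of_surjective g hg
  have : Fact (Nat.Prime 2) := ⟨Nat.prime_two⟩
  let S' : Sylow 2 P := S.mapSurjective hg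
  have htop : (S' : Subgroup P) = ⊤ := by
    have h1 : (⊤ : Subgroup P) ≤ S' := by
      have h2 : IsPGroup 2 (⊤ : Subgroup P) := hP.to_subgroup ⊤
      have h3 := S'.is_maximal' h2 le_top
      rw [h3]
    exact top_le_iff.1 h1
  refine ⟨(S : Subgroup (P.comap f)).map (P.comap f).subtype, ?_, ?_⟩
  · exact S.isPGroup'.map _
  · ext k
    constructor
    · rintro ⟨a, ⟨s, -, rfl⟩, rfl⟩
      exact s.2
    · intro hk
      have h1 : (⟨k, hk⟩ : P) ∈ (S' : Subgroup P) := by rw [htop]; trivial
      obtain ⟨s, hs, hsk⟩ := h1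
      exact ⟨s.1, ⟨s, hs, rfl⟩, congrArg Subtype.val hsk⟩

/-- `lift2` is multiplicative on a 2-subgroup. -/
theorem lift2_mul [Finite A] {P : Subgroup K} (hP : IsPGroup 2 P) {k l : K} (hk : k ∈ P)
    (hl : l ∈ P) : lift2 f (k * l) = lift2 f k * lift2 f l := by
  obtain ⟨Q, hQ, rfl⟩ := h.exists_lift_subgroup hP
  obtain ⟨a, ha, rfl⟩ := hk
  obtain ⟨b, hb, rfl⟩ := hl
  rw [← map_mul, h.lift2_map (Is2.of_mem hQ (mul_mem ha hb)), h.lift2_map (Is2.of_mem hQ ha),
    h.lift2_map (Is2.of_mem hQ hb)]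

/-- The lifting homomorphism on a 2-subgroup. -/
noncomputable def liftHom [Finite A] {P : Subgroup K} (hP : IsPGroup 2 P) : P →* A where
  toFun k := lift2 f k
  map_one' := h.lift2_one
  map_mul' k l := h.lift2_mul hP k.2 l.2

@[simp] theorem liftHom_apply [Finite A] {P : Subgroup K} (hP : IsPGroup 2 P) (k : P) :
    h.liftHom hP k = lift2 f k := rfl

/-- The 2-subgroup above a 2-subgroup. -/
noncomputable def up [Finite A] {P : Subgroup K} (hP : IsPGroup 2 P) : Subgroup A :=
  (h.liftHom hP).range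

theorem mem_up [Finite A] {P : Subgroup K} (hP : IsPGroup 2 P) {a : A} :
    a ∈ h.up hP ↔ Is2 a ∧ f a ∈ P := by
  constructor
  · rintro ⟨k, rfl⟩
    rw [h.liftHom_apply]
    have h2 := Is2.of_mem hP k.2
    exact ⟨h.is2_lift2 h2, by rw [h.map_lift2 h2]; exact k.2⟩
  · rintro ⟨h1, h2⟩
    exact ⟨⟨f a, h2⟩, h.lift2_map h1⟩

theorem lift2_mem_up [Finite A] {P : Subgroup K} (hP : IsPGroup 2 P) {k : K} (hk : k ∈ P) :
    lift2 f k ∈ h.up hP := ⟨⟨k, hk⟩, rfl⟩

theorem isPGroup_up [Finite A] {P : Subgroup K} (hP : IsPGroup 2 P) : IsPGroup 2 (h.up hP) :=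
  hP.of_surjective _ (MonoidHom.rangeRestrict_surjective (h.liftHom hP))

theorem map_up [Finite A] {P : Subgroup K} (hP : IsPGroup 2 P) : (h.up hP).map f = P := by
  ext k
  constructor
  · rintro ⟨a, ha, rfl⟩
    exact ((h.mem_up hP).1 ha).2
  · intro hk
    exact ⟨_, h.lift2_mem_up hP hk, h.map_lift2 (Is2.of_mem hP hk)⟩

theorem liftHom_injective [Finite A] {P : Subgroup K} (hP : IsPGroup 2 P) :
    Function.Injective (h.liftHom hP) := fun k l e =>
  Subtype.ext (h.lift2_injOn (Is2.of_mem hP k.2) (Is2.of_mem hP l.2) e)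

/-- The isomorphism between a 2-subgroup and the one above it. -/
noncomputable def upEquiv [Finite A] {P : Subgroup K} (hP : IsPGroup 2 P) : P ≃* h.up hP :=
  MonoidHom.ofInjective (h.liftHom_injective hP)

theorem card_up [Finite A] {P : Subgroup K} (hP : IsPGroup 2 P) : Nat.card (h.up hP) = Nat.card P :=
  (Nat.card_congr (h.upEquiv hP).toEquiv).symm

theorem up_mono [Finite A] {P Q : Subgroup K} (hP : IsPGroup 2 P) (hQ : IsPGroup 2 Q) :
    h.up hP ≤ h.up hQ ↔ P ≤ Q := by
  constructor
  · intro hle k hk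
    have h1 := hle (h.lift2_mem_up hP hk)
    have h2 := ((h.mem_up hQ).1 h1).2
    rwa [h.map_lift2 (Is2.of_mem hP hk)] at h2
  · intro hle a ha
    have h1 := (h.mem_up hP).1 ha
    exact (h.mem_up hQ).2 ⟨h1.1, hle h1.2⟩

/-- A 2-subgroup upstairs is the one above its image. -/
theorem up_map [Finite A] {Q : Subgroup A} (hQ : IsPGroup 2 Q) :
    h.up (hQ.map f) = Q := by
  ext a
  rw [h.mem_up]
  constructor
  · rintro ⟨h1, b, hb, hab⟩
    rwa [← h.eq_of_map_eq (Is2.of_mem hQ hb) h1 hab]
  · intro ha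
    exact ⟨Is2.of_mem hQ ha, a, ha, rfl⟩

/-- `g` normalises the lift iff its image normalises. -/
theorem mem_normalizer_up [Finite A] {P : Subgroup K} (hP : IsPGroup 2 P) {g : A} :
    g ∈ Subgroup.normalizer (h.up hP : Set A) ↔ f g ∈ Subgroup.normalizer (P : Set K) := by
  constructor
  · intro hg
    rw [Subgroup.mem_normalizer_iff] at hg ⊢
    intro k
    constructor
    · intro hk
      have h1 := (hg (lift2 f k)).1 (h.lift2_mem_up hP hk)
      have h2 := ((h.mem_up hP).1 h1).2
      rwa [map_mul, map_mul, map_inv, h.map_lift2 (Is2.of_mem hP hk)] at h2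
    · intro hk
      have h2 : Is2 (f g * k * (f g)⁻¹) := Is2.of_mem hP hk
      have h3 : Is2 k := by
        have := h2.conj (f g)⁻¹
        simpa [mul_assoc] using this
      have h1 := (hg (lift2 f k)).2 (by
        refine (h.mem_up hP).2 ⟨(h.is2_lift2 h3).conj g, ?_⟩
        rw [map_mul, map_mul, map_inv, h.map_lift2 h3]
        exact hk)
      have h4 := ((h.mem_up hP).1 h1).2
      rwa [h.map_lift2 h3] at h4
  · intro hg
    rw [Subgroup.mem_normalizer_iff] at hg ⊢
    intro a
    simp only [h.mem_up hP]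
    constructor
    · rintro ⟨h1, h2⟩
      refine ⟨h1.conj g, ?_⟩
      rw [map_mul, map_mul, map_inv]
      exact (hg _).1 h2
    · rintro ⟨h1, h2⟩
      refine ⟨?_, ?_⟩
      · have := h1.conj g⁻¹
        simpa [mul_assoc] using this
      · rw [map_mul, map_mul, map_inv] at h2
        exact (hg _).2 h2

/-- Sylow subgroups lift to Sylow subgroups. -/
theorem card_two_part [Finite A] {P : Subgroup K} (hP : IsPGroup 2 P) (hodd : ¬ 2 ∣ P.index) :
    ¬ 2 ∣ (h.up hP).index := by
  have hker : ¬ 2 ∣ Nat.card f.ker := by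
    intro h2
    have : Fact (Nat.Prime 2) := ⟨Nat.prime_two⟩
    obtain ⟨z, hz⟩ := exists_prime_orderOf_dvd_card' 2 h2
    obtain ⟨m, hm, hm1⟩ := h.exists_odd
    have h3 : z ^ m = 1 := Subtype.ext (by simpa using hm1 z.1 z.2)
    have h4 : (2 : ℕ) ∣ m := hz ▸ orderOf_dvd_of_pow_eq_one h3
    exact (Nat.not_even_iff_odd.2 hm) (even_iff_two_dvd.2 h4)
  have hA : Nat.card A = Nat.card f.ker * Nat.card K := by
    have h1 := f.ker.card_mul_index
    have h2 : f.ker.index = Nat.card K := by
      rw [Subgroup.index_ker, MonoidHom.range_eq_top.2 h.surj]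
      exact Nat.card_congr Subgroup.topEquiv.toEquiv
    rw [h2] at h1
    exact h1.symm
  have : Finite K := Finite.of_surjective f h.surj
  have h1 := (h.up hP).card_mul_index
  have h2 := P.card_mul_index
  rw [h.card_up hP, hA, ← h2] at h1
  have hpos : 0 < Nat.card P := Nat.card_pos
  have h3 : (h.up hP).index = Nat.card f.ker * P.index := by
    have : Nat.card P * (h.up hP).index = Nat.card P * (Nat.card f.ker * P.index) := by
      rw [h1]; ring
    exact Nat.eq_of_mul_eq_mul_left hpos this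
  rw [h3, Nat.prime_two.dvd_mul]
  exact fun h4 => h4.elim hker hodd

end OddCover

/-- The product of two commuting 2-elements. -/
theorem Is2.mul {X : Type*} [Group X] {a b : X} (ha : Is2 a) (hb : Is2 b) (e : a * b = b * a) :
    Is2 (a * b) := by
  obtain ⟨n, hn⟩ := ha
  obtain ⟨m, hm⟩ := hb
  have h1 := Is2.mono hn (le_max_left n m)
  have h2 := Is2.mono hm (le_max_right n m)
  exact ⟨max n m, by rw [(show Commute a b from e).mul_pow, h1, h2, one_mul]⟩

section Relations

variable {f : A →* K} (h : OddCover f)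
include h

/-- A conjugation relation between 2-elements lifts. -/
theorem OddCover.conj_eq' {g a b : A} (ha : Is2 a) (hb : Is2 b) (e : f g * f a * (f g)⁻¹ = f b) :
    g * a * g⁻¹ = b :=
  h.eq_of_map_eq (ha.conj g) hb (by rw [map_mul, map_mul, map_inv, e])

/-- Commuting lifts (one factor a 2-element). -/
theorem OddCover.comm {g a : A} (ha : Is2 a) (e : f g * f a = f a * f g) : g * a = a * g := by
  have h1 := h.conj_eq' (g := g) ha ha (by rw [e, mul_inv_cancel_right])
  rw [mul_inv_eq_iff_eq_mul] at h1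
  exact h1

/-- A product relation between commuting 2-elements lifts. -/
theorem OddCover.mul_eq {a b c : A} (ha : Is2 a) (hb : Is2 b) (hc : Is2 c)
    (e : f a * f b = f b * f a) (e' : f a * f b = f c) : a * b = c :=
  h.eq_of_map_eq (ha.mul hb (h.comm hb e)) hc (by rw [map_mul, e'])

/-- `a` is central iff its image is central. -/
theorem OddCover.mem_center_of_mem_ker {z : A} (hz : z ∈ f.ker) (a : A) : z * a = a * z :=
  h.central z hz a

end Relations

end Cfsg.Agent.StdRank2.FrameLift
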