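import Cfsg.Agent.StdRank2.HexOut
import Cfsg.Agent.StdRank2.FrameLift

/-!
# Lifting a hexagonal system through a central kernel of odd order
-/

set_option autoImplicit false
set_option maxHeartbeats 400000

namespace Cfsg.Agent.StdRank2.Hex

open Cfsg.Agent.SplitTwo
open Cfsg.Agent.StdRank2.FrameLift
open scoped commutatorElement
open HexTwo

variable {E : Type*} [Field E] {σ : E ≃+* E} {A K : Type*} [Group A] [Group K] {f : A →* K}
  {y : ZMod 12 → E → K}

/-- the lifted system -/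
noncomputable def liftX (f : A →* K) (y : ZMod 12 → E → K) (k : ZMod 12) (a : E) : A := lift2 f (y k a)

section Lift

variable (c : OddCover f) (h : HexTwo σ y)

include h in
theorem is2_x {k : ZMod 12} {a : E} (ha : Ok σ k a) : Is2 (y k a) := is2_of_sq (h.x_sq ha)

include c h

theorem map_liftX {k : ZMod 12} {a : E} (ha : Ok σ k a) : f (liftX f y k a) = y k a :=
  c.map_lift2 (is2_x h ha)

theorem map_liftX_nn (k : ZMod 12) : f (nn (liftX f y) k) = nn y k := by
  unfold nn
  rw [map_mul, map_mul, map_liftX c h (ok_one σ _), map_liftX c h (ok_one σ _)]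

theorem map_liftX_nt (k : ZMod 12) {t : E} (ht : Ok σ k t) : f (nt (liftX f y) k t) = nt y k t := by
  unfold nt
  rw [map_mul, map_mul, map_liftX c h ht, map_liftX c h (ht.inv.congr (val_add_6 k))]

theorem map_liftX_hh (k : ZMod 12) {t : E} (ht : Ok σ k t) : f (hh (liftX f y) k t) = hh y k t := by
  unfold hh
  rw [map_mul, map_liftX_nn c h, map_liftX_nt c h k ht]

omit h in
theorem lift_kk [Finite A] {P : Subgroup K} (hP : IsPGroup 2 P) {u v : K} (hu : u ∈ P) (hv : v ∈ P) :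
    kk (lift2 f u) (lift2 f v) = lift2 f (kk u v) := by
  unfold kk
  rw [c.lift2_mul hP (mul_mem (mul_mem (inv_mem hu) (inv_mem hv)) hu) hv,
    c.lift2_mul hP (mul_mem (inv_mem hu) (inv_mem hv)) hu, c.lift2_mul hP (inv_mem hu) (inv_mem hv),
    c.lift2_inv (Is2.of_mem hP hu), c.lift2_inv (Is2.of_mem hP hv)]

/-- **The lifted system is a hexagonal system.** -/
theorem lift_hexTwo [Finite A] [Finite E] : HexTwo σ (liftX f y) := by
  have hP : IsPGroup 2 (gen σ y (arc 1 6)) := h.isPGroup_U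
  have hN : IsPGroup 2 (gen σ y (arc 7 6)) := h.isPGroup_V
  have R := h.rel
  have ft := trc_fix h.cube
  have m1 : ∀ a, y 1 a ∈ gen σ y (arc 1 6) := fun a => x_mem_gen (by rw [mem_arc]; decide) (ok1 a)
  have m3 : ∀ a, y 3 a ∈ gen σ y (arc 1 6) := fun a => x_mem_gen (by rw [mem_arc]; decide) (ok3 a)
  have m5 : ∀ a, y 5 a ∈ gen σ y (arc 1 6) := fun a => x_mem_gen (by rw [mem_arc]; decide) (ok5 a)
  have m2 : ∀ a, σ a = a → y 2 a ∈ gen σ y (arc 1 6) := fun a ha =>
    x_mem_gen (by rw [mem_arc]; decide) (ok_of_fix _ ha)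
  have m4 : ∀ a, σ a = a → y 4 a ∈ gen σ y (arc 1 6) := fun a ha =>
    x_mem_gen (by rw [mem_arc]; decide) (ok_of_fix _ ha)
  have m6 : ∀ a, σ a = a → y 6 a ∈ gen σ y (arc 1 6) := fun a ha =>
    x_mem_gen (by rw [mem_arc]; decide) (ok_of_fix _ ha)
  have hsing : ∀ k : ZMod 12, IsPGroup 2 (gen σ y {k}) := by
    intro k v
    refine ⟨1, Subtype.ext ?_⟩
    obtain ⟨a, ha, e⟩ := h.mem_gen_singleton.1 v.2
    rw [Subgroup.coe_pow, e, pow_one, pow_two, Subgroup.coe_one]
    exact h.x_sq ha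
  have hadd : ∀ k a b, Ok σ k a → Ok σ k b → liftX f y k (a + b) = liftX f y k a * liftX f y k b := by
    intro k a b ha hb
    unfold liftX
    rw [h.add k a b ha hb, c.lift2_mul (hsing k) (x_mem_gen (Set.mem_singleton k) ha)
      (x_mem_gen (Set.mem_singleton k) hb)]
  have cjg : ∀ (g : A) (w : K) (j l : ZMod 12) (a b : E), Ok σ j a → f g = w → w * y j a * w⁻¹ = y l b →
      g * liftX f y j a * g⁻¹ = liftX f y l b := by
    intro g w j l a b ha hg e
    exact c.conj_eq (is2_x h ha) hg e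
  refine ⟨h.two, ?_, hadd, ?_, ?_, ?_, ?_, ?_, ?_⟩
  · refine ⟨R.cube, fun a b => hadd 1 a b (ok1 a) (ok1 b),
      fun a b ha hb => hadd 2 a b (ok_of_fix _ ha) (ok_of_fix _ hb), fun a b => hadd 3 a b (ok3 a) (ok3 b),
      fun a b ha hb => hadd 4 a b (ok_of_fix _ ha) (ok_of_fix _ hb), fun a b => hadd 5 a b (ok5 a) (ok5 b),
      fun a b ha hb => hadd 6 a b (ok_of_fix _ ha) (ok_of_fix _ hb), ?_, ?_, ?_, ?_, ?_, ?_, ?_, ?_, ?_, ?_, ?_, ?_,
      ?_, ?_, ?_⟩
    · intro a t ht
      unfold liftX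
      rw [lift_kk c hP (m1 a) (m2 t ht), R.c12 a t ht, c.lift2_one]
    · intro a b
      unfold liftX
      rw [lift_kk c hP (m1 a) (m3 b), R.c13]
    · intro a t ht
      unfold liftX
      rw [lift_kk c hP (m1 a) (m4 t ht), R.c14 a t ht, c.lift2_one]
    · intro a b
      have f1 : σ (-(trc σ (shp σ a) b)) = -(trc σ (shp σ a) b) := by rw [map_neg, ft]
      unfold liftX
      rw [lift_kk c hP (m1 a) (m5 b), R.c15, c.lift2_mul hP (mul_mem (m2 _ f1) (m3 _)) (m4 _ (ft _ _)),
        c.lift2_mul hP (m2 _ f1) (m3 _)]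
    · intro a t ht
      have f1 := (fixed_nrm h.cube ht a).1
      have f2 := (fixed_nrm h.cube ht a).2
      unfold liftX
      rw [lift_kk c hP (m1 a) (m6 t ht), R.c16 a t ht,
        c.lift2_mul hP (mul_mem (mul_mem (m2 _ f1) (m3 _)) (m4 _ f2)) (m5 _),
        c.lift2_mul hP (mul_mem (m2 _ f1) (m3 _)) (m4 _ f2), c.lift2_mul hP (m2 _ f1) (m3 _)]
    · intro t a ht
      unfold liftX
      rw [lift_kk c hP (m2 t ht) (m3 a), R.c23 t a ht, c.lift2_one]
    · intro t u ht hu
      unfold liftX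
      rw [lift_kk c hP (m2 t ht) (m4 u hu), R.c24 t u ht hu, c.lift2_one]
    · intro t a ht
      unfold liftX
      rw [lift_kk c hP (m2 t ht) (m5 a), R.c25 t a ht, c.lift2_one]
    · intro t u ht hu
      unfold liftX
      rw [lift_kk c hP (m2 t ht) (m6 u hu), R.c26 t u ht hu]
    · intro a t ht
      unfold liftX
      rw [lift_kk c hP (m3 a) (m4 t ht), R.c34 a t ht, c.lift2_one]
    · intro a b
      unfold liftX
      rw [lift_kk c hP (m3 a) (m5 b), R.c35]
    · intro a t ht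
      unfold liftX
      rw [lift_kk c hP (m3 a) (m6 t ht), R.c36 a t ht, c.lift2_one]
    · intro t a ht
      unfold liftX
      rw [lift_kk c hP (m4 t ht) (m5 a), R.c45 t a ht, c.lift2_one]
    · intro t u ht hu
      unfold liftX
      rw [lift_kk c hP (m4 t ht) (m6 u hu), R.c46 t u ht hu, c.lift2_one]
    · intro a t ht
      unfold liftX
      rw [lift_kk c hP (m5 a) (m6 t ht), R.c56 a t ht, c.lift2_one]
  · intro k a ha e
    refine h.inj k a ha ?_
    have := map_liftX c h ha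
    rw [e, map_one] at this
    exact this.symm
  · intro j a ha
    exact cjg _ _ _ _ _ _ ha (map_liftX_nn c h 1) (h.refl1 j a ha)
  · intro j a ha
    exact cjg _ _ _ _ _ _ ha (map_liftX_nn c h 6) (h.refl6 j a ha)
  · intro t ht j a ha
    exact cjg _ _ _ _ _ _ ha (map_liftX_hh c h 1 (ok1 t)) (h.tor1 t ht j a ha)
  · intro t ht ht' j a ha
    exact cjg _ _ _ _ _ _ ha (map_liftX_hh c h 6 (ok_of_fix 6 ht')) (h.tor6 t ht ht' j a ha)
  · intro g h1 h2
    have k1 : g ∈ c.up hP := by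
      refine (Subgroup.closure_le _).2 ?_ h1
      rintro _ ⟨k, hk, a, ha, rfl⟩
      exact c.lift2_mem_up hP (x_mem_gen ((set_pos k).2 hk) ha)
    have k2 : g ∈ c.up hN := by
      refine (Subgroup.closure_le _).2 ?_ h2
      rintro _ ⟨k, hk, a, ha, rfl⟩
      exact c.lift2_mem_up hN (x_mem_gen ((set_neg k).2 hk) ha)
    have e1 := ((c.mem_up hP).1 k1).2
    have e2 := ((c.mem_up hN).1 k2).2
    have e3 : f g = 1 := h.opp_one e1 e2
    exact c.eq_of_map_eq ((c.mem_up hP).1 k1).1 is2_one (by rw [e3, map_one])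

/-- the lifted system generates -/
theorem lift_AA [Finite A] (htop : AA σ y = ⊤) (hp : commutator A = ⊤) : AA σ (liftX f y) = ⊤ := by
  have hmap : (AA σ (liftX f y)).map f = ⊤ := by
    rw [← htop]
    unfold AA gen
    rw [MonoidHom.map_closure]
    congr 1
    ext v
    constructor
    · rintro ⟨_, ⟨k, hk, a, ha, rfl⟩, rfl⟩
      exact ⟨k, hk, a, ha, map_liftX c h ha⟩
    · rintro ⟨k, hk, a, ha, rfl⟩
      exact ⟨_, ⟨k, hk, a, ha, rfl⟩, map_liftX c h ha⟩
  -- `A = A₀ ker f`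
  have hdec : ∀ g : A, ∃ u ∈ AA σ (liftX f y), ∃ z ∈ f.ker, g = u * z := by
    intro g
    have : f g ∈ (AA σ (liftX f y)).map f := by rw [hmap]; trivial
    obtain ⟨u, hu, e⟩ := this
    exact ⟨u, hu, u⁻¹ * g, by rw [MonoidHom.mem_ker, map_mul, map_inv, e, inv_mul_cancel], by group⟩
  rw [← top_le_iff, ← hp, commutator_def, Subgroup.commutator_le]
  intro a _ b _
  obtain ⟨u, hu, z, hz, rfl⟩ := hdec a
  obtain ⟨v, hv, w, hw, rfl⟩ := hdec b
  have hzc := c.central z hz
  have hwc := c.central w hw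
  have e : ⁅u * z, v * w⁆ = ⁅u, v⁆ := by
    rw [commutatorElement_def, commutatorElement_def, mul_inv_rev, mul_inv_rev]
    have h1 : u * z * (v * w) * (z⁻¹ * u⁻¹) * (w⁻¹ * v⁻¹) =
        u * (z * v * z⁻¹) * (z * w * z⁻¹) * u⁻¹ * w⁻¹ * v⁻¹ := by group
    rw [h1, hzc v, mul_inv_cancel_right, hzc w, mul_inv_cancel_right]
    have h2 : u * v * w * u⁻¹ * w⁻¹ * v⁻¹ = u * v * (w * u⁻¹ * w⁻¹) * v⁻¹ := by group
    rw [h2, hwc u⁻¹, mul_inv_cancel_right]
  rw [e]
  rw [commutatorElement_def]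
  exact mul_mem (mul_mem (mul_mem hu hv) (inv_mem hu)) (inv_mem hv)

end Lift

/-- **Frames**: a subgroup `A` of `G`, perfect with centre of odd order, such that `A/Z(A)` has a generating hexagonal
system, is itself generated by a hexagonal system (and its centre is trivial by `center_eq_one`). -/
theorem exists_hexTwo {G : Type*} [Group G] (A : Subgroup G) [Finite A] [Finite E]
    (hZ : Odd (Nat.card (Subgroup.center A))) (hp : commutator A = ⊤) (e : A ⧸ Subgroup.center A ≃* K)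
    (h : HexTwo σ y) (htop : AA σ y = ⊤) : ∃ x : ZMod 12 → E → G, HexTwo σ x ∧ AA σ x = A := by
  have c := OddCover.of_center e hZ
  have h0 := lift_hexTwo c h
  have h1 := lift_AA c h htop hp
  generalize liftX (e.toMonoidHom.comp (QuotientGroup.mk' (Subgroup.center A))) y = x at h0 h1
  refine ⟨fun k a => (x k a : G), h0.map A.subtype A.subtype_injective fun _ _ _ => rfl, ?_⟩
  unfold AA at h1 ⊢
  rw [map_gen (x := x) (y := fun k a => (x k a : G)) A.subtype (fun _ _ _ => rfl), h1,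
    ← MonoidHom.range_eq_map, Subgroup.range_subtype]

end Cfsg.Agent.StdRank2.Hex
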