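import Cfsg.Agent.StdRank2.HexFacts

/-!
# Transport of `HexTwo` along injective homomorphisms
-/

set_option autoImplicit false

namespace Cfsg.Agent.StdRank2.Hex

open Cfsg.Agent.SplitTwo
open scoped commutatorElement

section Map

variable {E : Type*} [Field E] {σ : E ≃+* E} {Γ Γ' : Type*} [Group Γ] [Group Γ'] {x : ZMod 12 → E → Γ}
  {y : ZMod 12 → E → Γ'}

theorem map_nn (f : Γ →* Γ') (hx : ∀ k a, Ok σ k a → y k a = f (x k a)) (k : ZMod 12) :
    nn y k = f (nn x k) := by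
  unfold nn
  rw [hx _ _ (ok_one σ _), hx _ _ (ok_one σ _), map_mul, map_mul]

theorem map_nt (f : Γ →* Γ') (hx : ∀ k a, Ok σ k a → y k a = f (x k a)) (k : ZMod 12) {t : E} (ht : Ok σ k t) :
    nt y k t = f (nt x k t) := by
  unfold nt
  rw [hx _ _ ht, hx _ _ (ht.inv.congr (val_add_6 k)), map_mul, map_mul]

theorem map_hh (f : Γ →* Γ') (hx : ∀ k a, Ok σ k a → y k a = f (x k a)) (k : ZMod 12) {t : E} (ht : Ok σ k t) :
    hh y k t = f (hh x k t) := by
  unfold hh
  rw [map_nn f hx, map_nt f hx k ht, map_mul]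

theorem map_gen (f : Γ →* Γ') (hx : ∀ k a, Ok σ k a → y k a = f (x k a)) (S : Set (ZMod 12)) :
    gen σ y S = (gen σ x S).map f := by
  unfold gen
  rw [MonoidHom.map_closure]
  congr 1
  ext v
  constructor
  · rintro ⟨k, hk, a, ha, rfl⟩
    exact ⟨x k a, ⟨k, hk, a, ha, rfl⟩, (hx k a ha).symm⟩
  · rintro ⟨_, ⟨k, hk, a, ha, rfl⟩, rfl⟩
    exact ⟨k, hk, a, ha, (hx k a ha).symm⟩

theorem map_kk (f : Γ →* Γ') (u v : Γ) : kk (f u) (f v) = f (kk u v) := by
  unfold kk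
  rw [map_mul, map_mul, map_mul, map_inv, map_inv]

theorem fixed_nrm (hc : ∀ a, σ (σ (σ a)) = a) {t : E} (ht : σ t = t) (a : E) :
    σ (-(t * nrm σ a)) = -(t * nrm σ a) ∧ σ (t ^ 2 * nrm σ a) = t ^ 2 * nrm σ a := by
  constructor
  · rw [map_neg, map_mul, ht, nrm_fix hc]
  · rw [map_mul, map_pow, ht, nrm_fix hc]

/-- **Transport along an injective homomorphism.** -/
theorem HexTwo.map (h : HexTwo σ x) (f : Γ →* Γ') (hf : Function.Injective f)
    (hx : ∀ k a, Ok σ k a → y k a = f (x k a)) : HexTwo σ y := by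
  have e1 : ∀ a, y 1 a = f (x 1 a) := fun a => hx 1 a (ok1 a)
  have e3 : ∀ a, y 3 a = f (x 3 a) := fun a => hx 3 a (ok3 a)
  have e5 : ∀ a, y 5 a = f (x 5 a) := fun a => hx 5 a (ok5 a)
  have e2 : ∀ a, σ a = a → y 2 a = f (x 2 a) := fun a ha => hx 2 a (ok_of_fix 2 ha)
  have e4 : ∀ a, σ a = a → y 4 a = f (x 4 a) := fun a ha => hx 4 a (ok_of_fix 4 ha)
  have e6 : ∀ a, σ a = a → y 6 a = f (x 6 a) := fun a ha => hx 6 a (ok_of_fix 6 ha)
  have R := h.rel
  have ft := trc_fix h.cube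
  have cj : ∀ (g : Γ) (j l : ZMod 12) (a b : E), Ok σ j a → Ok σ l b → g * x j a * g⁻¹ = x l b →
      f g * y j a * (f g)⁻¹ = y l b := by
    intro g j l a b ha hb e
    rw [hx j a ha, hx l b hb, ← e, map_mul, map_mul, map_inv]
  refine ⟨h.two, ?_, ?_, ?_, ?_, ?_, ?_, ?_, ?_⟩
  · refine ⟨R.cube, ?_, ?_, ?_, ?_, ?_, ?_, ?_, ?_, ?_, ?_, ?_, ?_, ?_, ?_, ?_, ?_, ?_, ?_, ?_, ?_, ?_⟩
    · intro a b
      rw [e1, e1, e1, R.add1, map_mul]
    · intro a b ha hb
      rw [e2 _ (by rw [map_add, ha, hb]), e2 _ ha, e2 _ hb, R.add2 a b ha hb, map_mul]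
    · intro a b
      rw [e3, e3, e3, R.add3, map_mul]
    · intro a b ha hb
      rw [e4 _ (by rw [map_add, ha, hb]), e4 _ ha, e4 _ hb, R.add4 a b ha hb, map_mul]
    · intro a b
      rw [e5, e5, e5, R.add5, map_mul]
    · intro a b ha hb
      rw [e6 _ (by rw [map_add, ha, hb]), e6 _ ha, e6 _ hb, R.add6 a b ha hb, map_mul]
    · intro a t ht
      rw [e1, e2 _ ht, map_kk, R.c12 a t ht, map_one]
    · intro a b
      rw [e1, e3, e2 _ (ft a b), map_kk, R.c13]
    · intro a t ht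
      rw [e1, e4 _ ht, map_kk, R.c14 a t ht, map_one]
    · intro a b
      rw [e1, e5, e2 _ (by rw [map_neg, ft]), e3, e4 _ (ft _ _), map_kk, R.c15, map_mul, map_mul]
    · intro a t ht
      rw [e1, e6 _ ht, e2 _ (fixed_nrm h.cube ht a).1, e3, e4 _ (fixed_nrm h.cube ht a).2, e5, map_kk, R.c16 a t ht,
        map_mul, map_mul, map_mul]
    · intro t a ht
      rw [e2 _ ht, e3, map_kk, R.c23 t a ht, map_one]
    · intro t u ht hu
      rw [e2 _ ht, e4 _ hu, map_kk, R.c24 t u ht hu, map_one]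
    · intro t a ht
      rw [e2 _ ht, e5, map_kk, R.c25 t a ht, map_one]
    · intro t u ht hu
      rw [e2 _ ht, e6 _ hu, e4 _ (by rw [map_mul, ht, hu]), map_kk, R.c26 t u ht hu]
    · intro a t ht
      rw [e3, e4 _ ht, map_kk, R.c34 a t ht, map_one]
    · intro a b
      rw [e3, e5, e4 _ (ft a b), map_kk, R.c35]
    · intro a t ht
      rw [e3, e6 _ ht, map_kk, R.c36 a t ht, map_one]
    · intro t a ht
      rw [e4 _ ht, e5, map_kk, R.c45 t a ht, map_one]
    · intro t u ht hu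
      rw [e4 _ ht, e6 _ hu, map_kk, R.c46 t u ht hu, map_one]
    · intro a t ht
      rw [e5, e6 _ ht, map_kk, R.c56 a t ht, map_one]
  · intro k a b ha hb
    rw [hx _ _ (ha.add hb), hx _ _ ha, hx _ _ hb, h.add k a b ha hb, map_mul]
  · intro k a ha e
    rw [hx _ _ ha] at e
    exact h.inj k a ha (hf (by rw [e, map_one]))
  · intro j a ha
    rw [map_nn f hx]
    exact cj _ _ _ _ _ ha (ha.congr (val_8_sub j)) (h.refl1 j a ha)
  · intro j a ha
    rw [map_nn f hx]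
    exact cj _ _ _ _ _ ha (ha.congr (val_6_sub j)) (h.refl6 j a ha)
  · intro t ht j a ha
    rw [map_hh f hx 1 (ok1 t)]
    refine cj _ _ _ _ _ ha ?_ (h.tor1 t ht j a ha)
    exact Ok.mul (by
      have := h.ok_chi 1 j (ok1 t)
      exact this) ha
  · intro t ht ht' j a ha
    rw [map_hh f hx 6 (ok_of_fix 6 ht')]
    refine cj _ _ _ _ _ ha ?_ (h.tor6 t ht ht' j a ha)
    exact Ok.mul (by
      have := h.ok_chi 6 j (ok_of_fix 6 ht')
      exact this) ha
  · intro g h1 h2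
    have m1 : g ∈ (gen σ x (arc 1 6)).map f := by
      rw [← map_gen f hx]
      refine (Subgroup.closure_mono ?_) h1
      rintro _ ⟨k, hk, a, ha, rfl⟩
      exact ⟨k, (set_pos k).2 hk, a, ha, rfl⟩
    have m2 : g ∈ (gen σ x (arc 7 6)).map f := by
      rw [← map_gen f hx]
      refine (Subgroup.closure_mono ?_) h2
      rintro _ ⟨k, hk, a, ha, rfl⟩
      exact ⟨k, (set_neg k).2 hk, a, ha, rfl⟩
    obtain ⟨v, hv, rfl⟩ := m1
    obtain ⟨v', hv', e⟩ := m2
    rw [hf e] at hv'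
    rw [h.opp_one hv hv', map_one]

/-- **Pull back along an injective homomorphism.** -/
theorem HexTwo.comap (h : HexTwo σ y) (f : Γ →* Γ') (hf : Function.Injective f)
    (hx : ∀ k a, Ok σ k a → y k a = f (x k a)) : HexTwo σ x := by
  have e1 : ∀ a, y 1 a = f (x 1 a) := fun a => hx 1 a (ok1 a)
  have e3 : ∀ a, y 3 a = f (x 3 a) := fun a => hx 3 a (ok3 a)
  have e5 : ∀ a, y 5 a = f (x 5 a) := fun a => hx 5 a (ok5 a)
  have e2 : ∀ a, σ a = a → y 2 a = f (x 2 a) := fun a ha => hx 2 a (ok_of_fix 2 ha)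
  have e4 : ∀ a, σ a = a → y 4 a = f (x 4 a) := fun a ha => hx 4 a (ok_of_fix 4 ha)
  have e6 : ∀ a, σ a = a → y 6 a = f (x 6 a) := fun a ha => hx 6 a (ok_of_fix 6 ha)
  have R := h.rel
  have ft := trc_fix h.cube
  have cj : ∀ (g : Γ) (j l : ZMod 12) (a b : E), Ok σ j a → Ok σ l b → f g * y j a * (f g)⁻¹ = y l b →
      g * x j a * g⁻¹ = x l b := by
    intro g j l a b ha hb e
    apply hf
    rw [map_mul, map_mul, map_inv, ← hx j a ha, ← hx l b hb, e]
  refine ⟨h.two, ?_, ?_, ?_, ?_, ?_, ?_, ?_, ?_⟩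
  · refine ⟨R.cube, ?_, ?_, ?_, ?_, ?_, ?_, ?_, ?_, ?_, ?_, ?_, ?_, ?_, ?_, ?_, ?_, ?_, ?_, ?_, ?_, ?_⟩
    · intro a b
      apply hf
      rw [map_mul, ← e1, ← e1, ← e1, R.add1]
    · intro a b ha hb
      apply hf
      rw [map_mul, ← e2 _ (by rw [map_add, ha, hb]), ← e2 _ ha, ← e2 _ hb, R.add2 a b ha hb]
    · intro a b
      apply hf
      rw [map_mul, ← e3, ← e3, ← e3, R.add3]
    · intro a b ha hb
      apply hf
      rw [map_mul, ← e4 _ (by rw [map_add, ha, hb]), ← e4 _ ha, ← e4 _ hb, R.add4 a b ha hb]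
    · intro a b
      apply hf
      rw [map_mul, ← e5, ← e5, ← e5, R.add5]
    · intro a b ha hb
      apply hf
      rw [map_mul, ← e6 _ (by rw [map_add, ha, hb]), ← e6 _ ha, ← e6 _ hb, R.add6 a b ha hb]
    · intro a t ht
      apply hf
      rw [← map_kk, ← e1, ← e2 _ ht, R.c12 a t ht, map_one]
    · intro a b
      apply hf
      rw [← map_kk, ← e1, ← e3, ← e2 _ (ft a b), R.c13]
    · intro a t ht
      apply hf
      rw [← map_kk, ← e1, ← e4 _ ht, R.c14 a t ht, map_one]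
    · intro a b
      apply hf
      rw [← map_kk, map_mul, map_mul, ← e1, ← e5, ← e2 _ (by rw [map_neg, ft]), ← e3, ← e4 _ (ft _ _), R.c15]
    · intro a t ht
      apply hf
      rw [← map_kk, map_mul, map_mul, map_mul, ← e1, ← e6 _ ht, ← e2 _ (fixed_nrm h.cube ht a).1, ← e3,
        ← e4 _ (fixed_nrm h.cube ht a).2, ← e5, R.c16 a t ht]
    · intro t a ht
      apply hf
      rw [← map_kk, ← e2 _ ht, ← e3, R.c23 t a ht, map_one]
    · intro t u ht hu
      apply hf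
      rw [← map_kk, ← e2 _ ht, ← e4 _ hu, R.c24 t u ht hu, map_one]
    · intro t a ht
      apply hf
      rw [← map_kk, ← e2 _ ht, ← e5, R.c25 t a ht, map_one]
    · intro t u ht hu
      apply hf
      rw [← map_kk, ← e2 _ ht, ← e6 _ hu, ← e4 _ (by rw [map_mul, ht, hu]), R.c26 t u ht hu]
    · intro a t ht
      apply hf
      rw [← map_kk, ← e3, ← e4 _ ht, R.c34 a t ht, map_one]
    · intro a b
      apply hf
      rw [← map_kk, ← e3, ← e5, ← e4 _ (ft a b), R.c35]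
    · intro a t ht
      apply hf
      rw [← map_kk, ← e3, ← e6 _ ht, R.c36 a t ht, map_one]
    · intro t a ht
      apply hf
      rw [← map_kk, ← e4 _ ht, ← e5, R.c45 t a ht, map_one]
    · intro t u ht hu
      apply hf
      rw [← map_kk, ← e4 _ ht, ← e6 _ hu, R.c46 t u ht hu, map_one]
    · intro a t ht
      apply hf
      rw [← map_kk, ← e5, ← e6 _ ht, R.c56 a t ht, map_one]
  · intro k a b ha hb
    apply hf
    rw [map_mul, ← hx _ _ (ha.add hb), ← hx _ _ ha, ← hx _ _ hb, h.add k a b ha hb]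
  · intro k a ha e
    refine h.inj k a ha ?_
    rw [hx _ _ ha, e, map_one]
  · intro j a ha
    refine cj _ _ _ _ _ ha (ha.congr (val_8_sub j)) ?_
    rw [← map_nn f hx]
    exact h.refl1 j a ha
  · intro j a ha
    refine cj _ _ _ _ _ ha (ha.congr (val_6_sub j)) ?_
    rw [← map_nn f hx]
    exact h.refl6 j a ha
  · intro t ht j a ha
    refine cj _ _ _ _ _ ha ?_ ?_
    · exact Ok.mul (h.ok_chi 1 j (ok1 t)) ha
    · rw [← map_hh f hx 1 (ok1 t)]
      exact h.tor1 t ht j a ha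
  · intro t ht ht' j a ha
    refine cj _ _ _ _ _ ha ?_ ?_
    · exact Ok.mul (h.ok_chi 6 j (ok_of_fix 6 ht')) ha
    · rw [← map_hh f hx 6 (ok_of_fix 6 ht')]
      exact h.tor6 t ht ht' j a ha
  · intro g h1 h2
    have m1 : f g ∈ gen σ y (arc 1 6) := by
      rw [map_gen f hx]
      refine ⟨g, (Subgroup.closure_mono ?_) h1, rfl⟩
      rintro _ ⟨k, hk, a, ha, rfl⟩
      exact ⟨k, (set_pos k).2 hk, a, ha, rfl⟩
    have m2 : f g ∈ gen σ y (arc 7 6) := by
      rw [map_gen f hx]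
      refine ⟨g, (Subgroup.closure_mono ?_) h2, rfl⟩
      rintro _ ⟨k, hk, a, ha, rfl⟩
      exact ⟨k, (set_neg k).2 hk, a, ha, rfl⟩
    exact hf (by rw [h.opp_one m1 m2, map_one])

end Map

section Conj

variable {E : Type*} [Field E] {σ : E ≃+* E} {Γ : Type*} [Group Γ] {x : ZMod 12 → E → Γ}

/-- the conjugate system -/
def cj (g : Γ) (x : ZMod 12 → E → Γ) (k : ZMod 12) (a : E) : Γ := g * x k a * g⁻¹

theorem HexTwo.conj (h : HexTwo σ x) (g : Γ) : HexTwo σ (cj g x) :=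
  h.map (MulAut.conj g).toMonoidHom (MulAut.conj g).injective fun _ _ _ => rfl

theorem mem_gen_cj (g : Γ) {S : Set (ZMod 12)} {v : Γ} : v ∈ gen σ (cj g x) S ↔ g⁻¹ * v * g ∈ gen σ x S := by
  rw [map_gen (x := x) (y := cj g x) (MulAut.conj g).toMonoidHom fun _ _ _ => rfl]
  constructor
  · rintro ⟨w, hw, rfl⟩
    have : g⁻¹ * (g * w * g⁻¹) * g = w := by group
    change g⁻¹ * (g * w * g⁻¹) * g ∈ _
    rw [this]
    exact hw
  · intro hv
    refine ⟨_, hv, ?_⟩
    change g * (g⁻¹ * v * g) * g⁻¹ = v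
    group

/-- the shifted system generates the same subgroups -/
theorem gen_shift (c : ZMod 12) (hc : c.val % 2 = 0) (S : Set (ZMod 12)) :
    gen σ (fun j => x (j + c)) S = gen σ x {l | l - c ∈ S} := by
  have v : ∀ j : ZMod 12, (j + c).val % 2 = j.val % 2 := by
    have : ∀ c j : ZMod 12, c.val % 2 = 0 → (j + c).val % 2 = j.val % 2 := by decide
    exact fun j => this c j hc
  unfold gen
  congr 1
  ext y
  constructor
  · rintro ⟨k, hk, a, ha, rfl⟩
    exact ⟨k + c, by rw [Set.mem_ofPred_eq, add_sub_cancel_right]; exact hk, a, ha.congr (v k), rfl⟩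
  · rintro ⟨k, hk, a, ha, rfl⟩
    refine ⟨k - c, hk, a, ha.congr ?_, ?_⟩
    · have := v (k - c)
      rw [sub_add_cancel] at this
      exact this.symm
    · beta_reduce
      rw [sub_add_cancel]

theorem gen_shift_arc (c : ZMod 12) (hc : c.val % 2 = 0) (k : ZMod 12) (n : ℕ) :
    gen σ (fun j => x (j + c)) (arc k n) = gen σ x (arc (k + c) n) := by
  rw [gen_shift c hc]
  congr 1
  ext l
  rw [Set.mem_ofPred_eq, mem_arc, mem_arc, sub_sub, add_comm c k]

theorem AA_shift (c : ZMod 12) (hc : c.val % 2 = 0) : HexTwo.AA σ (fun j => x (j + c)) = HexTwo.AA σ x := by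
  unfold HexTwo.AA
  rw [gen_shift c hc]
  congr 1

end Conj

end Cfsg.Agent.StdRank2.Hex
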