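import Cfsg.Agent.StdRank2.HexTwo

/-!
# All torus actions and all commutator relations of a hexagonal root system in characteristic two
-/

set_option autoImplicit false

namespace Cfsg.Agent.StdRank2.Hex

open Cfsg.Agent.SplitTwo
open scoped commutatorElement

namespace HexTwo

variable {E : Type*} [Field E] {σ : E ≃+* E} {Γ : Type*} [Group Γ] {x : ZMod 12 → E → Γ} (h : HexTwo σ x)

include h

theorem conj_nn_hh (c k : ZMod 12) {t : E} (ht : Ok σ k t) :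
    nn x c * hh x k t * (nn x c)⁻¹ = hh x (2 * c + 6 - k) t := by
  unfold hh
  have e : nn x c * (nt x k t * nn x k) * (nn x c)⁻¹ =
      (nn x c * nt x k t * (nn x c)⁻¹) * (nn x c * nn x k * (nn x c)⁻¹) := by group
  rw [e, h.conj_nn_nn]
  congr 1
  refine conj_nt (h.refl c k ht) ?_
  rw [h.refl c (k + 6) (ht.inv.congr (val_add_6 k)), idx_opp_refl]

/-- The action of all `hh x k t`. -/
def TorAt (σ : E ≃+* E) (x : ZMod 12 → E → Γ) (k : ZMod 12) : Prop :=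
  ∀ t, t ≠ 0 → Ok σ k t → ∀ j a, Ok σ j a → hh x k t * x j a * (hh x k t)⁻¹ = x j (ch σ k (j - k) t * a)

theorem torAt_step (c k : ZMod 12) (hk : TorAt σ x k) : TorAt σ x (2 * c + 6 - k) := by
  intro t ht hok j a ha
  have hok' : Ok σ k t := hok.congr (val_refl c k).symm
  have ha' : Ok σ (2 * c + 6 - j) a := ha.congr (val_refl c j)
  have e1 : x j a = nn x c * x (2 * c + 6 - j) a * (nn x c)⁻¹ := by
    rw [h.refl c _ ha']
    congr 1
    ring
  rw [← h.conj_nn_hh c k hok', e1]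
  have e2 : nn x c * hh x k t * (nn x c)⁻¹ * (nn x c * x (2 * c + 6 - j) a * (nn x c)⁻¹) *
      (nn x c * hh x k t * (nn x c)⁻¹)⁻¹ =
      nn x c * (hh x k t * x (2 * c + 6 - j) a * (hh x k t)⁻¹) * (nn x c)⁻¹ := by group
  have hok3 : Ok σ (2 * c + 6 - j) (ch σ k (2 * c + 6 - j - k) t * a) := by
    refine Ok.mul ?_ ha'
    have := ok_ch h.cube k (2 * c + 6 - j - k) hok'
    rwa [add_sub_cancel] at this
  rw [e2, hk t ht hok' _ a ha', h.refl c _ hok3]
  have e3 : 2 * c + 6 - (2 * c + 6 - j) = j := by ring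
  have e4 : 2 * c + 6 - j - k = -(j - (2 * c + 6 - k)) := by ring
  rw [e3, e4, ch_neg, ch_congr (val_refl c k).symm]

theorem torAt (k : ZMod 12) : TorAt σ x k := by
  have t1 : TorAt σ x 1 := by
    intro t ht _ j a ha
    rw [h.tor1 t ht j a ha]
    rfl
  have t6 : TorAt σ x 6 := by
    intro t ht hok j a ha
    rw [h.tor6 t ht (hok (by decide)) j a ha]
    rfl
  have key : (∃ c : ZMod 12, k = 2 * c + 6 - 1) ∨ (∃ c : ZMod 12, k = 2 * c + 6 - 6) := by
    revert k; decide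
  rcases key with ⟨c, rfl⟩ | ⟨c, rfl⟩
  · exact h.torAt_step c 1 t1
  · exact h.torAt_step c 6 t6

/-- **The action of the torus elements.** -/
theorem tor (k j : ZMod 12) {t a : E} (ht : t ≠ 0) (hok : Ok σ k t) (ha : Ok σ j a) :
    hh x k t * x j a * (hh x k t)⁻¹ = x j (ch σ k (j - k) t * a) := h.torAt k t ht hok j a ha

/-! ### Commutators -/

theorem comm_eq_kk {k l : ZMod 12} {a b : E} (ha : Ok σ k a) (hb : Ok σ l b) :
    ⁅x k a, x l b⁆ = kk (x k a) (x l b) := by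
  rw [commutatorElement_def, kk, h.x_inv ha, h.x_inv hb]

theorem rot_pow (m : ℕ) (j : ZMod 12) {a : E} (ha : Ok σ j a) :
    (nn x 1 * nn x 6) ^ m * x j a * ((nn x 1 * nn x 6) ^ m)⁻¹ = x (j + 2 * m) a := by
  induction m generalizing j with
  | zero => simp
  | succ m ih =>
    have e : (nn x 1 * nn x 6) ^ (m + 1) * x j a * ((nn x 1 * nn x 6) ^ (m + 1))⁻¹ =
        (nn x 1 * nn x 6) ^ m * (nn x 1 * nn x 6 * x j a * (nn x 1 * nn x 6)⁻¹) *
          ((nn x 1 * nn x 6) ^ m)⁻¹ := by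
      rw [pow_succ]; group
    rw [e, h.rot j ha, ih (j + 2) (ha.congr (val_add_2 j))]
    congr 1
    push_cast
    ring

/-- there is an element of `Γ` rotating all root elements from `k₀` to `k`, if `k - k₀` is even -/
theorem exists_rot {k₀ k : ZMod 12} (hk : k.val % 2 = k₀.val % 2) :
    ∃ g : Γ, ∀ c a, Ok σ (k₀ + c) a → x (k + c) a = g * x (k₀ + c) a * g⁻¹ := by
  have key : ∃ m : Fin 6, k = k₀ + 2 * ((m : ℕ) : ZMod 12) := by
    revert k₀ k; decide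
  obtain ⟨m, hm⟩ := key
  refine ⟨(nn x 1 * nn x 6) ^ (m : ℕ), fun c a ha => ?_⟩
  rw [h.rot_pow m (k₀ + c) ha, hm]
  congr 1
  ring

omit h in
theorem conj_comm (g y z : Γ) : ⁅g * y * g⁻¹, g * z * g⁻¹⁆ = g * ⁅y, z⁆ * g⁻¹ := by
  rw [commutatorElement_def, commutatorElement_def]
  group

section Odd

variable {k : ZMod 12} (hk : k.val % 2 = 1)
include hk

omit h hk in
theorem ok1 (a : E) : Ok σ (1 : ZMod 12) a := ok_odd (by decide) a
omit h hk in
theorem ok3 (a : E) : Ok σ (3 : ZMod 12) a := ok_odd (by decide) a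
omit h hk in
theorem ok5 (a : E) : Ok σ (5 : ZMod 12) a := ok_odd (by decide) a

theorem commS1 (a : E) {t : E} (ht : σ t = t) : ⁅x k a, x (k + 1) t⁆ = 1 := by
  obtain ⟨g, hg⟩ := h.exists_rot (k₀ := 1) (k := k) (by rw [hk]; decide)
  have e0 := hg 0 a (ok_odd (by decide) a)
  rw [add_zero, add_zero] at e0
  rw [e0, hg 1 t (ok_of_fix _ ht), conj_comm]
  have := h.rel.c12 a t ht
  rw [← h.comm_eq_kk (ok1 a) (ok_of_fix _ ht)] at this
  rw [show (1 : ZMod 12) + 1 = 2 from rfl, this]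
  group

theorem commS2 (a b : E) : ⁅x k a, x (k + 2) b⁆ = x (k + 1) (trc σ a b) := by
  obtain ⟨g, hg⟩ := h.exists_rot (k₀ := 1) (k := k) (by rw [hk]; decide)
  have e0 := hg 0 a (ok_odd (by decide) a)
  rw [add_zero, add_zero] at e0
  rw [e0, hg 2 b (ok_odd (by decide) b), conj_comm, hg 1 _ (ok_of_fix _ (trc_fix h.cube a b))]
  have := h.rel.c13 a b
  rw [← h.comm_eq_kk (ok1 a) (ok3 b)] at this
  rw [show (1 : ZMod 12) + 2 = 3 from rfl, show (1 : ZMod 12) + 1 = 2 from rfl, this]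

theorem commS3 (a : E) {t : E} (ht : σ t = t) : ⁅x k a, x (k + 3) t⁆ = 1 := by
  obtain ⟨g, hg⟩ := h.exists_rot (k₀ := 1) (k := k) (by rw [hk]; decide)
  have e0 := hg 0 a (ok_odd (by decide) a)
  rw [add_zero, add_zero] at e0
  rw [e0, hg 3 t (ok_of_fix _ ht), conj_comm]
  have := h.rel.c14 a t ht
  rw [← h.comm_eq_kk (ok1 a) (ok_of_fix _ ht)] at this
  rw [show (1 : ZMod 12) + 3 = 4 from rfl, this]
  group

theorem commS4 (a b : E) : ⁅x k a, x (k + 4) b⁆ =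
    x (k + 1) (trc σ (shp σ a) b) * x (k + 2) (crs σ a b) * x (k + 3) (trc σ a (shp σ b)) := by
  obtain ⟨g, hg⟩ := h.exists_rot (k₀ := 1) (k := k) (by rw [hk]; decide)
  have e0 := hg 0 a (ok_odd (by decide) a)
  rw [add_zero, add_zero] at e0
  rw [e0, hg 4 b (ok_odd (by decide) b), conj_comm, hg 1 _ (ok_of_fix _ (trc_fix h.cube _ b)),
    hg 2 _ (ok_odd (by decide) _), hg 3 _ (ok_of_fix _ (trc_fix h.cube a _))]
  have := h.rel.c15 a b
  rw [← h.comm_eq_kk (ok1 a) (ok5 b), h.neg_eq] at this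
  rw [show (1 : ZMod 12) + 4 = 5 from rfl, show (1 : ZMod 12) + 1 = 2 from rfl,
    show (1 : ZMod 12) + 2 = 3 from rfl, show (1 : ZMod 12) + 3 = 4 from rfl, this]
  group

theorem commS5 (a : E) {t : E} (ht : σ t = t) : ⁅x k a, x (k + 5) t⁆ =
    x (k + 1) (t * nrm σ a) * x (k + 2) (t * shp σ a) * x (k + 3) (t ^ 2 * nrm σ a) * x (k + 4) (t * a) := by
  obtain ⟨g, hg⟩ := h.exists_rot (k₀ := 1) (k := k) (by rw [hk]; decide)
  have e0 := hg 0 a (ok_odd (by decide) a)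
  have f1 : σ (t * nrm σ a) = t * nrm σ a := by rw [map_mul, ht, nrm_fix h.cube]
  have f2 : σ (t ^ 2 * nrm σ a) = t ^ 2 * nrm σ a := by rw [map_mul, map_pow, ht, nrm_fix h.cube]
  rw [add_zero, add_zero] at e0
  rw [e0, hg 5 t (ok_of_fix _ ht), conj_comm, hg 1 _ (ok_of_fix _ f1),
    hg 2 _ (ok_odd (by decide) _), hg 3 _ (ok_of_fix _ f2), hg 4 _ (ok_odd (by decide) _)]
  have := h.rel.c16 a t ht
  rw [← h.comm_eq_kk (ok1 a) (ok_of_fix _ ht), h.neg_eq, h.neg_eq] at this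
  rw [show (1 : ZMod 12) + 5 = 6 from rfl, show (1 : ZMod 12) + 1 = 2 from rfl,
    show (1 : ZMod 12) + 2 = 3 from rfl, show (1 : ZMod 12) + 3 = 4 from rfl,
    show (1 : ZMod 12) + 4 = 5 from rfl, this]
  group

end Odd

section Even

variable {k : ZMod 12} (hk : k.val % 2 = 0)
include hk

theorem commL1 {t : E} (ht : σ t = t) (a : E) : ⁅x k t, x (k + 1) a⁆ = 1 := by
  obtain ⟨g, hg⟩ := h.exists_rot (k₀ := 2) (k := k) (by rw [hk]; decide)
  have e0 := hg 0 t (ok_of_fix _ ht)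
  rw [add_zero, add_zero] at e0
  rw [e0, hg 1 a (ok_odd (by decide) a), conj_comm]
  have := h.rel.c23 t a ht
  rw [← h.comm_eq_kk (ok_of_fix _ ht) (ok3 a)] at this
  rw [show (2 : ZMod 12) + 1 = 3 from rfl, this]
  group

theorem commL2 {t u : E} (ht : σ t = t) (hu : σ u = u) : ⁅x k t, x (k + 2) u⁆ = 1 := by
  obtain ⟨g, hg⟩ := h.exists_rot (k₀ := 2) (k := k) (by rw [hk]; decide)
  have e0 := hg 0 t (ok_of_fix _ ht)
  rw [add_zero, add_zero] at e0
  rw [e0, hg 2 u (ok_of_fix _ hu), conj_comm]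
  have := h.rel.c24 t u ht hu
  rw [← h.comm_eq_kk (ok_of_fix _ ht) (ok_of_fix _ hu)] at this
  rw [show (2 : ZMod 12) + 2 = 4 from rfl, this]
  group

theorem commL3 {t : E} (ht : σ t = t) (a : E) : ⁅x k t, x (k + 3) a⁆ = 1 := by
  obtain ⟨g, hg⟩ := h.exists_rot (k₀ := 2) (k := k) (by rw [hk]; decide)
  have e0 := hg 0 t (ok_of_fix _ ht)
  rw [add_zero, add_zero] at e0
  rw [e0, hg 3 a (ok_odd (by decide) a), conj_comm]
  have := h.rel.c25 t a ht
  rw [← h.comm_eq_kk (ok_of_fix _ ht) (ok5 a)] at this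
  rw [show (2 : ZMod 12) + 3 = 5 from rfl, this]
  group

theorem commL4 {t u : E} (ht : σ t = t) (hu : σ u = u) : ⁅x k t, x (k + 4) u⁆ = x (k + 2) (t * u) := by
  obtain ⟨g, hg⟩ := h.exists_rot (k₀ := 2) (k := k) (by rw [hk]; decide)
  have e0 := hg 0 t (ok_of_fix _ ht)
  rw [add_zero, add_zero] at e0
  rw [e0, hg 4 u (ok_of_fix _ hu), conj_comm, hg 2 _ (ok_of_fix _ (by rw [map_mul, ht, hu]))]
  have := h.rel.c26 t u ht hu
  rw [← h.comm_eq_kk (ok_of_fix _ ht) (ok_of_fix _ hu)] at this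
  rw [show (2 : ZMod 12) + 4 = 6 from rfl, show (2 : ZMod 12) + 2 = 4 from rfl, this]

theorem commL5 {t : E} (ht : σ t = t) (a : E) : ⁅x k t, x (k + 5) a⁆ =
    x (k + 1) (t * a) * x (k + 2) (t ^ 2 * nrm σ a) * x (k + 3) (t * shp σ a) * x (k + 4) (t * nrm σ a) := by
  -- reflect `commS5` for the root `k + 5`
  have hk5 : (-k + 1).val % 2 = 1 := by
    have : ∀ k : ZMod 12, k.val % 2 = 0 → (-k + 1).val % 2 = 1 := by decide
    exact this k hk
  have f1 : σ (t * nrm σ a) = t * nrm σ a := by rw [map_mul, ht, nrm_fix h.cube]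
  have f2 : σ (t ^ 2 * nrm σ a) = t ^ 2 * nrm σ a := by rw [map_mul, map_pow, ht, nrm_fix h.cube]
  -- the reflection `j ↦ 6 - j` maps `-k + 1 + d` to `k + 5 - d`
  have hc : ∀ d : ZMod 12, ∀ b, Ok σ (-k + 1 + d) b → nn x 6 * x (-k + 1 + d) b * (nn x 6)⁻¹ = x (k + (5 - d)) b := by
    intro d b hb
    rw [h.refl6 _ b hb]
    congr 1
    ring
  have key := h.commS5 hk5 a ht
  have key2 := congrArg (fun y => nn x 6 * y * (nn x 6)⁻¹) key
  simp only [← conj_comm] at key2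
  have c0 := hc 0 a (ok_odd (by rw [add_zero]; exact hk5) a)
  rw [add_zero, sub_zero] at c0
  have c5 := hc 5 t (ok_of_fix _ ht)
  have c1 := hc 1 _ (ok_of_fix (-k + 1 + 1) f1)
  have c3 := hc 3 _ (ok_of_fix (-k + 1 + 3) f2)
  have c2 := hc 2 (t * shp σ a) (ok_odd (by
    have : ∀ k : ZMod 12, (-k + 1).val % 2 = 1 → (-k + 1 + 2).val % 2 = 1 := by decide
    exact this k hk5) _)
  have c4 := hc 4 (t * a) (ok_odd (by
    have : ∀ k : ZMod 12, (-k + 1).val % 2 = 1 → (-k + 1 + 4).val % 2 = 1 := by decide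
    exact this k hk5) _)
  rw [c0, c5] at key2
  have e : nn x 6 * (x (-k + 1 + 1) (t * nrm σ a) * x (-k + 1 + 2) (t * shp σ a) *
      x (-k + 1 + 3) (t ^ 2 * nrm σ a) * x (-k + 1 + 4) (t * a)) * (nn x 6)⁻¹ =
      (nn x 6 * x (-k + 1 + 1) (t * nrm σ a) * (nn x 6)⁻¹) * (nn x 6 * x (-k + 1 + 2) (t * shp σ a) * (nn x 6)⁻¹) *
      (nn x 6 * x (-k + 1 + 3) (t ^ 2 * nrm σ a) * (nn x 6)⁻¹) *
      (nn x 6 * x (-k + 1 + 4) (t * a) * (nn x 6)⁻¹) := by group
  rw [e, c1, c2, c3, c4] at key2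
  rw [show (5 : ZMod 12) - 5 = 0 by ring, add_zero, show (5 : ZMod 12) - 1 = 4 by rfl,
    show (5 : ZMod 12) - 2 = 3 by rfl, show (5 : ZMod 12) - 3 = 2 by rfl, show (5 : ZMod 12) - 4 = 1 by rfl] at key2
  rw [← commutatorElement_inv, key2]
  have i1 : (x (k + 1) (t * a))⁻¹ = x (k + 1) (t * a) := h.x_inv (ok_odd (by
    have : ∀ k : ZMod 12, k.val % 2 = 0 → (k + 1).val % 2 = 1 := by decide
    exact this k hk) _)
  have i3 : (x (k + 3) (t * shp σ a))⁻¹ = x (k + 3) (t * shp σ a) := h.x_inv (ok_odd (by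
    have : ∀ k : ZMod 12, k.val % 2 = 0 → (k + 3).val % 2 = 1 := by decide
    exact this k hk) _)
  rw [mul_inv_rev, mul_inv_rev, mul_inv_rev, i1, i3, h.x_inv (ok_of_fix _ f1), h.x_inv (ok_of_fix _ f2)]
  group

end Even

end HexTwo

end Cfsg.Agent.StdRank2.Hex
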