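import Cfsg.Agent.StdRank2.HexU
import Cfsg.Agent.TitsThree.RankTwoIdx

/-!
# Weyl group and Bruhat decomposition of a hexagonal root system in characteristic two
-/

set_option autoImplicit false

namespace Cfsg.Agent.StdRank2.Hex

open Cfsg.Agent.SplitTwo
open scoped commutatorElement Pointwise

theorem root_induction {P : ZMod 12 → Prop} (h1 : P 1) (h6 : P 6) (s8 : ∀ l, P l → P (8 - l))
    (s6 : ∀ l, P l → P (6 - l)) (k : ZMod 12) : P k := by
  have p5 : P 5 := s6 1 h1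
  have p3 : P 3 := s8 5 p5
  have p7 : P 7 := s8 1 h1
  have p11 : P 11 := s6 7 p7
  have p9 : P 9 := s8 11 p11
  have p0 : P 0 := s6 6 h6
  have p2 : P 2 := s8 6 h6
  have p4 : P 4 := s6 2 p2
  have p8 : P 8 := s8 0 p0
  have p10 : P 10 := s6 8 p8
  have hk : k = 0 ∨ k = 1 ∨ k = 2 ∨ k = 3 ∨ k = 4 ∨ k = 5 ∨ k = 6 ∨ k = 7 ∨ k = 8 ∨ k = 9 ∨ k = 10 ∨ k = 11 := by
    revert k; decide
  rcases hk with rfl | rfl | rfl | rfl | rfl | rfl | rfl | rfl | rfl | rfl | rfl | rfl <;> assumption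

namespace HexTwo

variable {E : Type*} [Field E] {σ : E ≃+* E} {Γ : Type*} [Group Γ] {x : ZMod 12 → E → Γ} (h : HexTwo σ x)

include h

theorem hh_mem_H [Finite E] (k : ZMod 12) : ∀ {t : E}, t ≠ 0 → Ok σ k t → hh x k t ∈ h.H := by
  have key : ∀ k : ZMod 12, ∀ t : E, t ≠ 0 → Ok σ k t → hh x k t ∈ h.H := by
    refine root_induction ?_ ?_ ?_ ?_
    · intro t ht _
      exact h.hh1_mem_H ht
    · intro t ht ht'
      exact h.hh6_mem_H ht (ht' (by decide))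
    · intro l hl t ht ht'
      have hok : Ok σ l t := ht'.congr (val_8_sub l).symm
      have e := h.nn_conj_hh 1 l ht hok
      rw [show (2 : ZMod 12) * 1 + 6 - l = 8 - l by ring] at e
      rw [e]
      exact mul_mem (h.hh1_mem_H (inv_ne_zero (ch_ne_zero _ _ ht))) (hl t ht hok)
    · intro l hl t ht ht'
      have hok : Ok σ l t := ht'.congr (val_6_sub l).symm
      have e := h.nn_conj_hh 6 l ht hok
      rw [show (2 : ZMod 12) * 6 + 6 - l = 6 - l + 12 by ring, twelve_eq, add_zero] at e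
      rw [e]
      have h6 : σ (ch σ l (6 - l) t) = ch σ l (6 - l) t := h.ok_chi l 6 hok (by decide)
      exact mul_mem (h.hh6_mem_H (inv_ne_zero (ch_ne_zero _ _ ht)) (by rw [map_inv₀, h6])) (hl t ht hok)
  intro t ht hok
  exact key k t ht hok

theorem nn_conj_H [Finite E] (c : ZMod 12) {g : Γ} (hg : g ∈ h.H) : nn x c * g * (nn x c)⁻¹ ∈ h.H := by
  obtain ⟨s, t, hs, ht, ht', rfl⟩ := hg
  have e : nn x c * (hh x 1 s * hh x 6 t) * (nn x c)⁻¹ =
      (nn x c * hh x 1 s * (nn x c)⁻¹) * (nn x c * hh x 6 t * (nn x c)⁻¹) := by group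
  rw [e, h.conj_nn_hh c 1 (ok1 s), h.conj_nn_hh c 6 (ok_of_fix _ ht')]
  exact mul_mem (h.hh_mem_H _ hs ((ok1 s).congr (val_refl c 1))) (h.hh_mem_H _ ht ((ok_of_fix _ ht')))

/-- torus elements act by scalars on all root groups -/
theorem H_diag [Finite E] {g : Γ} (hg : g ∈ h.H) (j : ZMod 12) :
    ∃ c : E, c ≠ 0 ∧ Ok σ j c ∧ ∀ a, Ok σ j a → g * x j a * g⁻¹ = x j (c * a) := by
  obtain ⟨s, t, hs, ht, ht', rfl⟩ := hg
  refine ⟨ch σ 1 (j - 1) s * ch σ 6 (j - 6) t, mul_ne_zero (ch_ne_zero _ _ hs) (ch_ne_zero _ _ ht),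
    (h.ok_chi 1 j (ok1 s)).mul (h.ok_chi 6 j (ok_of_fix _ ht')), fun a ha => h.H_act hs ht ht' ha⟩

theorem H_conj_gen [Finite E] {g : Γ} (hg : g ∈ h.H) (S : Set (ZMod 12)) {y : Γ} (hy : y ∈ gen σ x S) :
    g * y * g⁻¹ ∈ gen σ x S := by
  refine conj_gen (fun l hl a ha => ?_) hy
  obtain ⟨c, _, hc, e⟩ := h.H_diag hg l
  rw [e a ha]
  exact x_mem_gen hl (hc.mul ha)

theorem H_comm [Finite E] {g g' : Γ} (hg : g ∈ h.H) (hg' : g' ∈ h.H) : Commute g g' := by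
  obtain ⟨s, t, hs, ht, ht', rfl⟩ := hg
  obtain ⟨s', t', hs', ht0, ht0', rfl⟩ := hg'
  have c1 := h.hh_commute 1 1 hs hs' (ok1 s) (ok1 s')
  have c2 := h.hh_commute 1 6 hs ht0 (ok1 s) (ok_of_fix _ ht0')
  have c3 := h.hh_commute 6 1 ht hs' (ok_of_fix _ ht') (ok1 s')
  have c4 := h.hh_commute 6 6 ht ht0 (ok_of_fix _ ht') (ok_of_fix _ ht0')
  exact (c1.mul_right c2).mul_left (c3.mul_right c4)

/-- a torus element acting trivially on `X 4` and `X 1` is trivial -/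
theorem H_eq_one [Finite E] {s t : E} (hs : s ≠ 0) (ht : t ≠ 0) (ht' : σ t = t)
    (h4 : hh x 1 s * hh x 6 t * x 4 1 * (hh x 1 s * hh x 6 t)⁻¹ = x 4 1)
    (h1 : hh x 1 s * hh x 6 t * x 1 1 * (hh x 1 s * hh x 6 t)⁻¹ = x 1 1) : s = 1 ∧ t = 1 := by
  have o4 : Ok σ (4 : ZMod 12) (ch σ 1 (4 - 1) s * ch σ 6 (4 - 6) t * 1) :=
    ((h.ok_chi 1 4 (ok1 s)).mul (h.ok_chi 6 4 (ok_of_fix _ ht'))).mul (ok_one σ 4)
  rw [h.H_act hs ht ht' (ok_one σ 4), h.x_inj o4 (ok_one σ 4), mul_one] at h4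
  have e4 : ch σ 1 (4 - 1) s * ch σ 6 (4 - 6) t = t := by
    change (1 : E) * t = t
    rw [one_mul]
  rw [e4] at h4
  subst h4
  rw [h.H_act hs ht ht' (ok_one σ 1), h.x_inj (ok1 _) (ok_one σ 1), mul_one, ch_one, mul_one] at h1
  have e1 : ch σ 1 (1 - 1) s = s ^ 2 := rfl
  rw [e1, pow_two] at h1
  exact ⟨h.sq_eq_one h1, rfl⟩

/-! ### The Weyl group -/

/-- the rotation -/
def rho (x : ZMod 12 → E → Γ) : Γ := nn x 1 * nn x 6

theorem nn_mul_nn (c : ZMod 12) : nn x (c + 1) * nn x c = rho x := by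
  have step : ∀ c : ZMod 12, nn x (c + 1) * nn x c = nn x (c + 1 + 1) * nn x (c + 1) := by
    intro c
    have e1 := h.conj_nn_nn (c + 1) c
    rw [h.nn_inv, show 2 * (c + 1) + 6 - c = c + 1 + 1 + 6 by ring, h.nn_opp] at e1
    rw [← e1, mul_assoc _ (nn x (c + 1)) (nn x (c + 1)), h.nn_sq, mul_one]
  have key : ∀ m : ℕ, nn x ((m : ZMod 12) + 1) * nn x (m : ZMod 12) = rho x := by
    intro m
    induction m with
    | zero =>
      rw [Nat.cast_zero, zero_add]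
      have := h.nn_opp 0
      rw [zero_add] at this
      rw [rho, this]
    | succ m ih =>
      rw [Nat.cast_succ, ← step, ih]
  have := key c.val
  rwa [ZMod.natCast_zmod_val] at this

theorem rho_mul_nn (c : ZMod 12) : rho x * nn x c = nn x (c + 1) := by
  rw [← h.nn_mul_nn c, mul_assoc, h.nn_sq, mul_one]

theorem nn_mul_rho (c : ZMod 12) : nn x (c + 1) * rho x = nn x c := by
  rw [← h.nn_mul_nn c, ← mul_assoc, h.nn_sq, one_mul]

theorem rho_pow_mul_nn (m : ℕ) (c : ZMod 12) : rho x ^ m * nn x c = nn x (c + m) := by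
  induction m generalizing c with
  | zero => simp
  | succ m ih =>
    rw [pow_succ, mul_assoc, h.rho_mul_nn, ih]
    congr 1
    push_cast
    ring

theorem rho_pow_six : rho x ^ 6 = 1 := by
  have e := h.rho_pow_mul_nn 6 0
  have e2 := h.nn_opp 0
  rw [show ((6 : ℕ) : ZMod 12) = 6 from rfl, e2] at e
  exact mul_eq_right.1 e

/-- The Weyl group. -/
def IsW (x : ZMod 12 → E → Γ) (w : Γ) : Prop := (∃ m : ℕ, w = rho x ^ m) ∨ ∃ c : ZMod 12, w = nn x c

omit h in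
theorem isW_one : IsW x (1 : Γ) := Or.inl ⟨0, (pow_zero _).symm⟩

omit h in
theorem isW_nn (c : ZMod 12) : IsW x (nn x c) := Or.inr ⟨c, rfl⟩

theorem isW_nn_mul (c : ZMod 12) {w : Γ} (hw : IsW x w) : IsW x (nn x c * w) := by
  rcases hw with ⟨m, rfl⟩ | ⟨d, rfl⟩
  · right
    induction m with
    | zero => exact ⟨c, by rw [pow_zero, mul_one]⟩
    | succ m ih =>
      obtain ⟨d, e⟩ := ih
      refine ⟨d - 1, ?_⟩
      rw [pow_succ, ← mul_assoc, e]
      have := h.nn_mul_rho (d - 1)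
      rwa [sub_add_cancel] at this
  · left
    -- `nn c * nn d = rho ^ (c - d)`
    have e : rho x ^ (c - d).val * nn x d = nn x c := by
      rw [h.rho_pow_mul_nn, ZMod.natCast_zmod_val]
      congr 1
      ring
    exact ⟨(c - d).val, by rw [← e, mul_assoc, h.nn_sq, mul_one]⟩

theorem isW_rho_mul {w : Γ} (hw : IsW x w) : IsW x (rho x * w) := by
  rw [rho, mul_assoc]
  exact h.isW_nn_mul 1 (h.isW_nn_mul 6 hw)

theorem isW_mul {v w : Γ} (hv : IsW x v) (hw : IsW x w) : IsW x (v * w) := by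
  rcases hv with ⟨m, rfl⟩ | ⟨c, rfl⟩
  · induction m with
    | zero => simpa using hw
    | succ m ih =>
      rw [pow_succ', mul_assoc]
      exact h.isW_rho_mul ih
  · exact h.isW_nn_mul c hw

theorem isW_inv {w : Γ} (hw : IsW x w) : IsW x w⁻¹ := by
  rcases hw with ⟨m, rfl⟩ | ⟨c, rfl⟩
  · left
    refine ⟨5 * m, ?_⟩
    refine inv_eq_of_mul_eq_one_left ?_
    rw [← pow_add, show 5 * m + m = 6 * m by ring, pow_mul, h.rho_pow_six, one_pow]
  · rw [h.nn_inv]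
    exact isW_nn c

/-- action of an element of the Weyl group on the root elements -/
theorem isW_act {w : Γ} (hw : IsW x w) : ∃ e c : ZMod 12, (e = 1 ∨ e = -1) ∧ c.val % 2 = 0 ∧
    ∀ j a, Ok σ j a → w * x j a * w⁻¹ = x (e * j + c) a := by
  rcases hw with ⟨m, rfl⟩ | ⟨c, rfl⟩
  · refine ⟨1, 2 * m, Or.inl rfl, ?_, fun j a ha => ?_⟩
    · have : ∀ m : ZMod 12, (2 * m).val % 2 = 0 := by decide
      exact this m
    · rw [one_mul]
      exact h.rot_pow m j ha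
  · refine ⟨-1, 2 * c + 6, Or.inr rfl, ?_, fun j a ha => ?_⟩
    · have : ∀ m : ZMod 12, (2 * m + 6).val % 2 = 0 := by decide
      exact this c
    · rw [h.refl c j ha]
      congr 1
      ring

theorem isW_conj_H [Finite E] {w g : Γ} (hw : IsW x w) (hg : g ∈ h.H) : w * g * w⁻¹ ∈ h.H := by
  rcases hw with ⟨m, rfl⟩ | ⟨c, rfl⟩
  · induction m with
    | zero => simpa using hg
    | succ m ih =>
      have e : rho x ^ (m + 1) * g * (rho x ^ (m + 1))⁻¹ =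
          nn x 1 * (nn x 6 * (rho x ^ m * g * (rho x ^ m)⁻¹) * (nn x 6)⁻¹) * (nn x 1)⁻¹ := by
        rw [pow_succ']
        generalize rho x ^ m = r
        rw [rho]; group
      rw [e]
      exact h.nn_conj_H 1 (h.nn_conj_H 6 ih)
  · exact h.nn_conj_H c hg

/-! ### Bruhat decomposition -/

open Cfsg.Agent.TitsThree.RankTwoRGD Cfsg.Agent.TitsThree.RankTwoIdx

omit h in
theorem conj_singleton {g : Γ} {k l : ZMod 12} (hg : ∀ a, Ok σ k a → g * x k a * g⁻¹ ∈ gen σ x {l}) {y : Γ}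
    (hy : y ∈ gen σ x {k}) : g * y * g⁻¹ ∈ gen σ x {l} := by
  refine conj_gen (fun j hj a ha => ?_) hy
  rw [Set.mem_singleton_iff] at hj
  subst hj
  exact hg a ha

theorem nn_singleton (c : ZMod 12) {k l : ZMod 12} (hkl : 2 * c + 6 - k = l) {y : Γ} (hy : y ∈ gen σ x {k}) :
    nn x c * y * (nn x c)⁻¹ ∈ gen σ x {l} := by
  refine conj_singleton (fun a ha => ?_) hy
  rw [h.refl c k ha, hkl]
  exact x_mem_gen (Set.mem_singleton l) (ha.congr (by rw [← hkl]; exact val_refl c k))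

omit h in
theorem nn_mem_sup (c : ZMod 12) : nn x c ∈ gen σ x {c} ⊔ gen σ x {c + 6} := by
  have l1 : gen σ x {c} ≤ gen σ x {c} ⊔ gen σ x {c + 6} := le_sup_left
  have l2 : gen σ x {c + 6} ≤ gen σ x {c} ⊔ gen σ x {c + 6} := le_sup_right
  have m1 : x c 1 ∈ gen σ x {c} := x_mem_gen (Set.mem_singleton c) (ok_one σ c)
  have m2 : x (c + 6) 1 ∈ gen σ x {c + 6} := x_mem_gen (Set.mem_singleton _) (ok_one σ _)
  exact mul_mem (mul_mem (l1 m1) (l2 m2)) (l1 m1)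

theorem rank_one_eq (c : ZMod 12) {t : E} (hok : Ok σ c t) :
    x (c + 6) t = x c t⁻¹ * (hh x c t⁻¹ * nn x c) * x c t⁻¹ := by
  rw [h.hh_mul_nn, nt, inv_inv]
  have := h.x_sq hok.inv
  calc x (c + 6) t = 1 * x (c + 6) t * 1 := by group
    _ = _ := by rw [← this]; group

theorem rank_one [Finite E] (c : ZMod 12) {g : Γ} (hg : g ∈ gen σ x {c + 6}) (h1 : g ≠ 1) :
    ∃ y ∈ gen σ x {c}, ∃ t ∈ h.H, ∃ z ∈ gen σ x {c}, g = y * nn x c * t * z := by
  obtain ⟨t, ht, rfl⟩ := h.mem_gen_singleton.1 hg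
  have ht' : Ok σ c t := ht.congr (val_add_6 c).symm
  have ht0 : t ≠ 0 := fun e => h1 (by rw [e, h.x_zero])
  have m1 : x c t⁻¹ ∈ gen σ x {c} := x_mem_gen (Set.mem_singleton c) ht'.inv
  refine ⟨x c t⁻¹, m1, nn x c * hh x c t⁻¹ * (nn x c)⁻¹, h.nn_conj_H c (h.hh_mem_H c (inv_ne_zero ht0) ht'.inv),
    x c t⁻¹, m1, ?_⟩
  rw [h.rank_one_eq c ht']
  have := h.nn_sq c
  calc x c t⁻¹ * (hh x c t⁻¹ * nn x c) * x c t⁻¹ = x c t⁻¹ * (1 * hh x c t⁻¹ * nn x c) * x c t⁻¹ := by group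
    _ = x c t⁻¹ * (nn x c * nn x c * hh x c t⁻¹ * (nn x c)⁻¹) * x c t⁻¹ := by rw [this, h.nn_inv]
    _ = _ := by group

/-- The root datum. -/
noncomputable def r2 [Finite E] : R2 6 Γ where
  X k := gen σ x {(k : ZMod 12)}
  XI' := gen σ x {7}
  XJ' := gen σ x {0}
  H := h.H
  nI := nn x 1
  nJ := nn x 6
  one_le := by norm_num
  comm := by
    intro k l hk hkl hl y hy z hz
    obtain ⟨a, ha, rfl⟩ := h.mem_gen_singleton.1 hy
    obtain ⟨b, hb, rfl⟩ := h.mem_gen_singleton.1 hz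
    obtain ⟨d, rfl⟩ := Nat.exists_eq_add_of_lt hkl
    have e : ((k + d + 1 : ℕ) : ZMod 12) = (k : ZMod 12) + ((d + 1 : ℕ) : ZMod 12) := by push_cast; ring
    rw [e] at hb ⊢
    have h1 := h.comm_mem (k : ZMod 12) (d + 1) (by omega) (by omega) ha hb
    refine (gen_le ?_ : gen σ x (arc ((k : ZMod 12) + 1) (d + 1 - 1)) ≤ _) h1
    intro j hj c hc
    rw [mem_arc] at hj
    have hj2 : j = ((k + 1 + (j - ((k : ZMod 12) + 1)).val : ℕ) : ZMod 12) := by
      push_cast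
      rw [ZMod.natCast_zmod_val]
      ring
    refine Subgroup.mem_iSup_of_mem (k + 1 + (j - ((k : ZMod 12) + 1)).val) (Subgroup.mem_iSup_of_mem ?_ ?_)
    · rw [Set.mem_Ioo]
      omega
    · rw [← hj2]
      exact x_mem_gen (Set.mem_singleton j) hc
  HX := fun g hg k _ _ y hy => h.H_conj_gen hg _ hy
  nI_X := fun k h1 h2 y hy => h.nn_singleton 1 (by
    rw [Nat.cast_sub (by omega)]; push_cast; ring) hy
  nJ_X := fun k h1 h2 y hy => h.nn_singleton 6 (by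
    rw [Nat.cast_sub (by omega)]
    push_cast
    rw [show (2 : ZMod 12) * 6 + 6 - k = 6 - k + 12 by ring, twelve_eq, add_zero]) hy
  nI_pos := fun y hy => h.nn_singleton 1 (by push_cast; ring) hy
  nI_neg := fun y hy => h.nn_singleton 1 (by push_cast; ring) hy
  nJ_pos := fun y hy => h.nn_singleton 6 (by
    push_cast
    rw [show (2 : ZMod 12) * 6 + 6 - 6 = 12 by ring, twelve_eq]) hy
  nJ_neg := fun y hy => h.nn_singleton 6 (by
    push_cast
    rw [show (2 : ZMod 12) * 6 + 6 - 0 = 6 + 12 by ring, twelve_eq, add_zero]) hy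
  nI_sq := by rw [h.nn_sq]; exact one_mem _
  nJ_sq := by rw [h.nn_sq]; exact one_mem _
  nI_H := fun g hg => h.nn_conj_H 1 hg
  nJ_H := fun g hg => h.nn_conj_H 6 hg
  rank_oneI := fun g hg h1 => by
    have e : (7 : ZMod 12) = 1 + 6 := by ring
    rw [e] at hg
    simpa using h.rank_one 1 hg h1
  rank_oneJ := fun g hg h1 => by
    have e : (0 : ZMod 12) = 6 + 6 := rfl
    rw [e] at hg
    simpa using h.rank_one 6 hg h1
  memI := by
    have := nn_mem_sup (σ := σ) (x := x) 1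
    rw [show (1 : ZMod 12) + 6 = 7 by ring] at this
    simpa using this
  memJ := by
    have := nn_mem_sup (σ := σ) (x := x) 6
    rw [show (6 : ZMod 12) + 6 = 0 from rfl] at this
    simpa using this
  braid := by
    refine ⟨1, one_mem _, ?_⟩
    have e1 : alt (nn x 1) (nn x 6) 6 = rho x ^ 3 := by
      simp only [alt, mul_one, rho]
      rw [pow_succ, pow_two]
      group
    have e2 : alt (nn x 6) (nn x 1) 6 = (rho x ^ 3)⁻¹ := by
      rw [← inv_pow, rho, mul_inv_rev, h.nn_inv, h.nn_inv, pow_succ, pow_two]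
      simp only [alt, mul_one]
      group
    rw [e1, e2, mul_one, eq_inv_iff_mul_eq_one, ← pow_add, h.rho_pow_six]

/-- The group. -/
def AA (σ : E ≃+* E) (x : ZMod 12 → E → Γ) : Subgroup Γ := gen σ x Set.univ

/-- The positive unipotent subgroup. -/
def UU (σ : E ≃+* E) (x : ZMod 12 → E → Γ) : Subgroup Γ := gen σ x (arc 1 6)

omit h in
theorem x_mem_AA {k : ZMod 12} {a : E} (ha : Ok σ k a) : x k a ∈ AA σ x := x_mem_gen (Set.mem_univ k) ha

omit h in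
theorem gen_le_AA (S : Set (ZMod 12)) : gen σ x S ≤ AA σ x := gen_mono (Set.subset_univ S)

omit h in
theorem nn_mem_AA (k : ZMod 12) : nn x k ∈ AA σ x :=
  mul_mem (mul_mem (x_mem_AA (ok_one σ k)) (x_mem_AA (ok_one σ _))) (x_mem_AA (ok_one σ k))

omit h in
theorem hh_mem_AA (k : ZMod 12) {t : E} (ht : Ok σ k t) : hh x k t ∈ AA σ x :=
  mul_mem (mul_mem (mul_mem (x_mem_AA ht) (x_mem_AA (ht.inv.congr (val_add_6 k)))) (x_mem_AA ht)) (nn_mem_AA k)

theorem H_le_AA [Finite E] : h.H ≤ AA σ x := by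
  rintro _ ⟨s, t, _, _, ht', rfl⟩
  exact mul_mem (hh_mem_AA 1 (ok1 s)) (hh_mem_AA 6 (ok_of_fix _ ht'))

omit h in
theorem isW_mem_AA {w : Γ} (hw : IsW x w) : w ∈ AA σ x := by
  rcases hw with ⟨m, rfl⟩ | ⟨c, rfl⟩
  · exact pow_mem (mul_mem (nn_mem_AA 1) (nn_mem_AA 6)) m
  · exact nn_mem_AA c

theorem r2_U [Finite E] : h.r2.U = UU σ x := by
  refine le_antisymm (iSup₂_le fun k hk => gen_mono ?_) (gen_le fun k hk a ha => ?_)
  · intro l hl
    rw [Set.mem_singleton_iff] at hl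
    subst hl
    obtain ⟨h1, h2⟩ := hk
    interval_cases k <;> (rw [mem_arc]; decide)
  · have : (k.val : ZMod 12) = k := ZMod.natCast_zmod_val k
    have hk' : 1 ≤ k.val ∧ k.val ≤ 6 := by
      have : ∀ k : ZMod 12, (k - 1).val < 6 → 1 ≤ k.val ∧ k.val ≤ 6 := by decide
      exact this k hk
    refine Subgroup.mem_iSup_of_mem k.val (Subgroup.mem_iSup_of_mem hk' ?_)
    change x k a ∈ gen σ x {((k.val : ℕ) : ZMod 12)}
    rw [this]
    exact x_mem_gen (Set.mem_singleton k) ha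

theorem AA_le [Finite E] : AA σ x ≤ h.r2.U ⊔ h.r2.H ⊔ (h.r2.XI' ⊔ h.r2.XJ') := by
  set S := h.r2.U ⊔ h.r2.H ⊔ (h.r2.XI' ⊔ h.r2.XJ') with hS
  have hU : UU σ x ≤ S := by
    rw [← h.r2_U]
    exact le_trans le_sup_left le_sup_left
  have h7 : gen σ x {7} ≤ S := le_trans (le_sup_left : h.r2.XI' ≤ h.r2.XI' ⊔ h.r2.XJ') le_sup_right
  have h0 : gen σ x {0} ≤ S := le_trans (le_sup_right : h.r2.XJ' ≤ h.r2.XI' ⊔ h.r2.XJ') le_sup_right
  have m1 : ∀ a, Ok σ (1 : ZMod 12) a → x 1 a ∈ S := fun a ha => hU (x_mem_gen (by rw [mem_arc]; decide) ha)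
  have m6 : ∀ a, Ok σ (6 : ZMod 12) a → x 6 a ∈ S := fun a ha => hU (x_mem_gen (by rw [mem_arc]; decide) ha)
  have n1 : nn x 1 ∈ S := by
    refine mul_mem (mul_mem (m1 1 (ok_one σ 1)) (h7 ?_)) (m1 1 (ok_one σ 1))
    exact x_mem_gen (by rw [show (1 : ZMod 12) + 6 = 7 by ring]; exact Set.mem_singleton _) (ok_one σ _)
  have n6 : nn x 6 ∈ S := by
    refine mul_mem (mul_mem (m6 1 (ok_one σ 6)) (h0 ?_)) (m6 1 (ok_one σ 6))
    exact x_mem_gen (by rw [show (6 : ZMod 12) + 6 = 0 from rfl]; exact Set.mem_singleton _) (ok_one σ _)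
  refine gen_le fun k _ => ?_
  refine root_induction (P := fun k => ∀ a, Ok σ k a → x k a ∈ S) m1 m6 ?_ ?_ k
  · intro l hl a ha
    have ha' : Ok σ l a := ha.congr (val_8_sub l).symm
    rw [← h.refl1 l a ha']
    exact mul_mem (mul_mem n1 (hl a ha')) (inv_mem n1)
  · intro l hl a ha
    have ha' : Ok σ l a := ha.congr (val_6_sub l).symm
    rw [← h.refl6 l a ha']
    exact mul_mem (mul_mem n6 (hl a ha')) (inv_mem n6)

/-- `H` normalises `gen σ x S` -/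
theorem H_conj_gen' [Finite E] {g : Γ} (hg : g ∈ h.H) (S : Set (ZMod 12)) {y : Γ} (hy : y ∈ gen σ x S) :
    g⁻¹ * y * g ∈ gen σ x S := by
  have := h.H_conj_gen (inv_mem hg) S hy
  rwa [inv_inv] at this

theorem mem_gen_sup_H [Finite E] {S : Set (ZMod 12)} {g : Γ} :
    g ∈ gen σ x S ⊔ h.H ↔ ∃ u ∈ gen σ x S, ∃ t ∈ h.H, g = u * t := by
  have hn : h.H ≤ Subgroup.normalizer (gen σ x S : Set Γ) := by
    intro t ht
    rw [Subgroup.mem_normalizer_iff]
    intro u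
    refine ⟨fun hu => h.H_conj_gen ht S hu, fun hu => ?_⟩
    have := h.H_conj_gen' ht S hu
    have e : t⁻¹ * (t * u * t⁻¹) * t = u := by group
    rwa [e] at this
  have h2 : (↑(gen σ x S ⊔ h.H) : Set Γ) = (gen σ x S : Set Γ) * (h.H : Set Γ) :=
    Subgroup.coe_mul_of_right_le_normalizer_left _ _ hn
  have h3 : g ∈ gen σ x S ⊔ h.H ↔ g ∈ (gen σ x S : Set Γ) * (h.H : Set Γ) := by
    rw [← h2]; rfl
  rw [h3, Set.mem_mul]
  constructor
  · rintro ⟨u, hu, t, ht, e⟩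
    exact ⟨u, hu, t, ht, e.symm⟩
  · rintro ⟨u, hu, t, ht, e⟩
    exact ⟨u, hu, t, ht, e.symm⟩

theorem isW_alt (k : ℕ) : IsW x (alt (nn x 1) (nn x 6) k) ∧ IsW x (alt (nn x 6) (nn x 1) k) := by
  induction k with
  | zero => exact ⟨isW_one, isW_one⟩
  | succ k ih => exact ⟨h.isW_nn_mul 1 ih.2, h.isW_nn_mul 6 ih.1⟩

/-- **Bruhat decomposition.** -/
theorem bruhat [Finite E] {g : Γ} (hg : g ∈ AA σ x) :
    ∃ u ∈ UU σ x, ∃ t ∈ h.H, ∃ w, IsW x w ∧ ∃ u' ∈ UU σ x, g = u * t * w * u' := by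
  obtain ⟨b, hb, k, -, b', hb', e⟩ := h.r2.bruhat (h.AA_le hg)
  have e3 : h.r2.U ⊔ h.r2.H = UU σ x ⊔ h.H := by rw [h.r2_U]; rfl
  rw [e3] at hb hb'
  obtain ⟨u, hu, t, ht, rfl⟩ := h.mem_gen_sup_H.1 hb
  obtain ⟨u', hu', t', ht', rfl⟩ := h.mem_gen_sup_H.1 hb'
  have key : ∀ w, IsW x w → g = u * t * w * (u' * t') →
      ∃ u ∈ UU σ x, ∃ t ∈ h.H, ∃ w, IsW x w ∧ ∃ u' ∈ UU σ x, g = u * t * w * u' := by
    intro w hw e
    refine ⟨u, hu, t * (w * t' * w⁻¹), mul_mem ht (h.isW_conj_H hw ht'), w, hw, t'⁻¹ * u' * t',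
      h.H_conj_gen' ht' _ hu', ?_⟩
    rw [e]
    group
  rcases e with e | e
  · exact key _ (h.isW_alt k).1 e
  · exact key _ (h.isW_alt k).2 e

end HexTwo

end Cfsg.Agent.StdRank2.Hex
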