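import Mathlib

/-!
# Outer automorphisms: 2-subgroups of a group `V T Ψ`

`V` is a normal 2-subgroup, `T` has odd order, `Ψ` is abelian and normalises `T`: every 2-subgroup lies in
`V · t Ψ t⁻¹` for some `t ∈ T`.
-/

set_option autoImplicit false

namespace Cfsg.Agent.StdRank2.OutSylow

open Subgroup

variable {Γ : Type*} [Group Γ]

/-- The group `V T Ψ`. -/
def triple (V T Ψ : Subgroup Γ) (hVT : ∀ t ∈ T, ∀ v ∈ V, t * v * t⁻¹ ∈ V)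
    (hVΨ : ∀ p ∈ Ψ, ∀ v ∈ V, p * v * p⁻¹ ∈ V) (hTΨ : ∀ p ∈ Ψ, ∀ t ∈ T, p * t * p⁻¹ ∈ T) : Subgroup Γ where
  carrier := {m | ∃ v ∈ V, ∃ t ∈ T, ∃ p ∈ Ψ, m = v * t * p}
  one_mem' := ⟨1, one_mem _, 1, one_mem _, 1, one_mem _, by simp⟩
  mul_mem' := by
    rintro _ _ ⟨v, hv, t, ht, p, hp, rfl⟩ ⟨v', hv', t', ht', p', hp', rfl⟩
    refine ⟨v * (t * (p * v' * p⁻¹) * t⁻¹), mul_mem hv (hVT t ht _ (hVΨ p hp v' hv')),
      t * (p * t' * p⁻¹), mul_mem ht (hTΨ p hp t' ht'), p * p', mul_mem hp hp', ?_⟩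
    group
  inv_mem' := by
    rintro _ ⟨v, hv, t, ht, p, hp, rfl⟩
    refine ⟨p⁻¹ * (t⁻¹ * v⁻¹ * t⁻¹⁻¹) * p⁻¹⁻¹,
      hVΨ p⁻¹ (inv_mem hp) _ (hVT t⁻¹ (inv_mem ht) _ (inv_mem hv)),
      p⁻¹ * t⁻¹ * p⁻¹⁻¹, hTΨ p⁻¹ (inv_mem hp) _ (inv_mem ht), p⁻¹, inv_mem hp, ?_⟩
    group

theorem mem_triple {V T Ψ : Subgroup Γ} (hVT : ∀ t ∈ T, ∀ v ∈ V, t * v * t⁻¹ ∈ V)
    (hVΨ : ∀ p ∈ Ψ, ∀ v ∈ V, p * v * p⁻¹ ∈ V) (hTΨ : ∀ p ∈ Ψ, ∀ t ∈ T, p * t * p⁻¹ ∈ T) (m : Γ) :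
    m ∈ triple V T Ψ hVT hVΨ hTΨ ↔ ∃ v ∈ V, ∃ t ∈ T, ∃ p ∈ Ψ, m = v * t * p := Iff.rfl

/-- An element of 2-power order of `T ⟨c⟩`, `c` of odd order normalising the odd group `T`, is trivial. -/
theorem eq_one_of_odd {T : Subgroup Γ} [Finite Γ] (hT : Odd (Nat.card T)) {t c : Γ} (ht : t ∈ T)
    (hc : ∀ x ∈ T, c * x * c⁻¹ ∈ T) (hco : Odd (orderOf c)) {k : ℕ} (h : (t * c) ^ 2 ^ k = 1) : t * c = 1 := by
  have key : ∀ n : ℕ, ∃ s ∈ T, (t * c) ^ n = s * c ^ n := by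
    intro n
    induction n with
    | zero => exact ⟨1, one_mem _, by simp⟩
    | succ n ih =>
      obtain ⟨s, hs, hsn⟩ := ih
      have hcn : ∀ m : ℕ, ∀ x ∈ T, c ^ m * x * (c ^ m)⁻¹ ∈ T := by
        intro m
        induction m with
        | zero => intro x hx; simpa using hx
        | succ m ihm =>
          intro x hx
          have := hc _ (ihm x hx)
          have h2 : c * (c ^ m * x * (c ^ m)⁻¹) * c⁻¹ = c ^ (m + 1) * x * (c ^ (m + 1))⁻¹ := by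
            rw [pow_succ' c m]; group
          rwa [h2] at this
      refine ⟨s * (c ^ n * t * (c ^ n)⁻¹), mul_mem hs (hcn n t ht), ?_⟩
      rw [pow_succ, hsn, pow_succ c n]
      group
  -- the order of `t c` is odd
  obtain ⟨s, hs, hsn⟩ := key (orderOf c)
  rw [pow_orderOf_eq_one, mul_one] at hsn
  have h1 : s ^ Nat.card T = 1 := by
    have := pow_card_eq_one' (x := (⟨s, hs⟩ : T))
    exact congrArg Subtype.val this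
  have h2 : (t * c) ^ (orderOf c * Nat.card T) = 1 := by rw [pow_mul, hsn, h1]
  have h3 : Nat.Coprime (2 ^ k) (orderOf c * Nat.card T) :=
    Nat.Coprime.pow_left _ (Nat.coprime_two_left.2 (hco.mul hT))
  have h4 : orderOf (t * c) ∣ 1 := by
    rw [← h3.gcd_eq_one]
    exact Nat.dvd_gcd (orderOf_dvd_of_pow_eq_one h) (orderOf_dvd_of_pow_eq_one h2)
  exact orderOf_eq_one_iff.1 (Nat.dvd_one.1 h4)

/-- Decomposition of an element of a finite group into commuting powers of 2-power and odd order. -/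
theorem exists_split [Finite Γ] (p : Γ) : ∃ a b : Γ, a ∈ zpowers p ∧ b ∈ zpowers p ∧ p = b * a ∧
    (∃ k, a ^ 2 ^ k = 1) ∧ Odd (orderOf b) := by
  obtain ⟨k, m, hm, hkm⟩ := Nat.exists_eq_two_pow_mul_odd (orderOf_pos p).ne'
  have hcop : IsCoprime ((2 ^ k : ℕ) : ℤ) (m : ℤ) :=
    Nat.isCoprime_iff_coprime.2 (Nat.Coprime.pow_left _ (Nat.coprime_two_left.2 hm))
  obtain ⟨x, y, hxy⟩ := hcop
  refine ⟨p ^ (y * m), p ^ (x * (2 ^ k : ℕ)), ⟨_, rfl⟩, ⟨_, rfl⟩, ?_, ⟨k, ?_⟩, ?_⟩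
  · rw [← zpow_add, hxy, zpow_one]
  · rw [← zpow_natCast, ← zpow_mul]
    have : y * (m : ℤ) * ((2 ^ k : ℕ) : ℤ) = (orderOf p : ℤ) * y := by
      rw [hkm]; push_cast; ring
    rw [this, zpow_mul, zpow_natCast, pow_orderOf_eq_one, one_zpow]
  · have h1 : (p ^ (x * ((2 ^ k : ℕ) : ℤ))) ^ m = 1 := by
      rw [← zpow_natCast, ← zpow_mul]
      have : x * ((2 ^ k : ℕ) : ℤ) * (m : ℤ) = (orderOf p : ℤ) * x := by
        rw [hkm]; push_cast; ring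
      rw [this, zpow_mul, zpow_natCast, pow_orderOf_eq_one, one_zpow]
    exact Odd.of_dvd_nat hm (orderOf_dvd_of_pow_eq_one h1)

/-- **2-subgroups of `V T Ψ`.** -/
theorem exists_conj [Finite Γ] (V T Ψ : Subgroup Γ) (hV : IsPGroup 2 V) (hT : Odd (Nat.card T))
    (hVT : ∀ t ∈ T, ∀ v ∈ V, t * v * t⁻¹ ∈ V)
    (hVΨ : ∀ p ∈ Ψ, ∀ v ∈ V, p * v * p⁻¹ ∈ V) (hTΨ : ∀ p ∈ Ψ, ∀ t ∈ T, p * t * p⁻¹ ∈ T)
    (hΨ : ∀ a ∈ Ψ, ∀ b ∈ Ψ, a * b = b * a)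
    (D : Subgroup Γ) (hD : IsPGroup 2 D) (hDM : ∀ d ∈ D, ∃ v ∈ V, ∃ t ∈ T, ∃ p ∈ Ψ, d = v * t * p) :
    ∃ t ∈ T, ∀ d ∈ D, ∃ v ∈ V, ∃ p ∈ Ψ, (∃ k, p ^ 2 ^ k = 1) ∧ d = v * (t * p * t⁻¹) := by
  classical
  have : Fact (Nat.Prime 2) := ⟨Nat.prime_two⟩
  set M : Subgroup Γ := triple V T Ψ hVT hVΨ hTΨ with hM
  have hVM : V ≤ M := fun v hv => ⟨v, hv, 1, one_mem _, 1, one_mem _, by simp⟩
  have hMV : ∀ m ∈ M, ∀ v ∈ V, m * v * m⁻¹ ∈ V := by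
    rintro _ ⟨v', hv', t, ht, p, hp, rfl⟩ v hv
    have h1 := mul_mem (mul_mem hv' (hVT t ht _ (hVΨ p hp v hv))) (inv_mem hv')
    have h2 : v' * (t * (p * v * p⁻¹) * t⁻¹) * v'⁻¹ = v' * t * p * v * (v' * t * p)⁻¹ := by group
    rwa [h2] at h1
  -- a Sylow 2-subgroup of `M`
  let S : Sylow 2 M := default
  -- `V` is contained in every Sylow 2-subgroup of `M`
  have hVn : (V.subgroupOf M).Normal := by
    constructor
    intro v hv m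
    rw [mem_subgroupOf] at hv ⊢
    exact hMV m m.2 v hv
  have hVp : IsPGroup 2 (V.subgroupOf M) := hV.comap_of_injective M.subtype M.subtype_injective
  -- the group `V Ψ₂`
  let Ψ2 : Subgroup Γ :=
    { carrier := {p | p ∈ Ψ ∧ ∃ k, p ^ 2 ^ k = 1}
      one_mem' := ⟨one_mem _, 0, by simp⟩
      mul_mem' := by
        rintro a b ⟨ha, k, hk⟩ ⟨hb, l, hl⟩
        refine ⟨mul_mem ha hb, k + l, ?_⟩
        rw [(show Commute a b from hΨ a ha b hb).mul_pow, pow_add, pow_mul, hk, one_pow, one_mul, mul_comm (2 ^ k),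
          pow_mul, hl, one_pow]
      inv_mem' := by
        rintro a ⟨ha, k, hk⟩
        exact ⟨inv_mem ha, k, by rw [inv_pow, hk, inv_one]⟩ }
  have hΨ2p : IsPGroup 2 Ψ2 := by
    rintro ⟨p, hp, k, hk⟩
    exact ⟨k, Subtype.ext hk⟩
  have hΨ2M : Ψ2 ≤ M := fun p hp => ⟨1, one_mem _, 1, one_mem _, p, hp.1, by simp⟩
  have hQ : IsPGroup 2 ((Ψ2.subgroupOf M ⊔ V.subgroupOf M : Subgroup M)) :=
    IsPGroup.to_sup_of_normal_right (hΨ2p.comap_of_injective M.subtype M.subtype_injective) hVp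
  obtain ⟨S, hS⟩ := hQ.exists_le_sylow
  -- every element of `S` is a product
  have hSmem : ∀ s : M, s ∈ S → ∃ v ∈ V, ∃ p ∈ Ψ2, (s : Γ) = v * p := by
    intro s hs
    obtain ⟨v, hv, t, ht, p, hp, hvtp⟩ := s.2
    obtain ⟨a, b, ha, hb, hpab, ⟨k, hk⟩, hbo⟩ := exists_split p
    have haΨ : a ∈ Ψ := (zpowers_le.2 hp) ha
    have hbΨ : b ∈ Ψ := (zpowers_le.2 hp) hb
    have ha2 : a ∈ Ψ2 := ⟨haΨ, k, hk⟩
    have hmem : (⟨v, hVM hv⟩ : M)⁻¹ * s * (⟨a, hΨ2M ha2⟩ : M)⁻¹ ∈ S := by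
      refine mul_mem (mul_mem (inv_mem (hS ?_)) hs) (inv_mem (hS ?_))
      · exact (le_sup_right : V.subgroupOf M ≤ _) (by rw [mem_subgroupOf]; exact hv)
      · exact (le_sup_left : Ψ2.subgroupOf M ≤ _) (by rw [mem_subgroupOf]; exact ha2)
    obtain ⟨l, hl⟩ := S.isPGroup' ⟨_, hmem⟩
    have hl' : (t * b) ^ 2 ^ l = 1 := by
      have h1 := congrArg (fun x : ↥(S : Subgroup M) => ((x : M) : Γ)) hl
      simp only [Subgroup.coe_pow, Subgroup.coe_one, Subgroup.coe_mul, Subgroup.coe_inv] at h1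
      have h2 : v⁻¹ * (s : Γ) * a⁻¹ = t * b := by
        rw [hvtp, hpab]; group
      rw [h2] at h1
      exact h1
    have h3 := eq_one_of_odd hT ht (fun x hx => hTΨ b hbΨ x hx) hbo hl'
    refine ⟨v, hv, a, ha2, ?_⟩
    rw [hvtp, hpab]
    have h4 : v * t * (b * a) = v * (t * b) * a := by group
    rw [h4, h3, mul_one]
  -- conjugate `D` into `S`
  have hDM' : D ≤ M := fun d hd => hDM d hd
  have hD' : IsPGroup 2 (D.subgroupOf M) := hD.comap_of_injective M.subtype M.subtype_injective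
  obtain ⟨S', hS'⟩ := hD'.exists_le_sylow
  obtain ⟨g, hg⟩ := MulAction.exists_smul_eq M S S'
  obtain ⟨v₀, hv₀, t₀, ht₀, p₀, hp₀, hg₀⟩ := g.2
  refine ⟨t₀, ht₀, fun d hd => ?_⟩
  have h1 : (⟨d, hDM' hd⟩ : M) ∈ S' := hS' (by rw [mem_subgroupOf]; exact hd)
  rw [← hg] at h1
  have h2 : g⁻¹ * (⟨d, hDM' hd⟩ : M) * g ∈ S := by
    have h3 : (⟨d, hDM' hd⟩ : M) ∈ (g • S : Sylow 2 M) := h1
    rw [← SetLike.mem_coe, Sylow.coe_smul] at h3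
    obtain ⟨s, hs, hsd⟩ := h3
    have h4 : g * s * g⁻¹ = (⟨d, hDM' hd⟩ : M) := hsd
    rw [← h4]
    have h5 : g⁻¹ * (g * s * g⁻¹) * g = s := by group
    rw [h5]
    exact hs
  obtain ⟨v, hv, p, hp, hvp⟩ := hSmem _ h2
  have hd' : d = (g : Γ) * (v * p) * (g : Γ)⁻¹ := by
    rw [← hvp]
    simp only [Subgroup.coe_mul, Subgroup.coe_inv]
    group
  have hcomm := hΨ p hp.1 p₀ hp₀
  refine ⟨v₀ * (t₀ * (p₀ * v * p₀⁻¹) * t₀⁻¹) * (t₀ * (p * (t₀⁻¹ * v₀⁻¹ * t₀⁻¹⁻¹) * p⁻¹) * t₀⁻¹), ?_, p, hp.1, hp.2, ?_⟩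
  · exact mul_mem (mul_mem hv₀ (hVT t₀ ht₀ _ (hVΨ p₀ hp₀ v hv)))
      (hVT t₀ ht₀ _ (hVΨ p hp.1 _ (hVT t₀⁻¹ (inv_mem ht₀) _ (inv_mem hv₀))))
  · rw [hd', hg₀]
    have h6 : p₀ * v * p * p₀⁻¹ = p₀ * v * p₀⁻¹ * p := by
      rw [mul_assoc (p₀ * v) p, mul_assoc (p₀ * v) p₀⁻¹]
      congr 1
      rw [eq_inv_mul_iff_mul_eq, ← mul_assoc, ← hcomm]
      group
    calc v₀ * t₀ * p₀ * (v * p) * (v₀ * t₀ * p₀)⁻¹ = v₀ * t₀ * (p₀ * v * p * p₀⁻¹) * t₀⁻¹ * v₀⁻¹ := by group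
      _ = v₀ * t₀ * (p₀ * v * p₀⁻¹ * p) * t₀⁻¹ * v₀⁻¹ := by rw [h6]
      _ = _ := by group

end Cfsg.Agent.StdRank2.OutSylow
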