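import Cfsg.Agent.StdRank2.HexOut
import Cfsg.Agent.StdRank2.HexSylow
import Cfsg.Agent.StdRank2.OutSylow

/-!
# Adapted coordinates for a 2-group normalising `A` and `U` (types `G₂(q)`, `³D₄(q)`, `q` even)

`adapted` : there is `s ∈ H` such that with respect to the coordinates `cj s x` every element of the 2-group `T` is of the
form `u⁻¹ f₀`, `u ∈ U`, `f₀` a pure field automorphism of 2-power order.
-/

set_option autoImplicit false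
set_option maxHeartbeats 400000

namespace Cfsg.Agent.StdRank2.Hex

open Cfsg.Agent.SplitTwo
open scoped commutatorElement
open HexTwo

variable {E : Type*} [Field E] {σ : E ≃+* E} {Γ : Type*} [Group Γ] {x : ZMod 12 → E → Γ}

/-- `f` acts as the field automorphism `τ` on all root groups. -/
def Pure (σ : E ≃+* E) (x : ZMod 12 → E → Γ) (f : Γ) (τ : E ≃+* E) : Prop :=
  ∀ k a, Ok σ k a → f * x k a * f⁻¹ = x k (τ a)

theorem ok_aut [Finite E] (τ : E ≃+* E) {k : ZMod 12} {a : E} (ha : Ok σ k a) : Ok σ k (τ a) := fun h0 => by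
  rw [field_comm σ τ, ha h0]

theorem Pure.conj_gen [Finite E] {f : Γ} {τ : E ≃+* E} (hf : Pure σ x f τ) (S : Set (ZMod 12)) {g : Γ}
    (hg : g ∈ gen σ x S) : f * g * f⁻¹ ∈ gen σ x S :=
  Hex.conj_gen (fun k hk a ha => by
    rw [hf k a ha]
    exact x_mem_gen hk (ok_aut τ ha)) hg

theorem normalizer_of_conj {S : Subgroup Γ} [Finite Γ] {y : Γ} (hy : ∀ s ∈ S, y * s * y⁻¹ ∈ S) {s : Γ} (hs : s ∈ S) :
    y⁻¹ * s * y ∈ S := by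
  have h1 : y ∈ Subgroup.normalizer (S : Set Γ) := Subgroup.mem_normalizer_fintype hy
  have h2 := (Subgroup.mem_normalizer_iff.1 h1) (y⁻¹ * s * y)
  rw [h2]
  have e : y * (y⁻¹ * s * y) * y⁻¹ = s := by group
  rwa [e]

theorem card_H_odd [Finite E] [Finite Γ] (h : HexTwo σ x) : Odd (Nat.card h.H) := by
  rw [← Nat.not_even_iff_odd, even_iff_two_dvd]
  intro hd
  have : Fact (Nat.Prime 2) := ⟨Nat.prime_two⟩
  obtain ⟨g, hg⟩ := exists_prime_orderOf_dvd_card' (G := h.H) 2 hd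
  have h1 : (g : Γ) ^ 2 ^ 1 = 1 := by
    have := pow_orderOf_eq_one g
    rw [hg] at this
    rw [pow_one]
    exact congrArg Subtype.val this
  have h2 : g = 1 := Subtype.ext (h.H_two g.2 h1)
  rw [h2, orderOf_one] at hg
  exact absurd hg (by norm_num)

/-- An element normalising `A` and `U` is `u s p`, `p` a pure field automorphism. -/
theorem decomp [Finite E] [Finite Γ] (h : HexTwo σ x) (hN : NotTwo σ) {c : Γ}
    (hA : ∀ v ∈ AA σ x, c * v * c⁻¹ ∈ AA σ x) (hU : ∀ v ∈ UU σ x, c * v * c⁻¹ ∈ UU σ x) :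
    ∃ u ∈ UU σ x, ∃ s ∈ h.H, ∃ p ρ, c = u * s * p ∧ Pure σ x p ρ := by
  obtain ⟨g, hg, ρ, -, hρ⟩ := out h hN hA
  have hP : Pure σ x (g * c) ρ := hρ
  obtain ⟨u, hu, t, ht, e⟩ := h.mem_normalizer_U hg (fun v hv => by
    have h1 := normalizer_of_conj hU hv
    have h2 := hP.conj_gen (arc 1 6) h1
    have e : g * c * (c⁻¹ * v * c) * (g * c)⁻¹ = g * v * g⁻¹ := by group
    rwa [e] at h2)
  refine ⟨t⁻¹ * u⁻¹ * t, h.H_conj_gen' ht _ (inv_mem hu), t⁻¹, inv_mem ht, g * c, ρ, ?_, hP⟩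
  rw [e]
  group

section Aut

/-- the pure field automorphisms of `A` -/
def Psi [Finite E] (σ : E ≃+* E) (x : ZMod 12 → E → Γ) : Subgroup (MulAut ↥(AA σ x)) where
  carrier := {p | ∃ τ : E ≃+* E, ∀ k a (ha : Ok σ k a), ((p ⟨x k a, x_mem_AA ha⟩ : ↥(AA σ x)) : Γ) = x k (τ a)}
  one_mem' := ⟨RingEquiv.refl E, fun k a ha => rfl⟩
  mul_mem' := by
    rintro p p' ⟨τ, hτ⟩ ⟨τ', hτ'⟩
    refine ⟨τ'.trans τ, fun k a ha => ?_⟩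
    have e : p' ⟨x k a, x_mem_AA ha⟩ = ⟨x k (τ' a), x_mem_AA (ok_aut τ' ha)⟩ := Subtype.ext (hτ' k a ha)
    change ((p (p' ⟨x k a, _⟩) : ↥(AA σ x)) : Γ) = _
    rw [e]
    exact hτ k (τ' a) (ok_aut τ' ha)
  inv_mem' := by
    rintro p ⟨τ, hτ⟩
    refine ⟨τ.symm, fun k a ha => ?_⟩
    have e : p ⟨x k (τ.symm a), x_mem_AA (ok_aut τ.symm ha)⟩ = ⟨x k a, x_mem_AA ha⟩ := by
      apply Subtype.ext
      rw [hτ k _ (ok_aut τ.symm ha), RingEquiv.apply_symm_apply]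
    have e2 : (p⁻¹) ⟨x k a, x_mem_AA ha⟩ = ⟨x k (τ.symm a), x_mem_AA (ok_aut τ.symm ha)⟩ := by
      rw [← e]
      exact MulEquiv.symm_apply_apply _ _
    rw [e2]

theorem ext_AA {M : Type*} [Group M] {f g : ↥(AA σ x) →* M}
    (e : ∀ k a (ha : Ok σ k a), f ⟨x k a, x_mem_AA ha⟩ = g ⟨x k a, x_mem_AA ha⟩) : f = g := by
  refine MonoidHom.eq_of_eqOn_dense (s := (fun y : ↥(AA σ x) => (y : Γ)) ⁻¹'
    {y : Γ | ∃ k ∈ (Set.univ : Set (ZMod 12)), ∃ a, Ok σ k a ∧ y = x k a}) ?_ ?_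
  · exact Subgroup.closure_closure_coe_preimage
  · rintro ⟨y, hy⟩ ⟨k, -, a, ha, rfl⟩
    exact e k a ha

theorem Psi_comm [Finite E] : ∀ a ∈ Psi σ x, ∀ b ∈ Psi σ x, a * b = b * a := by
  rintro p ⟨τ, hτ⟩ p' ⟨τ', hτ'⟩
  have key : (p * p').toMonoidHom = (p' * p).toMonoidHom := by
    refine ext_AA fun k a ha => ?_
    have e : p' ⟨x k a, x_mem_AA ha⟩ = ⟨x k (τ' a), x_mem_AA (ok_aut τ' ha)⟩ := Subtype.ext (hτ' k a ha)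
    have e' : p ⟨x k a, x_mem_AA ha⟩ = ⟨x k (τ a), x_mem_AA (ok_aut τ ha)⟩ := Subtype.ext (hτ k a ha)
    change p (p' ⟨x k a, _⟩) = p' (p ⟨x k a, _⟩)
    rw [e, e']
    apply Subtype.ext
    rw [hτ k _ (ok_aut τ' ha), hτ' k _ (ok_aut τ ha), field_comm τ τ']
  exact MulEquiv.ext fun y => congrArg (fun f : ↥(AA σ x) →* ↥(AA σ x) => f y) key

theorem Psi_gen [Finite E] {p : MulAut ↥(AA σ x)} (hp : p ∈ Psi σ x) (S : Set (ZMod 12)) {g : Γ} (hg : g ∈ gen σ x S)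
    (hgA : g ∈ AA σ x) : ((p ⟨g, hgA⟩ : ↥(AA σ x)) : Γ) ∈ gen σ x S := by
  obtain ⟨τ, hτ⟩ := hp
  have key : gen σ x S ≤ (((gen σ x S).subgroupOf (AA σ x)).comap p.toMonoidHom).map (AA σ x).subtype := by
    refine gen_le fun k hk a ha => ⟨⟨x k a, x_mem_AA ha⟩, ?_, rfl⟩
    change ((p ⟨x k a, _⟩ : ↥(AA σ x)) : Γ) ∈ gen σ x S
    rw [hτ k a ha]
    exact x_mem_gen hk (ok_aut τ ha)
  obtain ⟨⟨g', hg'⟩, h1, rfl⟩ := key hg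
  exact h1

theorem Psi_H [Finite E] (h : HexTwo σ x) {p : MulAut ↥(AA σ x)} (hp : p ∈ Psi σ x) {s : Γ} (hs : s ∈ h.H)
    (hsA : s ∈ AA σ x) : ((p ⟨s, hsA⟩ : ↥(AA σ x)) : Γ) ∈ h.H := by
  obtain ⟨τ, hτ⟩ := hp
  obtain ⟨s, t, hs0, ht0, ht, rfl⟩ := hs
  have key : ∀ k c (hc : Ok σ k c), ((p ⟨hh x k c, hh_mem_AA k hc⟩ : ↥(AA σ x)) : Γ) = hh x k (τ c) := by
    intro k c hc
    have hc6 : Ok σ (k + 6) c⁻¹ := hc.inv.congr (val_add_6 k)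
    have e : (⟨hh x k c, hh_mem_AA k hc⟩ : ↥(AA σ x)) =
        ⟨x k c, x_mem_AA hc⟩ * ⟨x (k + 6) c⁻¹, x_mem_AA hc6⟩ * ⟨x k c, x_mem_AA hc⟩ *
        (⟨x k 1, x_mem_AA (ok_one σ k)⟩ * ⟨x (k + 6) 1, x_mem_AA (ok_one σ _)⟩ * ⟨x k 1, x_mem_AA (ok_one σ k)⟩) :=
      Subtype.ext rfl
    rw [e]
    simp only [map_mul, Subgroup.coe_mul]
    rw [hτ k c hc, hτ (k + 6) _ hc6, hτ k 1 (ok_one σ k), hτ (k + 6) 1 (ok_one σ _), map_one, map_inv₀]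
    rfl
  have e : (⟨hh x 1 s * hh x 6 t, hsA⟩ : ↥(AA σ x)) = ⟨hh x 1 s, hh_mem_AA 1 (ok1 s)⟩ * ⟨hh x 6 t, hh_mem_AA 6 (ok_of_fix _ ht)⟩ :=
    Subtype.ext rfl
  rw [e, map_mul, Subgroup.coe_mul, key 1 s (ok1 s), key 6 t (ok_of_fix _ ht)]
  refine mul_mem (h.hh1_mem_H (by simpa using hs0)) (h.hh6_mem_H (by simpa using ht0) ?_)
  rw [field_comm σ τ, ht]

end Aut

/-- **Adapted coordinates.** -/
theorem adapted [Finite E] [Finite Γ] (h : HexTwo σ x) (hN : NotTwo σ) {T : Subgroup Γ} (hT : IsPGroup 2 T)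
    (hTA : ∀ f ∈ T, ∀ v ∈ AA σ x, f * v * f⁻¹ ∈ AA σ x) (hTU : ∀ f ∈ T, ∀ v ∈ UU σ x, f * v * f⁻¹ ∈ UU σ x) :
    ∃ s ∈ h.H, ∀ f ∈ T, ∃ u ∈ UU σ x, ∃ τ : E ≃+* E, (∃ k, τ ^ 2 ^ k = 1) ∧ Pure σ (cj s x) (u * f) τ := by
  classical
  set A := AA σ x with hAdef
  set N := Subgroup.normalizer (A : Set Γ) with hNdef
  have memN : ∀ {y : Γ}, (∀ v ∈ A, y * v * y⁻¹ ∈ A) → y ∈ N := fun hy => Subgroup.mem_normalizer_fintype hy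
  have hAN : A ≤ N := Subgroup.le_normalizer
  let φ : ↥N →* MulAut ↥A := A.normalizerMonoidHom
  have hφ : ∀ (n : ↥N) (a : ↥A), ((φ n a : ↥A) : Γ) = n * a * (n : Γ)⁻¹ := fun n a => rfl
  have hconj : ∀ (p : MulAut ↥A) (g : Γ) (hg : g ∈ A), p * φ ⟨g, hAN hg⟩ * p⁻¹ =
      φ ⟨((p ⟨g, hg⟩ : ↥A) : Γ), hAN (p ⟨g, hg⟩).2⟩ := by
    intro p g hg
    apply MulEquiv.ext
    intro y
    change p (φ ⟨g, hAN hg⟩ (p⁻¹ y)) = _
    have e : φ ⟨g, hAN hg⟩ (p⁻¹ y) = ⟨g, hg⟩ * p⁻¹ y * (⟨g, hg⟩ : ↥A)⁻¹ := rfl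
    have e2 : p (p⁻¹ y) = y := MulEquiv.apply_symm_apply _ _
    rw [e, map_mul, map_mul, map_inv, e2]
    rfl
  have hUA : UU σ x ≤ A := gen_le_AA _
  have hHA : h.H ≤ A := h.H_le_AA
  let V : Subgroup (MulAut ↥A) := ((UU σ x).subgroupOf N).map φ
  let H1 : Subgroup (MulAut ↥A) := (h.H.subgroupOf N).map φ
  let D : Subgroup (MulAut ↥A) := (T.subgroupOf N).map φ
  have hV : IsPGroup 2 V := (h.isPGroup_U.comap_of_injective N.subtype N.subtype_injective).map φ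
  have hD : IsPGroup 2 D := (hT.comap_of_injective N.subtype N.subtype_injective).map φ
  have hH1 : Odd (Nat.card H1) := by
    have h1 : Nat.card H1 ∣ Nat.card (h.H.subgroupOf N) := Subgroup.card_map_dvd _ φ
    have h2 : Nat.card (h.H.subgroupOf N) = Nat.card h.H :=
      Nat.card_congr (Subgroup.subgroupOfEquivOfLe (hHA.trans hAN)).toEquiv
    rw [h2] at h1
    exact Odd.of_dvd_nat (card_H_odd h) h1
  have o1 : ∀ t ∈ H1, ∀ v ∈ V, t * v * t⁻¹ ∈ V := by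
    rintro _ ⟨t, ht, rfl⟩ _ ⟨v, hv, rfl⟩
    refine ⟨t * v * t⁻¹, ?_, ?_⟩
    · exact h.H_conj_gen (Subgroup.mem_subgroupOf.1 ht) _ (Subgroup.mem_subgroupOf.1 hv)
    · rw [map_mul, map_mul, map_inv]
  have o2 : ∀ p ∈ Psi σ x, ∀ v ∈ V, p * v * p⁻¹ ∈ V := by
    rintro p hp _ ⟨⟨v, hvN⟩, hv, rfl⟩
    have hv' : v ∈ UU σ x := hv
    have e := hconj p v (hUA hv')
    have h3 : φ ⟨((p ⟨v, hUA hv'⟩ : ↥A) : Γ), hAN (p ⟨v, hUA hv'⟩).2⟩ ∈ V :=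
      Subgroup.mem_map_of_mem φ (Subgroup.mem_subgroupOf.2 (Psi_gen hp (arc 1 6) hv' (hUA hv')))
    rw [← e] at h3
    exact h3
  have o3 : ∀ p ∈ Psi σ x, ∀ t ∈ H1, p * t * p⁻¹ ∈ H1 := by
    rintro p hp _ ⟨⟨t, htN⟩, ht, rfl⟩
    have ht' : t ∈ h.H := ht
    have e := hconj p t (hHA ht')
    have h3 : φ ⟨((p ⟨t, hHA ht'⟩ : ↥A) : Γ), hAN (p ⟨t, hHA ht'⟩).2⟩ ∈ H1 :=
      Subgroup.mem_map_of_mem φ (Subgroup.mem_subgroupOf.2 (Psi_H h hp ht' (hHA ht')))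
    rw [← e] at h3
    exact h3
  have o4 : ∀ d ∈ D, ∃ v ∈ V, ∃ t ∈ H1, ∃ p ∈ Psi σ x, d = v * t * p := by
    rintro _ ⟨⟨f, hfN⟩, hf, rfl⟩
    have hf' : f ∈ T := hf
    obtain ⟨u, hu, s, hs, p, ρ, e, hp⟩ := decomp h hN (hTA f hf') (hTU f hf')
    have hpN : p ∈ N := memN fun v hv => hp.conj_gen Set.univ hv
    refine ⟨φ ⟨u, hAN (hUA hu)⟩, Subgroup.mem_map_of_mem φ (Subgroup.mem_subgroupOf.2 hu),
      φ ⟨s, hAN (hHA hs)⟩, Subgroup.mem_map_of_mem φ (Subgroup.mem_subgroupOf.2 hs), φ ⟨p, hpN⟩, ⟨ρ, fun k a ha => ?_⟩, ?_⟩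
    · exact hp k a ha
    · rw [← map_mul, ← map_mul]
      congr 1
      exact Subtype.ext e
  obtain ⟨_, ⟨⟨s, hsN⟩, hs, rfl⟩, hall⟩ := OutSylow.exists_conj V H1 (Psi σ x) hV hH1 o1 o2 o3 Psi_comm D hD o4
  have hs' : s ∈ h.H := hs
  refine ⟨s, hs', fun f hf => ?_⟩
  have hfN : f ∈ N := memN (hTA f hf)
  obtain ⟨_, ⟨⟨u, huN⟩, hu, rfl⟩, p, ⟨τ, hτ⟩, ⟨k, hk⟩, e⟩ := hall (φ ⟨f, hfN⟩) ⟨⟨f, hfN⟩, hf, rfl⟩
  refine ⟨u⁻¹, inv_mem hu, τ, ⟨k, ?_⟩, ?_⟩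
  · have key : ∀ n : ℕ, ∀ a, (((p ^ n) ⟨x 1 a, x_mem_AA (ok1 a)⟩ : ↥A) : Γ) = x 1 ((τ ^ n) a) := by
      intro n
      induction n with
      | zero => intro a; rfl
      | succ n ih =>
        intro a
        rw [pow_succ, pow_succ]
        change (((p ^ n) (p ⟨x 1 a, _⟩) : ↥A) : Γ) = x 1 ((τ ^ n) (τ a))
        rw [← ih (τ a)]
        congr 2
        exact Subtype.ext (hτ 1 a (ok1 a))
    apply RingEquiv.ext
    intro a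
    have h1 := key (2 ^ k) a
    rw [hk] at h1
    exact ((h.x_inj (ok1 a) (ok1 _)).1 h1).symm
  · intro k a ha
    have e2 : φ (⟨u, huN⟩⁻¹ * ⟨f, hfN⟩) * φ ⟨s, hsN⟩ = φ ⟨s, hsN⟩ * p := by
      rw [map_mul, map_inv, e]
      group
    have e3 := congrArg (fun q : MulAut ↥A => ((q ⟨x k a, x_mem_AA ha⟩ : ↥A) : Γ)) e2
    have e4 : p ⟨x k a, x_mem_AA ha⟩ = ⟨x k (τ a), x_mem_AA (ok_aut τ ha)⟩ := Subtype.ext (hτ k a ha)
    change (u⁻¹ * f) * (s * x k a * s⁻¹) * (u⁻¹ * f)⁻¹ = ((φ ⟨s, hsN⟩ (p ⟨x k a, x_mem_AA ha⟩) : ↥A) : Γ) at e3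
    rw [e4] at e3
    exact e3

end Cfsg.Agent.StdRank2.Hex
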