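import Cfsg.Agent.StdRank2.HexCoord

/-!
# The two classes of involutions of `G₂(q)`, `³D₄(q)`, `q` even
-/

set_option autoImplicit false
set_option linter.unusedSimpArgs false

namespace Cfsg.Agent.StdRank2.Hex

open Cfsg.Agent.SplitTwo
open scoped commutatorElement

namespace HexTwo

variable {E : Type*} [Field E] {σ : E ≃+* E} {Γ : Type*} [Group Γ] {x : ZMod 12 → E → Γ} (h : HexTwo σ x)

/-- `g` is conjugate to `x 4 1` or to `x 3 1`. -/
def Cls (σ : E ≃+* E) (x : ZMod 12 → E → Γ) (g : Γ) : Prop :=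
  (∃ a ∈ AA σ x, a * g * a⁻¹ = x 4 1) ∨ (∃ a ∈ AA σ x, a * g * a⁻¹ = x 3 1)

theorem Cls.of_conj {g b : Γ} (hb : b ∈ AA σ x) (hg : Cls σ x (b * g * b⁻¹)) : Cls σ x g := by
  rcases hg with ⟨a, ha, e⟩ | ⟨a, ha, e⟩
  · exact Or.inl ⟨a * b, mul_mem ha hb, by rw [← e]; group⟩
  · exact Or.inr ⟨a * b, mul_mem ha hb, by rw [← e]; group⟩

theorem Cls.of_eq {g g' b : Γ} (hb : b ∈ AA σ x) (e : b * g = g' * b) (hg : Cls σ x g') : Cls σ x g := by
  refine Cls.of_conj hb ?_
  rw [e, mul_inv_cancel_right]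
  exact hg

include h

theorem crs_solve {a c : E} (ha : a ≠ 0) (h0 : trc σ a c = 0) : crs σ a (a * (c / shp σ a)) = c := by
  have hs := shp_ne_zero (σ := σ) ha
  obtain ⟨y, hy⟩ : ∃ y, c = y * shp σ a := ⟨c / shp σ a, (div_mul_cancel₀ _ hs).symm⟩
  subst hy
  rw [mul_div_cancel_right₀ _ hs]
  have h1 : trc σ a (y * shp σ a) = nrm σ a * (y + σ y + σ (σ y)) := by
    unfold trc nrm shp
    have e1 : a * (y * (σ a * σ (σ a))) = y * (a * σ a * σ (σ a)) := by ring
    have e2 : σ (y * (a * σ a * σ (σ a))) = σ y * (a * σ a * σ (σ a)) := by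
      rw [map_mul]
      congr 1
      exact h.fix_nrm a
    have e3 : σ (σ y * (a * σ a * σ (σ a))) = σ (σ y) * (a * σ a * σ (σ a)) := by
      rw [map_mul]
      congr 1
      exact h.fix_nrm a
    rw [e1, e2, e3]
    ring
  rw [h1] at h0
  have h2 : y + σ y + σ (σ y) = 0 := (mul_eq_zero.1 h0).resolve_left (nrm_ne_zero ha)
  have h3 : y = σ y + σ (σ y) := by
    have := h.neg_eq (σ y + σ (σ y))
    rw [add_assoc] at h2
    rw [← this]
    exact eq_neg_of_add_eq_zero_left h2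
  unfold crs shp
  rw [map_mul, map_mul]
  calc σ a * (σ (σ a) * σ (σ y)) + σ (σ a) * (σ a * σ y) = (σ y + σ (σ y)) * (σ a * σ (σ a)) := by ring
    _ = y * (σ a * σ (σ a)) := by rw [← h3]

theorem cls_even [Finite E] {k : ZMod 12} (hk : k.val % 2 = 0) {t : E} (ht : σ t = t) (ht0 : t ≠ 0) :
    Cls σ x (x k t) := by
  have key : ∃ m : Fin 6, (4 : ZMod 12) = k + 2 * ((m : ℕ) : ZMod 12) := by
    revert k; decide
  obtain ⟨m, hm⟩ := key
  have h1 := h.rot_pow m k (ok_of_fix k ht)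
  rw [← hm] at h1
  refine Cls.of_conj (b := (nn x 1 * nn x 6) ^ (m : ℕ)) (pow_mem (mul_mem (nn_mem_AA 1) (nn_mem_AA 6)) _) ?_
  rw [h1]
  refine Or.inl ⟨hh x 6 t⁻¹, hh_mem_AA 6 (ok_of_fix 6 ht).inv, ?_⟩
  rw [h.tor 6 4 (inv_ne_zero ht0) (ok_of_fix 6 ht).inv (ok_of_fix 4 ht)]
  congr 1
  have : ch σ 6 (4 - 6) t⁻¹ = t⁻¹ := rfl
  rw [this, inv_mul_cancel₀ ht0]

theorem exists_sqrt [Finite E] (a : E) : ∃ s, s * s = a := by
  have inj : Function.Injective (fun s : E => s * s) := by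
    intro s t e
    have e' : s * s = t * t := e
    have e1 : (s + t) * (s + t) = 0 := by
      have : (s + t) * (s + t) = s * s + t * t + 2 * (s * t) := by ring
      rw [this, h.two, zero_mul, add_zero, e', h.add_self]
    have e2 : s + t = 0 := mul_self_eq_zero.1 e1
    have e3 := eq_neg_of_add_eq_zero_left e2
    rwa [h.neg_eq] at e3
  exact Finite.surjective_of_injective inj a

theorem sqrt_fix {s a : E} (hs : s * s = a) (ha : σ a = a) : σ s = s := by
  have e1 : (σ s + s) * (σ s + s) = 0 := by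
    have : (σ s + s) * (σ s + s) = σ s * σ s + s * s + 2 * (σ s * s) := by ring
    rw [this, h.two, zero_mul, add_zero, ← map_mul, hs, ha, h.add_self]
  have e3 := eq_neg_of_add_eq_zero_left (mul_self_eq_zero.1 e1)
  rwa [h.neg_eq] at e3

theorem cls_x3 [Finite E] {c : E} (hc : c ≠ 0) : Cls σ x (x 3 c) := by
  obtain ⟨s, hs⟩ := h.exists_sqrt c⁻¹
  have hs0 : s ≠ 0 := by
    rintro rfl
    rw [mul_zero] at hs
    exact inv_ne_zero hc hs.symm
  refine Or.inr ⟨hh x 3 s, hh_mem_AA 3 (ok3 s), ?_⟩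
  rw [h.tor 3 3 hs0 (ok3 s) (ok3 c), sub_self, ch_zero_right, pow_two, hs, inv_mul_cancel₀ hc]

omit h in
theorem x_AA {k : ZMod 12} {a : E} (ha : Ok σ k a) : x k a ∈ AA σ x := x_mem_AA ha

theorem q3 (c : E) : q x 0 c 0 0 0 = x 3 c := by
  unfold q
  rw [h.x_zero, h.x_zero, h.x_zero, h.x_zero, mul_one, mul_one, mul_one, one_mul]
theorem q2 (b : E) : q x b 0 0 0 0 = x 2 b := by
  unfold q
  rw [h.x_zero, h.x_zero, h.x_zero, h.x_zero, mul_one, mul_one, mul_one, mul_one]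
theorem q4 (d : E) : q x 0 0 d 0 0 = x 4 d := by
  unfold q
  rw [h.x_zero, h.x_zero, h.x_zero, h.x_zero, mul_one, mul_one, one_mul, one_mul]
theorem q5 (e : E) : q x 0 0 0 e 0 = x 5 e := by
  unfold q
  rw [h.x_zero, h.x_zero, h.x_zero, h.x_zero, mul_one, one_mul, one_mul, one_mul]
theorem q6 (f : E) : q x 0 0 0 0 f = x 6 f := by
  unfold q
  rw [h.x_zero, h.x_zero, h.x_zero, h.x_zero, one_mul, one_mul, one_mul, one_mul]
theorem q_zero : q x 0 0 0 0 0 = 1 := by
  rw [h.q2, h.x_zero]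

theorem nn1_q {b c d e f : E} (hb : σ b = b) (hd : σ d = d) (hf : σ f = f) :
    nn x 1 * q x b c d e f = q x f e (d + b * f + trc σ e c) c b * nn x 1 := by
  have r2 := h.refl 1 2 (ok_of_fix 2 hb)
  have r3 := h.refl 1 3 (ok3 c)
  have r4 := h.refl 1 4 (ok_of_fix 4 hd)
  have r5 := h.refl 1 5 (ok5 e)
  have r6 := h.refl 1 6 (ok_of_fix 6 hf)
  rw [show (2 : ZMod 12) * 1 + 6 - 2 = 6 by decide] at r2
  rw [show (2 : ZMod 12) * 1 + 6 - 3 = 5 by decide] at r3
  rw [show (2 : ZMod 12) * 1 + 6 - 4 = 4 by decide] at r4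
  rw [show (2 : ZMod 12) * 1 + 6 - 5 = 3 by decide] at r5
  rw [show (2 : ZMod 12) * 1 + 6 - 6 = 2 by decide] at r6
  have z : σ (0 : E) = 0 := map_zero σ
  have e1 : nn x 1 * q x b c d e f * (nn x 1)⁻¹ =
      (nn x 1 * x 2 b * (nn x 1)⁻¹) * (nn x 1 * x 3 c * (nn x 1)⁻¹) * (nn x 1 * x 4 d * (nn x 1)⁻¹) *
        (nn x 1 * x 5 e * (nn x 1)⁻¹) * (nn x 1 * x 6 f * (nn x 1)⁻¹) := by
    unfold q
    group
  rw [← mul_inv_eq_iff_eq_mul, e1, r2, r3, r4, r5, r6, ← h.q6, ← h.q5, ← h.q4, ← h.q3, ← h.q2,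
    h.q_mul z z hb z z z, h.q_mul (by simp) (by simp [trc_zero_left]) (by simp [hb]) z hd z,
    h.q_mul (by simp) (by simp [trc_zero_left, hd]) (by simp [hb]) z z z,
    h.q_mul (by simp) (by simp [trc_zero_left, hd, h.fix_trc]) (by simp [hb]) hf z z]
  simp only [trc_zero_left, zero_add, add_zero, mul_zero, zero_mul]
  congr 1
  ring

/-- square of an element of `Q₁` -/
theorem q_sq {b c d e f : E} (hb : σ b = b) (hd : σ d = d) (hf : σ f = f)
    (h2 : q x b c d e f * q x b c d e f = 1) : b * f + trc σ c e = 0 := by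
  rw [h.q_mul hb hd hf hb hd hf, ← h.q_zero] at h2
  have z : σ (0 : E) = 0 := map_zero σ
  have t1 := h.fix_trc c e
  have := (h.q_inj (by simp [hb]) (by simp [hb, hd, hf, t1]) (by simp [hf]) z z z h2).2.2.1
  rwa [h.add_self, zero_add] at this

omit h in
theorem sq_conj {g g' b : Γ} (e : b * g = g' * b) (h2 : g * g = 1) : g' * g' = 1 := by
  have e1 : g' = b * g * b⁻¹ := by rw [e, mul_inv_cancel_right]
  rw [e1]
  calc b * g * b⁻¹ * (b * g * b⁻¹) = b * (g * g) * b⁻¹ := by group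
    _ = 1 := by rw [h2, mul_one, mul_inv_cancel]

theorem cls_1 [Finite E] {c d : E} (hc : c ≠ 0) (hd : σ d = d) : Cls σ x (q x 0 c d 0 0) := by
  have z : σ (0 : E) = 0 := map_zero σ
  refine Cls.of_eq (b := x 5 (d / c)) (x_AA (ok5 _)) ?_ (h.cls_x3 hc)
  rw [← h.q5, ← h.q3, h.q_mul z z z z hd z, h.q_mul z z z z z z]
  simp only [zero_add, add_zero, mul_zero, trc_zero_left, zero_mul, h.trc_div hc hd]
  rw [h.add_self]

theorem cls_2a [Finite E] {c d f : E} (hd : σ d = d) (hf : σ f = f) (hf0 : f ≠ 0) :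
    Cls σ x (q x 0 c d 0 f) := by
  have z : σ (0 : E) = 0 := map_zero σ
  have hdf : σ (d / f) = d / f := by rw [map_div₀, hd, hf]
  -- kill `d`
  refine Cls.of_eq (b := x 2 (d / f)) (g' := q x 0 c 0 0 f) (x_AA (ok_of_fix 2 hdf)) ?_ ?_
  · rw [← h.q2, h.q_mul hdf z z z hd hf, h.q_mul z z hf hdf z z]
    simp only [zero_add, add_zero, mul_zero, trc_zero_left, zero_mul, trc_zero_right, div_mul_cancel₀ _ hf0]
  by_cases hc : c = 0
  · subst hc
    rw [h.q6]
    exact h.cls_even (by decide) hf hf0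
  have hN := nrm_ne_zero (σ := σ) hc
  obtain ⟨l, hl⟩ := h.exists_sqrt (f / nrm σ c)
  have hlf : σ l = l := h.sqrt_fix hl (by rw [map_div₀, hf, h.fix_nrm])
  have hl2 : l * l * nrm σ c = f := by rw [hl, div_mul_cancel₀ _ hN]
  refine Cls.of_eq (b := nn x 1) (g' := q x f 0 0 c 0) (nn_mem_AA 1) ?_ ?_
  · rw [h.nn1_q z z hf]
    simp only [zero_add, add_zero, mul_zero, trc_zero_left, zero_mul, trc_zero_right]
  have h3 : ∀ t, σ t = t → t + t + t = t := fun t _ => by rw [h.add_self, zero_add]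
  have f1 : trc σ (shp σ (l * c)) c = f := by
    rw [← hl2]
    have e1 : shp σ (l * c) = l * l * shp σ c := by
      unfold shp
      rw [map_mul, map_mul, hlf, hlf]
      ring
    rw [e1, trc_smul_left (by rw [map_mul, hlf])]
    congr 1
    have : trc σ (shp σ c) c = nrm σ c + nrm σ c + nrm σ c := by
      unfold trc
      have e2 : shp σ c * c = nrm σ c := by unfold shp nrm; ring
      rw [e2, h.fix_nrm, h.fix_nrm]
    rw [this, h3 _ (h.fix_nrm c)]
  have f2 : crs σ (l * c) c = 0 := by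
    rw [crs_smul_left hlf]
    have : crs σ c c = 0 := by
      unfold crs
      rw [mul_comm, h.add_self]
    rw [this, mul_zero]
  refine Cls.of_eq (b := x 1 (l * c)) (g' := q x 0 0 (trc σ (l * c) (shp σ c)) c 0) (x_AA (ok1 _)) ?_ ?_
  · rw [h.x1_q _ hf z z, f1, f2]
    simp only [zero_add, add_zero, mul_zero, trc_zero_left, zero_mul, trc_zero_right, h.add_self,
      show (0 : E) ^ 2 = 0 by norm_num]
  have f3 := h.fix_trc (l * c) (shp σ c)
  refine Cls.of_eq (b := nn x 1) (g' := q x 0 c (trc σ (l * c) (shp σ c)) 0 0) (nn_mem_AA 1) ?_ (h.cls_1 hc f3)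
  rw [h.nn1_q z f3 z]
  simp only [zero_add, add_zero, mul_zero, trc_zero_left, zero_mul, trc_zero_right]

theorem cls_2b [Finite E] {b c d e f : E} (hb : σ b = b) (hd : σ d = d) (hf : σ f = f) (hf0 : f ≠ 0)
    (h2 : q x b c d e f * q x b c d e f = 1) : Cls σ x (q x b c d e f) := by
  have key := h.x1_q (e / f) (c := c) (e := e) hb hd hf
  have e0 : e + f * (e / f) = 0 := by rw [mul_div_cancel₀ _ hf0, h.add_self]
  rw [e0] at key
  have hsq := sq_conj key h2
  have t1 := h.fix_trc (e / f) c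
  have t2 := h.fix_trc (shp σ (e / f)) e
  have t3 := h.fix_trc (e / f) (shp σ e)
  have t4 := h.fix_nrm (e / f)
  have hB : σ (b + trc σ (e / f) c + trc σ (shp σ (e / f)) e + f * nrm σ (e / f)) =
      b + trc σ (e / f) c + trc σ (shp σ (e / f)) e + f * nrm σ (e / f) := by
    rw [map_add, map_add, map_add, map_mul, hb, t1, t2, t4, hf]
  have hD : σ (d + trc σ (e / f) (shp σ e) + f ^ 2 * nrm σ (e / f) + f * trc σ (shp σ (e / f)) e) =
      d + trc σ (e / f) (shp σ e) + f ^ 2 * nrm σ (e / f) + f * trc σ (shp σ (e / f)) e := by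
    rw [map_add, map_add, map_add, map_mul, map_mul, map_pow, hd, t2, t3, t4, hf]
  have hB0 := h.q_sq hB hD hf hsq
  rw [trc_zero_right, add_zero] at hB0
  have hB1 := (mul_eq_zero.1 hB0).resolve_right hf0
  refine Cls.of_eq (x_AA (ok1 _)) key ?_
  rw [hB1]
  exact h.cls_2a hD hf hf0

theorem cls_2c [Finite E] {b c d e f : E} (hb : σ b = b) (hd : σ d = d) (hf : σ f = f) (hb0 : b ≠ 0)
    (h2 : q x b c d e f * q x b c d e f = 1) : Cls σ x (q x b c d e f) := by
  have key := h.nn1_q (c := c) (e := e) hb hd hf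
  have hsq := sq_conj key h2
  have t1 := h.fix_trc e c
  exact Cls.of_eq (nn_mem_AA 1) key (h.cls_2b hf (by rw [map_add, map_add, map_mul, hd, hb, hf, t1]) hb hb0 hsq)

theorem cls_Q1 [Finite E] {g : Γ} (hg : g ∈ gen σ x (arc 2 5)) (h2 : g * g = 1) (h1 : g ≠ 1) : Cls σ x g := by
  obtain ⟨b, c, d, e, f, hb, hd, hf, rfl⟩ := h.mem_Q1.1 hg
  have z : σ (0 : E) = 0 := map_zero σ
  by_cases hf0 : f ≠ 0
  · exact h.cls_2b hb hd hf hf0 h2
  by_cases hb0 : b ≠ 0
  · exact h.cls_2c hb hd hf hb0 h2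
  rw [not_not] at hf0 hb0
  subst hf0 hb0
  have h3 := h.q_sq hb hd hf h2
  rw [mul_zero, zero_add] at h3
  by_cases he : e = 0
  · subst he
    by_cases hc : c = 0
    · subst hc
      have hd0 : d ≠ 0 := by
        rintro rfl
        exact h1 h.q_zero
      rw [h.q4]
      exact h.cls_even (by decide) hd hd0
    · exact h.cls_1 hc hd
  have key := h.x1_q (e * (c / shp σ e)) (c := c) (e := e) z hd z
  have h4 : crs σ (e * (c / shp σ e)) e = c := by
    rw [crs_comm, h.crs_solve he (by rw [trc_comm]; exact h3)]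
  rw [h4, h.add_self] at key
  simp only [zero_mul, add_zero, zero_add] at key
  have t1 := h.fix_trc (e * (c / shp σ e)) c
  have t2 := h.fix_trc (shp σ (e * (c / shp σ e))) e
  have t3 := h.fix_trc (e * (c / shp σ e)) (shp σ e)
  have t4 := h.fix_nrm (e * (c / shp σ e))
  have hB : σ (trc σ (e * (c / shp σ e)) c + trc σ (shp σ (e * (c / shp σ e))) e) =
      trc σ (e * (c / shp σ e)) c + trc σ (shp σ (e * (c / shp σ e))) e := by
    rw [map_add, t1, t2]
  have h02 : (0 : E) ^ 2 = 0 := by norm_num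
  have hD : σ (d + trc σ (e * (c / shp σ e)) (shp σ e) + 0 ^ 2 * nrm σ (e * (c / shp σ e))) =
      d + trc σ (e * (c / shp σ e)) (shp σ e) + 0 ^ 2 * nrm σ (e * (c / shp σ e)) := by
    rw [map_add, map_add, map_mul, h02, z, hd, t3, t4]
  refine Cls.of_eq (x_AA (ok1 _)) key ?_
  have hsq := sq_conj key h2
  by_cases hB0 : trc σ (e * (c / shp σ e)) c + trc σ (shp σ (e * (c / shp σ e))) e = 0
  · rw [hB0]
    refine Cls.of_eq (nn_mem_AA 1) (h.nn1_q z hD z) ?_
    simp only [zero_mul, add_zero, zero_add, trc_zero_right]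
    exact h.cls_1 he hD
  · exact h.cls_2c hB hD z hB0 hsq

theorem u1 (a : E) : uu x a 0 0 0 0 0 = x 1 a := by
  unfold uu
  rw [h.q_zero, mul_one]

theorem uq (b c d e f : E) : uu x 0 b c d e f = q x b c d e f := uu_zero_left b c d e f (h.x_zero 1)

/-- **Every involution of `U` is conjugate to `x 4 1` or to `x 3 1`.** -/
theorem cls_U [Finite E] {g : Γ} (hg : g ∈ UU σ x) (h2 : g * g = 1) (h1 : g ≠ 1) : Cls σ x g := by
  obtain ⟨a, b, c, d, e, f, hb, hd, hf, rfl⟩ := h.mem_UU.1 hg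
  have z : σ (0 : E) = 0 := map_zero σ
  by_cases ha : a = 0
  · subst ha
    rw [h.uq] at h1 h2 ⊢
    exact h.cls_Q1 (q_mem hb hd hf) h2 h1
  -- coordinates of the square
  have sq : ∀ {b c d e f : E}, σ b = b → σ d = d → σ f = f → uu x a b c d e f * uu x a b c d e f = 1 →
      f * a = 0 ∧ crs σ a e + f * shp σ a = 0 ∧ trc σ a c + trc σ (shp σ a) e + f * nrm σ a = 0 := by
    intro b c d e f hb hd hf h2
    rw [h.uu_mul hb hd hf hb hd hf, show (1 : Γ) = uu x 0 0 0 0 0 0 by rw [h.uq, h.q_zero]] at h2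
    have t1 := h.fix_trc a c
    have t2 := h.fix_trc (shp σ a) e
    have t3 := h.fix_trc a (shp σ e)
    have t4 := h.fix_nrm a
    have t5 := h.fix_trc c (e + f * a)
    obtain ⟨-, r2, r3, -, r5, -⟩ := h.uu_inj (by simp only [map_add, map_mul, hb, t1, t2, hf, t4])
      (by simp only [map_add, map_mul, map_pow, hb, hd, t2, t3, hf, t4, t5])
      (by rw [map_add, hf]) z z z h2
    refine ⟨?_, ?_, ?_⟩
    · calc f * a = (e + f * a + e) + (e + e) := by rw [h.add_self, add_zero, add_right_comm, h.add_self, zero_add]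
        _ = 0 := by rw [r5, h.add_self, add_zero]
    · calc crs σ a e + f * shp σ a = (c + crs σ a e + f * shp σ a + c) + 2 * -c := by ring
        _ = 0 := by rw [r3, h.two, zero_mul, add_zero]
    · calc trc σ a c + trc σ (shp σ a) e + f * nrm σ a =
          (b + trc σ a c + trc σ (shp σ a) e + f * nrm σ a + b) + 2 * -b := by ring
        _ = 0 := by rw [r2, h.two, zero_mul, add_zero]
  obtain ⟨k1, k2, -⟩ := sq hb hd hf h2
  have hf0 : f = 0 := (mul_eq_zero.1 k1).resolve_right ha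
  subst hf0
  rw [zero_mul, add_zero] at k2
  -- `e = l a`, `σ l = l`
  obtain ⟨l, rfl⟩ : ∃ l, e = l * a := ⟨e / a, (div_mul_cancel₀ _ ha).symm⟩
  have hl : σ l = l := by
    unfold crs at k2
    rw [map_mul, map_mul] at k2
    have e1 : σ a * σ (σ a) * (σ (σ l) + σ l) = 0 := by rw [← k2]; ring
    have e2 := (mul_eq_zero.1 e1).resolve_left (shp_ne_zero (σ := σ) ha)
    have e3 := eq_neg_of_add_eq_zero_left e2
    rw [h.neg_eq] at e3
    exact σ.injective e3
  have N1 := h.fix_nrm a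
  -- kill the coordinate at `5`
  have key : x 6 l * uu x a b c d (l * a) 0 =
      uu x a (b + l * nrm σ a) (c + l * shp σ a) (d + l ^ 2 * nrm σ a + b * l + trc σ c (l * a)) 0 0 * x 6 l := by
    have t5 := h.fix_trc c (l * a)
    rw [← h.q6, ← h.uq, h.uu_mul z z hl hb hd z, h.uu_mul (by simp only [map_add, map_mul, hb, hl, N1])
      (by simp only [map_add, map_mul, map_pow, hb, hd, hl, N1, t5]) z z z hl]
    simp only [zero_mul, zero_add, add_zero, mul_zero, trc_zero_right, trc_zero_left, crs_zero_left,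
      crs_zero_right, shp_zero, nrm_zero, h.add_self]
    congr 1
    · ring
    · ring
    · ring
  have hB : σ (b + l * nrm σ a) = b + l * nrm σ a := by rw [map_add, map_mul, hb, hl, N1]
  have hD : σ (d + l ^ 2 * nrm σ a + b * l + trc σ c (l * a)) = d + l ^ 2 * nrm σ a + b * l + trc σ c (l * a) := by
    have t5 := h.fix_trc c (l * a)
    simp only [map_add, map_mul, map_pow, hb, hd, hl, N1, t5]
  have h2' := sq_conj key h2
  refine Cls.of_eq (x_AA (ok_of_fix 6 hl)) key ?_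
  generalize b + l * nrm σ a = B at hB h2' ⊢
  generalize d + l ^ 2 * nrm σ a + b * l + trc σ c (l * a) = D at hD h2' ⊢
  generalize c + l * shp σ a = C at h2' ⊢
  obtain ⟨-, -, k3⟩ := sq hB hD z h2'
  rw [zero_mul, add_zero, trc_zero_right, add_zero] at k3
  -- kill the coordinate at `3`
  have hy := h.crs_solve ha k3
  generalize a * (C / shp σ a) = y at hy
  have key2 : x 5 y * uu x a B C D 0 0 =
      uu x a (B + trc σ (shp σ a) y) 0 (D + trc σ a (shp σ y) + trc σ C y) 0 0 * x 5 y := by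
    have t1 := h.fix_trc (shp σ a) y
    have t2 := h.fix_trc a (shp σ y)
    have t3 := h.fix_trc C y
    rw [← h.q5, ← h.uq, h.uu_mul z z z hB hD z, h.uu_mul (by simp only [map_add, hB, t1])
      (by simp only [map_add, hD, t2, t3]) z z z z]
    simp only [zero_mul, zero_add, add_zero, mul_zero, trc_zero_right, trc_zero_left, crs_zero_left,
      crs_zero_right, shp_zero, nrm_zero, h.add_self, hy]
    congr 1
    · ring
    · ring
  refine Cls.of_eq (x_AA (ok5 y)) key2 ?_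
  have hB' : σ (B + trc σ (shp σ a) y) = B + trc σ (shp σ a) y := by rw [map_add, hB, h.fix_trc]
  have hD' : σ (D + trc σ a (shp σ y) + trc σ C y) = D + trc σ a (shp σ y) + trc σ C y := by
    rw [map_add, map_add, hD, h.fix_trc, h.fix_trc]
  have h2'' := sq_conj key2 h2'
  generalize B + trc σ (shp σ a) y = B' at hB' h2'' ⊢
  generalize D + trc σ a (shp σ y) + trc σ C y = D' at hD' h2'' ⊢
  -- kill the coordinate at `2`
  have key3 : x 3 (B' / a) * uu x a B' 0 D' 0 0 = uu x a 0 0 D' 0 0 * x 3 (B' / a) := by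
    rw [← h.q3, ← h.uq, h.uu_mul z z z hB' hD' z, h.uu_mul z hD' z z z z]
    simp only [zero_mul, zero_add, add_zero, mul_zero, trc_zero_right, trc_zero_left, crs_zero_left,
      crs_zero_right, shp_zero, nrm_zero, h.add_self, h.trc_div ha hB', show (0 : E) ^ 2 = 0 by norm_num]
  refine Cls.of_eq (x_AA (ok3 _)) key3 ?_
  have h3 := sq_conj key3 h2''
  -- reflect into `Q₁`
  have r1 := h.refl 6 1 (ok1 a)
  have r4 := h.refl 6 4 (ok_of_fix 4 hD')
  rw [show (2 : ZMod 12) * 6 + 6 - 1 = 5 by decide] at r1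
  rw [show (2 : ZMod 12) * 6 + 6 - 4 = 2 by decide] at r4
  have key4 : nn x 6 * uu x a 0 0 D' 0 0 = q x D' 0 0 a 0 * nn x 6 := by
    rw [← mul_inv_eq_iff_eq_mul]
    unfold uu
    rw [h.q4]
    calc nn x 6 * (x 1 a * x 4 D') * (nn x 6)⁻¹ =
        (nn x 6 * x 1 a * (nn x 6)⁻¹) * (nn x 6 * x 4 D' * (nn x 6)⁻¹) := by group
      _ = x 2 D' * x 5 a := by rw [r1, r4, h.s25 hD']
      _ = _ := by
        unfold q
        rw [h.x_zero, h.x_zero, h.x_zero, mul_one, mul_one, mul_one]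
  refine Cls.of_eq (nn_mem_AA 6) key4 (h.cls_Q1 (q_mem hD' z z) (sq_conj key4 h3) ?_)
  intro e1
  rw [← h.q_zero] at e1
  exact ha (h.q_inj hD' z z z z z e1).2.2.2.1

/-! ### The two classes are different -/

/-- conjugation of `x 3` by elements of `U` -/
theorem uu_x3 {a b c d e f : E} (hb : σ b = b) (hd : σ d = d) (hf : σ f = f) (y : E) :
    uu x a b c d e f * x 3 y = q x (trc σ a y) y (trc σ y e) 0 0 * uu x a b c d e f := by
  have z : σ (0 : E) = 0 := map_zero σ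
  have t1 := h.fix_trc a y
  have t2 := h.fix_trc y e
  rw [← h.q3, ← h.uq 0 y, ← h.uq (trc σ a y), h.uu_mul hb hd hf z z z, h.uu_mul t1 t2 z hb hd hf]
  simp only [zero_mul, zero_add, add_zero, mul_zero, trc_zero_right, trc_zero_left, crs_zero_left,
    crs_zero_right, shp_zero, nrm_zero, show (0 : E) ^ 2 = 0 by norm_num]
  have e1 : trc σ a y + trc σ a y = 0 := h.add_self _
  congr 1
  · rw [e1, zero_add]
  · ring
  · ring

theorem q_234 {b c d : E} : q x b c d 0 0 = x 2 b * x 3 c * x 4 d := by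
  unfold q
  rw [h.x_zero, h.x_zero, mul_one, mul_one]

/-- an element `x 3 c`, `c ≠ 0`, is not conjugate to an element of the root group of the highest root. -/
theorem x3_not_conj [Finite E] {g : Γ} (hg : g ∈ AA σ x) {c t : E} (hc : c ≠ 0) (ht : σ t = t) :
    g * x 3 c * g⁻¹ ≠ x 4 t := by
  intro e0
  have z : σ (0 : E) = 0 := map_zero σ
  obtain ⟨u, hu, s, hs, w, hw, u', hu', rfl⟩ := h.bruhat hg
  obtain ⟨a, b, c', d, e, f, hb, hd, hf, rfl⟩ := h.mem_UU.1 hu'
  have k1 := h.uu_x3 (a := a) (c := c') (e := e) hb hd hf c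
  have t1 := h.fix_trc a c
  have t2 := h.fix_trc c e
  -- the other side
  have hcu : Commute (x 4 t) u := h.comm_gen_long (k := 4) (by decide) (ok_of_fix 4 ht) (by
    refine gen_mono ?_ hu
    intro l hl
    exact arc_mono (by norm_num) hl)
  obtain ⟨r, hr0, hr, hr'⟩ := h.H_diag (inv_mem hs) 4
  have e1 : w * q x (trc σ a c) c (trc σ c e) 0 0 * w⁻¹ = x 4 (r * t) := by
    rw [← hr' t (ok_of_fix 4 ht)]
    have e2 : u * s * w * uu x a b c' d e f * x 3 c * (u * s * w * uu x a b c' d e f)⁻¹ =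
        u * (s * (w * q x (trc σ a c) c (trc σ c e) 0 0 * w⁻¹) * s⁻¹) * u⁻¹ := by
      calc u * s * w * uu x a b c' d e f * x 3 c * (u * s * w * uu x a b c' d e f)⁻¹ =
          u * s * w * (uu x a b c' d e f * x 3 c) * (uu x a b c' d e f)⁻¹ * w⁻¹ * s⁻¹ * u⁻¹ := by group
        _ = _ := by rw [k1]; group
    rw [e2] at e0
    have e3 : s * (w * q x (trc σ a c) c (trc σ c e) 0 0 * w⁻¹) * s⁻¹ = x 4 t := by
      have : x 4 t = u * x 4 t * u⁻¹ := by rw [← hcu.eq, mul_inv_cancel_right]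
      rw [this] at e0
      exact mul_left_cancel (mul_right_cancel e0)
    rw [← e3]
    group
  obtain ⟨ε, c₀, hε, hc₀, hact⟩ := h.isW_act (h.isW_inv hw)
  have hrt : Ok σ 4 (r * t) := hr.mul (ok_of_fix 4 ht)
  have e4 : q x (trc σ a c) c (trc σ c e) 0 0 = x (ε * 4 + c₀) (r * t) := by
    rw [← hact 4 _ hrt, ← e1]
    group
  have hfix : σ (r * t) = r * t := hrt (by decide)
  -- `ε * 4 + c₀` is even
  have hev : (ε * 4 + c₀).val % 2 = 0 := by
    have : ∀ ε c₀ : ZMod 12, (ε = 1 ∨ ε = -1) → c₀.val % 2 = 0 → (ε * 4 + c₀).val % 2 = 0 := by decide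
    exact this ε c₀ hε hc₀
  have hne : r * t ≠ 0 := by
    intro h0
    rw [h0, h.x_zero, ← h.q_zero] at e4
    exact hc (h.q_inj t1 t2 z z z z e4).2.1
  have hmem : x (ε * 4 + c₀) (r * t) ∈ gen σ x (arc 1 6) := by
    rw [← e4, ← h.uq]
    exact uu_mem t1 t2 z
  have hl := h.root_mem_arc (by norm_num) (ok_of_fix _ hfix) hne hmem
  have hl' : ε * 4 + c₀ = 2 ∨ ε * 4 + c₀ = 4 ∨ ε * 4 + c₀ = 6 := by
    have : ∀ l : ZMod 12, l.val % 2 = 0 → (l - 1).val < 6 → l = 2 ∨ l = 4 ∨ l = 6 := by decide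
    exact this _ hev hl
  rcases hl' with hl' | hl' | hl'
  · rw [hl', ← h.q2] at e4
    exact hc (h.q_inj t1 t2 z hfix z z e4).2.1
  · rw [hl', ← h.q4] at e4
    exact hc (h.q_inj t1 t2 z z hfix z e4).2.1
  · rw [hl', ← h.q6] at e4
    exact hc (h.q_inj t1 t2 z z z hfix e4).2.1

end HexTwo

end Cfsg.Agent.StdRank2.Hex
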