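import Cfsg.Agent.StdRank2.HexAut

/-!
# Elements normalising `A` act as inner times field automorphisms
-/

set_option autoImplicit false
set_option maxHeartbeats 400000

namespace Cfsg.Agent.StdRank2.Hex

open Cfsg.Agent.SplitTwo
open scoped commutatorElement
open HexTwo

/-- automorphisms of a finite field commute -/
theorem field_comm {F : Type*} [Field F] [Finite F] (φ ψ : F ≃+* F) (x : F) : φ (ψ x) = ψ (φ x) := by
  by_cases hx : x = 0
  · simp [hx]
  obtain ⟨g, hg⟩ := IsCyclic.exists_generator (α := Fˣ)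
  have key : ∀ θ : F ≃+* F, ∃ i : ℤ, ∀ y : Fˣ, θ y = ((y ^ i : Fˣ) : F) := by
    intro θ
    obtain ⟨i, hi⟩ := hg (Units.map (θ : F →* F) g)
    refine ⟨i, fun y => ?_⟩
    obtain ⟨k, hk⟩ := hg y
    have h1 : Units.map (θ : F →* F) y = y ^ i := by
      have hi' : g ^ i = Units.map (θ : F →* F) g := hi
      have hk' : g ^ k = y := hk
      rw [← hk', map_zpow, ← hi', ← zpow_mul, ← zpow_mul, mul_comm]
    exact congrArg Units.val h1
  obtain ⟨i, hi⟩ := key φ
  obtain ⟨j, hj⟩ := key ψ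
  have h1 := hi (Units.mk0 x hx)
  have h2 := hj (Units.mk0 x hx)
  rw [Units.val_mk0] at h1 h2
  rw [h2, hi, h1, hj, ← zpow_mul, ← zpow_mul, mul_comm]

variable {E : Type*} [Field E] {σ : E ≃+* E} {Γ : Type*} [Group Γ] {x : ZMod 12 → E → Γ}

theorem AA_cj [Finite Γ] {c : Γ} (hc : ∀ v ∈ AA σ x, c * v * c⁻¹ ∈ AA σ x) : AA σ (cj c x) = AA σ x := by
  have e : AA σ (cj c x) = (AA σ x).map (MulAut.conj c).toMonoidHom :=
    map_gen (x := x) (y := cj c x) (MulAut.conj c).toMonoidHom (fun _ _ _ => rfl) Set.univ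
  have hle : AA σ (cj c x) ≤ AA σ x := by
    rw [e]
    rintro _ ⟨v, hv, rfl⟩
    exact hc v hv
  refine Subgroup.eq_of_le_of_card_ge hle ?_
  rw [e, Subgroup.card_map_of_injective (MulAut.conj c).injective]

/-- **OUT for `G₂(q)`, `³D₄(q)`, `q` even.** -/
theorem out [Finite E] [Finite Γ] (h : HexTwo σ x) (hN : NotTwo σ) {c : Γ}
    (hc : ∀ v ∈ AA σ x, c * v * c⁻¹ ∈ AA σ x) :
    ∃ g ∈ AA σ x, ∃ ρ : E ≃+* E, (∀ a, ρ (σ a) = σ (ρ a)) ∧
      ∀ k a, Ok σ k a → g * c * x k a * (g * c)⁻¹ = x k (ρ a) := by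
  obtain ⟨g, hg, ρ, hρ⟩ := exists_conj h (h.conj c) hN (AA_cj hc)
  refine ⟨g⁻¹, inv_mem hg, ρ, fun a => field_comm ρ σ a, fun k a ha => ?_⟩
  have h1 := hρ k a ha
  have e : g⁻¹ * c * x k a * (g⁻¹ * c)⁻¹ = g⁻¹ * (c * x k a * c⁻¹) * g := by group
  rw [e]
  change g⁻¹ * cj c x k a * g = _
  rw [h1]
  group

/-- two elements of `A` inducing the same action up to a field automorphism: the field automorphism is trivial -/
theorem center_eq_one [Finite E] (h : HexTwo σ x) {g : Γ} (hg : g ∈ AA σ x)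
    (hc : ∀ k a, Ok σ k a → g * x k a * g⁻¹ = x k a) : g = 1 := by
  have h1 : g ∈ gen σ x {4} := h.mem_X4_of hg fun v hv => by
    have : ∀ k ∈ arc 2 5, ∀ a, Ok σ k a → Commute g (x k a) := fun k _ a ha =>
      mul_inv_eq_iff_eq_mul.1 (hc k a ha)
    refine Subgroup.closure_induction (p := fun v _ => Commute g v) ?_ (Commute.one_right g)
      (fun _ _ _ _ => Commute.mul_right) (fun _ _ => Commute.inv_right) hv
    rintro _ ⟨k, hk, a, ha, rfl⟩
    exact this k hk a ha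
  obtain ⟨t, ht, rfl⟩ := h.mem_gen_singleton.1 h1
  have h2 := hc 10 1 (ok_one σ _)
  by_contra hne
  have ht0 : t ≠ 0 := fun e => hne (by rw [e, h.x_zero])
  -- `x 4 t` centralises `x 10 1`
  have ht' : σ t = t := ht (by decide)
  have h3 := h.rank_one_eq 4 (t := t⁻¹) (by exact ht.inv)
  have h4 : x 4 t * x 10 1 * (x 4 t)⁻¹ = x 10 1 := h2
  -- `x 10 1` lies in `C(x 4 t) = P₁`
  have h5 := (h.mem_centralizer_x4 (g := x 10 1) (x_mem_AA (ok_one σ _)) ht' ht0).1 (by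
    have : x 4 t * x 10 1 = x 10 1 * x 4 t := mul_inv_eq_iff_eq_mul.1 h4
    rw [← this, mul_inv_cancel_right])
  have h6 := h.mem_X7 (x_mem_gen (k := 10) (by rw [mem_arc]; decide) (ok_one σ _)) h5
  obtain ⟨b, hb, h7⟩ := h.mem_gen_singleton.1 h6
  have h8 := h.root_unique (ok_one σ 10) hb one_ne_zero h7
  revert h8; decide

end Cfsg.Agent.StdRank2.Hex
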