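import Mathlib

/-!
# Involutory automorphisms of finite fields of characteristic two
-/

set_option autoImplicit false

namespace Cfsg.Agent.StdRank2.OutField

variable {F : Type*} [Field F]

theorem finite_aut [Finite F] : Finite (F ≃+* F) :=
  Finite.of_injective (fun τ : F ≃+* F => (τ : F → F)) (fun _ _ h => RingEquiv.ext (congrFun h))

/-- the ring automorphisms as automorphisms over the prime field -/
noncomputable def toGal (p : ℕ) [Fact p.Prime] [Algebra (ZMod p) F] : (F ≃+* F) →* (F ≃ₐ[ZMod p] F) where
  toFun τ := AlgEquiv.ofRingEquiv (f := τ) (by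
    intro r
    have h : (τ : F →+* F).comp (algebraMap (ZMod p) F) = algebraMap (ZMod p) F :=
      Subsingleton.elim _ _
    exact congrArg (fun f : ZMod p →+* F => f r) h)
  map_one' := by ext x; rfl
  map_mul' a b := by ext x; rfl

theorem isCyclic [Finite F] [CharP F 2] : IsCyclic (F ≃+* F) := by
  have : Fact (Nat.Prime 2) := ⟨Nat.prime_two⟩
  letI : Algebra (ZMod 2) F := ZMod.algebra F 2
  have hinj : Function.Injective (toGal (F := F) 2) := by
    intro a b h
    ext x
    exact congrArg (fun f : F ≃ₐ[ZMod 2] F => f x) h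
  exact isCyclic_of_injective _ hinj

theorem comm [Finite F] [CharP F 2] (τ τ' : F ≃+* F) : τ * τ' = τ' * τ := by
  have h := isCyclic (F := F)
  exact (@IsCyclic.commGroup _ _ h).mul_comm τ τ'

/-- The involution of `Aut(F)` is unique. -/
theorem unique_invol [Finite F] [CharP F 2] {r s : F ≃+* F}
    (hr2 : r * r = 1) (hs2 : s * s = 1) (hr1 : r ≠ 1) (hs1 : s ≠ 1) : r = s := by
  classical
  by_contra hne
  have := isCyclic (F := F)
  have := finite_aut (F := F)
  have : Fintype (F ≃+* F) := Fintype.ofFinite _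
  have h1 := IsCyclic.card_pow_eq_one_le (α := F ≃+* F) (n := 2) (by norm_num)
  have h2 : ({1, r, s} : Finset (F ≃+* F)) ⊆ Finset.univ.filter (fun a => a ^ 2 = 1) := by
    intro a ha
    rw [Finset.mem_filter]
    refine ⟨Finset.mem_univ _, ?_⟩
    simp only [Finset.mem_insert, Finset.mem_singleton] at ha
    rcases ha with rfl | rfl | rfl
    · exact one_pow 2
    · rw [pow_two, hr2]
    · rw [pow_two, hs2]
  have h3 : ({1, r, s} : Finset (F ≃+* F)).card = 3 := by
    rw [Finset.card_eq_three]
    exact ⟨1, r, s, fun h => hr1 h.symm, fun h => hs1 h.symm, hne, rfl⟩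
  have h4 := Finset.card_le_card h2
  omega

theorem invol_apply {σ : F ≃+* F} (h2 : σ * σ = 1) (x : F) : σ (σ x) = x := by
  have := congrArg (fun τ : F ≃+* F => τ x) h2
  exact this

/-- Additive Hilbert 90 and surjectivity of the trace. -/
theorem exists_trace [CharP F 2] {σ : F ≃+* F} (h2 : σ * σ = 1) (h1 : σ ≠ 1) {a : F} (ha : σ a = a) :
    ∃ r, r + σ r = a := by
  obtain ⟨x, hx⟩ : ∃ x, σ x ≠ x := by
    by_contra h
    push Not at h
    exact h1 (RingEquiv.ext h)
  have hd : x + σ x ≠ 0 := fun h => hx (by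
    have h3 : x = -σ x := eq_neg_of_add_eq_zero_left h
    rw [CharTwo.neg_eq] at h3
    exact h3.symm)
  refine ⟨a * x * (x + σ x)⁻¹, ?_⟩
  rw [map_mul, map_mul, map_inv₀, map_add, ha, invol_apply h2, add_comm (σ x) x, ← add_mul, ← mul_add,
    mul_assoc, mul_inv_cancel₀ hd, mul_one]

/-- The order of the fixed field of an involutory automorphism. -/
theorem card_fix [Finite F] [CharP F 2] {σ : F ≃+* F} (h2 : σ * σ = 1) (h1 : σ ≠ 1) :
    Nat.card {x : F // σ x = x} * Nat.card {x : F // σ x = x} = Nat.card F := by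
  classical
  let φ : F →+ F :=
    { toFun := fun x => x + σ x
      map_zero' := by rw [map_zero, add_zero]
      map_add' := fun x y => by rw [map_add]; abel }
  have hr : ∀ y, y ∈ φ.range ↔ σ y = y := by
    intro y
    constructor
    · rintro ⟨x, rfl⟩
      show σ (x + σ x) = x + σ x
      rw [map_add, invol_apply h2, add_comm]
    · intro hy
      exact exists_trace h2 h1 hy
  have hk : ∀ y, y ∈ φ.ker ↔ σ y = y := by
    intro y
    rw [AddMonoidHom.mem_ker]
    show y + σ y = 0 ↔ _
    constructor
    · intro h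
      have h3 : y = -σ y := eq_neg_of_add_eq_zero_left h
      rw [CharTwo.neg_eq] at h3
      exact h3.symm
    · intro h
      rw [h, CharTwo.add_self_eq_zero]
  have e1 : Nat.card φ.range = Nat.card {x : F // σ x = x} := Nat.card_congr (Equiv.subtypeEquivRight hr)
  have e2 : Nat.card φ.ker = Nat.card {x : F // σ x = x} := Nat.card_congr (Equiv.subtypeEquivRight hk)
  have e3 : Nat.card (F ⧸ φ.ker) = Nat.card φ.range := Nat.card_congr (QuotientAddGroup.quotientKerEquivRange φ).toEquiv
  rw [AddSubgroup.card_eq_card_quotient_mul_card_addSubgroup φ.ker, e3, e1, e2]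

/-- Square roots. -/
theorem exists_sqrt [Finite F] [CharP F 2] (c : F) : ∃ s, s * s = c := by
  have h1 : Function.Injective (fun x : F => x * x) := by
    intro x y h
    have h3 : x * x + y * y = 0 := by
      have : x * x = y * y := h
      rw [this, CharTwo.add_self_eq_zero]
    rw [CharTwo.add_mul_self x y |>.symm] at h3
    have h4 := mul_self_eq_zero.1 h3
    have h5 : x = -y := eq_neg_of_add_eq_zero_left h4
    rwa [CharTwo.neg_eq] at h5
  exact (Finite.injective_iff_surjective.1 h1) c

/-- A set covered by two translates. -/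
theorem ncard_le_two {G : Type*} [Group G] [Finite G] {S H : Set G} (y0 : G)
    (h : ∀ y ∈ S, y ∈ H ∨ y0⁻¹ * y ∈ H) : S.ncard ≤ 2 * H.ncard := by
  have h1 : S ⊆ H ∪ (fun x => y0 * x) '' H := by
    intro y hy
    rcases h y hy with h | h
    · exact Or.inl h
    · exact Or.inr ⟨_, h, mul_inv_cancel_left y0 y⟩
  have h2 := Set.ncard_le_ncard h1 (Set.toFinite _)
  have h3 := Set.ncard_union_le H ((fun x => y0 * x) '' H)
  have h4 : ((fun x => y0 * x) '' H).ncard = H.ncard := Set.ncard_image_of_injective _ (mul_right_injective y0)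
  omega

end Cfsg.Agent.StdRank2.OutField
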