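import Cfsg.Agent.StdRank2.B2Inst

/-!
# The torus of a `B₂` package, characteristic two

`hI s = n_I(s) n_I(1)⁻¹`, `hII p q = n_II(p) n_II(q)⁻¹`: action on all eight root families, odd order of the
torus (when the reflections act as scalars on `V`), `N(U) = U H`, `U` is a Sylow 2-subgroup.
-/

set_option autoImplicit false
set_option linter.unusedSectionVars false

namespace Cfsg.Agent.StdRank2.B2Torus

open Subgroup
open Cfsg.Agent.TitsThree.B2Pkg Cfsg.Agent.TitsThree.RankTwoIdentB2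
  Cfsg.Agent.TitsThree.CoreB2 Cfsg.Agent.TitsThree.RankTwoIdx Cfsg.Agent.TitsThree.RankTwoRGD
  Cfsg.Agent.TitsThree.StdData
open Cfsg.Agent.StdRank2.OddLift Cfsg.Agent.StdRank2.B2Lift Cfsg.Agent.StdRank2.B2Std
open scoped commutatorElement Pointwise

universe u

variable {F : Type*} [Field F] {V : Type*} [AddCommGroup V] [Module F V] {D : PQDatum F V}
variable {A : Type u} [Group A]

section act

variable {m : B2Maps D A} (h : B2Rel m) {p₀ : D.T} (hp₀ : p₀.c ≠ 0)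

/-- the type I torus -/
def hI (m : B2Maps D A) (s : F) : A := nt m s * (nt m 1)⁻¹

/-- the type II torus -/
def hII (m : B2Maps D A) (p q : D.T) : A := m.nII p * (m.nII q)⁻¹

theorem hI_mem_H {s : F} (hs : s ≠ 0) : hI m s ∈ Hg m := hI_mem hs one_ne_zero
theorem hII_mem_H {p q : D.T} (hp : p.c ≠ 0) (hq : q.c ≠ 0) : hII m p q ∈ Hg m := hII_mem hp hq

include h

theorem comp_conj {g k a b c : A} (h1 : g * a * g⁻¹ = b) (h2 : k * b * k⁻¹ = c) :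
    (k * g) * a * (k * g)⁻¹ = c := by
  rw [← h2, ← h1]; group

theorem nt_one_inv : (nt m 1)⁻¹ = nt m (-1) := (nt_neg h 1).symm

include hp₀

theorem hI_x {s : F} (hs : s ≠ 0) (a : F) : hI m s * m.x a * (hI m s)⁻¹ = m.x (s * s * a) := by
  unfold hI
  rw [nt_one_inv h]
  refine (comp_conj h (h.nn_x hp₀ (neg_ne_zero.2 one_ne_zero) a) (h.nn_x' hp₀ hs _)).trans ?_
  congr 1
  rw [inv_neg, inv_one]; ring

theorem hI_x' {s : F} (hs : s ≠ 0) (a : F) :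
    hI m s * m.x' a * (hI m s)⁻¹ = m.x' (s⁻¹ * s⁻¹ * a) := by
  unfold hI
  rw [nt_one_inv h]
  refine (comp_conj h (h.nn_x' hp₀ (neg_ne_zero.2 one_ne_zero) a) (h.nn_x hp₀ hs _)).trans ?_
  congr 1
  ring

omit hp₀ in
theorem hI_y {s : F} (hs : s ≠ 0) (b : F) :
    hI m s * m.y b * (hI m s)⁻¹ = m.y (s * (D.σ s)⁻¹ * b) := by
  unfold hI
  rw [nt_one_inv h]
  refine (comp_conj h (h.nn_y (neg_ne_zero.2 one_ne_zero) b) (h.nn_y hs _)).trans ?_
  congr 1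
  simp only [map_mul, map_neg, map_one, map_inv₀, D.σσ, D.σε]
  have := D.ε_ne
  have := D.σ_ne hs
  field_simp

theorem hI_y' {s : F} (hs : s ≠ 0) (b : F) :
    hI m s * m.y' b * (hI m s)⁻¹ = m.y' (s * (D.σ s)⁻¹ * b) := by
  unfold hI
  rw [nt_one_inv h]
  refine (comp_conj h (h.nn_y' hp₀ (neg_ne_zero.2 one_ne_zero) b) (h.nn_y' hp₀ hs _)).trans ?_
  congr 1
  simp only [map_mul, map_neg, map_one, map_inv₀, D.σσ, D.σε]
  have := D.ε_ne
  have := D.σ_ne hs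
  field_simp

omit hp₀ in
theorem hI_z₁ {s : F} (hs : s ≠ 0) (p : D.T) :
    hI m s * m.z₁ p * (hI m s)⁻¹ = m.z₁ (D.sc s p) := by
  unfold hI
  rw [nt_one_inv h]
  refine (comp_conj h (h.nn_z₁ (neg_ne_zero.2 one_ne_zero) p) (h.nn_z₂ hs _)).trans ?_
  rw [D.sc_sc]
  congr 2
  rw [inv_neg, inv_one]; ring

omit hp₀ in
theorem hI_z₂ {s : F} (hs : s ≠ 0) (p : D.T) :
    hI m s * m.z₂ p * (hI m s)⁻¹ = m.z₂ (D.sc s⁻¹ p) := by
  unfold hI
  rw [nt_one_inv h]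
  refine (comp_conj h (h.nn_z₂ (neg_ne_zero.2 one_ne_zero) p) (h.nn_z₁ hs _)).trans ?_
  rw [D.sc_sc]
  congr 2
  ring

theorem hI_z₁' {s : F} (hs : s ≠ 0) (p : D.T) :
    hI m s * m.z₁' p * (hI m s)⁻¹ = m.z₁' (D.sc (D.σ s)⁻¹ p) := by
  unfold hI
  rw [nt_one_inv h]
  refine (comp_conj h (h.nn_z₁' hp₀ (neg_ne_zero.2 one_ne_zero) p) (h.nn_z₂' hp₀ hs _)).trans ?_
  rw [D.sc_sc]
  congr 2
  rw [map_neg, map_one]; ring

theorem hI_z₂' {s : F} (hs : s ≠ 0) (p : D.T) :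
    hI m s * m.z₂' p * (hI m s)⁻¹ = m.z₂' (D.sc (D.σ s) p) := by
  unfold hI
  rw [nt_one_inv h]
  refine (comp_conj h (h.nn_z₂' hp₀ (neg_ne_zero.2 one_ne_zero) p) (h.nn_z₁' hp₀ hs _)).trans ?_
  rw [D.sc_sc]
  congr 2
  rw [map_neg, map_one, inv_neg, inv_one]; ring

omit hp₀ in
theorem hII_x {p q : D.T} (hp : p.c ≠ 0) (hq : q.c ≠ 0) (a : F) :
    hII m p q * m.x a * (hII m p q)⁻¹ = m.x (p.c⁻¹ * q.c * a) := h.hII_x hp hq a

omit hp₀ in
theorem hII_x' {p q : D.T} (hp : p.c ≠ 0) (hq : q.c ≠ 0) (a : F) :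
    hII m p q * m.x' a * (hII m p q)⁻¹ = m.x' (p.c * q.c⁻¹ * a) := h.hII_x' hp hq a

omit hp₀ in
theorem hII_y {p q : D.T} (hp : p.c ≠ 0) (hq : q.c ≠ 0) (b : F) :
    hII m p q * m.y b * (hII m p q)⁻¹ = m.y (D.σ p.c * (D.σ q.c)⁻¹ * b) := by
  unfold hII
  rw [h.nII_inv]
  refine (comp_conj h (h.nII_y _ (D.inv_c_ne hq) b) (h.nII_x _ hp _)).trans ?_
  congr 1
  simp only [PQDatum.T.inv_c]
  have := D.ε_ne
  have := D.σ_ne hq
  field_simp

omit hp₀ in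
theorem hII_y' {p q : D.T} (hp : p.c ≠ 0) (hq : q.c ≠ 0) (b : F) :
    hII m p q * m.y' b * (hII m p q)⁻¹ = m.y' (p.c⁻¹ * q.c * b) := by
  unfold hII
  rw [h.nII_inv]
  refine (comp_conj h (h.nII_y' _ (D.inv_c_ne hq) b) (h.nII_x' _ hp _)).trans ?_
  congr 1
  simp only [PQDatum.T.inv_c, map_mul, map_neg, D.σσ, map_inv₀, D.σε]
  have := D.ε_ne
  have := D.σ_ne hq
  have := D.σ_ne hp
  field_simp

omit hp₀ in
theorem hII_z₁ {p q : D.T} (hp : p.c ≠ 0) (hq : q.c ≠ 0) (r : D.T) :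
    hII m p q * m.z₁ r * (hII m p q)⁻¹ = m.z₁ (D.refl p hp (D.unrefl q hq r)) := by
  unfold hII
  rw [h.nII_inv]
  exact comp_conj h (h.nII_z₁ _ (D.inv_c_ne hq) r) (h.nII_z₁ _ hp _)

omit hp₀ in
theorem hII_z₁' {p q : D.T} (hp : p.c ≠ 0) (hq : q.c ≠ 0) (r : D.T) :
    hII m p q * m.z₁' r * (hII m p q)⁻¹ = m.z₁' (D.refl p hp (D.unrefl q hq r)) := by
  unfold hII
  rw [h.nII_inv]
  exact comp_conj h (h.nII_z₁' _ (D.inv_c_ne hq) r) (h.nII_z₁' _ hp _)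

omit hp₀ in
theorem hII_z₂ {p q : D.T} (hp : p.c ≠ 0) (hq : q.c ≠ 0) (r : D.T) :
    hII m p q * m.z₂ r * (hII m p q)⁻¹ =
      m.z₂ (D.sc (p.c * q.c⁻¹) (D.refl p hp (D.unrefl q hq r))) := by
  unfold hII
  rw [h.nII_inv]
  refine (comp_conj h (h.nII_z₂ _ (D.inv_c_ne hq) r) (h.nII_z₂' _ hp _)).trans ?_
  rw [D.refl_sc, D.sc_sc]
  congr 2
  simp only [PQDatum.T.inv_c, map_mul, D.σσ, D.σε]
  have := D.ε_ne
  field_simp

omit hp₀ in
theorem hII_z₂' {p q : D.T} (hp : p.c ≠ 0) (hq : q.c ≠ 0) (r : D.T) :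
    hII m p q * m.z₂' r * (hII m p q)⁻¹ =
      m.z₂' (D.sc ((D.σ p.c)⁻¹ * D.σ q.c) (D.refl p hp (D.unrefl q hq r))) := by
  unfold hII
  rw [h.nII_inv]
  refine (comp_conj h (h.nII_z₂' _ (D.inv_c_ne hq) r) (h.nII_z₂ _ hp _)).trans ?_
  rw [D.refl_sc, D.sc_sc]
  congr 2
  simp only [PQDatum.T.inv_c, map_mul, D.σσ, D.σε]
  have := D.ε_ne
  field_simp

end act

/-- The reflections act on `V` as scalars. -/
def Scal (D : PQDatum F V) : Prop :=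
  ∀ (p : D.T) (hp : p.c ≠ 0), ∃ ν : F, ν ≠ 0 ∧ ∀ w : V, w + (p.c⁻¹ * D.h w p.w) • p.w = ν • w

theorem scal_Sp : Scal (stdSp F) := fun _ _ => ⟨1, one_ne_zero, fun _ => rfl⟩

theorem scal_U0 (σ : F ≃+* F) (hσ : ∀ x, σ (σ x) = x) : Scal (stdU0 F σ hσ) :=
  fun _ _ => ⟨1, one_ne_zero, fun _ => rfl⟩

theorem scal_U1 (σ : F ≃+* F) (hσ : ∀ x, σ (σ x) = x) : Scal (stdU1 F σ hσ) := by
  intro p hp
  have h1 : p.c + σ p.c = -(p.w * σ p.w) := p.ok
  refine ⟨-(σ p.c) * p.c⁻¹, ?_, ?_⟩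
  · exact mul_ne_zero (neg_ne_zero.2 ((stdU1 F σ hσ).σ_ne hp)) (inv_ne_zero hp)
  · intro w
    change w + (p.c⁻¹ * (w * σ p.w)) * p.w = (-(σ p.c) * p.c⁻¹) * w
    have h2 : p.w * σ p.w = -(p.c + σ p.c) := by rw [h1]; ring
    have e : w + (p.c⁻¹ * (w * σ p.w)) * p.w = w * (1 + p.c⁻¹ * (p.w * σ p.w)) := by ring
    rw [e, h2]
    field_simp
    ring

/-- `g` acts on the family `f` as multiplication by `α` -/
def ActF (g : A) (f : F → A) (α : F) : Prop := ∀ a, g * f a * g⁻¹ = f (α * a)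

/-- `g` acts on the family `f` as `(w, c) ↦ (β w, γ c)` -/
def ActT (g : A) (f : D.T → A) (β γ : F) : Prop :=
  ∀ p, ∃ q : D.T, q.w = β • p.w ∧ q.c = γ * p.c ∧ g * f p * g⁻¹ = f q

theorem ActF.mul {g k : A} {f : F → A} {α β : F} (h1 : ActF g f α) (h2 : ActF k f β) :
    ActF (g * k) f (α * β) := by
  intro a
  have : g * k * f a * (g * k)⁻¹ = g * (k * f a * k⁻¹) * g⁻¹ := by group
  rw [this, h2, h1, mul_assoc]

theorem ActF.one {f : F → A} : ActF (1 : A) f 1 := by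
  intro a; simp

theorem ActF.inv {g : A} {f : F → A} {α : F} (hα : α ≠ 0) (h1 : ActF g f α) :
    ActF g⁻¹ f α⁻¹ := by
  intro a
  have h2 := h1 (α⁻¹ * a)
  rw [← mul_assoc, mul_inv_cancel₀ hα, one_mul] at h2
  rw [← h2]; group

theorem ActF.pow {g : A} {f : F → A} {α : F} (h1 : ActF g f α) (n : ℕ) :
    ActF (g ^ n) f (α ^ n) := by
  induction n with
  | zero => simpa using ActF.one
  | succ n ih => rw [pow_succ, pow_succ]; exact ih.mul h1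

theorem ActT.mul {g k : A} {f : D.T → A} {β γ β' γ' : F} (h1 : ActT g f β γ) (h2 : ActT k f β' γ') :
    ActT (g * k) f (β * β') (γ * γ') := by
  intro p
  obtain ⟨q, hq1, hq2, hq3⟩ := h2 p
  obtain ⟨r, hr1, hr2, hr3⟩ := h1 q
  refine ⟨r, by rw [hr1, hq1, smul_smul], by rw [hr2, hq2]; ring, ?_⟩
  have : g * k * f p * (g * k)⁻¹ = g * (k * f p * k⁻¹) * g⁻¹ := by group
  rw [this, hq3, hr3]

theorem ActT.one {f : D.T → A} : ActT (1 : A) f 1 1 :=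
  fun p => ⟨p, by rw [one_smul], by rw [one_mul], by simp⟩

theorem ActT.inv [Finite D.T] {g : A} {f : D.T → A} {β γ : F} (hβ : β ≠ 0) (hγ : γ ≠ 0)
    (h1 : ActT g f β γ) : ActT g⁻¹ f β⁻¹ γ⁻¹ := by
  choose φ hφ using h1
  have hinj : Function.Injective φ := by
    intro p q hpq
    have e1 := (hφ p).1
    have e2 := (hφ q).1
    have e3 := (hφ p).2.1
    have e4 := (hφ q).2.1
    rw [hpq] at e1 e3
    ext
    · have : β • p.w = β • q.w := by rw [← e1, ← e2]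
      have := congrArg (fun w => β⁻¹ • w) this
      simpa [smul_smul, hβ] using this
    · have : γ * p.c = γ * q.c := by rw [← e3, ← e4]
      exact mul_left_cancel₀ hγ this
  have hsurj := Finite.surjective_of_injective hinj
  intro p
  obtain ⟨q, rfl⟩ := hsurj p
  refine ⟨q, ?_, ?_, ?_⟩
  · rw [(hφ q).1, smul_smul, inv_mul_cancel₀ hβ, one_smul]
  · rw [(hφ q).2.1, ← mul_assoc, inv_mul_cancel₀ hγ, one_mul]
  · rw [← (hφ q).2.2]; group

theorem ActT.pow {g : A} {f : D.T → A} {β γ : F} (h1 : ActT g f β γ) (n : ℕ) :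
    ActT (g ^ n) f (β ^ n) (γ ^ n) := by
  induction n with
  | zero => simpa using ActT.one
  | succ n ih => rw [pow_succ, pow_succ, pow_succ]; exact ih.mul h1

theorem actT_sc {g : A} {f : D.T → A} {a : F} (h1 : ∀ p, g * f p * g⁻¹ = f (D.sc a p)) :
    ActT g f (D.σ a) (a * D.σ a) := fun p => ⟨D.sc a p, rfl, rfl, h1 p⟩

theorem actT_sc_refl {g : A} {f : D.T → A} {a : F} {p q : D.T} {hp : p.c ≠ 0} {hq : q.c ≠ 0}
    {ν μ : F} (hν : ∀ w : V, w + (p.c⁻¹ * D.h w p.w) • p.w = ν • w)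
    (hμ : ∀ w : V, w + ((q⁻¹).c⁻¹ * D.h w (q⁻¹).w) • (q⁻¹).w = μ • w)
    (h1 : ∀ r, g * f r * g⁻¹ = f (D.sc a (D.refl p hp (D.unrefl q hq r)))) :
    ActT g f (D.σ a * (ν * μ)) (a * D.σ a) := by
  intro r
  refine ⟨_, ?_, ?_, h1 r⟩
  · change D.σ a • ((D.unrefl q hq r).w + _) = _
    rw [hν]
    change D.σ a • ν • (r.w + _) = _
    rw [hμ, smul_smul, smul_smul]
    congr 1
    ring
  · rfl

/-- the four simple families are acted on by nonzero scalars -/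
def IsSc (m : B2Maps D A) (g : A) : Prop :=
  (∃ α : F, α ≠ 0 ∧ ActF g m.x α) ∧ (∃ α : F, α ≠ 0 ∧ ActF g m.x' α) ∧
    (∃ β γ : F, β ≠ 0 ∧ γ ≠ 0 ∧ ActT g m.z₂ β γ) ∧ ∃ β γ : F, β ≠ 0 ∧ γ ≠ 0 ∧ ActT g m.z₂' β γ

theorem isSc_of_mem {m : B2Maps D A} [Finite D.T] (h : B2Rel m) {p₀ : D.T} (hp₀ : p₀.c ≠ 0)
    (hD : Scal D) {g : A} (hg : g ∈ Hg m) : IsSc m g := by
  refine Subgroup.closure_induction (p := fun g _ => IsSc m g) ?_ ?_ ?_ ?_ hg
  · rintro g (⟨s, t, hs, ht, rfl⟩ | ⟨p, q, hp, hq, rfl⟩)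
    · -- `nt s (nt t)⁻¹ = hI s (hI t)⁻¹`
      have key : ∀ s : F, s ≠ 0 → IsSc m (hI m s) := by
        intro s hs
        have hσ := D.σ_ne hs
        refine ⟨⟨s * s, mul_ne_zero hs hs, hI_x h hp₀ hs⟩,
          ⟨s⁻¹ * s⁻¹, mul_ne_zero (inv_ne_zero hs) (inv_ne_zero hs), hI_x' h hp₀ hs⟩,
          ⟨_, _, ?_, ?_, actT_sc (hI_z₂ h hs)⟩, ⟨_, _, ?_, ?_, actT_sc (hI_z₂' h hp₀ hs)⟩⟩
        · exact D.σ_ne (inv_ne_zero hs)
        · exact mul_ne_zero (inv_ne_zero hs) (D.σ_ne (inv_ne_zero hs))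
        · exact D.σ_ne hσ
        · exact mul_ne_zero hσ (D.σ_ne hσ)
      obtain ⟨⟨a1, b1, c1⟩, ⟨a2, b2, c2⟩, ⟨a3, b3, d3, e3, c3⟩, ⟨a4, b4, d4, e4, c4⟩⟩ := key s hs
      obtain ⟨⟨a1', b1', c1'⟩, ⟨a2', b2', c2'⟩, ⟨a3', b3', d3', e3', c3'⟩,
        ⟨a4', b4', d4', e4', c4'⟩⟩ := key t ht
      have e : nt m s * (nt m t)⁻¹ = hI m s * (hI m t)⁻¹ := by unfold hI; group
      rw [e]
      exact ⟨⟨_, mul_ne_zero b1 (inv_ne_zero b1'), c1.mul (c1'.inv b1')⟩,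
        ⟨_, mul_ne_zero b2 (inv_ne_zero b2'), c2.mul (c2'.inv b2')⟩,
        ⟨_, _, mul_ne_zero d3 (inv_ne_zero d3'), mul_ne_zero e3 (inv_ne_zero e3'),
          c3.mul (c3'.inv d3' e3')⟩,
        ⟨_, _, mul_ne_zero d4 (inv_ne_zero d4'), mul_ne_zero e4 (inv_ne_zero e4'),
          c4.mul (c4'.inv d4' e4')⟩⟩
    · obtain ⟨ν, hν, hν'⟩ := hD p hp
      obtain ⟨μ, hμ, hμ'⟩ := hD q⁻¹ (D.inv_c_ne hq)
      have hσp := D.σ_ne hp
      have hσq := D.σ_ne hq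
      have e1 : p.c * q.c⁻¹ ≠ 0 := mul_ne_zero hp (inv_ne_zero hq)
      have e2 : (D.σ p.c)⁻¹ * D.σ q.c ≠ 0 := mul_ne_zero (inv_ne_zero hσp) hσq
      exact ⟨⟨_, mul_ne_zero (inv_ne_zero hp) hq, hII_x h hp hq⟩,
        ⟨_, e1, hII_x' h hp hq⟩,
        ⟨_, _, mul_ne_zero (D.σ_ne e1) (mul_ne_zero hν hμ), mul_ne_zero e1 (D.σ_ne e1),
          actT_sc_refl hν' hμ' (hII_z₂ h hp hq)⟩,
        ⟨_, _, mul_ne_zero (D.σ_ne e2) (mul_ne_zero hν hμ), mul_ne_zero e2 (D.σ_ne e2),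
          actT_sc_refl hν' hμ' (hII_z₂' h hp hq)⟩⟩
  · exact ⟨⟨1, one_ne_zero, ActF.one⟩, ⟨1, one_ne_zero, ActF.one⟩,
      ⟨1, 1, one_ne_zero, one_ne_zero, ActT.one⟩, ⟨1, 1, one_ne_zero, one_ne_zero, ActT.one⟩⟩
  · rintro g k _ _ ⟨⟨a1, b1, c1⟩, ⟨a2, b2, c2⟩, ⟨a3, b3, d3, e3, c3⟩, ⟨a4, b4, d4, e4, c4⟩⟩
      ⟨⟨a1', b1', c1'⟩, ⟨a2', b2', c2'⟩, ⟨a3', b3', d3', e3', c3'⟩, ⟨a4', b4', d4', e4', c4'⟩⟩
    exact ⟨⟨_, mul_ne_zero b1 b1', c1.mul c1'⟩, ⟨_, mul_ne_zero b2 b2', c2.mul c2'⟩,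
      ⟨_, _, mul_ne_zero d3 d3', mul_ne_zero e3 e3', c3.mul c3'⟩,
      ⟨_, _, mul_ne_zero d4 d4', mul_ne_zero e4 e4', c4.mul c4'⟩⟩
  · rintro g _ ⟨⟨a1', b1', c1'⟩, ⟨a2', b2', c2'⟩, ⟨a3', b3', d3', e3', c3'⟩,
      ⟨a4', b4', d4', e4', c4'⟩⟩
    exact ⟨⟨_, inv_ne_zero b1', c1'.inv b1'⟩, ⟨_, inv_ne_zero b2', c2'.inv b2'⟩,
      ⟨_, _, inv_ne_zero d3', inv_ne_zero e3', c3'.inv d3' e3'⟩,
      ⟨_, _, inv_ne_zero d4', inv_ne_zero e4', c4'.inv d4' e4'⟩⟩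

namespace Std

variable (S : B2Std.Std D A)

/-- An element commuting with the four simple families is central. -/
theorem mem_center {g : A} (h1 : ∀ a, g * S.m.x a * g⁻¹ = S.m.x a)
    (h2 : ∀ a, g * S.m.x' a * g⁻¹ = S.m.x' a) (h3 : ∀ a, g * S.m.z₂ a * g⁻¹ = S.m.z₂ a)
    (h4 : ∀ a, g * S.m.z₂' a * g⁻¹ = S.m.z₂' a) : g ∈ Subgroup.center A := by
  have h5 : (⊤ : Subgroup A) ≤ Subgroup.centralizer {g} := by
    rw [← S.gen, Subgroup.closure_le]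
    rintro k (⟨a, rfl | rfl⟩ | ⟨p, rfl | rfl⟩) <;> rw [SetLike.mem_coe, mem_centralizer_singleton_iff]
    · exact (mul_inv_eq_iff_eq_mul.1 (h1 a)).symm
    · exact (mul_inv_eq_iff_eq_mul.1 (h2 a)).symm
    · exact (mul_inv_eq_iff_eq_mul.1 (h3 p)).symm
    · exact (mul_inv_eq_iff_eq_mul.1 (h4 p)).symm
  rw [mem_center_iff]
  intro k
  exact mem_centralizer_singleton_iff.1 (h5 (mem_top k))

variable [Finite F] [Finite D.T]

theorem pow_mem_center (hD : Scal D) {g : A} (hg : g ∈ S.H) :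
    g ^ (Nat.card F - 1) ∈ Subgroup.center A := by
  have := Fintype.ofFinite F
  have hpow : ∀ α : F, α ≠ 0 → α ^ (Nat.card F - 1) = 1 := by
    intro α hα
    rw [Nat.card_eq_fintype_card]
    exact FiniteField.pow_card_sub_one_eq_one α hα
  obtain ⟨⟨a1, b1, c1⟩, ⟨a2, b2, c2⟩, ⟨a3, b3, d3, e3, c3⟩, ⟨a4, b4, d4, e4, c4⟩⟩ :=
    isSc_of_mem S.rel S.hp₀ hD hg
  refine mem_center S ?_ ?_ ?_ ?_
  · intro a
    have := c1.pow (Nat.card F - 1) a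
    rwa [hpow _ b1, one_mul] at this
  · intro a
    have := c2.pow (Nat.card F - 1) a
    rwa [hpow _ b2, one_mul] at this
  · intro a
    obtain ⟨q, h1, h2, h3⟩ := c3.pow (Nat.card F - 1) a
    rw [h3]
    congr 1
    ext
    · rw [h1, hpow _ d3, one_smul]
    · rw [h2, hpow _ e3, one_mul]
  · intro a
    obtain ⟨q, h1, h2, h3⟩ := c4.pow (Nat.card F - 1) a
    rw [h3]
    congr 1
    ext
    · rw [h1, hpow _ d4, one_smul]
    · rw [h2, hpow _ e4, one_mul]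

/-- The torus has odd order. -/
theorem odd_card_H [CharP F 2] [Finite A] (hD : Scal D) (hZ : Odd (Nat.card (Subgroup.center A))) :
    Odd (Nat.card ↥S.H) := by
  have := Fintype.ofFinite F
  rw [← Nat.not_even_iff_odd]
  intro hev
  have : Fact (Nat.Prime 2) := ⟨Nat.prime_two⟩
  obtain ⟨g, hg⟩ := exists_prime_orderOf_dvd_card' 2 hev.two_dvd
  have hodd : Odd (Nat.card F - 1) := by
    have h1 : Even (Nat.card F) := by
      rw [Nat.card_eq_fintype_card]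
      have := FiniteField.even_card_of_char_two (F := F)
        (CharP.ringChar_of_prime_eq_zero Nat.prime_two (by exact_mod_cast CharP.cast_eq_zero F 2))
      exact Nat.even_iff.2 this
    have h2 : 0 < Nat.card F := Nat.card_pos
    obtain ⟨k, hk⟩ := h1
    exact ⟨k - 1, by omega⟩
  have h1 := pow_mem_center S hD g.2
  have h2 : ((g : A) ^ (Nat.card F - 1)) ^ Nat.card (Subgroup.center A) = 1 := by
    have h3 : (⟨_, h1⟩ : Subgroup.center A) ^ Nat.card (Subgroup.center A) = 1 := pow_card_eq_one'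
    exact congrArg Subtype.val h3
  rw [← pow_mul] at h2
  have h3 : orderOf (g : A) ∣ (Nat.card F - 1) * Nat.card (Subgroup.center A) :=
    orderOf_dvd_of_pow_eq_one h2
  rw [Subgroup.orderOf_coe, hg] at h3
  have h4 := hodd.mul hZ
  exact (Nat.not_even_iff_odd.2 h4) (even_iff_two_dvd.2 h3)

/-- **`N(U) = U H`.** -/
theorem normalizer_U : Subgroup.normalizer (S.U : Set A) = S.U ⊔ S.H := by
  have hle : S.U ⊔ S.H ≤ Subgroup.normalizer (S.U : Set A) := by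
    refine sup_le Subgroup.le_normalizer ?_
    intro g hg
    have h1 : ∀ g ∈ S.H, ∀ u ∈ S.U, g * u * g⁻¹ ∈ S.U := by
      intro g hg u hu
      rw [← S.r2_U] at hu ⊢
      exact S.r2.core.HU g hg u hu
    rw [mem_normalizer_iff]
    intro u
    refine ⟨h1 g hg u, fun hu => ?_⟩
    have := h1 _ (inv_mem hg) _ hu
    have e : g⁻¹ * (g * u * g⁻¹) * g⁻¹⁻¹ = u := by group
    rwa [e] at this
  have hD : S.r2.core.D = S.U ⊔ S.H := by
    have : S.r2.core.D = S.r2.U ⊔ S.H := rfl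
    rw [this, S.r2_U]
  have h1 := S.r2.core.eq_D (by norm_num) (S := Subgroup.normalizer (S.U : Set A))
    (by rw [S.core_G]; exact le_top) (by rw [hD]; exact hle) ?_ ?_
  · rw [h1, hD]
  · intro hn
    obtain ⟨a, ha⟩ := S.ndI
    apply ha
    have h2 := (mem_normalizer_iff.1 hn (S.m.x (-a))).1 (x_mem _)
    have h3 : S.r2.core.nI = S.m.nI := by
      change nt S.m 1 = _
      exact nt_one
    rw [h3, S.rel.nI_x, neg_neg] at h2
    exact h2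
  · intro hn
    obtain ⟨a, ha⟩ := S.ndJ
    apply ha
    have h2 := (mem_normalizer_iff.1 hn (S.m.z₂ (D.unrefl S.p₀ S.hp₀ (D.sc (D.σ S.p₀.c) a)))).1
      (z₂_mem _)
    have h3 : S.r2.core.nJ = S.m.nII S.p₀ := rfl
    have h4 := S.rel.nII_z₂ S.p₀ S.hp₀ (D.unrefl S.p₀ S.hp₀ (D.sc (D.σ S.p₀.c) a))
    rw [D.refl_unrefl, D.sc_sc, inv_mul_cancel₀ (D.σ_ne S.hp₀), D.sc_one] at h4
    rw [h3, h4] at h2
    exact h2

end Std

/-- a `p`-subgroup whose index in its normaliser is prime to `p` is a Sylow subgroup -/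
theorem exists_sylow_eq {p : ℕ} [Fact p.Prime] {G : Type*} [Group G] [Finite G] {U : Subgroup G}
    (hU : IsPGroup p U) {H : Subgroup G} (hN : Subgroup.normalizer (U : Set G) = U ⊔ H)
    (hH : ¬ p ∣ Nat.card H) : ∃ P : Sylow p G, (P : Subgroup G) = U := by
  obtain ⟨P, hP⟩ := hU.exists_le_sylow
  refine ⟨P, ?_⟩
  by_contra hne
  have hlt : U < (P : Subgroup G) := lt_of_le_of_ne hP (Ne.symm hne)
  have hPn : Group.IsNilpotent ↥(P : Subgroup G) := P.isPGroup'.isNilpotent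
  have hNC : NormalizerCondition ↥(P : Subgroup G) := Group.normalizerCondition_of_isNilpotent
  have h1 : U.subgroupOf P < ⊤ := by
    rw [lt_top_iff_ne_top]
    intro h
    rw [Subgroup.subgroupOf_eq_top] at h
    exact hne (le_antisymm h hP)
  have h2 := hNC _ h1
  obtain ⟨g, hg, hgU⟩ := SetLike.exists_of_lt h2
  have hgN : (g : G) ∈ Subgroup.normalizer (U : Set G) := by
    rw [mem_normalizer_iff] at hg ⊢
    intro u
    constructor
    · intro hu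
      have := (hg ⟨u, hP hu⟩).1 (by rw [mem_subgroupOf]; exact hu)
      rw [mem_subgroupOf] at this
      exact this
    · intro hu
      have hu' : u ∈ (P : Subgroup G) := by
        have := mul_mem (mul_mem (inv_mem g.2) (hP hu)) g.2
        have e : (g : G)⁻¹ * (g * u * (g : G)⁻¹) * g = u := by group
        rwa [e] at this
      have := (hg ⟨u, hu'⟩).2 (by rw [mem_subgroupOf]; exact hu)
      rw [mem_subgroupOf] at this
      exact this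
  -- `g` is a `p`-element of `U H` outside `U`
  have hgU' : (g : G) ∉ U := fun h => hgU (by rw [mem_subgroupOf]; exact h)
  let N : Subgroup G := Subgroup.normalizer (U : Set G)
  have hUN : U ≤ N := Subgroup.le_normalizer
  let U' : Subgroup ↥N := U.subgroupOf N
  have hnor : U'.Normal := Subgroup.normal_in_normalizer
  let g' : ↥N := ⟨g, hgN⟩
  have hHN : H ≤ N := by rw [show N = U ⊔ H from hN]; exact le_sup_right
  -- the quotient has order prime to `p`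
  have hq : Function.Surjective (fun k : ↥H => (QuotientGroup.mk (⟨k, hHN k.2⟩ : ↥N) : ↥N ⧸ U')) := by
    intro y
    induction y using QuotientGroup.induction_on with | _ y => ?_
    have hy : (y : G) ∈ U ⊔ H := by rw [← hN]; exact y.2
    have hn : H ≤ Subgroup.normalizer (U : Set G) := hHN
    have h3 : (↑(U ⊔ H) : Set G) = (U : Set G) * (H : Set G) :=
      Subgroup.coe_mul_of_right_le_normalizer_left U H hn
    have h4 : (y : G) ∈ (↑(U ⊔ H) : Set G) := hy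
    rw [h3, Set.mem_mul] at h4
    obtain ⟨u, hu, k, hk, e⟩ := h4
    refine ⟨⟨k, hk⟩, ?_⟩
    rw [eq_comm, QuotientGroup.eq]
    -- `y⁻¹ k ∈ U'`
    have h5 : y⁻¹ * ⟨k, hHN hk⟩ = (⟨k, hHN hk⟩ : ↥N)⁻¹ * ⟨u, hUN hu⟩⁻¹ * ⟨k, hHN hk⟩ := by
      apply Subtype.ext
      change (y : G)⁻¹ * k = k⁻¹ * u⁻¹ * k
      rw [← e]; group
    rw [h5]
    have h6 : (⟨u, hUN hu⟩ : ↥N)⁻¹ ∈ U' := inv_mem (by rw [mem_subgroupOf]; exact hu)
    have := hnor.conj_mem _ h6 (⟨k, hHN hk⟩ : ↥N)⁻¹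
    rwa [inv_inv] at this
  let φ : ↥H →* ↥N ⧸ U' := (QuotientGroup.mk' U').comp (Subgroup.inclusion hHN)
  have hφ : Function.Surjective φ := hq
  have hcard : ¬ p ∣ Nat.card (↥N ⧸ U') := fun h =>
    hH (h.trans (Subgroup.card_dvd_of_surjective φ hφ))
  have h7 : (QuotientGroup.mk g' : ↥N ⧸ U') = 1 := by
    obtain ⟨k, hk⟩ := P.isPGroup' g
    have h8 : (QuotientGroup.mk g' : ↥N ⧸ U') ^ (p ^ k) = 1 := by
      rw [← QuotientGroup.mk_pow]
      have : g' ^ (p ^ k) = 1 := Subtype.ext (by simpa using congrArg Subtype.val hk)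
      rw [this]; rfl
    have h9 : orderOf (QuotientGroup.mk g' : ↥N ⧸ U') ∣ p ^ k := orderOf_dvd_of_pow_eq_one h8
    obtain ⟨j, -, hj⟩ := (Nat.dvd_prime_pow (Fact.out : p.Prime)).1 h9
    rcases Nat.eq_zero_or_pos j with rfl | hj0
    · rw [pow_zero, orderOf_eq_one_iff] at hj
      exact hj
    · exfalso
      apply hcard
      have : p ∣ orderOf (QuotientGroup.mk g' : ↥N ⧸ U') := by
        rw [hj]; exact dvd_pow_self p (by omega)
      exact this.trans (orderOf_dvd_natCard _)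
  rw [QuotientGroup.eq_one_iff] at h7
  exact hgU' (mem_subgroupOf.1 h7)

/-- `U` is a Sylow 2-subgroup. -/
theorem Std.exists_sylow [CharP F 2] [Finite F] [Finite D.T] [Finite A] (S : B2Std.Std D A)
    (hD : Scal D) (hZ : Odd (Nat.card (Subgroup.center A))) :
    ∃ P : Sylow 2 A, (P : Subgroup A) = S.U := by
  have : Fact (Nat.Prime 2) := ⟨Nat.prime_two⟩
  have h1 : ¬ 2 ∣ Nat.card ↥S.H := by
    have := Std.odd_card_H S hD hZ
    rw [← Nat.not_even_iff_odd, even_iff_two_dvd] at this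
    exact this
  exact exists_sylow_eq (isPGroup_pos S.rel) (Std.normalizer_U S) h1

end Cfsg.Agent.StdRank2.B2Torus
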