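import Cfsg.Agent.StdRank2.B2Std
import Cfsg.Agent.TitsThree.KInstSp
import Cfsg.Agent.TitsThree.KInstU

/-!
# Nondegenerate `B₂` packages in `PSp₄`, `PSU₄`, `PSU₅` (characteristic two) and in their odd covers
-/

set_option autoImplicit false
set_option linter.unusedSectionVars false

namespace Cfsg.Agent.StdRank2.B2Inst

open Subgroup
open Cfsg.Agent.TitsThree.B2Pkg Cfsg.Agent.TitsThree.RankTwoIdentB2 Cfsg.Agent.TitsThree.Pack
  Cfsg.Agent.TitsThree.CoreB2 Cfsg.Agent.TitsThree.RankTwoIdx Cfsg.Agent.TitsThree.RankTwoRGD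
  Cfsg.Agent.TitsThree.StdData
open Cfsg.Agent.StdRank2.OddLift Cfsg.Agent.StdRank2.B2Lift Cfsg.Agent.StdRank2.B2Std
open scoped commutatorElement

universe u

variable {F : Type*} [Field F] {V : Type*} [AddCommGroup V] [Module F V] {D : PQDatum F V}

/-- A generating package in a finite non-abelian simple group is nondegenerate. -/
theorem nondeg [CharP F 2] {K : Type u} [Group K] [IsSimpleGroup K]
    (hK : ¬ IsPGroup 2 K) {m : B2Maps D K} (h : B2Rel m) {p₀ : D.T} (hp₀ : p₀.c ≠ 0)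
    (gen : Subgroup.closure (genSet m) = ⊤) :
    (∃ a, m.x' a ∉ UU m) ∧ ∃ p, m.z₂' p ∉ UU m := by
  have hn : NIRel m := Cfsg.Agent.TitsThree.B2NI.nirel h hp₀
  let c : R2 4 K := Cfsg.Agent.TitsThree.CoreB2.r2 h hn p₀ hp₀
  have hU : c.U ≤ UU m := Cfsg.Agent.TitsThree.RankTwoIdentB2.U_le h hn p₀ hp₀
  have hU' : UU m ≤ c.U := by
    unfold UU
    rw [Subgroup.closure_le]
    rintro g (⟨a, rfl | rfl⟩ | ⟨p, rfl | rfl⟩)
    · exact c.X_le (k := 1) le_rfl (by norm_num) ⟨a, rfl⟩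
    · exact c.X_le (k := 3) (by norm_num) (by norm_num) ⟨a, rfl⟩
    · exact c.X_le (k := 2) (by norm_num) (by norm_num) ⟨p, rfl⟩
    · exact c.X_le (k := 4) (by norm_num) (by norm_num) ⟨p, rfl⟩
  have hpU : IsPGroup 2 (UU m) := isPGroup_pos h
  -- a subgroup of `U` whose normaliser contains all generators is trivial
  have key : ∀ P : Subgroup K, P ≤ UU m → (∀ g ∈ genSet m, ∀ v ∈ P, g * v * g⁻¹ ∈ P) → P = ⊥ := by
    intro P hP h1
    have hinv : ∀ g ∈ genSet m, g⁻¹ ∈ genSet m := by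
      rintro g (⟨a, rfl | rfl⟩ | ⟨p, rfl | rfl⟩)
      · exact Or.inl ⟨-a, Or.inl (add_neg' h.x_add a).symm⟩
      · exact Or.inl ⟨-a, Or.inr (add_neg' h.x'_add a).symm⟩
      · exact Or.inr ⟨p⁻¹, Or.inl (mul_inv' h.z₂_mul p).symm⟩
      · exact Or.inr ⟨p⁻¹, Or.inr (mul_inv' h.z₂'_mul p).symm⟩
    have h2 : (⊤ : Subgroup K) ≤ Subgroup.normalizer (P : Set K) := by
      rw [← gen, Subgroup.closure_le]
      intro g hg
      rw [SetLike.mem_coe, Subgroup.mem_normalizer_iff]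
      intro v
      refine ⟨h1 g hg v, fun hv => ?_⟩
      have h3 := h1 _ (hinv g hg) _ hv
      have e : g⁻¹ * (g * v * g⁻¹) * g⁻¹⁻¹ = v := by group
      rwa [e] at h3
    have h3 : P.Normal := by
      rw [← Subgroup.normalizer_eq_top_iff, eq_top_iff]
      exact h2
    rcases h3.eq_bot_or_eq_top with h4 | h4
    · exact h4
    · exfalso
      apply hK
      rw [h4] at hP
      intro g
      obtain ⟨k, hk⟩ := hpU ⟨g, hP (mem_top g)⟩
      exact ⟨k, by simpa using congrArg Subtype.val hk⟩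
  have hbot : Nontrivial K := IsSimpleGroup.toNontrivial
  -- everything trivial is impossible
  have fin : (∀ a, m.x a = 1) → (∀ p, m.z₂ p = 1) → (∀ a, m.x' a = 1) → (∀ p, m.z₂' p = 1) → False := by
    intro h1 h2 h3 h4
    have : (⊤ : Subgroup K) ≤ ⊥ := by
      rw [← gen, Subgroup.closure_le]
      rintro g (⟨a, rfl | rfl⟩ | ⟨p, rfl | rfl⟩)
      · exact h1 a
      · exact h3 a
      · exact h2 p
      · exact h4 p
    exact absurd (le_antisymm this bot_le) (by
      intro hh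
      exact (bot_ne_top (α := Subgroup K)) hh.symm)
  constructor
  · by_contra hcon
    push Not at hcon
    -- `VJ` is normal
    have hnI : ∀ g ∈ UU m, ∀ v ∈ c.VJ, g * v * g⁻¹ ∈ c.VJ := by
      intro g hg v hv
      have hg' := hU' hg
      rw [c.U_eq_J] at hg'
      obtain ⟨w, hw, a, ha, rfl⟩ := R2.decomp_aux c.Xm_VJ hg'
      have h1 := c.Xm_VJ a ha v hv
      have e : w * a * v * (w * a)⁻¹ = w * (a * v * a⁻¹) * w⁻¹ := by group
      rw [e]
      exact mul_mem (mul_mem hw h1) (inv_mem hw)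
    have hnJ : ∀ v ∈ c.VJ, m.nII p₀ * v * (m.nII p₀)⁻¹ ∈ c.VJ := c.core.sJ.nV
    have hH : ∀ g ∈ Hg m, ∀ v ∈ c.VJ, g * v * g⁻¹ ∈ c.VJ := fun g hg =>
      R2.conj_iSup fun k hk x hx => c.X_le_VJ hk.1 hk.2 (c.HX g hg k hk.1 hk.2.le x hx)
    have hnJ' : ∀ v ∈ c.VJ, (m.nII p₀)⁻¹ * v * m.nII p₀ ∈ c.VJ := by
      intro v hv
      have h1 := hH _ (inv_mem (nII_mul_mem h hp₀ hp₀)) _ hv
      have h2 := hnJ _ h1
      have e : m.nII p₀ * ((m.nII p₀ * m.nII p₀)⁻¹ * v * (m.nII p₀ * m.nII p₀)⁻¹⁻¹) * (m.nII p₀)⁻¹ =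
        (m.nII p₀)⁻¹ * v * m.nII p₀ := by group
      rwa [e] at h2
    have hVJ := key c.VJ (c.VJ_le.trans hU) (by
      rintro g (⟨a, rfl | rfl⟩ | ⟨p, rfl | rfl⟩)
      · exact hnI _ (x_mem a)
      · exact hnI _ (hcon a)
      · exact hnI _ (z₂_mem p)
      · intro v hv
        -- `z₂' p = n z₂(r) n⁻¹`
        have h1 := h.nII_z₂ p₀ hp₀ (D.unrefl p₀ hp₀ (D.sc (D.σ p₀.c) p))
        rw [D.refl_unrefl, D.sc_sc, inv_mul_cancel₀ (D.σ_ne hp₀), D.sc_one] at h1
        rw [← h1]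
        have h2 := hnJ _ (hnI _ (z₂_mem (D.unrefl p₀ hp₀ (D.sc (D.σ p₀.c) p))) _ (hnJ' v hv))
        have e : ∀ n z : K, n * (z * (n⁻¹ * v * n) * z⁻¹) * n⁻¹ = n * z * n⁻¹ * v * (n * z * n⁻¹)⁻¹ := by
          intro n z; group
        rwa [e] at h2)
    have hx1 : ∀ a, m.x a = 1 := by
      intro a
      have : m.x a ∈ c.VJ := c.X_le_VJ (k := 1) (by norm_num) (by norm_num) ⟨a, rfl⟩
      rwa [hVJ, Subgroup.mem_bot] at this
    have hz1 : ∀ a, m.z₁ a = 1 := by
      intro a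
      have : m.z₁ a ∈ c.VJ := c.X_le_VJ (k := 2) (by norm_num) (by norm_num) ⟨a, rfl⟩
      rwa [hVJ, Subgroup.mem_bot] at this
    have hx1' : ∀ a, m.x' a = 1 := by
      intro a
      have := h.nI_x (-a)
      rw [hx1, neg_neg] at this
      rw [← this]; group
    have hz2 : ∀ p, m.z₂ p = 1 := by
      intro p
      have := h.nI_z₂ p
      rw [hz1] at this
      have e : m.z₂ p = m.nI⁻¹ * (m.nI * m.z₂ p * m.nI⁻¹) * m.nI := by group
      rw [e, this]; group
    refine fin hx1 hz2 hx1' ?_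
    intro p
    have h1 := h.nII_z₂ p₀ hp₀ (D.unrefl p₀ hp₀ (D.sc (D.σ p₀.c) p))
    rw [D.refl_unrefl, D.sc_sc, inv_mul_cancel₀ (D.σ_ne hp₀), D.sc_one, hz2] at h1
    rw [← h1]; group
  · by_contra hcon
    push Not at hcon
    have hnI : ∀ g ∈ UU m, ∀ v ∈ c.VI, g * v * g⁻¹ ∈ c.VI := by
      intro g hg v hv
      have hg' := hU' hg
      rw [c.U_eq_I] at hg'
      obtain ⟨w, hw, a, ha, rfl⟩ := R2.decomp_aux c.X1_VI hg'
      have h1 := c.X1_VI a ha v hv
      have e : w * a * v * (w * a)⁻¹ = w * (a * v * a⁻¹) * w⁻¹ := by group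
      rw [e]
      exact mul_mem (mul_mem hw h1) (inv_mem hw)
    have hnn : ∀ v ∈ c.VI, nt m 1 * v * (nt m 1)⁻¹ ∈ c.VI := c.core.sI.nV
    have hH : ∀ g ∈ Hg m, ∀ v ∈ c.VI, g * v * g⁻¹ ∈ c.VI := fun g hg =>
      R2.conj_iSup fun k hk x hx => c.X_le_VI hk.1 hk.2 (c.HX g hg k (by have := hk.1; omega) hk.2 x hx)
    have hnn' : ∀ v ∈ c.VI, (nt m 1)⁻¹ * v * nt m 1 ∈ c.VI := by
      intro v hv
      have h1 := hH _ (inv_mem (nt_mul_mem h one_ne_zero one_ne_zero)) _ hv
      have h2 := hnn _ h1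
      have e : nt m 1 * ((nt m 1 * nt m 1)⁻¹ * v * (nt m 1 * nt m 1)⁻¹⁻¹) * (nt m 1)⁻¹ =
        (nt m 1)⁻¹ * v * nt m 1 := by group
      rwa [e] at h2
    have hVI := key c.VI (c.VI_le.trans hU) (by
      rintro g (⟨a, rfl | rfl⟩ | ⟨p, rfl | rfl⟩)
      · exact hnI _ (x_mem a)
      · intro v hv
        have h1 := h.nI_x (-a)
        rw [neg_neg] at h1
        rw [← nt_one] at h1
        rw [← h1]
        have h2 := hnn _ (hnI _ (x_mem (-a)) _ (hnn' v hv))
        have e : ∀ n z : K, n * (z * (n⁻¹ * v * n) * z⁻¹) * n⁻¹ = n * z * n⁻¹ * v * (n * z * n⁻¹)⁻¹ := by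
          intro n z; group
        rwa [e] at h2
      · exact hnI _ (z₂_mem p)
      · exact hnI _ (hcon p))
    have hy1 : ∀ a, m.y a = 1 := by
      intro a
      have : m.y a ∈ c.VI := c.X_le_VI (k := 3) (by norm_num) (by norm_num) ⟨a, rfl⟩
      rwa [hVI, Subgroup.mem_bot] at this
    have hz2 : ∀ a, m.z₂ a = 1 := by
      intro a
      have : m.z₂ a ∈ c.VI := c.X_le_VI (k := 4) (by norm_num) (by norm_num) ⟨a, rfl⟩
      rwa [hVI, Subgroup.mem_bot] at this
    have hx1 : ∀ a, m.x a = 1 := by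
      intro a
      have := h.nII_x p₀ hp₀ a
      rw [hy1] at this
      have e : m.x a = (m.nII p₀)⁻¹ * (m.nII p₀ * m.x a * (m.nII p₀)⁻¹) * m.nII p₀ := by group
      rw [e, this]; group
    have hx1' : ∀ a, m.x' a = 1 := by
      intro a
      have := h.nI_x (-a)
      rw [hx1, neg_neg] at this
      rw [← this]; group
    refine fin hx1 hz2 hx1' ?_
    intro p
    have h1 := h.nII_z₂ p₀ hp₀ (D.unrefl p₀ hp₀ (D.sc (D.σ p₀.c) p))
    rw [D.refl_unrefl, D.sc_sc, inv_mul_cancel₀ (D.σ_ne hp₀), D.sc_one, hz2] at h1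
    rw [← h1]; group

/-- From a `KCN` package of type `C₂` in a finite simple group. -/
theorem exists_std [CharP F 2] {K : Type u} [Group K] [IsSimpleGroup K]
    (hK : ¬ IsPGroup 2 K) (k : KCN K D 1) {p₀ : D.T} (hp₀ : p₀.c ≠ 0) :
    ∃ S : Std D K, S.m = k.b2 := by
  have gen : Subgroup.closure (genSet k.b2) = ⊤ := by
    rw [← k.gen]
    congr 1
    have hl := k.last 0 rfl
    ext g
    constructor
    · rintro (⟨a, rfl | rfl⟩ | ⟨p, h⟩)
      · exact Or.inl ⟨0, a, Or.inl (by rw [hl.1])⟩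
      · exact Or.inl ⟨0, a, Or.inr (by rw [hl.2])⟩
      · exact Or.inr ⟨p, h⟩
    · rintro (⟨i, a, rfl | rfl⟩ | ⟨p, h⟩)
      · obtain rfl : i = 0 := Subsingleton.elim _ _
        exact Or.inl ⟨a, Or.inl (by rw [hl.1])⟩
      · obtain rfl : i = 0 := Subsingleton.elim _ _
        exact Or.inl ⟨a, Or.inr (by rw [hl.2])⟩
      · exact Or.inr ⟨p, h⟩
  obtain ⟨h1, h2⟩ := nondeg hK k.rel hp₀ gen
  exact ⟨⟨k.b2, k.rel, p₀, hp₀, gen, h1, h2⟩, rfl⟩

/-- Lifting through a central kernel of odd order. -/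
theorem Std.exists_lift [CharP F 2] {K : Type*} [Group K] {A : Type u} [Group A] [Finite A]
    {f : A →* K} (c : Cov f) (hA : _root_.commutator A = ⊤) (S : Std D K) :
    ∃ S' : Std D A, S'.m.map f = S.m ∧ S'.m = lm c S.m := by
  have hmap := map_lm c S.rel
  have hUU : ∀ g ∈ UU (lm c S.m), f g ∈ UU S.m := by
    intro g hg
    have h1 : UU (lm c S.m) ≤ (UU S.m).comap f := by
      unfold UU
      rw [Subgroup.closure_le]
      obtain ⟨i1, i2, i3, i4, i5, i6, i7, i8⟩ := isTwo_all S.rel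
      rintro g (⟨a, rfl | rfl⟩ | ⟨p, rfl | rfl⟩)
      · exact (show f (lift c (S.m.x a)) ∈ _ by rw [map_lift c (i1 a)]; exact x_mem a)
      · exact (show f (lift c (S.m.y a)) ∈ _ by rw [map_lift c (i3 a)]; exact y_mem a)
      · exact (show f (lift c (S.m.z₁ p)) ∈ _ by rw [map_lift c (i5 p)]; exact z₁_mem p)
      · exact (show f (lift c (S.m.z₂ p)) ∈ _ by rw [map_lift c (i6 p)]; exact z₂_mem p)
    exact h1 hg
  obtain ⟨i1, i2, i3, i4, i5, i6, i7, i8⟩ := isTwo_all S.rel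
  refine ⟨⟨lm c S.m, rel c S.rel, S.p₀, S.hp₀, gen c S.rel hA S.gen, ?_, ?_⟩, hmap, rfl⟩
  · obtain ⟨a, ha⟩ := S.ndI
    refine ⟨a, fun h => ha ?_⟩
    have := hUU _ h
    rwa [show f ((lm c S.m).x' a) = S.m.x' a from map_lift c (i2 a)] at this
  · obtain ⟨a, ha⟩ := S.ndJ
    refine ⟨a, fun h => ha ?_⟩
    have := hUU _ h
    rwa [show f ((lm c S.m).z₂' a) = S.m.z₂' a from map_lift c (i8 a)] at this

/-- A simple group generated by a package over a field with more than two elements is not a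
2-group. -/
theorem not_isPGroup [CharP F 2] {K : Type u} [Group K] [Finite K] [IsSimpleGroup K]
    (hF : ∃ s : F, s ≠ 0 ∧ s ≠ 1) {m : B2Maps D K} (h : B2Rel m) {p₀ : D.T} (hp₀ : p₀.c ≠ 0)
    (gen : Subgroup.closure (genSet m) = ⊤) : ¬ IsPGroup 2 K := by
  intro hK
  have hnt : Nontrivial K := IsSimpleGroup.toNontrivial
  have hc : Subgroup.center K = ⊤ := by
    have : Fact (Nat.Prime 2) := ⟨Nat.prime_two⟩
    have h1 : Nontrivial (Subgroup.center K) := hK.center_nontrivial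
    rcases (inferInstance : (Subgroup.center K).Normal).eq_bot_or_eq_top with h2 | h2
    · exfalso
      rw [h2] at h1
      exact (not_nontrivial_iff_subsingleton.2 inferInstance) h1
    · exact h2
  have comm : ∀ g k : K, g * k * g⁻¹ = k := by
    intro g k
    have hk : k ∈ Subgroup.center K := by rw [hc]; exact mem_top _
    rw [mem_center_iff.1 hk g]; group
  have h2 : ∀ a : F, a + a = 0 := fun a => CharTwo.add_self_eq_zero a
  obtain ⟨s, hs, hs1⟩ := hF
  have hn : NIRel m := Cfsg.Agent.TitsThree.B2NI.nirel h hp₀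
  -- `x a = x (s * s * a)`
  have hx : ∀ a, m.x a = 1 := by
    intro a
    have h3 : ∀ a, m.x a = m.x (s * s * a) := by
      intro a
      have h4 := h.nn_x hp₀ hs (s * s * a)
      have h5 := h.nn_x hp₀ (one_ne_zero (α := F)) a
      rw [comm] at h4 h5
      have e1 : s⁻¹ * s⁻¹ * (s * s * a) = a := by field_simp
      have e2 : (1 : F)⁻¹ * 1⁻¹ * a = a := by rw [inv_one]; ring
      rw [e1] at h4
      rw [e2] at h5
      rw [h4, h5]
    have h6 : s * s + 1 ≠ 0 := by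
      intro h7
      have h8 : (s + 1) * (s + 1) = 0 := by linear_combination h7 + h2 s
      rcases mul_self_eq_zero.1 h8 with h9
      exact hs1 (by linear_combination h9 - h2 1)
    have h7 := h3 ((s * s + 1)⁻¹ * a)
    have h8 : m.x (s * s * ((s * s + 1)⁻¹ * a) + (s * s + 1)⁻¹ * a) = 1 := by
      rw [h.x_add, ← h7, ← h.x_add, h2, add_zero' h.x_add]
    have e : s * s * ((s * s + 1)⁻¹ * a) + (s * s + 1)⁻¹ * a = a := by
      have e0 : (s * s + 1) * (s * s + 1)⁻¹ = 1 := mul_inv_cancel₀ h6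
      linear_combination a * e0
    rwa [e] at h8
  have hx' : ∀ a, m.x' a = 1 := by
    intro a
    have := h.nI_x (-a)
    rw [comm, neg_neg, hx] at this
    exact this.symm
  have hy : ∀ a, m.y a = 1 := by
    intro a
    have h3 := h.nII_y p₀ hp₀ a
    rw [comm, hx] at h3
    exact h3
  have hz : ∀ p, m.z₂ p = 1 := by
    intro p
    have h3 := h.x_z₂ 1 p
    rw [hx, hy, mul_one, D.sc_one] at h3
    have h4 := h.nI_z₂ p
    rw [comm] at h4
    rw [h4, ← h3, commutatorElement_def]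
    group
  have hz' : ∀ p, m.z₂' p = 1 := by
    intro p
    have h1 := h.nII_z₂ p₀ hp₀ (D.unrefl p₀ hp₀ (D.sc (D.σ p₀.c) p))
    rw [D.refl_unrefl, D.sc_sc, inv_mul_cancel₀ (D.σ_ne hp₀), D.sc_one, hz] at h1
    rw [← h1]; group
  have : (⊤ : Subgroup K) ≤ ⊥ := by
    rw [← gen, Subgroup.closure_le]
    rintro g (⟨a, rfl | rfl⟩ | ⟨p, rfl | rfl⟩)
    · exact hx a
    · exact hx' a
    · exact hz p
    · exact hz' p
  exact (bot_ne_top (α := Subgroup K)) (le_antisymm this bot_le).symm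

theorem exists_ne {F : Type*} [Field F] [Finite F] (h : 3 ≤ Nat.card F) : ∃ s : F, s ≠ 0 ∧ s ≠ 1 := by
  classical
  have := Fintype.ofFinite F
  by_contra hcon
  push Not at hcon
  have h1 : (Finset.univ : Finset F) ⊆ {0, 1} := by
    intro s _
    by_cases hs : s = 0
    · simp [hs]
    · simp [hcon s hs]
  have h2 := Finset.card_le_card h1
  rw [Finset.card_univ, ← Nat.card_eq_fintype_card] at h2
  have h3 : ({0, 1} : Finset F).card ≤ 2 := Finset.card_le_two
  omega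

theorem exists_std' [CharP F 2] [Finite F] (hF : 3 ≤ Nat.card F) {K : Type u} [Group K] [Finite K]
    [IsSimpleGroup K] (k : KCN K D 1) {p₀ : D.T} (hp₀ : p₀.c ≠ 0) :
    ∃ S : Std D K, S.m = k.b2 := by
  have gen : Subgroup.closure (genSet k.b2) = ⊤ := by
    rw [← k.gen]
    congr 1
    have hl := k.last 0 rfl
    ext g
    constructor
    · rintro (⟨a, rfl | rfl⟩ | ⟨p, h⟩)
      · exact Or.inl ⟨0, a, Or.inl (by rw [hl.1])⟩
      · exact Or.inl ⟨0, a, Or.inr (by rw [hl.2])⟩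
      · exact Or.inr ⟨p, h⟩
    · rintro (⟨i, a, rfl | rfl⟩ | ⟨p, h⟩)
      · obtain rfl : i = 0 := Subsingleton.elim _ _
        exact Or.inl ⟨a, Or.inl (by rw [hl.1])⟩
      · obtain rfl : i = 0 := Subsingleton.elim _ _
        exact Or.inl ⟨a, Or.inr (by rw [hl.2])⟩
      · exact Or.inr ⟨p, h⟩
  exact exists_std (not_isPGroup (exists_ne hF) k.rel hp₀ gen) k hp₀

theorem cc {F : Type*} [Field F] [Fintype F] {q : ℕ} (hF : Fintype.card F = q ^ 2) (x : F) :
    Cfsg.Agent.LieClassical.HermBasic.conj hF (Cfsg.Agent.LieClassical.HermBasic.conj hF x) = x :=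
  Cfsg.Agent.LieClassical.HermBasic.pow_q_pow_q hF x

/-- `PSp₄(F)`, `F` finite of characteristic two, `|F| > 2`. -/
theorem exists_std_Sp {F : Type*} [Field F] [Finite F] [CharP F 2] (hF : 3 ≤ Nat.card F) :
    Nonempty (Std (stdSp F) (Cfsg.PSp 2 F)) := by
  have := Fintype.ofFinite F
  have hs : IsSimpleGroup (Cfsg.PSp 2 F) :=
    Cfsg.Agent.S0270.result 2 le_rfl (fun _ => by rw [← Nat.card_eq_fintype_card]; exact hF)
  obtain ⟨S, -⟩ := exists_std' hF (Cfsg.Agent.TitsThree.KInstSp.kcnSp F 0)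
    (p₀ := (⟨(), 1, trivial⟩ : (stdSp F).T)) one_ne_zero
  exact ⟨S⟩

/-- `PSU₄(F)`, `|F| = q²`, characteristic two. -/
theorem exists_std_U4 {F : Type*} [Field F] [Fintype F] [CharP F 2] {q : ℕ}
    (hF : Fintype.card F = q ^ 2) :
    Nonempty (Std (stdU0 F (Cfsg.Agent.LieClassical.HermBasic.conj hF)
      (cc hF)) (Cfsg.PSU 4 F q)) := by
  have hs : IsSimpleGroup (Cfsg.PSU 4 F q) := Cfsg.Agent.TitsThree.KSideUDesc.isSimple hF le_rfl
  obtain ⟨W, hW⟩ := Cfsg.Agent.TitsThree.KSideU.exists_wframe_even (N := 4) (m := 2) hF rfl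
  have h3 : 3 ≤ Nat.card F := by
    rw [Nat.card_eq_fintype_card, hF]
    have h1 : 1 < Fintype.card F := Fintype.one_lt_card
    rw [hF] at h1
    have : 2 ≤ q := by
      by_contra h
      have : q = 0 ∨ q = 1 := by omega
      rcases this with rfl | rfl <;> simp at h1
    nlinarith
  obtain ⟨S, -⟩ := exists_std' (D := stdU0 F (Cfsg.Agent.LieClassical.HermBasic.conj hF)
      (cc hF)) h3
    (Cfsg.Agent.TitsThree.FrameCN.kcn (Cfsg.Agent.TitsThree.KInstU.model hF (by norm_num) W)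
      (Cfsg.Agent.TitsThree.KInstU.emb0 hF W _) (Cfsg.Agent.TitsThree.KInstU.emb0_surj hF W _ hW))
    (p₀ := ⟨(), 1, by
      change (1 : F) + Cfsg.Agent.LieClassical.HermBasic.conj hF 1 = 0
      rw [map_one]; exact CharTwo.add_self_eq_zero 1⟩) one_ne_zero
  exact ⟨S⟩

/-- `PSU₅(F)`, `|F| = q²`, characteristic two. -/
theorem exists_std_U5 {F : Type*} [Field F] [Fintype F] [CharP F 2] {q : ℕ}
    (hF : Fintype.card F = q ^ 2) :
    Nonempty (Std (stdU1 F (Cfsg.Agent.LieClassical.HermBasic.conj hF)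
      (cc hF)) (Cfsg.PSU 5 F q)) := by
  have hs : IsSimpleGroup (Cfsg.PSU 5 F q) := Cfsg.Agent.TitsThree.KSideUDesc.isSimple hF (by norm_num)
  obtain ⟨W, d, hd, hW⟩ := Cfsg.Agent.TitsThree.KSideU.exists_wframe_odd (N := 5) (m := 2) hF rfl
  have h3 : 3 ≤ Nat.card F := by
    rw [Nat.card_eq_fintype_card, hF]
    have h1 : 1 < Fintype.card F := Fintype.one_lt_card
    rw [hF] at h1
    have : 2 ≤ q := by
      by_contra h
      have : q = 0 ∨ q = 1 := by omega
      rcases this with rfl | rfl <;> simp at h1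
    nlinarith
  obtain ⟨S, -⟩ := exists_std' (D := stdU1 F (Cfsg.Agent.LieClassical.HermBasic.conj hF)
      (cc hF)) h3
    (Cfsg.Agent.TitsThree.FrameCN.kcn (Cfsg.Agent.TitsThree.KInstU.model hF (by norm_num) W)
      (Cfsg.Agent.TitsThree.KInstU.emb1 hF W _ d hd hW)
      (Cfsg.Agent.TitsThree.KInstU.emb1_surj hF W _ d hd hW))
    (p₀ := ⟨0, 1, by
      change (1 : F) + Cfsg.Agent.LieClassical.HermBasic.conj hF 1 = -(0 * _)
      rw [map_one, zero_mul, neg_zero]; exact CharTwo.add_self_eq_zero 1⟩) one_ne_zero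
  exact ⟨S⟩

/-- the covering map of a group with odd centre -/
theorem cov_of_center {A K : Type*} [Group A] [Group K] (hZ : Odd (Nat.card (Subgroup.center A)))
    (e : A ⧸ Subgroup.center A ≃* K) :
    Cov (e.toMonoidHom.comp (QuotientGroup.mk' (Subgroup.center A))) := by
  have hk : (e.toMonoidHom.comp (QuotientGroup.mk' (Subgroup.center A))).ker = Subgroup.center A := by
    ext a
    rw [MonoidHom.mem_ker, MonoidHom.comp_apply]
    change e _ = 1 ↔ _
    rw [map_eq_one_iff e e.injective, QuotientGroup.mk'_apply, QuotientGroup.eq_one_iff]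
  refine ⟨e.surjective.comp (QuotientGroup.mk'_surjective _), hk.le, ?_⟩
  rw [hk]; exact hZ

/-- **The frames in `A`**: a perfect finite group `A` with centre of odd order and central quotient with
a nondegenerate package has a nondegenerate package (over the one of the quotient). -/
theorem exists_frame [CharP F 2] {A : Type u} [Group A] [Finite A] {K : Type*} [Group K]
    (hA : _root_.commutator A = ⊤) (hZ : Odd (Nat.card (Subgroup.center A)))
    (e : A ⧸ Subgroup.center A ≃* K) (S : Std D K) :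
    ∃ S' : Std D A, S'.m.map (e.toMonoidHom.comp (QuotientGroup.mk' (Subgroup.center A))) = S.m := by
  obtain ⟨S', h, -⟩ := Std.exists_lift (cov_of_center hZ e) hA S
  exact ⟨S', h⟩

end Cfsg.Agent.StdRank2.B2Inst
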