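import Cfsg.Agent.StdRank2.B2Lift
import Cfsg.Agent.TitsThree.B2NI

/-!
# The positive part of a `B₂` package in characteristic two

`mul_nf`: the multiplication of the normal forms `x a * z₁ p * y b * z₂ q`.
`Std D A`: a nondegenerate generating package.  Unique normal forms, order of the positive part,
Bruhat decomposition, `N(U) = U H`.
-/

set_option autoImplicit false
set_option linter.unusedSectionVars false

namespace Cfsg.Agent.StdRank2.B2Std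

open Subgroup
open Cfsg.Agent.TitsThree.B2Pkg Cfsg.Agent.TitsThree.RankTwoIdentB2
  Cfsg.Agent.TitsThree.CoreB2 Cfsg.Agent.TitsThree.RankTwoIdx Cfsg.Agent.TitsThree.RankTwoRGD
open Cfsg.Agent.StdRank2.OddLift Cfsg.Agent.StdRank2.B2Lift
open scoped commutatorElement

universe u

variable {F : Type*} [Field F] {V : Type*} [AddCommGroup V] [Module F V] {D : PQDatum F V}

/-- the positive part -/
def UU {Y : Type*} [Group Y] (m : B2Maps D Y) : Subgroup Y := Subgroup.closure (posSet m)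

/-- the normal form -/
def nf {Y : Type*} [Group Y] (m : B2Maps D Y) (a : F) (p : D.T) (b : F) (q : D.T) : Y :=
  m.x a * m.z₁ p * m.y b * m.z₂ q

section basic

variable {Y : Type*} [Group Y] {m : B2Maps D Y}

theorem x_mem (a : F) : m.x a ∈ UU m := Subgroup.subset_closure (Or.inl ⟨a, Or.inl rfl⟩)
theorem y_mem (a : F) : m.y a ∈ UU m := Subgroup.subset_closure (Or.inl ⟨a, Or.inr rfl⟩)
theorem z₁_mem (p : D.T) : m.z₁ p ∈ UU m := Subgroup.subset_closure (Or.inr ⟨p, Or.inl rfl⟩)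
theorem z₂_mem (p : D.T) : m.z₂ p ∈ UU m := Subgroup.subset_closure (Or.inr ⟨p, Or.inr rfl⟩)

theorem nf_mem (a : F) (p : D.T) (b : F) (q : D.T) : nf m a p b q ∈ UU m :=
  mul_mem (mul_mem (mul_mem (x_mem a) (z₁_mem p)) (y_mem b)) (z₂_mem q)

variable (h : B2Rel m)
include h

theorem z₂_x (q : D.T) (a : F) :
    m.z₂ q * m.x a = m.x a * m.z₁ (D.sc (-a) q) * m.y (D.ε * a * D.σ q.c) * m.z₂ q := by
  have h1 := h.x_z₂ (-a) q
  have e1 : m.x (-a) = (m.x a)⁻¹ := add_neg' h.x_add a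
  have e2 : -(D.ε * -a * D.σ q.c) = D.ε * a * D.σ q.c := by ring
  rw [commutatorElement_def, e1, inv_inv, e2] at h1
  have h2 : m.x a * m.z₁ (D.sc (-a) q) * m.y (D.ε * a * D.σ q.c) * m.z₂ q =
      m.x a * (m.z₁ (D.sc (-a) q) * m.y (D.ε * a * D.σ q.c)) * m.z₂ q := by group
  rw [h2, ← h1]
  group

theorem y_x (b a : F) : m.y b * m.x a = m.x a * m.z₁ (D.tr a b)⁻¹ * m.y b := by
  have h1 := h.x_y a b
  have h2 : m.z₁ (D.tr a b)⁻¹ = (m.z₁ (D.tr a b))⁻¹ := mul_inv' h.z₁_mul _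
  have hc : Commute (m.x a) (m.z₁ (D.tr a b)) := h.x_z₁ a _
  rw [h2]
  have h3 : m.x a * (m.z₁ (D.tr a b))⁻¹ = (m.z₁ (D.tr a b))⁻¹ * m.x a := hc.inv_right.eq
  rw [h3, ← h1, commutatorElement_def]
  group

theorem z₂_z₁ (q p : D.T) : m.z₂ q * m.z₁ p = m.z₁ p * m.y (D.h q.w p.w) * m.z₂ q := by
  have h1 := h.z₁_z₂ p q
  have e1 : m.y (-D.h q.w p.w) = (m.y (D.h q.w p.w))⁻¹ := add_neg' h.y_add _
  rw [e1] at h1
  have hc : Commute (m.y (D.h q.w p.w)) (m.z₁ p) := h.y_z₁ _ p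
  have hc2 : Commute (m.y (D.h q.w p.w)) (m.z₂ q) := h.y_z₂ _ q
  have h2 : m.z₁ p * m.z₂ q = (m.y (D.h q.w p.w))⁻¹ * (m.z₂ q * m.z₁ p) := by
    rw [← h1, commutatorElement_def]; group
  have h3 : m.z₂ q * m.z₁ p = m.y (D.h q.w p.w) * (m.z₁ p * m.z₂ q) := by rw [h2]; group
  rw [h3, ← mul_assoc, hc.eq]

/-- **The multiplication of normal forms.** -/
theorem mul_nf (a : F) (p : D.T) (b : F) (q : D.T) (a' : F) (p' : D.T) (b' : F) (q' : D.T) :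
    nf m a p b q * nf m a' p' b' q' =
      nf m (a + a') (p * (D.tr a' b)⁻¹ * D.sc (-a') q * p')
        (b + D.ε * a' * D.σ q.c + D.h q.w p'.w + b') (q * q') := by
  have cx : ∀ a p, m.x a * m.z₁ p = m.z₁ p * m.x a := fun a p => (h.x_z₁ a p).eq
  have cy1 : ∀ b p, m.y b * m.z₁ p = m.z₁ p * m.y b := fun b p => (h.y_z₁ b p).eq
  have cy2 : ∀ b p, m.y b * m.z₂ p = m.z₂ p * m.y b := fun b p => (h.y_z₂ b p).eq
  unfold nf
  calc m.x a * m.z₁ p * m.y b * m.z₂ q * (m.x a' * m.z₁ p' * m.y b' * m.z₂ q')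
      = m.x a * m.z₁ p * m.y b * (m.z₂ q * m.x a') * m.z₁ p' * m.y b' * m.z₂ q' := by group
    _ = m.x a * m.z₁ p * m.y b * (m.x a' * m.z₁ (D.sc (-a') q) * m.y (D.ε * a' * D.σ q.c) * m.z₂ q)
          * m.z₁ p' * m.y b' * m.z₂ q' := by rw [z₂_x h]
    _ = m.x a * m.z₁ p * (m.y b * m.x a') * m.z₁ (D.sc (-a') q) * m.y (D.ε * a' * D.σ q.c) *
          (m.z₂ q * m.z₁ p') * m.y b' * m.z₂ q' := by group
    _ = m.x a * m.z₁ p * (m.x a' * m.z₁ (D.tr a' b)⁻¹ * m.y b) * m.z₁ (D.sc (-a') q) *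
          m.y (D.ε * a' * D.σ q.c) * (m.z₁ p' * m.y (D.h q.w p'.w) * m.z₂ q) * m.y b' * m.z₂ q' := by
        rw [y_x h, z₂_z₁ h]
    _ = m.x a * (m.z₁ p * m.x a') * m.z₁ (D.tr a' b)⁻¹ * (m.y b * m.z₁ (D.sc (-a') q)) *
          (m.y (D.ε * a' * D.σ q.c) * m.z₁ p') * m.y (D.h q.w p'.w) * (m.z₂ q * m.y b') * m.z₂ q' := by
        group
    _ = m.x a * (m.x a' * m.z₁ p) * m.z₁ (D.tr a' b)⁻¹ * (m.z₁ (D.sc (-a') q) * m.y b) *
          (m.z₁ p' * m.y (D.ε * a' * D.σ q.c)) * m.y (D.h q.w p'.w) * (m.y b' * m.z₂ q) * m.z₂ q' := by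
        rw [← cx, cy1, cy1, ← cy2]
    _ = (m.x a * m.x a') * (m.z₁ p * m.z₁ (D.tr a' b)⁻¹ * m.z₁ (D.sc (-a') q)) * (m.y b *
          m.z₁ p') * (m.y (D.ε * a' * D.σ q.c) * m.y (D.h q.w p'.w) * m.y b') * (m.z₂ q * m.z₂ q') := by
        group
    _ = (m.x a * m.x a') * (m.z₁ p * m.z₁ (D.tr a' b)⁻¹ * m.z₁ (D.sc (-a') q)) * (m.z₁ p' *
          m.y b) * (m.y (D.ε * a' * D.σ q.c) * m.y (D.h q.w p'.w) * m.y b') * (m.z₂ q * m.z₂ q') := by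
        rw [cy1]
    _ = (m.x a * m.x a') * (m.z₁ p * m.z₁ (D.tr a' b)⁻¹ * m.z₁ (D.sc (-a') q) * m.z₁ p') *
          (m.y b * m.y (D.ε * a' * D.σ q.c) * m.y (D.h q.w p'.w) * m.y b') * (m.z₂ q * m.z₂ q') := by
        group
    _ = _ := by
        rw [← h.x_add, ← h.z₁_mul, ← h.z₁_mul, ← h.z₁_mul, ← h.y_add, ← h.y_add, ← h.y_add,
          ← h.z₂_mul]

theorem nf_one : nf m 0 1 0 1 = 1 := by
  unfold nf
  rw [add_zero' h.x_add, add_zero' h.y_add, mul_one' h.z₁_mul, mul_one' h.z₂_mul]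
  simp

theorem x_eq_nf (a : F) : m.x a = nf m a 1 0 1 := by
  unfold nf
  rw [add_zero' h.y_add, mul_one' h.z₁_mul, mul_one' h.z₂_mul]
  simp

theorem y_eq_nf (b : F) : m.y b = nf m 0 1 b 1 := by
  unfold nf
  rw [add_zero' h.x_add, mul_one' h.z₁_mul, mul_one' h.z₂_mul]
  simp

theorem z₁_eq_nf (p : D.T) : m.z₁ p = nf m 0 p 0 1 := by
  unfold nf
  rw [add_zero' h.x_add, add_zero' h.y_add, mul_one' h.z₂_mul]
  simp

theorem z₂_eq_nf (q : D.T) : m.z₂ q = nf m 0 1 0 q := by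
  unfold nf
  rw [add_zero' h.x_add, add_zero' h.y_add, mul_one' h.z₁_mul]
  simp

/-- Every element of the positive part has a normal form. -/
theorem exists_nf {u : Y} (hu : u ∈ UU m) : ∃ a p b q, u = nf m a p b q := by
  have inv_gen : ∀ g ∈ posSet m, g⁻¹ ∈ posSet m := by
    rintro g (⟨a, rfl | rfl⟩ | ⟨p, rfl | rfl⟩)
    · exact Or.inl ⟨-a, Or.inl (add_neg' h.x_add a).symm⟩
    · exact Or.inl ⟨-a, Or.inr (add_neg' h.y_add a).symm⟩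
    · exact Or.inr ⟨p⁻¹, Or.inl (mul_inv' h.z₁_mul p).symm⟩
    · exact Or.inr ⟨p⁻¹, Or.inr (mul_inv' h.z₂_mul p).symm⟩
  have gen_nf : ∀ g ∈ posSet m, ∃ a p b q, g = nf m a p b q := by
    rintro g (⟨a, rfl | rfl⟩ | ⟨p, rfl | rfl⟩)
    · exact ⟨_, _, _, _, x_eq_nf h a⟩
    · exact ⟨_, _, _, _, y_eq_nf h a⟩
    · exact ⟨_, _, _, _, z₁_eq_nf h p⟩
    · exact ⟨_, _, _, _, z₂_eq_nf h p⟩
  have mul_cl : ∀ u v : Y, (∃ a p b q, u = nf m a p b q) → (∃ a p b q, v = nf m a p b q) →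
      ∃ a p b q, u * v = nf m a p b q := by
    rintro _ _ ⟨a, p, b, q, rfl⟩ ⟨a', p', b', q', rfl⟩
    exact ⟨_, _, _, _, mul_nf h _ _ _ _ _ _ _ _⟩
  refine Subgroup.closure_induction_right (p := fun u _ => ∃ a p b q, u = nf m a p b q)
    ⟨0, 1, 0, 1, (nf_one h).symm⟩ ?_ ?_ hu
  · intro u _ g hg hu
    exact mul_cl _ _ hu (gen_nf g hg)
  · intro u _ g hg hu
    exact mul_cl _ _ hu (gen_nf _ (inv_gen g hg))

/-- the inverse of a normal form, up to the normal form theorem -/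
theorem isTwo_of_mem_UU [CharP F 2] {u : Y} (hu : u ∈ UU m) : IsTwo u :=
  isTwo_of_mem (isPGroup_pos h) hu

end basic

/-! ### Nondegenerate packages -/

/-- A nondegenerate generating package of type `B₂`. -/
structure Std (D : PQDatum F V) (A : Type u) [Group A] where
  m : B2Maps D A
  rel : B2Rel m
  p₀ : D.T
  hp₀ : p₀.c ≠ 0
  gen : Subgroup.closure (genSet m) = ⊤
  ndI : ∃ a, m.x' a ∉ UU m
  ndJ : ∃ p, m.z₂' p ∉ UU m

namespace Std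

variable {A : Type u} [Group A] (S : Std D A)

theorem nirel : NIRel S.m := Cfsg.Agent.TitsThree.B2NI.nirel S.rel S.hp₀

/-- the root datum -/
noncomputable def r2 : R2 4 A := Cfsg.Agent.TitsThree.CoreB2.r2 S.rel S.nirel S.p₀ S.hp₀

/-- the torus -/
def H : Subgroup A := Hg S.m

/-- the positive part -/
def U : Subgroup A := UU S.m

theorem r2_U : S.r2.U = S.U := by
  apply le_antisymm
  · exact Cfsg.Agent.TitsThree.RankTwoIdentB2.U_le S.rel S.nirel S.p₀ S.hp₀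
  · unfold U UU
    rw [Subgroup.closure_le]
    rintro g (⟨a, rfl | rfl⟩ | ⟨p, rfl | rfl⟩)
    · exact S.r2.X_le (k := 1) le_rfl (by norm_num) ⟨a, rfl⟩
    · exact S.r2.X_le (k := 3) (by norm_num) (by norm_num) ⟨a, rfl⟩
    · exact S.r2.X_le (k := 2) (by norm_num) (by norm_num) ⟨p, rfl⟩
    · exact S.r2.X_le (k := 4) (by norm_num) (by norm_num) ⟨p, rfl⟩

theorem core_G : S.r2.core.G = ⊤ := by
  rw [eq_top_iff, ← S.gen]
  exact Cfsg.Agent.TitsThree.RankTwoIdentB2.gen_le S.rel S.nirel S.p₀ S.hp₀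

/-- `V_I = ⟨z₁, y, z₂⟩` -/
noncomputable def VI : Subgroup A := S.r2.VI

/-- `V_J = ⟨x, z₁, y⟩` -/
noncomputable def VJ : Subgroup A := S.r2.VJ

theorem z₁_mem_VI (p : D.T) : S.m.z₁ p ∈ S.VI :=
  S.r2.X_le_VI (k := 2) (by norm_num) (by norm_num) ⟨p, rfl⟩
theorem y_mem_VI (b : F) : S.m.y b ∈ S.VI :=
  S.r2.X_le_VI (k := 3) (by norm_num) (by norm_num) ⟨b, rfl⟩
theorem z₂_mem_VI (p : D.T) : S.m.z₂ p ∈ S.VI :=
  S.r2.X_le_VI (k := 4) (by norm_num) (by norm_num) ⟨p, rfl⟩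
theorem x_mem_VJ (b : F) : S.m.x b ∈ S.VJ :=
  S.r2.X_le_VJ (k := 1) (by norm_num) (by norm_num) ⟨b, rfl⟩
theorem z₁_mem_VJ (p : D.T) : S.m.z₁ p ∈ S.VJ :=
  S.r2.X_le_VJ (k := 2) (by norm_num) (by norm_num) ⟨p, rfl⟩
theorem y_mem_VJ (b : F) : S.m.y b ∈ S.VJ :=
  S.r2.X_le_VJ (k := 3) (by norm_num) (by norm_num) ⟨b, rfl⟩

theorem VI_le : S.VI ≤ S.U := by rw [← S.r2_U]; exact S.r2.VI_le
theorem VJ_le : S.VJ ≤ S.U := by rw [← S.r2_U]; exact S.r2.VJ_le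

theorem HVI : ∀ g ∈ S.H, ∀ v ∈ S.VI, g * v * g⁻¹ ∈ S.VI := fun g hg =>
  R2.conj_iSup fun k hk x hx =>
    S.r2.X_le_VI hk.1 hk.2 (S.r2.HX g hg k (by have := hk.1; omega) hk.2 x hx)

theorem HVJ : ∀ g ∈ S.H, ∀ v ∈ S.VJ, g * v * g⁻¹ ∈ S.VJ := fun g hg =>
  R2.conj_iSup fun k hk x hx =>
    S.r2.X_le_VJ hk.1 hk.2 (S.r2.HX g hg k hk.1 hk.2.le x hx)

theorem nVI : ∀ v ∈ S.VI, nt S.m 1 * v * (nt S.m 1)⁻¹ ∈ S.VI := S.r2.core.sI.nV

theorem ntVI {t : F} (ht : t ≠ 0) : ∀ v ∈ S.VI, nt S.m t * v * (nt S.m t)⁻¹ ∈ S.VI := by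
  intro v hv
  have h1 := S.HVI _ (hI_mem ht one_ne_zero) _ (S.nVI v hv)
  have e : nt S.m t * (nt S.m 1)⁻¹ * (nt S.m 1 * v * (nt S.m 1)⁻¹) * (nt S.m t * (nt S.m 1)⁻¹)⁻¹ =
    nt S.m t * v * (nt S.m t)⁻¹ := by group
  rwa [e] at h1

theorem nVJ : ∀ v ∈ S.VJ, S.m.nII S.p₀ * v * (S.m.nII S.p₀)⁻¹ ∈ S.VJ := S.r2.core.sJ.nV

theorem nIIVJ {p : D.T} (hp : p.c ≠ 0) : ∀ v ∈ S.VJ, S.m.nII p * v * (S.m.nII p)⁻¹ ∈ S.VJ := by
  intro v hv
  have h1 := S.HVJ _ (hII_mem hp S.hp₀) _ (S.nVJ v hv)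
  have e : S.m.nII p * (S.m.nII S.p₀)⁻¹ * (S.m.nII S.p₀ * v * (S.m.nII S.p₀)⁻¹) *
    (S.m.nII p * (S.m.nII S.p₀)⁻¹)⁻¹ = S.m.nII p * v * (S.m.nII p)⁻¹ := by group
  rwa [e] at h1

/-- `VI` is normal in `U` -/
theorem UVI : ∀ u ∈ S.U, ∀ v ∈ S.VI, u * v * u⁻¹ ∈ S.VI := by
  intro u hu v hv
  rw [← S.r2_U, S.r2.U_eq_I] at hu
  obtain ⟨w, hw, a, ha, rfl⟩ := R2.decomp_aux S.r2.X1_VI hu
  have h1 := S.r2.X1_VI a ha v hv
  have e : w * a * v * (w * a)⁻¹ = w * (a * v * a⁻¹) * w⁻¹ := by group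
  rw [e]
  exact mul_mem (mul_mem hw h1) (inv_mem hw)

theorem UVJ : ∀ u ∈ S.U, ∀ v ∈ S.VJ, u * v * u⁻¹ ∈ S.VJ := by
  intro u hu v hv
  rw [← S.r2_U, S.r2.U_eq_J] at hu
  obtain ⟨w, hw, a, ha, rfl⟩ := R2.decomp_aux S.r2.Xm_VJ hu
  have h1 := S.r2.Xm_VJ a ha v hv
  have e : w * a * v * (w * a)⁻¹ = w * (a * v * a⁻¹) * w⁻¹ := by group
  rw [e]
  exact mul_mem (mul_mem hw h1) (inv_mem hw)

/-- the type I torus acts on `x` by the squares -/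
theorem hI_x {s : F} (hs : s ≠ 0) (a : F) :
    (nt S.m s * (nt S.m 1)⁻¹) * S.m.x a * (nt S.m s * (nt S.m 1)⁻¹)⁻¹ = S.m.x (s * s * a) := by
  have e1 : (nt S.m 1)⁻¹ = nt S.m (-1) := (nt_neg S.rel 1).symm
  have h1 := S.rel.nn_x S.hp₀ (neg_ne_zero.2 (one_ne_zero (α := F))) a
  have h2 := S.rel.nn_x' S.hp₀ hs (-((-1 : F)⁻¹ * (-1)⁻¹ * a))
  rw [← h1] at h2
  have e2 : -(s * s * -((-1 : F)⁻¹ * (-1)⁻¹ * a)) = s * s * a := by
    rw [inv_neg, inv_one]; ring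
  rw [e2] at h2
  rw [← h2, e1]
  group

theorem x_mem_VI_iff [Finite F] [CharP F 2] {a : F} : S.m.x a ∈ S.VI ↔ a = 0 := by
  constructor
  · intro ha
    by_contra h0
    obtain ⟨b, hb⟩ := S.ndI
    apply hb
    have hsq : ∀ c : F, S.m.x c ∈ S.VI := by
      intro c
      by_cases hc : c = 0
      · rw [hc, add_zero' S.rel.x_add]; exact one_mem _
      obtain ⟨s, hs⟩ : ∃ s : F, s * s = c * a⁻¹ := by
        have := Fintype.ofFinite F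
        obtain ⟨s, hs⟩ := FiniteField.isSquare_of_char_two (F := F) (CharP.ringChar_of_prime_eq_zero Nat.prime_two (by exact_mod_cast CharP.cast_eq_zero F 2)) (c * a⁻¹)
        exact ⟨s, hs.symm⟩
      have hs0 : s ≠ 0 := by
        rintro rfl
        rw [zero_mul] at hs
        exact mul_ne_zero hc (inv_ne_zero h0) hs.symm
      have h1 := S.HVI _ (hI_mem hs0 one_ne_zero) _ ha
      rw [S.hI_x hs0, hs, mul_assoc, inv_mul_cancel₀ h0, mul_one] at h1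
      exact h1
    have h2 := S.nVI _ (hsq (-b))
    rw [nt_one, S.rel.nI_x, neg_neg] at h2
    exact S.VI_le h2
  · rintro rfl
    rw [add_zero' S.rel.x_add]; exact one_mem _

theorem sc_z₂ {s : F} (hs : s ≠ 0) (p : D.T) :
    (nt S.m s * (nt S.m 1)⁻¹) * S.m.z₂ p * (nt S.m s * (nt S.m 1)⁻¹)⁻¹ = S.m.z₂ (D.sc s⁻¹ p) := by
  have e1 : (nt S.m 1)⁻¹ = nt S.m (-1) := (nt_neg S.rel 1).symm
  have h1 := S.nirel.z₂ (-1) (neg_ne_zero.2 (one_ne_zero (α := F))) p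
  have h2 := S.nirel.z₁ s hs (D.sc (-1) p)
  rw [← h1, D.sc_sc] at h2
  have e2 : -s⁻¹ * -1 = s⁻¹ := by ring
  rw [e2] at h2
  rw [← h2, e1]
  group

theorem z₂_mem_VJ_iff [Finite F] [CharP F 2] {q : D.T} : S.m.z₂ q ∈ S.VJ ↔ q = 1 := by
  constructor
  · intro hq
    by_contra h0
    have hc : q.c ≠ 0 := fun h => h0 (PQDatum.T.c_eq_zero_iff.1 h)
    have hsc : ∀ s : F, S.m.z₂ (D.sc s q) ∈ S.VJ := by
      intro s
      by_cases hs : s = 0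
      · rw [hs, D.sc_zero, mul_one' S.rel.z₂_mul]; exact one_mem _
      · have h1 := S.HVJ _ (hI_mem (inv_ne_zero hs) one_ne_zero) _ hq
        rw [S.sc_z₂ (inv_ne_zero hs), inv_inv] at h1
        exact h1
    have hsc' : ∀ s : F, S.m.z₂' (D.sc s q) ∈ S.VJ := by
      intro s
      -- conjugate by `nII q`
      have hr := D.refl_self q hc
      have hσ := D.σ_ne hc
      have hne : -(D.ε⁻¹ * q.c * (D.σ q.c)⁻¹) ≠ 0 :=
        neg_ne_zero.2 (mul_ne_zero (mul_ne_zero (inv_ne_zero D.ε_ne) hc) (inv_ne_zero hσ))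
      have h1 := S.nIIVJ hc _ (hsc (s * (-(D.ε⁻¹ * q.c * (D.σ q.c)⁻¹))⁻¹ * D.σ q.c))
      rw [S.rel.nII_z₂ q hc, D.refl_sc, hr, D.sc_sc, D.sc_sc] at h1
      have e : (D.σ q.c)⁻¹ * (s * (-(D.ε⁻¹ * q.c * (D.σ q.c)⁻¹))⁻¹ * D.σ q.c) *
          -(D.ε⁻¹ * q.c * (D.σ q.c)⁻¹) = s := by
        generalize -(D.ε⁻¹ * q.c * (D.σ q.c)⁻¹) = k at hne ⊢
        field_simp
      rwa [e] at h1
    have hn : S.m.nII q ∈ S.VJ := mul_mem (mul_mem (hsc' _) hq) (hsc' _)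
    have h2 := S.UVI _ (S.VJ_le (inv_mem hn)) _ (S.y_mem_VI (D.ε * D.σ q.c * 1))
    rw [← S.rel.nII_x q hc] at h2
    have e3 : (S.m.nII q)⁻¹ * (S.m.nII q * S.m.x 1 * (S.m.nII q)⁻¹) * (S.m.nII q)⁻¹⁻¹ = S.m.x 1 := by
      group
    rw [e3] at h2
    exact one_ne_zero (S.x_mem_VI_iff.1 h2)
  · rintro rfl
    rw [mul_one' S.rel.z₂_mul]; exact one_mem _

theorem z₁_eq_y [Finite F] [CharP F 2] {p : D.T} {b : F} (h : S.m.z₁ p * S.m.y b = 1) :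
    p = 1 ∧ b = 0 := by
  have h1 := S.nirel.z₁ 1 one_ne_zero p
  have h2 := S.rel.nn_y (one_ne_zero (α := F)) b
  have h3 : S.m.z₂ (D.sc (-1⁻¹) p) * S.m.y (D.ε * 1 * (D.σ 1)⁻¹ * D.σ b) = 1 := by
    rw [← h1, ← h2]
    have : nt S.m 1 * S.m.z₁ p * (nt S.m 1)⁻¹ * (nt S.m 1 * S.m.y b * (nt S.m 1)⁻¹) =
        nt S.m 1 * (S.m.z₁ p * S.m.y b) * (nt S.m 1)⁻¹ := by group
    rw [this, h]; group
  have h4 : S.m.z₂ (D.sc (-1⁻¹) p) ∈ S.VJ := by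
    rw [eq_inv_of_mul_eq_one_left h3]
    exact inv_mem (S.y_mem_VJ _)
  have h5 := S.z₂_mem_VJ_iff.1 h4
  have hp : p = 1 := by
    have := congrArg (D.sc (-1)) h5
    rw [D.sc_sc, D.sc_T_one, inv_one] at this
    have e : (-1 : F) * -1 = 1 := by ring
    rwa [e, D.sc_one] at this
  refine ⟨hp, ?_⟩
  rw [hp, mul_one' S.rel.z₁_mul, one_mul] at h
  have h6 := S.rel.nII_y S.p₀ S.hp₀ b
  rw [h] at h6
  have h7 : S.m.x (S.p₀.c⁻¹ * b) = 1 := by rw [← h6]; group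
  have h8 : S.m.x (S.p₀.c⁻¹ * b) ∈ S.VI := by rw [h7]; exact one_mem _
  have h9 := S.x_mem_VI_iff.1 h8
  rcases mul_eq_zero.1 h9 with h10 | h10
  · exact absurd h10 (inv_ne_zero S.hp₀)
  · exact h10

/-- **Uniqueness of normal forms.** -/
theorem nf_eq_one [Finite F] [CharP F 2] {a : F} {p : D.T} {b : F} {q : D.T}
    (h : nf S.m a p b q = 1) : a = 0 ∧ p = 1 ∧ b = 0 ∧ q = 1 := by
  unfold nf at h
  have h1 : S.m.x a ∈ S.VI := by
    have : S.m.x a = (S.m.z₁ p * S.m.y b * S.m.z₂ q)⁻¹ := by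
      apply eq_inv_of_mul_eq_one_left
      rw [← h]; group
    rw [this]
    exact inv_mem (mul_mem (mul_mem (S.z₁_mem_VI p) (S.y_mem_VI b)) (S.z₂_mem_VI q))
  have ha := S.x_mem_VI_iff.1 h1
  have h2 : S.m.z₂ q ∈ S.VJ := by
    have : S.m.z₂ q = (S.m.x a * S.m.z₁ p * S.m.y b)⁻¹ := eq_inv_of_mul_eq_one_right h
    rw [this]
    exact inv_mem (mul_mem (mul_mem (S.x_mem_VJ a) (S.z₁_mem_VJ p)) (S.y_mem_VJ b))
  have hq := S.z₂_mem_VJ_iff.1 h2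
  rw [ha, hq, add_zero' S.rel.x_add, mul_one' S.rel.z₂_mul, one_mul, mul_one] at h
  obtain ⟨hp, hb⟩ := S.z₁_eq_y h
  exact ⟨ha, hp, hb, hq⟩

theorem nf_inj [Finite F] [CharP F 2] {a : F} {p : D.T} {b : F} {q : D.T} {a' : F} {p' : D.T}
    {b' : F} {q' : D.T} (h : nf S.m a p b q = nf S.m a' p' b' q') :
    a = a' ∧ p = p' ∧ b = b' ∧ q = q' := by
  -- the inverse of the second is a normal form
  obtain ⟨a'', p'', b'', q'', e⟩ := exists_nf S.rel (inv_mem (nf_mem (m := S.m) a' p' b' q'))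
  have h1 : nf S.m a' p' b' q' * nf S.m a'' p'' b'' q'' = 1 := by rw [← e]; group
  have h2 : nf S.m a p b q * nf S.m a'' p'' b'' q'' = 1 := by rw [h]; exact h1
  rw [mul_nf S.rel] at h1 h2
  obtain ⟨r1, r2, r3, r4⟩ := S.nf_eq_one h1
  obtain ⟨s1, s2, s3, s4⟩ := S.nf_eq_one h2
  have ha : a = a' := by linear_combination s1 - r1
  have hq : q = q' := by
    have : q * q'' = q' * q'' := by rw [r4, s4]
    exact mul_right_cancel this
  subst ha hq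
  have hb : b = b' := by linear_combination s3 - r3
  subst hb
  refine ⟨rfl, ?_, rfl, rfl⟩
  have : p * (D.tr a'' b)⁻¹ * D.sc (-a'') q * p'' = p' * (D.tr a'' b)⁻¹ * D.sc (-a'') q * p'' := by
    rw [r2, s2]
  exact mul_right_cancel (mul_right_cancel (mul_right_cancel this))

/-- The positive part is in bijection with `F × T × F × T`. -/
noncomputable def equivU [Finite F] [CharP F 2] : F × D.T × F × D.T ≃ ↥S.U :=
  Equiv.ofBijective (fun v => ⟨nf S.m v.1 v.2.1 v.2.2.1 v.2.2.2, nf_mem _ _ _ _⟩) (by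
    constructor
    · rintro ⟨a, p, b, q⟩ ⟨a', p', b', q'⟩ h
      obtain ⟨h1, h2, h3, h4⟩ := S.nf_inj (congrArg Subtype.val h)
      exact Prod.ext h1 (Prod.ext h2 (Prod.ext h3 h4))
    · rintro ⟨u, hu⟩
      obtain ⟨a, p, b, q, e⟩ := exists_nf S.rel hu
      exact ⟨(a, p, b, q), Subtype.ext e.symm⟩)

theorem card_U [Finite F] [CharP F 2] :
    Nat.card ↥S.U = Nat.card F ^ 2 * Nat.card D.T ^ 2 := by
  rw [← Nat.card_congr S.equivU, Nat.card_prod, Nat.card_prod, Nat.card_prod]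
  ring

theorem x_injective [Finite F] [CharP F 2] : Function.Injective S.m.x := by
  intro a b h
  rw [x_eq_nf S.rel, x_eq_nf S.rel] at h
  exact (S.nf_inj h).1

theorem y_injective [Finite F] [CharP F 2] : Function.Injective S.m.y := by
  intro a b h
  rw [y_eq_nf S.rel, y_eq_nf S.rel] at h
  exact (S.nf_inj h).2.2.1

theorem z₁_injective [Finite F] [CharP F 2] : Function.Injective S.m.z₁ := by
  intro a b h
  rw [z₁_eq_nf S.rel, z₁_eq_nf S.rel] at h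
  exact (S.nf_inj h).2.1

theorem z₂_injective [Finite F] [CharP F 2] : Function.Injective S.m.z₂ := by
  intro a b h
  rw [z₂_eq_nf S.rel, z₂_eq_nf S.rel] at h
  exact (S.nf_inj h).2.2.2

end Std

end Cfsg.Agent.StdRank2.B2Std
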