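import Mathlib

/-!
# The environment of a standard subgroup of type `L₃(q)`, `q ≥ 4` even: the first 2-local group

`Env X F` : a group `X` with a Sylow 2-subgroup `U = {el a b c}` of `A ≅ L₃(q)`, an involution `t`
centralising `U` (and `A`), the torus elements, and the facts on `C(t)` which are used.  All odd
cores have been factored out.
-/

set_option autoImplicit false
set_option linter.unusedSectionVars false
set_option linter.dupNamespace false

namespace Cfsg.Agent.StdRank2.L3Env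

open Subgroup

section Field

variable {F : Type*} [Field F]

theorem add_self [CharP F 2] (x : F) : x + x = 0 := CharTwo.add_self_eq_zero x

theorem exists_sq [Finite F] [CharP F 2] (x : F) : ∃ y : F, y * y = x := by
  have hinj : Function.Injective (fun y : F => y * y) := by
    intro a b h
    have h1 : (a + b) * (a + b) = 0 := by
      have : (a + b) * (a + b) = a * a + b * b + (a * b + a * b) := by ring
      rw [this, add_self, add_zero]
      have h2 : a * a = b * b := h
      rw [h2, add_self]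
    have h3 : a + b = 0 := by simpa using h1
    rwa [CharTwo.add_eq_zero] at h3
  exact (Finite.injective_iff_surjective.mp hinj) x

/-- An additive map which is a derivation up to scalars is a scalar. -/
theorem eq_of_scale [Finite F] [CharP F 2] (φ c : F → F)
    (h : ∀ k x, φ (k * x) = k * φ x + c k * x) (x : F) : φ x = φ 1 * x := by
  have h1 : ∀ k, c k = φ k + k * φ 1 := by
    intro k
    have := h k 1
    rw [mul_one, mul_one] at this
    rw [this]
    have e : k * φ 1 + c k + k * φ 1 = c k + (k * φ 1 + k * φ 1) := by ring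
    rw [e, add_self, add_zero]
  obtain ⟨y, rfl⟩ := exists_sq x
  have h2 := h y y
  rw [h1] at h2
  rw [h2]
  have e : y * φ y + (φ y + y * φ 1) * y = φ 1 * (y * y) + (y * φ y + y * φ y) := by ring
  rw [e, add_self, add_zero]

/-- Hua's identity: an alternating biadditive form with `b (k x) (k y) = k b x y` vanishes. -/
theorem alt_eq_zero [Finite F] [CharP F 2] (b : F → F → F)
    (h1 : ∀ x y z, b (x + y) z = b x z + b y z) (h2 : ∀ x y z, b x (y + z) = b x y + b x z)
    (h3 : ∀ x, b x x = 0) (h4 : ∀ k x y, k ≠ 0 → b (k * x) (k * y) = k * b x y) (x y : F) :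
    b x y = 0 := by
  have key : ∀ x, b x 1 = 0 := by
    -- `g z = b 1 z`, `h x = b x 1 = x * g (x⁻¹)`
    have hg : ∀ x, x ≠ 0 → b x 1 = x * b 1 x⁻¹ := by
      intro x hx
      have := h4 x 1 x⁻¹ hx
      rw [mul_one, mul_inv_cancel₀ hx] at this
      exact this
    have hzero : b 0 1 = 0 := by
      have := h1 0 0 1
      rw [add_zero] at this
      exact left_eq_add.mp this
    have hsq : ∀ x, b (x * x) 1 = x * b 1 1 := by
      intro x
      rcases eq_or_ne x 0 with rfl | hx
      · rw [zero_mul, zero_mul, hzero]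
      rcases eq_or_ne x 1 with rfl | hx1
      · rw [one_mul, one_mul]
      have hx1' : x + 1 ≠ 0 := by rw [Ne, CharTwo.add_eq_zero]; exact hx1
      have hxx : x * x + x ≠ 0 := by
        have : x * x + x = x * (x + 1) := by ring
        rw [this]; exact mul_ne_zero hx hx1'
      have e1 : (x * x + x)⁻¹ = x⁻¹ + (x + 1)⁻¹ := by
        field_simp
        have : x + 1 + x = 1 + (x + x) := by ring
        rw [this, add_self, add_zero]
      have h5 := hg (x * x + x) hxx
      rw [e1, h2] at h5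
      have h6 := hg x hx
      have h7 := hg (x + 1) hx1'
      have h8 : b (x * x + x) 1 = (x + 1) * b x 1 + x * b (x + 1) 1 := by
        rw [h5, h6, h7]; ring
      rw [h1, h1] at h8
      have h9 : (x + 1) * b x 1 + x * (b x 1 + b 1 1) =
          b x 1 + x * b 1 1 + (x * b x 1 + x * b x 1) := by ring
      rw [h9, add_self, add_zero] at h8
      have h10 : b (x * x) 1 + b x 1 + b x 1 = x * b 1 1 + b x 1 + b x 1 := by
        rw [h8]; ring
      rw [add_assoc, add_self, add_zero, add_assoc, add_self, add_zero] at h10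
      exact h10
    intro x
    obtain ⟨y, rfl⟩ := exists_sq x
    rw [hsq, h3, mul_zero]
  rcases eq_or_ne y 0 with rfl | hy
  · have := h2 x 0 0
    rw [add_zero] at this
    exact left_eq_add.mp this
  · have := h4 y (y⁻¹ * x) 1 hy
    rw [key, mul_zero, mul_one, ← mul_assoc, mul_inv_cancel₀ hy, one_mul] at this
    exact this

/-- Two additive maps whose product vanishes identically. -/
theorem zero_or_zero {f g : F → F} (hf : ∀ a b, f (a + b) = f a + f b)
    (hg : ∀ a b, g (a + b) = g a + g b) (h : ∀ a, f a * g a = 0) :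
    (∀ a, f a = 0) ∨ (∀ a, g a = 0) := by
  by_contra hc
  rw [not_or] at hc
  obtain ⟨hc1, hc2⟩ := hc
  push Not at hc1 hc2
  obtain ⟨a, ha⟩ := hc1
  obtain ⟨b, hb⟩ := hc2
  have h1 : g a = 0 := (mul_eq_zero.mp (h a)).resolve_left ha
  have h2 : f b = 0 := (mul_eq_zero.mp (h b)).resolve_right hb
  have h3 := h (a + b)
  rw [hf, hg, h1, h2, add_zero, zero_add] at h3
  exact (mul_ne_zero ha hb) h3

/-- The semilinearity of autotopisms. -/
theorem semilinear {f g h : F → F} (H : ∀ a b, h (a * b) = f a * g b) (h1 : h 1 ≠ 0) (k a : F) :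
    f (k * a) = h k / h 1 * f a ∧ g (k * a) = h k / h 1 * g a ∧ h (k * a) = h k / h 1 * h a := by
  have e1 : h 1 = f 1 * g 1 := by rw [← H, one_mul]
  have hf1 : f 1 ≠ 0 := by rintro h0; rw [h0, zero_mul] at e1; exact h1 e1
  have hg1 : g 1 ≠ 0 := by rintro h0; rw [h0, mul_zero] at e1; exact h1 e1
  have e2 : ∀ k, h k = f k * g 1 := fun k => by rw [← H, mul_one]
  have e3 : ∀ k, h k = f 1 * g k := fun k => by rw [← H, one_mul]
  have hf : ∀ k a, f (k * a) = h k / h 1 * f a := by
    intro k a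
    have h4 : f (k * a) * g 1 = f a * g k := by rw [← H, ← H, mul_one, mul_comm k]
    have h5 : g k = h k / f 1 := by rw [e3]; field_simp
    rw [h5] at h4
    rw [e1]
    field_simp
    field_simp at h4
    linear_combination h4
  have hg : ∀ k a, g (k * a) = h k / h 1 * g a := by
    intro k a
    have h4 : f 1 * g (k * a) = f k * g a := by rw [← H, ← H, one_mul]
    have h5 : f k = h k / g 1 := by rw [e2]; field_simp
    rw [h5] at h4
    rw [e1]
    field_simp
    field_simp at h4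
    linear_combination h4
  refine ⟨hf k a, hg k a, ?_⟩
  rw [e3 (k * a), hg, e3 a]
  ring

end Field

/-- The environment. -/
structure Env (X : Type*) [Group X] (F : Type*) [Field F] where
  el : F → F → F → X
  el_mul : ∀ a b c a' b' c', el a b c * el a' b' c' = el (a + a') (b + b') (c + c' + a' * b)
  el_inj : ∀ {a b c a' b' c'}, el a b c = el a' b' c' → a = a' ∧ b = b' ∧ c = c'
  t : X
  t_sq : t * t = 1
  t_el : ∀ a b c, t * el a b c = el a b c * t
  t_not : ∀ a b c, el a b c ≠ t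
  /-- torus elements `diag (l, 1, l⁻¹)` -/
  tor : ∀ l : F, l ≠ 0 → ∃ d, d * t = t * d ∧
    ∀ a b c, d * el a b c * d⁻¹ = el (l * a) (l * b) (l * l * c)
  /-- an element of `C(t)` acting trivially on `U / Z` and on `Z` lies in `U⟨t⟩` -/
  cen : ∀ c : X, c * t = t * c → (∀ a b, ∃ m, c * el a b 0 * c⁻¹ = el a b m) →
    (∀ m, c * el 0 0 m = el 0 0 m * c) → ∃ a b m, c = el a b m ∨ c = t * el a b m
  /-- the involutions of `U` are conjugate in `C(t)` -/
  inv_conj : ∀ a b c, el a b c * el a b c = 1 → el a b c ≠ 1 →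
    ∃ g, g * t = t * g ∧ g * el a b c * g⁻¹ = el 0 0 1
  /-- `t` is not conjugate into `A` -/
  t_z : ∀ g, g * t * g⁻¹ ≠ el 0 0 1

namespace Env

variable {X : Type*} [Group X] {F : Type*} [Field F] (E : Env X F)

/-- the elements of the centre `Z` of `U`. -/
def z (c : F) : X := E.el 0 0 c

theorem z_def (c : F) : E.z c = E.el 0 0 c := rfl

theorem el_zero : E.el 0 0 0 = 1 := by
  have h := E.el_mul 0 0 0 0 0 0
  rw [zero_mul, add_zero, add_zero] at h
  exact mul_eq_left.mp h

theorem z_mul (b d : F) : E.z b * E.z d = E.z (b + d) := by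
  rw [z, z, z, E.el_mul, mul_zero, add_zero, add_zero]

theorem z_zero : E.z 0 = 1 := E.el_zero

theorem el_mul_z (a b c d : F) : E.el a b c * E.z d = E.el a b (c + d) := by
  rw [z, E.el_mul, zero_mul, add_zero, add_zero, add_zero]

theorem z_mul_el (a b c d : F) : E.z d * E.el a b c = E.el a b (c + d) := by
  rw [z, E.el_mul, mul_zero, zero_add, zero_add, add_zero, add_comm d]

theorem z_comm (a b c d : F) : E.z d * E.el a b c = E.el a b c * E.z d := by
  rw [z_mul_el, el_mul_z]

theorem z_inj {b d : F} (h : E.z b = E.z d) : b = d := (E.el_inj h).2.2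

theorem z_eq_one {b : F} (h : E.z b = 1) : b = 0 := by
  rw [← E.z_zero] at h; exact E.z_inj h

theorem t_z_comm (c : F) : E.t * E.z c = E.z c * E.t := E.t_el _ _ _

variable [CharP F 2]

theorem z_self (b : F) : E.z b * E.z b = 1 := by
  rw [z_mul, add_self, z_zero]

theorem z_inv (b : F) : (E.z b)⁻¹ = E.z b := by
  rw [inv_eq_iff_mul_eq_one, z_self]

theorem el_sq (a b c : F) : E.el a b c * E.el a b c = E.z (a * b) := by
  rw [E.el_mul, add_self, add_self, add_self, zero_add]; rfl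

theorem el_inv (a b c : F) : (E.el a b c)⁻¹ = E.el a b (c + a * b) := by
  rw [inv_eq_iff_mul_eq_one, E.el_mul, add_self, add_self]
  have : c + (c + a * b) + a * b = (c + c) + (a * b + a * b) := by ring
  rw [this, add_self, add_self, add_zero, el_zero]

theorem el_comm (a b c a' b' c' : F) :
    E.el a b c * E.el a' b' c' = E.z (a' * b + a * b') * (E.el a' b' c' * E.el a b c) := by
  rw [E.el_mul, E.el_mul, z_mul_el]
  congr 1
  · rw [add_comm]
  · rw [add_comm]
  · have : c' + c + a * b' + (a' * b + a * b') = c + c' + a' * b + (a * b' + a * b') := by ring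
    rw [this, add_self, add_zero]

/-- conjugation inside `U`. -/
theorem el_conj (a b c a' b' c' : F) :
    E.el a b c * E.el a' b' c' * (E.el a b c)⁻¹ = E.el a' b' (c' + (a' * b + a * b')) := by
  rw [el_comm, mul_assoc, mul_inv_cancel_right, z_mul_el]

theorem el_eq (a b c : F) : E.el a b c = E.el a 0 0 * E.el 0 b 0 * E.z c := by
  rw [E.el_mul, el_mul_z, add_zero, zero_add, zero_mul, add_zero, add_zero, zero_add]

theorem t_inv : E.t⁻¹ = E.t := by rw [inv_eq_iff_mul_eq_one, E.t_sq]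

theorem t_ne_one : E.t ≠ 1 := fun h => E.t_not 0 0 0 (by rw [E.el_zero, h])

theorem tel_ne (a b c a' b' c' : F) : E.t * E.el a b c ≠ E.el a' b' c' := by
  intro h
  have h1 : E.t = E.el a' b' c' * (E.el a b c)⁻¹ := by rw [← h]; group
  rw [el_inv, E.el_mul] at h1
  exact E.t_not _ _ _ h1.symm

theorem tel_mul (a b c a' b' c' : F) :
    (E.t * E.el a b c) * (E.t * E.el a' b' c') = E.el a b c * E.el a' b' c' := by
  calc (E.t * E.el a b c) * (E.t * E.el a' b' c')
      = E.t * (E.el a b c * E.t) * E.el a' b' c' := by group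
    _ = E.t * E.t * (E.el a b c * E.el a' b' c') := by rw [← E.t_el]; group
    _ = _ := by rw [E.t_sq, one_mul]

theorem tel_sq (a b c : F) : (E.t * E.el a b c) * (E.t * E.el a b c) = E.z (a * b) := by
  rw [tel_mul, el_sq]

/-- the subgroup `U`. -/
def U : Subgroup X where
  carrier := {x | ∃ a b c, x = E.el a b c}
  mul_mem' := by
    rintro _ _ ⟨a, b, c, rfl⟩ ⟨a', b', c', rfl⟩
    exact ⟨_, _, _, E.el_mul _ _ _ _ _ _⟩
  one_mem' := ⟨0, 0, 0, E.el_zero.symm⟩
  inv_mem' := by
    rintro _ ⟨a, b, c, rfl⟩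
    exact ⟨_, _, _, E.el_inv _ _ _⟩

theorem mem_U {x : X} : x ∈ E.U ↔ ∃ a b c, x = E.el a b c := Iff.rfl

theorem el_mem_U (a b c : F) : E.el a b c ∈ E.U := ⟨a, b, c, rfl⟩

/-- the subgroup `J = U × ⟨t⟩`. -/
def J : Subgroup X where
  carrier := {x | ∃ a b c, x = E.el a b c ∨ x = E.t * E.el a b c}
  mul_mem' := by
    rintro _ _ ⟨a, b, c, rfl | rfl⟩ ⟨a', b', c', rfl | rfl⟩
    · exact ⟨_, _, _, Or.inl (E.el_mul _ _ _ _ _ _)⟩
    · exact ⟨_, _, _, Or.inr (by rw [← mul_assoc, ← E.t_el, mul_assoc, E.el_mul])⟩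
    · exact ⟨_, _, _, Or.inr (by rw [mul_assoc, E.el_mul])⟩
    · exact ⟨_, _, _, Or.inl (by rw [E.tel_mul, E.el_mul])⟩
  one_mem' := ⟨0, 0, 0, Or.inl E.el_zero.symm⟩
  inv_mem' := by
    rintro _ ⟨a, b, c, rfl | rfl⟩
    · exact ⟨_, _, _, Or.inl (E.el_inv _ _ _)⟩
    · exact ⟨_, _, _, Or.inr (by rw [mul_inv_rev, E.t_inv, E.el_inv, ← E.t_el])⟩

theorem mem_J {x : X} : x ∈ E.J ↔ ∃ a b c, x = E.el a b c ∨ x = E.t * E.el a b c := Iff.rfl

theorem el_mem_J (a b c : F) : E.el a b c ∈ E.J := ⟨a, b, c, Or.inl rfl⟩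

theorem t_mem_J : E.t ∈ E.J := ⟨0, 0, 0, Or.inr (by rw [E.el_zero, mul_one])⟩

/-- an element of `J` commuting with `U` is in `Z` or `t Z`. -/
theorem mem_center_J {x : X} (hx : x ∈ E.J) (h : ∀ a b c, x * E.el a b c = E.el a b c * x) :
    ∃ c, x = E.z c ∨ x = E.t * E.z c := by
  obtain ⟨a, b, c, hx⟩ := hx
  have key : a = 0 ∧ b = 0 := by
    have h3 : ∀ a' b', E.el a b c * E.el a' b' 0 = E.el a' b' 0 * E.el a b c := by
      intro a' b'
      rcases hx with rfl | rfl
      · exact h a' b' 0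
      · have h1 := h a' b' 0
        have h2 : E.t * (E.el a b c * E.el a' b' 0) = E.t * (E.el a' b' 0 * E.el a b c) := by
          rw [← mul_assoc, h1, ← mul_assoc, ← E.t_el, mul_assoc]
        exact mul_left_cancel h2
    have h4 : ∀ a' b', a' * b + a * b' = 0 := by
      intro a' b'
      have h5 := E.el_conj a b c a' b' 0
      rw [h3, mul_inv_cancel_right] at h5
      have h6 := (E.el_inj h5).2.2
      rw [zero_add] at h6
      exact h6.symm
    have h5 := h4 1 0
    have h6 := h4 0 1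
    rw [one_mul, mul_zero, add_zero] at h5
    rw [zero_mul, mul_one, zero_add] at h6
    exact ⟨h6, h5⟩
  obtain ⟨rfl, rfl⟩ := key
  exact ⟨c, hx⟩

/-- the action type of an element: multiplication by `l` on `U / Z`, by `l ^ 2` on `Z`, and
`t ↦ t z u`. -/
structure Act (x : X) (l u : F) : Prop where
  t : x * E.t * x⁻¹ = E.t * E.z u
  el : ∀ a b c, ∃ c', x * E.el a b c * x⁻¹ = E.el (l * a) (l * b) c'
  z : ∀ c, x * E.z c * x⁻¹ = E.z (l * l * c)

variable {E}

theorem Act.mul {x y : X} {l u m v : F} (h : E.Act x l u) (h' : E.Act y m v) :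
    E.Act (x * y) (l * m) (u + l * l * v) := by
  refine ⟨?_, ?_, ?_⟩
  · calc x * y * E.t * (x * y)⁻¹ = x * (y * E.t * y⁻¹) * x⁻¹ := by group
      _ = (x * E.t * x⁻¹) * (x * E.z v * x⁻¹) := by rw [h'.t]; group
      _ = E.t * E.z (u + l * l * v) := by rw [h.t, h.z, mul_assoc, E.z_mul]
  · intro a b c
    obtain ⟨c', hc'⟩ := h'.el a b c
    obtain ⟨c'', hc''⟩ := h.el (m * a) (m * b) c'
    refine ⟨c'', ?_⟩
    rw [mul_assoc l, mul_assoc l, ← hc'', ← hc']
    group
  · intro c
    calc x * y * E.z c * (x * y)⁻¹ = x * (y * E.z c * y⁻¹) * x⁻¹ := by group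
      _ = E.z (l * m * (l * m) * c) := by rw [h'.z, h.z]; congr 1; ring

theorem Act.inv {x : X} {l u : F} (hl : l ≠ 0) (h : E.Act x l u) :
    E.Act x⁻¹ l⁻¹ (l⁻¹ * l⁻¹ * u) := by
  have hz : ∀ c, x⁻¹ * E.z c * x⁻¹⁻¹ = E.z (l⁻¹ * l⁻¹ * c) := by
    intro c
    have h1 := h.z (l⁻¹ * l⁻¹ * c)
    have h2 : l * l * (l⁻¹ * l⁻¹ * c) = c := by field_simp
    rw [h2] at h1
    rw [← h1]
    group
  refine ⟨?_, ?_, hz⟩
  · have h1 : x⁻¹ * (x * E.t * x⁻¹) * x = E.t := by group
    rw [h.t] at h1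
    have h2 : x⁻¹ * E.t * x⁻¹⁻¹ = x⁻¹ * (E.t * E.z u) * x * (x⁻¹ * E.z u * x⁻¹⁻¹)⁻¹ := by group
    rw [h2, h1, hz, E.z_inv]
  · intro a b c
    obtain ⟨c', hc'⟩ := h.el (l⁻¹ * a) (l⁻¹ * b) 0
    have h1 : l * (l⁻¹ * a) = a := by field_simp
    have h2 : l * (l⁻¹ * b) = b := by field_simp
    rw [h1, h2] at hc'
    have h3 : x⁻¹ * E.el a b c' * x⁻¹⁻¹ = E.el (l⁻¹ * a) (l⁻¹ * b) 0 := by
      rw [← hc']; group
    have h4 : E.el a b c = E.el a b c' * E.z (c' + c) := by
      rw [E.el_mul_z, ← add_assoc, add_self, zero_add]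
    refine ⟨0 + (l⁻¹ * l⁻¹ * (c' + c)), ?_⟩
    calc x⁻¹ * E.el a b c * x⁻¹⁻¹ = (x⁻¹ * E.el a b c' * x⁻¹⁻¹) *
          (x⁻¹ * E.z (c' + c) * x⁻¹⁻¹) := by rw [h4]; group
      _ = _ := by rw [h3, hz, E.el_mul_z]

variable (E)

theorem act_of_tor {d : X} {l : F} (h1 : d * E.t = E.t * d)
    (h2 : ∀ a b c, d * E.el a b c * d⁻¹ = E.el (l * a) (l * b) (l * l * c)) : E.Act d l 0 := by
  refine ⟨?_, fun a b c => ⟨_, h2 a b c⟩, fun c => ?_⟩
  · rw [h1, mul_inv_cancel_right, z_zero, mul_one]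
  · have := h2 0 0 c
    rw [mul_zero] at this
    exact this

theorem exists_tor (l : F) (hl : l ≠ 0) : ∃ d, d * E.t = E.t * d ∧ E.Act d l 0 ∧
    ∀ a b c, d * E.el a b c * d⁻¹ = E.el (l * a) (l * b) (l * l * c) := by
  obtain ⟨d, h1, h2⟩ := E.tor l hl
  exact ⟨d, h1, E.act_of_tor h1 h2, h2⟩

end Env

end Cfsg.Agent.StdRank2.L3Env
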