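import Cfsg.Agent.StdRank2.FrameL3

/-!
# `U`, the Sylow 2-subgroup, the Borel subgroup, generation and involutions for `FrameL3`
-/

set_option autoImplicit false
set_option linter.unusedSimpArgs false

namespace Cfsg.Agent.StdRank2.FrameL3

open Matrix
open Matrix.SpecialLinearGroup (transvection)
open Cfsg.Agent.ClassicalGeometry.AutPSL.Root
open Cfsg.Agent.ClassicalGeometry.AutPSL.SylowU
open Cfsg.Agent.StdRank2.FrameLift
open Cfsg.Agent.StdRank2.ModelL3
open scoped commutatorElement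

variable {G : Type*} [Group G] {A : Subgroup G} {F : Type*} [Field F] (R : FrameL3 A F)

theorem h01 : (0 : Fin 3) ≠ 1 := by decide
theorem h12 : (1 : Fin 3) ≠ 2 := by decide
theorem h02 : (0 : Fin 3) ≠ 2 := by decide

/-- The positive unipotent subgroup. -/
def U (R : FrameL3 A F) : Subgroup G :=
  Subgroup.closure {g | ∃ (i j : Fin 3) (_ : i < j) (s : F), g = R.x i j s}

/-- The normal form of the elements of `U`. -/
def el (R : FrameL3 A F) (a b c : F) : G := R.x 0 1 a * R.x 1 2 b * R.x 0 2 c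

theorem x_mem_U {i j : Fin 3} (h : i < j) (s : F) : R.x i j s ∈ R.U :=
  Subgroup.subset_closure ⟨i, j, h, s, rfl⟩

theorem el_mem_A (a b c : F) : R.el a b c ∈ A :=
  mul_mem (mul_mem (R.mem h01 a) (R.mem h12 b)) (R.mem h02 c)

theorem el_mem_U (a b c : F) : R.el a b c ∈ R.U :=
  mul_mem (mul_mem (R.x_mem_U (by decide) a) (R.x_mem_U (by decide) b))
    (R.x_mem_U (by decide) c)

theorem U_le : R.U ≤ A := by
  rw [U, Subgroup.closure_le]
  rintro g ⟨i, j, h, s, rfl⟩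
  exact R.mem h.ne s

theorem f_el (a b c : F) : R.f ⟨R.el a b c, R.el_mem_A a b c⟩
    = pr (transvection h01 a * transvection h12 b * transvection h02 c) := by
  have h1 : (⟨R.el a b c, R.el_mem_A a b c⟩ : ↥A) = R.X h01 a * R.X h12 b * R.X h02 c := rfl
  rw [h1, map_mul, map_mul, R.f_X, R.f_X, R.f_X, map_mul, map_mul]

theorem coe_upper_el (a b c : F) :
    (transvection h01 a * transvection h12 b * transvection h02 c :
      Matrix.SpecialLinearGroup (Fin 3) F) =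
      (!![1, a, c + a * b; 0, 1, b; 0, 0, 1] : Matrix (Fin 3) (Fin 3) F) := by
  rw [Matrix.SpecialLinearGroup.coe_mul, Matrix.SpecialLinearGroup.coe_mul, coe_transvection,
    coe_transvection, coe_transvection]
  ext i j
  fin_cases i <;> fin_cases j <;>
    simp [Matrix.mul_apply, Fin.sum_univ_three, Matrix.one_apply, single_apply]

theorem upper_el_mem [Finite F] (a b c : F) :
    transvection h01 a * transvection h12 b * transvection h02 c ∈ upper 3 F := by
  rw [mem_upper]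
  intro i j hij
  rw [coe_upper_el]
  fin_cases i <;> fin_cases j <;> first | rfl | exact absurd hij (by decide)

theorem exists_upper_el [Finite F] {u : Matrix.SpecialLinearGroup (Fin 3) F} (hu : u ∈ upper 3 F) :
    ∃ a b c : F, u = transvection h01 a * transvection h12 b * transvection h02 c := by
  refine ⟨(u : Matrix (Fin 3) (Fin 3) F) 0 1, (u : Matrix (Fin 3) (Fin 3) F) 1 2,
    (u : Matrix (Fin 3) (Fin 3) F) 0 2 - (u : Matrix (Fin 3) (Fin 3) F) 0 1 *
      (u : Matrix (Fin 3) (Fin 3) F) 1 2, ?_⟩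
  apply Subtype.ext
  rw [coe_upper_el]
  rw [mem_upper] at hu
  ext i j
  fin_cases i <;> fin_cases j
  · exact hu 0 0 le_rfl
  · rfl
  · simp
  · exact hu 1 0 (by decide)
  · exact hu 1 1 le_rfl
  · rfl
  · exact hu 2 0 (by decide)
  · exact hu 2 1 (by decide)
  · exact hu 2 2 le_rfl

theorem el_inj [Finite F] {a b c a' b' c' : F} :
    R.el a b c = R.el a' b' c' ↔ a = a' ∧ b = b' ∧ c = c' := by
  constructor
  · intro h
    have h1 : R.f ⟨R.el a b c, R.el_mem_A a b c⟩ = R.f ⟨R.el a' b' c', R.el_mem_A a' b' c'⟩ := by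
      congr 1
      exact Subtype.ext h
    rw [f_el, f_el] at h1
    have h2 := pr_injOn_upper (upper_el_mem a b c) (upper_el_mem a' b' c') h1
    have h3 : ∀ i j, (!![1, a, c + a * b; 0, 1, b; 0, 0, 1] : Matrix (Fin 3) (Fin 3) F) i j
        = (!![1, a', c' + a' * b'; 0, 1, b'; 0, 0, 1] : Matrix (Fin 3) (Fin 3) F) i j := by
      intro i j
      rw [← coe_upper_el, ← coe_upper_el, h2]
    have ha : a = a' := h3 0 1
    have hb : b = b' := h3 1 2
    have hc : c + a * b = c' + a' * b' := h3 0 2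
    refine ⟨ha, hb, ?_⟩
    rw [ha, hb] at hc
    exact add_right_cancel hc
  · rintro ⟨rfl, rfl, rfl⟩
    rfl

section Odd

variable [CharP F 2] (hZ : Odd (Nat.card (Subgroup.center ↥A)))
include hZ

theorem el_mul (a b c a' b' c' : F) :
    R.el a b c * R.el a' b' c' = R.el (a + a') (b + b') (c + c' + a' * b) := by
  unfold el
  have e1 := R.comm hZ h02 h01 (by decide) (by decide) c a'
  have e2 := R.comm hZ h02 h12 (by decide) (by decide) c b'
  have e3 := R.mul_swap hZ h01 h12 h02 a' b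
  have e4 := R.comm hZ h02 h01 (by decide) (by decide) (a' * b) a
  have e5 := R.comm hZ h02 h12 (by decide) (by decide) (a' * b) b
  have e6 := R.comm hZ h02 h12 (by decide) (by decide) (a' * b) b'
  calc R.x 0 1 a * R.x 1 2 b * R.x 0 2 c * (R.x 0 1 a' * R.x 1 2 b' * R.x 0 2 c')
      = R.x 0 1 a * R.x 1 2 b * (R.x 0 2 c * R.x 0 1 a') * R.x 1 2 b' * R.x 0 2 c' := by
        simp only [mul_assoc]
    _ = R.x 0 1 a * (R.x 1 2 b * R.x 0 1 a') * (R.x 0 2 c * R.x 1 2 b') * R.x 0 2 c' := by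
        rw [e1]; simp only [mul_assoc]
    _ = (R.x 0 1 a * R.x 0 2 (a' * b)) * R.x 0 1 a' * R.x 1 2 b * (R.x 1 2 b' * R.x 0 2 c)
          * R.x 0 2 c' := by
        rw [e3, e2]; simp only [mul_assoc]
    _ = R.x 0 2 (a' * b) * (R.x 0 1 a * R.x 0 1 a') * (R.x 1 2 b * R.x 1 2 b') *
          (R.x 0 2 c * R.x 0 2 c') := by
        rw [← e4]; simp only [mul_assoc]
    _ = R.x 0 2 (a' * b) * (R.x 0 1 (a + a') * R.x 1 2 (b + b')) * R.x 0 2 (c + c') := by
        rw [R.add hZ h01, R.add hZ h12, R.add hZ h02]; simp only [mul_assoc]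
    _ = (R.x 0 1 (a + a') * R.x 1 2 (b + b')) * R.x 0 2 (a' * b) * R.x 0 2 (c + c') := by
        have e7 := R.comm hZ h02 h01 (by decide) (by decide) (a' * b) (a + a')
        have e8 := R.comm hZ h02 h12 (by decide) (by decide) (a' * b) (b + b')
        rw [← mul_assoc (R.x 0 2 (a' * b)), e7, mul_assoc (R.x 0 1 (a + a')), e8]
        simp only [mul_assoc]
    _ = _ := by
        rw [mul_assoc _ (R.x 0 2 (a' * b)), R.add hZ h02, add_comm (a' * b)]

theorem el_zero : R.el 0 0 0 = 1 := by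
  rw [el, R.x_zero hZ h01, R.x_zero hZ h12, R.x_zero hZ h02, one_mul, one_mul]

theorem el_sq (a b c : F) : R.el a b c * R.el a b c = R.x 0 2 (a * b) := by
  rw [R.el_mul hZ, CharTwo.add_self_eq_zero, CharTwo.add_self_eq_zero, CharTwo.add_self_eq_zero,
    zero_add, el, R.x_zero hZ h01, R.x_zero hZ h12, one_mul, one_mul]

theorem el_inv (a b c : F) : (R.el a b c)⁻¹ = R.el a b (c + a * b) := by
  rw [inv_eq_iff_mul_eq_one, R.el_mul hZ]
  have h1 : c + (c + a * b) + a * b = 0 := by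
    rw [show c + (c + a * b) + a * b = (c + c) + (a * b + a * b) by ring,
      CharTwo.add_self_eq_zero, CharTwo.add_self_eq_zero, add_zero]
  rw [CharTwo.add_self_eq_zero, CharTwo.add_self_eq_zero, h1, R.el_zero hZ]

theorem mem_U {g : G} : g ∈ R.U ↔ ∃ a b c : F, g = R.el a b c := by
  constructor
  · intro hg
    refine Subgroup.closure_induction (p := fun g _ => ∃ a b c : F, g = R.el a b c) ?_ ?_ ?_ ?_ hg
    · rintro g ⟨i, j, h, s, rfl⟩
      have hcases : (i = 0 ∧ j = 1) ∨ (i = 1 ∧ j = 2) ∨ (i = 0 ∧ j = 2) := by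
        revert i j; decide
      rcases hcases with ⟨rfl, rfl⟩ | ⟨rfl, rfl⟩ | ⟨rfl, rfl⟩
      · exact ⟨s, 0, 0, by rw [el, R.x_zero hZ h12, R.x_zero hZ h02, mul_one, mul_one]⟩
      · exact ⟨0, s, 0, by rw [el, R.x_zero hZ h01, R.x_zero hZ h02, mul_one, one_mul]⟩
      · exact ⟨0, 0, s, by rw [el, R.x_zero hZ h01, R.x_zero hZ h12, one_mul, one_mul]⟩
    · exact ⟨0, 0, 0, (R.el_zero hZ).symm⟩
    · rintro x y _ _ ⟨a, b, c, rfl⟩ ⟨a', b', c', rfl⟩
      exact ⟨_, _, _, R.el_mul hZ a b c a' b' c'⟩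
    · rintro x _ ⟨a, b, c, rfl⟩
      exact ⟨_, _, _, R.el_inv hZ a b c⟩
  · rintro ⟨a, b, c, rfl⟩
    exact R.el_mem_U a b c

theorem pow_four_U {g : G} (hg : g ∈ R.U) : g ^ 4 = 1 := by
  obtain ⟨a, b, c, rfl⟩ := (R.mem_U hZ).1 hg
  rw [show 4 = 2 * 2 by norm_num, pow_mul, pow_two, pow_two, R.el_sq hZ, R.two h02]

theorem isPGroup_U : IsPGroup 2 R.U := fun g =>
  ⟨2, Subtype.ext (by simpa using R.pow_four_U hZ g.2)⟩

theorem card_U [Finite F] : Nat.card R.U = Nat.card F ^ 3 := by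
  have e : (F × F × F) ≃ R.U := Equiv.ofBijective
    (fun p => ⟨R.el p.1 p.2.1 p.2.2, R.el_mem_U _ _ _⟩) (by
      constructor
      · rintro ⟨a, b, c⟩ ⟨a', b', c'⟩ h
        have h1 := (R.el_inj).1 (congrArg Subtype.val h)
        obtain ⟨rfl, rfl, rfl⟩ := h1
        rfl
      · rintro ⟨g, hg⟩
        obtain ⟨a, b, c, rfl⟩ := (R.mem_U hZ).1 hg
        exact ⟨(a, b, c), rfl⟩)
  rw [← Nat.card_congr e, Nat.card_prod, Nat.card_prod]
  ring

omit hZ in
theorem isPGroup_upper [Finite F] : IsPGroup 2 ((upper 3 F).map pr) := by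
  have : Fact (Nat.Prime 2) := ⟨Nat.prime_two⟩
  have := Fintype.ofFinite F
  obtain ⟨S, hS⟩ := exists_sylow (F := F) 3 2
  rw [← hS]
  exact S.isPGroup'

theorem subgroupOf_U_eq [Finite G] [Finite F] :
    R.U.subgroupOf A = (R.cover hZ).up (isPGroup_upper (F := F)) := by
  ext g
  rw [(R.cover hZ).mem_up, Subgroup.mem_subgroupOf]
  constructor
  · intro hg
    refine ⟨⟨2, Subtype.ext (by simpa using R.pow_four_U hZ hg)⟩, ?_⟩
    obtain ⟨a, b, c, hc⟩ := (R.mem_U hZ).1 hg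
    have h1 : g = ⟨R.el a b c, R.el_mem_A a b c⟩ := Subtype.ext hc
    rw [h1, f_el]
    exact ⟨_, upper_el_mem a b c, rfl⟩
  · rintro ⟨h1, u, hu, h2⟩
    obtain ⟨a, b, c, rfl⟩ := exists_upper_el hu
    have h3 : g = ⟨R.el a b c, R.el_mem_A a b c⟩ := by
      apply (R.cover hZ).eq_of_map_eq h1
      · exact ⟨2, Subtype.ext (by simpa using R.pow_four_U hZ (R.el_mem_U a b c))⟩
      · rw [← h2, f_el]
    rw [h3]
    exact R.el_mem_U a b c

/-- `U` has odd index in `A`. -/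
theorem not_two_dvd_relIndex [Finite G] [Finite F] : ¬ 2 ∣ R.U.relIndex A := by
  have : Fact (Nat.Prime 2) := ⟨Nat.prime_two⟩
  have := Fintype.ofFinite F
  obtain ⟨S, hS⟩ := exists_sylow (F := F) 3 2
  have h1 : ¬ 2 ∣ ((upper 3 F).map pr : Subgroup (Matrix.ProjectiveSpecialLinearGroup (Fin 3) F)).index := by
    rw [← hS]
    exact S.not_dvd_index
  have h2 := (R.cover hZ).card_two_part (isPGroup_upper (F := F)) h1
  rw [← R.subgroupOf_U_eq hZ] at h2
  exact h2

/-- `U` is a Sylow 2-subgroup of `A`. -/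
theorem exists_sylow_U [Finite G] [Finite F] :
    ∃ S : Sylow 2 ↥A, (S : Subgroup ↥A) = R.U.subgroupOf A := by
  have : Fact (Nat.Prime 2) := ⟨Nat.prime_two⟩
  have hP : IsPGroup 2 (R.U.subgroupOf A) := by
    rw [R.subgroupOf_U_eq hZ]
    exact (R.cover hZ).isPGroup_up _
  exact ⟨hP.toSylow (R.not_two_dvd_relIndex hZ), rfl⟩

/-- The centre of `U` is the root group `x 0 2`. -/
theorem mem_center_U [Finite F] {g : G} (hg : g ∈ R.U) (h : ∀ v ∈ R.U, g * v = v * g) :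
    ∃ c, g = R.x 0 2 c := by
  obtain ⟨a, b, c, rfl⟩ := (R.mem_U hZ).1 hg
  have h1 := h _ (R.el_mem_U 1 0 0)
  have h2 := h _ (R.el_mem_U 0 1 0)
  rw [R.el_mul hZ, R.el_mul hZ, R.el_inj] at h1 h2
  have hb : b = 0 := by
    have := h1.2.2
    simpa using this
  have ha : a = 0 := by
    have := h2.2.2
    simpa using this.symm
  refine ⟨c, ?_⟩
  rw [ha, hb, el, R.x_zero hZ h01, R.x_zero hZ h12, one_mul, one_mul]

/-- Conjugates of the elements of `U` by a torus element. -/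
theorem Tor.conj_el {R : FrameL3 A F} {y : G} {c : Fin 3 → F} (h : R.Tor y c) (a b d : F) :
    y * R.el a b d * y⁻¹
      = R.el (c 0 * a * (c 1)⁻¹) (c 1 * b * (c 2)⁻¹) (c 0 * d * (c 2)⁻¹) := by
  unfold el
  rw [← h.conj hZ h01, ← h.conj hZ h12, ← h.conj hZ h02]
  group

theorem Tor.normalizes {R : FrameL3 A F} {y : G} {c : Fin 3 → F} (h : R.Tor y c) :
    y ∈ Subgroup.normalizer (R.U : Set G) := by
  have key : ∀ {y : G} {c : Fin 3 → F}, R.Tor y c → ∀ g ∈ R.U, y * g * y⁻¹ ∈ R.U := by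
    intro y c h g hg
    obtain ⟨a, b, d, rfl⟩ := (R.mem_U hZ).1 hg
    rw [h.conj_el hZ]
    exact R.el_mem_U _ _ _
  rw [Subgroup.mem_normalizer_iff]
  intro g
  refine ⟨key h g, fun hg => ?_⟩
  have := key h.inv _ hg
  simpa [mul_assoc] using this

/-- The normaliser of `U` in `A`. -/
theorem mem_normalizer_U [Finite F] {g : G} (hg : g ∈ A) :
    g ∈ Subgroup.normalizer (R.U : Set G) ↔
      ∃ (u : G) (c : Fin 3 → F) (y : G), u ∈ R.U ∧ R.Tor y c ∧ g = u * y := by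
  constructor
  · intro hn
    have hmem : ∀ v, v ∈ R.U ↔ g * v * g⁻¹ ∈ R.U := fun v => Subgroup.mem_normalizer_iff.1 hn v
    have h1 : g * R.x 0 2 1 * g⁻¹ ∈ R.U := (hmem _).1 (R.x_mem_U (by decide) 1)
    obtain ⟨t, ht⟩ := R.mem_center_U hZ h1 (by
      intro v hv
      have h2 : g⁻¹ * v * g ∈ R.U := by
        rw [hmem]
        have : g * (g⁻¹ * v * g) * g⁻¹ = v := by group
        rwa [this]
      obtain ⟨a, b, c, habc⟩ := (R.mem_U hZ).1 h2
      have h3 : R.x 0 2 1 * (g⁻¹ * v * g) = (g⁻¹ * v * g) * R.x 0 2 1 := by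
        rw [habc]
        have h4 : R.x 0 2 1 = R.el 0 0 1 := by
          rw [el, R.x_zero hZ h01, R.x_zero hZ h12, one_mul, one_mul]
        rw [h4, R.el_mul hZ, R.el_mul hZ]
        congr 1 <;> ring
      calc g * R.x 0 2 1 * g⁻¹ * v = g * (R.x 0 2 1 * (g⁻¹ * v * g)) * g⁻¹ := by group
        _ = g * ((g⁻¹ * v * g) * R.x 0 2 1) * g⁻¹ := by rw [h3]
        _ = v * (g * R.x 0 2 1 * g⁻¹) := by group)
    obtain ⟨a, b, d, c, y, hy, -, he⟩ := R.borel hZ h02 h01 h12 hg one_ne_zero ht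
    refine ⟨_, c, y, ?_, hy, he⟩
    exact mul_mem (mul_mem (R.x_mem_U (by decide) d) (R.x_mem_U (by decide) a))
      (R.x_mem_U (by decide) b)
  · rintro ⟨u, c, y, hu, hy, rfl⟩
    exact mul_mem (Subgroup.le_normalizer hu) (hy.normalizes hZ)

/-- The centraliser of `U` in `A` is `Z(A)` times the root group `x 0 2`. -/
theorem centralizer_U [Finite F] {g : G} (hg : g ∈ A) (h1 : g * R.x 0 1 1 = R.x 0 1 1 * g)
    (h2 : g * R.x 1 2 1 = R.x 1 2 1 * g) :
    ∃ (d : F) (z : G), z ∈ A ∧ (∀ a ∈ A, z * a = a * z) ∧ g = R.x 0 2 d * z := by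
  have hcomm : g * R.x 0 2 1 * g⁻¹ = R.x 0 2 1 := by
    have e := R.conj hZ h01 h12 h02 1 1
    rw [mul_one] at e
    have e' : R.x 0 2 1 = R.x 0 1 1 * R.x 1 2 1 * (R.x 0 1 1)⁻¹ * (R.x 1 2 1)⁻¹ := by
      rw [e, mul_inv_cancel_right]
    have c1 : Commute g (R.x 0 1 1) := h1
    have c2 : Commute g (R.x 1 2 1) := h2
    have c3 : Commute g (R.x 0 2 1) := by
      rw [e']
      exact ((c1.mul_right c2).mul_right c1.inv_right).mul_right c2.inv_right
    rw [c3.eq, mul_inv_cancel_right]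
  obtain ⟨a, b, d, c, y, hy, hc, he⟩ := R.borel hZ h02 h01 h12 hg one_ne_zero hcomm
  -- g = x02 d * x01 a * x12 b * y
  have hel : R.x 0 2 d * R.x 0 1 a * R.x 1 2 b = R.el a b d := by
    have e1 := R.comm hZ h02 h01 (by decide) (by decide) d a
    have e2 := R.comm hZ h02 h12 (by decide) (by decide) d b
    rw [e1, mul_assoc, e2, ← mul_assoc]; rfl
  rw [hel] at he
  have hx01 : R.x 0 1 1 = R.el 1 0 0 := by
    rw [el, R.x_zero hZ h12, R.x_zero hZ h02, mul_one, mul_one]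
  have hx12 : R.x 1 2 1 = R.el 0 1 0 := by
    rw [el, R.x_zero hZ h01, R.x_zero hZ h02, mul_one, one_mul]
  have k1 : R.el a b d * (y * R.el 1 0 0 * y⁻¹) = R.el 1 0 0 * R.el a b d := by
    rw [← hx01]
    have : R.el a b d = g * y⁻¹ := by rw [he]; group
    rw [this]
    calc g * y⁻¹ * (y * R.x 0 1 1 * y⁻¹) = (g * R.x 0 1 1) * y⁻¹ := by group
      _ = R.x 0 1 1 * (g * y⁻¹) := by rw [h1]; group
  have k2 : R.el a b d * (y * R.el 0 1 0 * y⁻¹) = R.el 0 1 0 * R.el a b d := by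
    rw [← hx12]
    have : R.el a b d = g * y⁻¹ := by rw [he]; group
    rw [this]
    calc g * y⁻¹ * (y * R.x 1 2 1 * y⁻¹) = (g * R.x 1 2 1) * y⁻¹ := by group
      _ = R.x 1 2 1 * (g * y⁻¹) := by rw [h2]; group
  rw [hy.conj_el hZ, R.el_mul hZ, R.el_mul hZ, R.el_inj] at k1 k2
  have m1 : c 0 * (c 1)⁻¹ = 1 := by
    have := k1.1
    rw [add_comm] at this
    simpa using this
  have m2 : c 1 * (c 2)⁻¹ = 1 := by
    have := k2.2.1
    rw [add_comm] at this
    simpa using this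
  have m3 : b = 0 := by
    have := k1.2.2
    simp only [mul_one, mul_zero, zero_mul, add_zero, zero_add, m1, one_mul] at this
    simpa using this
  have m4 : a = 0 := by
    have := k2.2.2
    simpa using this.symm
  have c1 := hy.ne_zero 1
  have c2 := hy.ne_zero 2
  refine ⟨d, y, hy.mem, hy.central ((mul_inv_eq_one₀ c1).1 m1) ((mul_inv_eq_one₀ c2).1 m2), ?_⟩
  rw [he, m3, m4, el, R.x_zero hZ h01, R.x_zero hZ h12, one_mul, one_mul]

/-- `A` is generated by the root elements modulo its centre. -/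
theorem exists_closure_mul {g : G} (hg : g ∈ A) :
    ∃ u ∈ Subgroup.closure {g : G | ∃ (i j : Fin 3) (_ : i ≠ j) (s : F), g = R.x i j s},
      ∃ z ∈ A, (∀ a ∈ A, z * a = a * z) ∧ g = u * z := by
  obtain ⟨M, hM⟩ := pr_surjective (R.f ⟨g, hg⟩)
  have key : ∀ M : Matrix.SpecialLinearGroup (Fin 3) F,
      ∃ u : ↥A, (u : G) ∈ Subgroup.closure
        {g : G | ∃ (i j : Fin 3) (_ : i ≠ j) (s : F), g = R.x i j s} ∧ R.f u = pr M := by
    intro M
    refine Cfsg.Agent.LieClassical.SLGen.transvection_induction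
      (fun M => ∃ u : ↥A, (u : G) ∈ Subgroup.closure
        {g : G | ∃ (i j : Fin 3) (_ : i ≠ j) (s : F), g = R.x i j s} ∧ R.f u = pr M) ?_ ?_ M
    · intro i j h c
      exact ⟨R.X h c, Subgroup.subset_closure ⟨i, j, h, c, rfl⟩, R.f_X h c⟩
    · rintro B C ⟨u, hu, hu'⟩ ⟨v, hv, hv'⟩
      exact ⟨u * v, mul_mem hu hv, by rw [map_mul, map_mul, hu', hv']⟩
  obtain ⟨u, hu, hu'⟩ := key M
  refine ⟨u, hu, (u : G)⁻¹ * g, mul_mem (inv_mem u.2) hg, ?_, by group⟩
  have h1 : u⁻¹ * ⟨g, hg⟩ ∈ Subgroup.center ↥A := by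
    rw [← R.mem_ker_f, MonoidHom.mem_ker, map_mul, map_inv, hu', hM, inv_mul_cancel]
  intro a ha
  exact (congrArg Subtype.val (Subgroup.mem_center_iff.1 h1 ⟨a, ha⟩)).symm

/-- If `A` is perfect it is generated by the root elements. -/
theorem closure_eq (hA : ⁅A, A⁆ = A) :
    Subgroup.closure {g : G | ∃ (i j : Fin 3) (_ : i ≠ j) (s : F), g = R.x i j s} = A := by
  apply le_antisymm
  · rw [Subgroup.closure_le]
    rintro g ⟨i, j, h, s, rfl⟩
    exact R.mem h s
  · have h1 : ⁅A, A⁆ ≤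
        Subgroup.closure {g : G | ∃ (i j : Fin 3) (_ : i ≠ j) (s : F), g = R.x i j s} := by
      rw [Subgroup.commutator_le]
      intro g hg k hk
      obtain ⟨u, hu, z, hz, hzc, rfl⟩ := R.exists_closure_mul hZ hg
      obtain ⟨v, hv, z', hz', hzc', rfl⟩ := R.exists_closure_mul hZ hk
      have huA : u ∈ A := by
        have := mul_mem hg (inv_mem hz)
        simpa using this
      have hvA : v ∈ A := by
        have := mul_mem hk (inv_mem hz')
        simpa using this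
      have e : ⁅u * z, v * z'⁆ = ⁅u, v⁆ := by
        rw [commutatorElement_def, commutatorElement_def]
        have c1 : z * (v * z') = v * z' * z := hzc _ hk
        have c2 : z' * u⁻¹ = u⁻¹ * z' := hzc' _ (inv_mem huA)
        calc u * z * (v * z') * (u * z)⁻¹ * (v * z')⁻¹
            = u * (z * (v * z')) * z⁻¹ * u⁻¹ * z'⁻¹ * v⁻¹ := by group
          _ = u * v * (z' * u⁻¹) * z'⁻¹ * v⁻¹ := by rw [c1]; group
          _ = u * v * u⁻¹ * v⁻¹ := by rw [c2]; group
      rw [e, commutatorElement_def]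
      exact mul_mem (mul_mem (mul_mem hu hv) (inv_mem hu)) (inv_mem hv)
    rw [hA] at h1
    exact h1

/-- All root elements `≠ 1` in one root group are conjugate under the torus. -/
theorem conj_x02 {i j k : Fin 3} (hij : i ≠ j) (hik : i ≠ k) (hkj : k ≠ j) {s t : F} (hs : s ≠ 0)
    (ht : t ≠ 0) : ∃ y ∈ A, y * R.x i j s * y⁻¹ = R.x i j t := by
  have hst : t / s ≠ 0 := div_ne_zero ht hs
  have h := R.tor_w hZ hik hst
  refine ⟨_, h.mem, ?_⟩
  rw [h.conj hZ hij]
  congr 1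
  simp only [if_true, if_neg hij.symm, if_neg hkj.symm, inv_one, mul_one]
  rw [div_mul_cancel₀ _ hs]

/-- All involutions of `A` are conjugate in `A`. -/
theorem involution_conj [Finite G] [Finite F] {g : G} (hg : g ∈ A) (hg2 : g * g = 1)
    (hg1 : g ≠ 1) : ∃ y ∈ A, y * g * y⁻¹ = R.x 0 2 1 := by
  have : Fact (Nat.Prime 2) := ⟨Nat.prime_two⟩
  obtain ⟨S, hS⟩ := R.exists_sylow_U hZ
  -- conjugate into U
  have hP : IsPGroup 2 (Subgroup.zpowers (⟨g, hg⟩ : ↥A)) := by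
    intro x
    refine ⟨1, ?_⟩
    obtain ⟨n, hn⟩ := Subgroup.mem_zpowers_iff.1 x.2
    apply Subtype.ext
    have h2 : (⟨g, hg⟩ : ↥A) * ⟨g, hg⟩ = 1 := Subtype.ext hg2
    rw [pow_one, SubmonoidClass.coe_pow, ← hn, OneMemClass.coe_one, pow_two]
    rw [← (Commute.refl (⟨g, hg⟩ : ↥A)).mul_zpow, h2, _root_.one_zpow]
  obtain ⟨T, hT⟩ := hP.exists_le_sylow
  obtain ⟨y, hy⟩ := MulAction.exists_smul_eq ↥A T S
  have h1 : (y : G) * g * (y : G)⁻¹ ∈ R.U := by
    have h2 : y * ⟨g, hg⟩ * y⁻¹ ∈ (S : Subgroup ↥A) := by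
      rw [← hy, Sylow.coe_subgroup_smul, Subgroup.mem_pointwise_smul_iff_inv_smul_mem]
      have : (MulAut.conj y)⁻¹ • (y * ⟨g, hg⟩ * y⁻¹) = ⟨g, hg⟩ :=
        (MulAut.conj y).symm_apply_apply _
      rw [this]
      exact hT (Subgroup.mem_zpowers _)
    rw [hS, Subgroup.mem_subgroupOf] at h2
    exact h2
  obtain ⟨a, b, c, habc⟩ := (R.mem_U hZ).1 h1
  have hsq : R.el a b c * R.el a b c = 1 := by
    rw [← habc]
    calc (y : G) * g * (y : G)⁻¹ * ((y : G) * g * (y : G)⁻¹) = (y : G) * (g * g) * (y : G)⁻¹ := by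
          group
      _ = 1 := by rw [hg2]; group
  have hne : R.el a b c ≠ 1 := by
    rw [← habc]
    intro h2
    apply hg1
    have : g = (y : G)⁻¹ * ((y : G) * g * (y : G)⁻¹) * y := by group
    rw [this, h2]; group
  rw [R.el_sq hZ, R.x_eq_one hZ h02] at hsq
  -- it suffices to conjugate el a b c
  suffices h3 : ∃ v ∈ A, v * R.el a b c * v⁻¹ = R.x 0 2 1 by
    obtain ⟨v, hv, hv'⟩ := h3
    refine ⟨v * y, mul_mem hv y.2, ?_⟩
    rw [← hv', ← habc]; group
  have step : ∀ (v : G) (s : F) (i j k : Fin 3), i ≠ j → i ≠ k → k ≠ j → v ∈ A → s ≠ 0 →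
      v * R.el a b c * v⁻¹ = R.x i j s →
      (∃ n ∈ A, n * R.x i j 1 * n⁻¹ = R.x 0 2 1) → ∃ v ∈ A, v * R.el a b c * v⁻¹ = R.x 0 2 1 := by
    rintro v s i j k hij hik hkj hv hs he ⟨n, hn, hn'⟩
    obtain ⟨y, hy, hy'⟩ := R.conj_x02 hZ hij hik hkj hs one_ne_zero
    refine ⟨n * (y * v), mul_mem hn (mul_mem hy hv), ?_⟩
    rw [← hn', ← hy', ← he]; group
  rcases mul_eq_zero.1 hsq with ha | hb
  · -- a = 0 : x12 b * x02 c
    subst ha
    have e0 : R.el 0 b c = R.x 1 2 b * R.x 0 2 c := by rw [el, R.x_zero hZ h01, one_mul]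
    by_cases hb : b = 0
    · subst hb
      have hc : c ≠ 0 := by
        rintro rfl
        exact hne (R.el_zero hZ)
      refine step 1 c 0 2 1 h02 h01 h12 (one_mem _) hc ?_ ⟨1, one_mem _, by group⟩
      rw [e0, R.x_zero hZ h12, one_mul]; group
    · refine step (R.x 0 1 (c * b⁻¹)) b 1 2 0 h12 h01.symm h02 (R.mem h01 _) hb ?_ ?_
      · have e1 := R.conj hZ h01 h12 h02 (c * b⁻¹) b
        have e2 := R.comm hZ h01 h02 (by decide) (by decide) (c * b⁻¹) c
        have e3 := R.comm hZ h12 h02 (by decide) (by decide) b c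
        rw [inv_mul_cancel_right₀ hb] at e1
        calc R.x 0 1 (c * b⁻¹) * R.el 0 b c * (R.x 0 1 (c * b⁻¹))⁻¹
            = (R.x 0 1 (c * b⁻¹) * R.x 1 2 b * (R.x 0 1 (c * b⁻¹))⁻¹) *
              ((R.x 0 1 (c * b⁻¹) * R.x 0 2 c) * (R.x 0 1 (c * b⁻¹))⁻¹) := by
                rw [e0]; group
          _ = R.x 1 2 b := by
                rw [e1, e2, mul_inv_cancel_right, ← e3, mul_assoc, R.two h02, mul_one]
      · refine ⟨R.w 0 1 1, R.w_mem h01 1, ?_⟩
        have := R.w_conj_one hZ h01 h12 1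
        rw [this]
        rfl
  · -- b = 0 : x01 a * x02 c
    subst hb
    have e0 : R.el a 0 c = R.x 0 1 a * R.x 0 2 c := by rw [el, R.x_zero hZ h12, mul_one]
    by_cases ha : a = 0
    · subst ha
      have hc : c ≠ 0 := by
        rintro rfl
        exact hne (R.el_zero hZ)
      refine step 1 c 0 2 1 h02 h01 h12 (one_mem _) hc ?_ ⟨1, one_mem _, by group⟩
      rw [e0, R.x_zero hZ h01, one_mul]; group
    · refine step (R.x 1 2 (a⁻¹ * c)) a 0 1 2 h01 h02 h12.symm (R.mem h12 _) ha ?_ ?_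
      · have e1 := R.conj' hZ h01 h12 h02 a (a⁻¹ * c)
        have e2 := R.comm hZ h12 h02 (by decide) (by decide) (a⁻¹ * c) c
        have e3 := R.comm hZ h01 h02 (by decide) (by decide) a c
        rw [mul_inv_cancel_left₀ ha] at e1
        calc R.x 1 2 (a⁻¹ * c) * R.el a 0 c * (R.x 1 2 (a⁻¹ * c))⁻¹
            = (R.x 1 2 (a⁻¹ * c) * R.x 0 1 a * (R.x 1 2 (a⁻¹ * c))⁻¹) *
              ((R.x 1 2 (a⁻¹ * c) * R.x 0 2 c) * (R.x 1 2 (a⁻¹ * c))⁻¹) := by
                rw [e0]; group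
          _ = R.x 0 1 a := by
                rw [e1, e2, mul_inv_cancel_right, ← e3, mul_assoc, R.two h02, mul_one]
      · refine ⟨R.w 1 2 1, R.w_mem h12 1, ?_⟩
        have := R.w_conj_one hZ h12 h01 1
        rw [this]
        rfl

end Odd

end Cfsg.Agent.StdRank2.FrameL3
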