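import Mathlib

/-!
# The action of the normaliser of `A` on `A / Z(A)`, `Z(A)` of odd order
-/

set_option autoImplicit false

namespace Cfsg.Agent.StdRank2.OutAct

open Subgroup

variable {G : Type*} [Group G]

/-- The automorphism of `K / Z(K)` induced by an automorphism of `K`. -/
def quot (K : Type*) [Group K] : MulAut K →* MulAut (K ⧸ center K) where
  toFun e := QuotientGroup.congr _ _ e (Subgroup.characteristic_iff_map_eq.1 inferInstance e)
  map_one' := by
    apply MulEquiv.ext
    intro x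
    induction x using QuotientGroup.induction_on
    rfl
  map_mul' e f := by
    apply MulEquiv.ext
    intro x
    induction x using QuotientGroup.induction_on
    rfl

/-- `y a y⁻¹` as an element of `A`. -/
def cj {A : Subgroup G} {y : G} (hy : y ∈ normalizer (A : Set G)) (a : A) : A :=
  ⟨y * a * y⁻¹, (mem_normalizer_iff.1 hy a).1 a.2⟩

variable {L : Type*} [Group L]

/-- The action of the normaliser of `A` on `L = A / Z(A)`. -/
noncomputable def act (A : Subgroup G) (e : ↥A ⧸ center ↥A ≃* L) : ↥(normalizer (A : Set G)) →* MulAut L :=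
  ((MulAut.congr e).toMonoidHom.comp (quot A)).comp A.normalizerMonoidHom

theorem act_mk {A : Subgroup G} (e : ↥A ⧸ center ↥A ≃* L) (y : ↥(normalizer (A : Set G))) (a : A) :
    act A e y (e (QuotientGroup.mk a)) = e (QuotientGroup.mk (cj y.2 a)) := by
  show e (quot A (A.normalizerMonoidHom y) (e.symm (e (QuotientGroup.mk a)))) = _
  rw [MulEquiv.symm_apply_apply]
  rfl

/-- Elements of 2-power order of `A` are determined by their image modulo an odd centre. -/
theorem eq_of_mk_eq {A : Subgroup G} [Finite G] (hZ : Odd (Nat.card (center ↥A))) {a b : A} {k l : ℕ}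
    (ha : a ^ 2 ^ k = 1) (hb : b ^ 2 ^ l = 1)
    (h : (QuotientGroup.mk a : ↥A ⧸ center ↥A) = QuotientGroup.mk b) : a = b := by
  rw [QuotientGroup.eq] at h
  set z : A := a⁻¹ * b with hz
  have hb' : b = a * z := by rw [hz]; group
  have hc : Commute a z := (mem_center_iff.1 h a)
  have h1 : z ^ 2 ^ (k + l) = 1 := by
    have h2 : b ^ 2 ^ (k + l) = 1 := by rw [add_comm, pow_add, pow_mul, hb, one_pow]
    have h3 : a ^ 2 ^ (k + l) = 1 := by rw [pow_add, pow_mul, ha, one_pow]
    rw [hb', hc.mul_pow, h3, one_mul] at h2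
    exact h2
  have h4 : z ^ Nat.card (center ↥A) = 1 := by
    have := pow_card_eq_one' (x := (⟨z, h⟩ : center ↥A))
    exact congrArg Subtype.val this
  have h5 : orderOf z ∣ 1 := by
    have hcop : Nat.Coprime (2 ^ (k + l)) (Nat.card (center ↥A)) :=
      Nat.Coprime.pow_left _ (Nat.coprime_two_left.2 hZ)
    rw [← hcop.gcd_eq_one]
    exact Nat.dvd_gcd (orderOf_dvd_of_pow_eq_one h1) (orderOf_dvd_of_pow_eq_one h4)
  have h6 : z = 1 := orderOf_eq_one_iff.1 (Nat.dvd_one.1 h5)
  rw [hb', h6, mul_one]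

/-- An element which centralises `A / Z(A)` centralises the perfect group `A`. -/
theorem mem_centralizer_of_act_eq_one {A : Subgroup G} (hA : commutator ↥A = ⊤) (e : ↥A ⧸ center ↥A ≃* L)
    {y : ↥(normalizer (A : Set G))} (hy : act A e y = 1) : (y : G) ∈ centralizer (A : Set G) := by
  have h1 : ∀ a : A, (cj y.2 a) * a⁻¹ ∈ center ↥A := by
    intro a
    have h2 := act_mk e y a
    rw [hy, MulAut.one_apply] at h2
    have h3 := e.injective h2
    rw [QuotientGroup.eq] at h3
    have h5 : cj y.2 a * a⁻¹ = a * (a⁻¹ * cj y.2 a) * a⁻¹ := by group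
    rw [h5, mem_center_iff.1 h3 a, mul_inv_cancel_right]
    exact h3
  let f : A →* center ↥A :=
    { toFun := fun a => ⟨cj y.2 a * a⁻¹, h1 a⟩
      map_one' := by
        apply Subtype.ext
        simp only [OneMemClass.coe_one]
        apply Subtype.ext
        simp [cj]
      map_mul' := fun a b => by
        apply Subtype.ext
        show cj y.2 (a * b) * (a * b)⁻¹ = (cj y.2 a * a⁻¹) * (cj y.2 b * b⁻¹)
        have h2 : cj y.2 (a * b) = cj y.2 a * cj y.2 b := by
          apply Subtype.ext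
          show (y : G) * (a * b) * (y : G)⁻¹ = (y * a * (y : G)⁻¹) * (y * b * (y : G)⁻¹)
          group
        rw [h2]
        have h3 := mem_center_iff.1 (h1 b) a⁻¹
        have h4 : cj y.2 a * cj y.2 b * (a * b)⁻¹ = cj y.2 a * ((cj y.2 b * b⁻¹) * a⁻¹) := by group
        rw [h4, ← h3]
        group }
  have h2 : f.ker = ⊤ := by
    rw [eq_top_iff, ← hA, commutator_def, Subgroup.commutator_le]
    intro a _ b _
    rw [MonoidHom.mem_ker, map_commutatorElement, commutatorElement_def]
    have h2 : f a * f b = f b * f a := by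
      apply Subtype.ext
      exact mem_center_iff.1 (f b).2 (f a)
    rw [h2]
    group
  rw [mem_centralizer_iff]
  intro a ha
  have h3 : (⟨a, ha⟩ : A) ∈ f.ker := by rw [h2]; trivial
  have h4 : cj y.2 (⟨a, ha⟩ : A) * (⟨a, ha⟩ : A)⁻¹ = 1 := congrArg Subtype.val (MonoidHom.mem_ker.1 h3)
  have h5 := mul_inv_eq_one.1 h4
  have h6 : (y : G) * a * (y : G)⁻¹ = a := congrArg Subtype.val h5
  rw [mul_inv_eq_iff_eq_mul] at h6
  exact h6.symm

theorem act_eq_one_of_mem_centralizer {A : Subgroup G} (e : ↥A ⧸ center ↥A ≃* L)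
    {y : ↥(normalizer (A : Set G))} (hy : (y : G) ∈ centralizer (A : Set G)) : act A e y = 1 := by
  apply MulEquiv.ext
  intro z
  obtain ⟨w, rfl⟩ := e.surjective z
  induction w using QuotientGroup.induction_on with
  | H a =>
    rw [act_mk, MulAut.one_apply]
    congr 2
    apply Subtype.ext
    show (y : G) * a * (y : G)⁻¹ = a
    rw [← mem_centralizer_iff.1 hy a a.2, mul_inv_cancel_right]

/-- Transport of a relation `α X = X'` to `G`. -/
theorem conj_eq {A : Subgroup G} [Finite G] (hZ : Odd (Nat.card (center ↥A))) (e : ↥A ⧸ center ↥A ≃* L)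
    {y : G} (hy : y ∈ normalizer (A : Set G)) {a b : G} (ha : a ∈ A) (hb : b ∈ A) {k l : ℕ}
    (ha2 : a ^ 2 ^ k = 1) (hb2 : b ^ 2 ^ l = 1)
    (h : act A e ⟨y, hy⟩ (e (QuotientGroup.mk ⟨a, ha⟩)) = e (QuotientGroup.mk ⟨b, hb⟩)) : y * a * y⁻¹ = b := by
  rw [act_mk] at h
  have h1 : cj hy ⟨a, ha⟩ = ⟨b, hb⟩ := by
    refine eq_of_mk_eq hZ (k := k) (l := l) ?_ (Subtype.ext hb2) (e.injective h)
    apply Subtype.ext
    show (y * a * y⁻¹) ^ 2 ^ k = 1
    rw [conj_pow, ha2, mul_one, mul_inv_cancel]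
  exact congrArg Subtype.val h1

theorem act_conj_mem {A : Subgroup G} (e : ↥A ⧸ center ↥A ≃* L) {u : G} (hu : u ∈ A)
    (hu' : u ∈ normalizer (A : Set G)) : act A e ⟨u, hu'⟩ = MulAut.conj (e (QuotientGroup.mk ⟨u, hu⟩)) := by
  apply MulEquiv.ext
  intro z
  obtain ⟨w, rfl⟩ := e.surjective z
  induction w using QuotientGroup.induction_on with
  | H a =>
    rw [act_mk, MulAut.conj_apply, ← map_mul, ← map_inv, ← map_mul, ← QuotientGroup.mk_mul, ← QuotientGroup.mk_inv,
      ← QuotientGroup.mk_mul]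
    rfl

end Cfsg.Agent.StdRank2.OutAct
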