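import Mathlib
import Cfsg.Agent.ClassicalGeometry.AutPSL.Main
import Cfsg.Agent.ClassicalGeometry.AutPSL.SylowU
import Cfsg.Agent.StdRank2.OutSylow
import Cfsg.Agent.Lib.AutSL2Out

/-!
# 2-subgroups of `Aut(PSL₃(F))` normalising the unitriangular group, `F` of characteristic 2
-/

set_option autoImplicit false

namespace Cfsg.Agent.StdRank2.OutL3

open Matrix
open Cfsg.Agent.ClassicalGeometry.AutPSL.Root
open Cfsg.Agent.ClassicalGeometry.AutPSL.Auto
open Cfsg.Agent.ClassicalGeometry.AutPSL.FieldAut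
open Cfsg.Agent.ClassicalGeometry.AutPSL.Main
open Cfsg.Agent.ClassicalGeometry.AutPSL.SylowU

variable {F : Type*} [Field F]

/-- Root elements of `PSL₃(F)`. -/
def X {i j : Fin 3} (h : i ≠ j) (s : F) : Matrix.ProjectiveSpecialLinearGroup (Fin 3) F :=
  pr (Matrix.SpecialLinearGroup.transvection h s)

theorem X_eq {i j : Fin 3} (h : i ≠ j) (s : F) : X h s = pr (Matrix.SpecialLinearGroup.transvection h s) := rfl

theorem X_congr {i j k l : Fin 3} (h : i ≠ j) (hik : i = k) (hjl : j = l) (h' : k ≠ l) (s : F) : X h s = X h' s := by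
  subst hik; subst hjl; rfl

/-! ### Torus -/

/-- Diagonal automorphisms. -/
noncomputable def tor : (Fin 3 → Fˣ) →* MulAut (Matrix.ProjectiveSpecialLinearGroup (Fin 3) F) where
  toFun c := lift (cj (dg (fun i => (c i : F)) fun i => (c i).ne_zero))
  map_one' := by
    apply aut_ext
    intro i j hij t
    rw [lift_pr, cj_dg]
    simp
  map_mul' c d := by
    apply aut_ext
    intro i j hij t
    rw [lift_pr, cj_dg, MulAut.mul_apply, lift_pr, cj_dg, lift_pr, cj_dg]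
    congr 2
    simp only [Pi.mul_apply, Units.val_mul, _root_.mul_inv_rev]
    ring

theorem tor_X (c : Fin 3 → Fˣ) {i j : Fin 3} (h : i ≠ j) (s : F) :
    tor c (X h s) = X h ((c i : F) * s * (c j : F)⁻¹) := by
  show lift (cj (dg (fun i => (c i : F)) fun i => (c i).ne_zero)) (pr _) = _
  rw [lift_pr, cj_dg]
  rfl

/-! ### The graph automorphism -/

/-- The antidiagonal permutation matrix. -/
def J : GL (Fin 3) F :=
  ⟨!![0, 0, 1; 0, 1, 0; 1, 0, 0], !![0, 0, 1; 0, 1, 0; 1, 0, 0], by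
    ext i j; fin_cases i <;> fin_cases j <;> simp [Matrix.mul_apply, Fin.sum_univ_three], by
    ext i j; fin_cases i <;> fin_cases j <;> simp [Matrix.mul_apply, Fin.sum_univ_three]⟩

theorem coe_J : ((J : GL (Fin 3) F) : Matrix (Fin 3) (Fin 3) F) = !![0, 0, 1; 0, 1, 0; 1, 0, 0] := rfl

theorem coe_J_inv : ((J⁻¹ : GL (Fin 3) F) : Matrix (Fin 3) (Fin 3) F) = !![0, 0, 1; 0, 1, 0; 1, 0, 0] := rfl

theorem J_mulVec (i : Fin 3) : ((J : GL (Fin 3) F) : Matrix (Fin 3) (Fin 3) F) *ᵥ Pi.single i 1 = Pi.single i.rev 1 := by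
  rw [coe_J, mulVec_single_one]
  ext r
  fin_cases i <;> fin_cases r <;> simp [Fin.rev, Fin.ext_iff]

theorem vecMul_J_inv (i : Fin 3) :
    (Pi.single i 1 : Fin 3 → F) ᵥ* ((J⁻¹ : GL (Fin 3) F) : Matrix (Fin 3) (Fin 3) F) = Pi.single i.rev 1 := by
  rw [coe_J_inv, single_one_vecMul]
  ext r
  fin_cases i <;> fin_cases r <;> simp [Fin.rev, Fin.ext_iff]

theorem rev_ne {i j : Fin 3} (h : i ≠ j) : i.rev ≠ j.rev := fun e => h (Fin.rev_injective e)

theorem cj_J {i j : Fin 3} (h : i ≠ j) (s : F) :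
    cj J (Matrix.SpecialLinearGroup.transvection h s) = Matrix.SpecialLinearGroup.transvection (rev_ne h) s := by
  apply Subtype.ext
  rw [transvection_eq_tr, cj_tr, transvection_eq_tr, coe_tr, coe_tr, mulVec_smul, J_mulVec, vecMul_J_inv]

/-- The graph automorphism. -/
noncomputable def gr : MulAut (Matrix.ProjectiveSpecialLinearGroup (Fin 3) F) := lift (cj J * itr)

theorem gr_X' {i j : Fin 3} (h : i ≠ j) (s : F) : gr (X h s) = X (rev_ne h.symm) (-s) := by
  show lift (cj J * itr) (pr _) = _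
  rw [lift_pr, MulAut.mul_apply, itr_transvection, cj_J]
  rfl

theorem gr_X [CharP F 2] {i j : Fin 3} (h : i ≠ j) (s : F) : gr (X h s) = X (rev_ne h.symm) s := by
  rw [gr_X', CharTwo.neg_eq]

/-- Field automorphisms. -/
noncomputable def fd : (F ≃+* F) →* MulAut (Matrix.ProjectiveSpecialLinearGroup (Fin 3) F) := lift.comp fld

theorem fd_X (σ : F ≃+* F) {i j : Fin 3} (h : i ≠ j) (s : F) : fd σ (X h s) = X h (σ s) := by
  show lift (fld σ) (pr _) = _
  rw [lift_pr, fld_transvection]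
  rfl

theorem ext_X {β γ : MulAut (Matrix.ProjectiveSpecialLinearGroup (Fin 3) F)}
    (h : ∀ (i j : Fin 3) (hij : i ≠ j) (t : F), β (X hij t) = γ (X hij t)) : β = γ :=
  aut_ext h

theorem gr_mul_gr [CharP F 2] : (gr * gr : MulAut (Matrix.ProjectiveSpecialLinearGroup (Fin 3) F)) = 1 := by
  apply ext_X
  intro i j hij t
  rw [MulAut.mul_apply, gr_X, gr_X, MulAut.one_apply]
  exact X_congr _ (Fin.rev_rev i) (Fin.rev_rev j) _ _

theorem gr_mul_fd [CharP F 2] (σ : F ≃+* F) : gr * fd σ = fd σ * gr := by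
  apply ext_X
  intro i j hij t
  rw [MulAut.mul_apply, MulAut.mul_apply, fd_X, gr_X, gr_X, fd_X]

theorem fd_mul_tor (σ : F ≃+* F) (c : Fin 3 → Fˣ) :
    fd σ * tor c = tor (fun i => Units.map (σ : F →* F) (c i)) * fd σ := by
  apply ext_X
  intro i j hij t
  rw [MulAut.mul_apply, MulAut.mul_apply, fd_X, tor_X, tor_X, fd_X]
  congr 1
  simp

theorem gr_mul_tor [CharP F 2] (c : Fin 3 → Fˣ) :
    gr * tor c = tor (fun i => (c i.rev)⁻¹) * gr := by
  apply ext_X
  intro i j hij t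
  rw [MulAut.mul_apply, MulAut.mul_apply, gr_X, tor_X, tor_X, gr_X]
  congr 1
  simp only [Fin.rev_rev, Units.val_inv_eq_inv_val, inv_inv]
  ring

/-- Field and graph automorphisms. -/
def Psi (F : Type*) [Field F] [CharP F 2] : Subgroup (MulAut (Matrix.ProjectiveSpecialLinearGroup (Fin 3) F)) where
  carrier := {α | ∃ σ : F ≃+* F, α = fd σ ∨ α = fd σ * gr}
  one_mem' := ⟨1, Or.inl (map_one _).symm⟩
  mul_mem' := by
    rintro _ _ ⟨σ, rfl | rfl⟩ ⟨τ, rfl | rfl⟩
    · exact ⟨σ * τ, Or.inl (map_mul _ _ _).symm⟩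
    · exact ⟨σ * τ, Or.inr (by rw [map_mul, mul_assoc])⟩
    · exact ⟨σ * τ, Or.inr (by rw [map_mul, mul_assoc, gr_mul_fd, ← mul_assoc])⟩
    · refine ⟨σ * τ, Or.inl ?_⟩
      rw [mul_assoc, ← mul_assoc gr, gr_mul_fd, mul_assoc (fd τ), gr_mul_gr, mul_one, map_mul]
  inv_mem' := by
    rintro _ ⟨σ, rfl | rfl⟩
    · exact ⟨σ⁻¹, Or.inl (map_inv _ _).symm⟩
    · refine ⟨σ⁻¹, Or.inr ?_⟩
      rw [_root_.mul_inv_rev, ← map_inv, ← gr_mul_fd]
      congr 1
      exact inv_eq_of_mul_eq_one_left gr_mul_gr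

/-! ### The unitriangular group -/

variable [Finite F]

/-- The unitriangular subgroup of `PSL₃(F)`. -/
def Ubar (F : Type*) [Field F] [Finite F] : Subgroup (Matrix.ProjectiveSpecialLinearGroup (Fin 3) F) :=
  (upper 3 F).map pr

theorem X_mem {i j : Fin 3} (h : i < j) (s : F) : X h.ne s ∈ Ubar F := by
  refine ⟨_, ?_, rfl⟩
  rw [SetLike.mem_coe, mem_upper]
  intro k l hkl
  show ((1 : Matrix (Fin 3) (Fin 3) F) + single i j s) k l = _
  have h1 : ¬ (i = k ∧ j = l) := by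
    rintro ⟨rfl, rfl⟩
    exact absurd h (not_lt.2 hkl)
  rw [Matrix.add_apply, one_apply, single_apply, if_neg h1, add_zero]

theorem mem_Ubar (x : Matrix.ProjectiveSpecialLinearGroup (Fin 3) F) :
    x ∈ Ubar F ↔ ∃ r s t : F, x = X (i := 0) (j := 1) (by decide) r * X (i := 1) (j := 2) (by decide) s *
      X (i := 0) (j := 2) (by decide) t := by
  constructor
  · rintro ⟨g, hg, rfl⟩
    rw [SetLike.mem_coe, mem_upper] at hg
    refine ⟨g.1 0 1, g.1 1 2, g.1 0 2 - g.1 0 1 * g.1 1 2, ?_⟩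
    rw [X_eq, X_eq, X_eq, ← map_mul, ← map_mul]
    congr 1
    apply Subtype.ext
    have h00 := hg 0 0 le_rfl
    have h11 := hg 1 1 le_rfl
    have h22 := hg 2 2 le_rfl
    have h10 := hg 1 0 (by decide)
    have h20 := hg 2 0 (by decide)
    have h21 := hg 2 1 (by decide)
    simp only [if_true, Fin.reduceEq, if_false] at h00 h11 h22 h10 h20 h21
    show g.1 = ((1 : Matrix (Fin 3) (Fin 3) F) + single 0 1 _) * (1 + single 1 2 _) * (1 + single 0 2 _)
    ext k l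
    fin_cases k <;> fin_cases l <;>
      simp [Matrix.mul_apply, Fin.sum_univ_three, single_apply, h00, h11, h22, h10, h20, h21]
    try ring
  · rintro ⟨r, s, t, rfl⟩
    exact mul_mem (mul_mem (X_mem (by decide) r) (X_mem (by decide) s)) (X_mem (by decide) t)

omit [Finite F] in
theorem entry (A B : Matrix (Fin 3) (Fin 3) F) (i j k l : Fin 3) :
    (A * single i j (1 : F) * B) k l = A k i * B j l := by
  rw [Matrix.mul_apply]
  rw [Finset.sum_eq_single j]
  · rw [Matrix.mul_single_apply_same, mul_one]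
  · intro b _ hb
    rw [Matrix.mul_single_apply_of_ne _ _ _ _ _ hb, zero_mul]
  · intro h; exact absurd (Finset.mem_univ _) h

variable [CharP F 2]

theorem strict (A : GL (Fin 3) F) {i j : Fin 3} (hij : i < j) (h : lift (cj A) (X hij.ne 1) ∈ Ubar F)
    {k l : Fin 3} (hlk : l ≤ k) : (A : Matrix (Fin 3) (Fin 3) F) k i * ((A⁻¹ : GL (Fin 3) F) : Matrix _ _ F) j l = 0 := by
  obtain ⟨g, hg, hgA⟩ := h
  rw [X_eq, lift_pr] at hgA
  obtain ⟨c, hc⟩ := exists_smul_of_pr_eq hgA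
  have h1 : (cj A (Matrix.SpecialLinearGroup.transvection hij.ne (1 : F)) : Matrix (Fin 3) (Fin 3) F) =
      1 + (A : Matrix (Fin 3) (Fin 3) F) * single i j 1 * ((A⁻¹ : GL (Fin 3) F) : Matrix _ _ F) := by
    rw [coe_cj]
    show (A : Matrix (Fin 3) (Fin 3) F) * (1 + single i j 1) * _ = _
    rw [Matrix.mul_add, Matrix.add_mul, Matrix.mul_one, ← Units.val_mul, mul_inv_cancel, Units.val_one]
  rw [h1] at hc
  rw [SetLike.mem_coe, mem_upper] at hg
  have h2 := congrArg Matrix.trace hc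
  have h3 : Matrix.trace ((A : Matrix (Fin 3) (Fin 3) F) * single i j 1 * ((A⁻¹ : GL (Fin 3) F) : Matrix _ _ F)) = 0 := by
    rw [Matrix.trace_mul_comm, ← Matrix.mul_assoc, ← Units.val_mul, inv_mul_cancel, Units.val_one, Matrix.one_mul,
      Matrix.trace_single_eq_of_ne _ _ _ hij.ne]
  rw [Matrix.trace_add, h3, add_zero, Matrix.trace_smul, Matrix.trace_one] at h2
  have h4 : Matrix.trace (g : Matrix (Fin 3) (Fin 3) F) = (Fintype.card (Fin 3) : F) := by
    rw [Matrix.trace]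
    simp only [Matrix.diag_apply]
    rw [Finset.sum_congr rfl fun k _ => hg k k le_rfl]
    simp
  rw [h4, smul_eq_mul] at h2
  have h5 : (Fintype.card (Fin 3) : F) ≠ 0 := by
    rw [Fintype.card_fin]
    have : ((3 : ℕ) : F) = 1 := by
      have h6 : ((2 : ℕ) : F) = 0 := CharP.cast_eq_zero F 2
      have h7 : ((3 : ℕ) : F) = ((2 : ℕ) : F) + 1 := by push_cast; norm_num
      rw [h7, h6, zero_add]
    rw [this]
    exact one_ne_zero
  have h6 : c = 1 := by
    have := mul_right_cancel₀ h5 (h2.symm.trans (one_mul _).symm)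
    exact this
  rw [h6, one_smul] at hc
  have h7 := congrFun (congrFun hc k) l
  rw [Matrix.add_apply, entry, hg k l hlk, one_apply] at h7
  simpa using h7

theorem upper_of (A : GL (Fin 3) F) (h : ∀ (i j : Fin 3) (hij : i < j), lift (cj A) (X hij.ne 1) ∈ Ubar F) :
    (A : Matrix (Fin 3) (Fin 3) F) 1 0 = 0 ∧ (A : Matrix (Fin 3) (Fin 3) F) 2 0 = 0 ∧
      (A : Matrix (Fin 3) (Fin 3) F) 2 1 = 0 := by
  set B : Matrix (Fin 3) (Fin 3) F := ((A⁻¹ : GL (Fin 3) F) : Matrix (Fin 3) (Fin 3) F) with hB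
  have key : ∀ (i j : Fin 3), i < j → ∀ (k l : Fin 3), l ≤ k → (A : Matrix (Fin 3) (Fin 3) F) k i * B j l = 0 :=
    fun i j hij k l hlk => strict A hij (h i j hij) hlk
  have hBA : B * (A : Matrix (Fin 3) (Fin 3) F) = 1 := by
    rw [hB]
    exact A.inv_mul
  have hAB : (A : Matrix (Fin 3) (Fin 3) F) * B = 1 := by
    rw [hB]
    exact A.mul_inv
  have b22 : B 2 0 * (A : Matrix (Fin 3) (Fin 3) F) 0 2 + B 2 1 * (A : Matrix (Fin 3) (Fin 3) F) 1 2 +
      B 2 2 * (A : Matrix (Fin 3) (Fin 3) F) 2 2 = 1 := by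
    have := congrFun (congrFun hBA 2) 2
    rwa [Matrix.mul_apply, Fin.sum_univ_three, one_apply, if_pos rfl] at this
  have b11 : B 1 0 * (A : Matrix (Fin 3) (Fin 3) F) 0 1 + B 1 1 * (A : Matrix (Fin 3) (Fin 3) F) 1 1 +
      B 1 2 * (A : Matrix (Fin 3) (Fin 3) F) 2 1 = 1 := by
    have := congrFun (congrFun hBA 1) 1
    rwa [Matrix.mul_apply, Fin.sum_univ_three, one_apply, if_pos rfl] at this
  have b12 : B 1 0 * (A : Matrix (Fin 3) (Fin 3) F) 0 2 + B 1 1 * (A : Matrix (Fin 3) (Fin 3) F) 1 2 +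
      B 1 2 * (A : Matrix (Fin 3) (Fin 3) F) 2 2 = 0 := by
    have := congrFun (congrFun hBA 1) 2
    rwa [Matrix.mul_apply, Fin.sum_univ_three, one_apply, if_neg (by decide)] at this
  have b21 : B 2 0 * (A : Matrix (Fin 3) (Fin 3) F) 0 1 + B 2 1 * (A : Matrix (Fin 3) (Fin 3) F) 1 1 +
      B 2 2 * (A : Matrix (Fin 3) (Fin 3) F) 2 1 = 0 := by
    have := congrFun (congrFun hBA 2) 1
    rwa [Matrix.mul_apply, Fin.sum_univ_three, one_apply, if_neg (by decide)] at this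
  have a20 : (A : Matrix (Fin 3) (Fin 3) F) 2 0 = 0 := by
    by_contra h0
    have h1 : ∀ l, B 2 l = 0 := fun l =>
      (mul_eq_zero.1 (key 0 2 (by decide) 2 l (Fin.le_last l))).resolve_left h0
    rw [h1, h1, h1] at b22
    simp at b22
  have a10 : (A : Matrix (Fin 3) (Fin 3) F) 1 0 = 0 := by
    by_contra h0
    have h1 : ∀ l : Fin 3, l ≤ 1 → B 1 l = 0 := fun l hl =>
      (mul_eq_zero.1 (key 0 1 (by decide) 1 l hl)).resolve_left h0
    have h2 : ∀ l : Fin 3, l ≤ 1 → B 2 l = 0 := fun l hl =>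
      (mul_eq_zero.1 (key 0 2 (by decide) 1 l hl)).resolve_left h0
    rw [h1 0 (by decide), h1 1 le_rfl] at b11 b12
    rw [h2 0 (by decide), h2 1 le_rfl] at b21 b22
    simp only [zero_mul, zero_add] at b11 b12 b21 b22
    have h3 : B 1 2 ≠ 0 := by
      intro e; rw [e, zero_mul] at b11; exact zero_ne_one b11
    have h4 : (A : Matrix (Fin 3) (Fin 3) F) 2 2 = 0 := (mul_eq_zero.1 b12).resolve_left h3
    rw [h4, mul_zero] at b22
    exact zero_ne_one b22
  refine ⟨a10, a20, ?_⟩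
  by_contra h0
  have h1 : ∀ l, B 2 l = 0 := fun l =>
    (mul_eq_zero.1 (key 1 2 (by decide) 2 l (Fin.le_last l))).resolve_left h0
  rw [h1, h1, h1] at b22
  simp at b22

/-! ### The normaliser of the unitriangular group -/

omit [Finite F] [CharP F 2] in
theorem cJ_X {i j : Fin 3} (h : i ≠ j) (s : F) : lift (cj J) (X h s) = X (rev_ne h) s := by
  rw [X_eq, lift_pr, cj_J]
  rfl

omit [Finite F] [CharP F 2] in
theorem cJ_mul_fd (σ : F ≃+* F) : lift (cj J) * fd σ = fd σ * lift (cj J) := by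
  apply ext_X
  intro i j hij t
  rw [MulAut.mul_apply, MulAut.mul_apply, fd_X, cJ_X, cJ_X, fd_X]

omit [CharP F 2] in
theorem exists_decomp (A : GL (Fin 3) F) (h10 : (A : Matrix (Fin 3) (Fin 3) F) 1 0 = 0)
    (h20 : (A : Matrix (Fin 3) (Fin 3) F) 2 0 = 0) (h21 : (A : Matrix (Fin 3) (Fin 3) F) 2 1 = 0) :
    ∃ u ∈ Ubar F, ∃ d : Fin 3 → Fˣ, lift (cj A) = MulAut.conj u * tor d := by
  have hdet : (A : Matrix (Fin 3) (Fin 3) F).det ≠ 0 := by
    have h1 : IsUnit (A : Matrix (Fin 3) (Fin 3) F).det := (Matrix.isUnit_iff_isUnit_det _).1 A.isUnit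
    exact h1.ne_zero
  rw [Matrix.det_fin_three, h10, h20, h21] at hdet
  have hd : ∀ i, (A : Matrix (Fin 3) (Fin 3) F) i i ≠ 0 := by
    intro i hi
    apply hdet
    fin_cases i
    · simp only [Fin.zero_eta] at hi; rw [hi]; ring
    · simp only [Fin.mk_one] at hi; rw [hi]; ring
    · have hi' : (A : Matrix (Fin 3) (Fin 3) F) 2 2 = 0 := hi
      rw [hi']; ring
  set a := (A : Matrix (Fin 3) (Fin 3) F) with ha
  let um : Matrix (Fin 3) (Fin 3) F := !![1, a 0 1 * (a 1 1)⁻¹, a 0 2 * (a 2 2)⁻¹; 0, 1, a 1 2 * (a 2 2)⁻¹; 0, 0, 1]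
  have hum : um.det = 1 := by
    rw [Matrix.det_fin_three]
    simp [um]
  let u : Matrix.SpecialLinearGroup (Fin 3) F := ⟨um, hum⟩
  have hu : u ∈ upper 3 F := by
    rw [mem_upper]
    intro i j hij
    show um i j = _
    fin_cases i <;> fin_cases j <;> simp_all [um]
  refine ⟨pr u, ⟨u, hu, rfl⟩, fun i => Units.mk0 (a i i) (hd i), ?_⟩
  have h1 : a = um * diagonal (fun i => a i i) := by
    ext i j
    rw [Matrix.mul_diagonal]
    have := hd 0
    have := hd 1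
    have := hd 2
    fin_cases i <;> fin_cases j <;> simp_all [um]
  have h2 : cj A = MulAut.conj u * cj (dg (fun i => a i i) hd) := by
    obtain ⟨D, hD⟩ : ∃ D : GL (Fin 3) F, D = dg (fun i => a i i) hd := ⟨_, rfl⟩
    have hDc : (D : Matrix (Fin 3) (Fin 3) F) = diagonal (fun i => a i i) := by rw [hD]; rfl
    rw [← hD]
    have h9 : (A : Matrix (Fin 3) (Fin 3) F) = (u : Matrix (Fin 3) (Fin 3) F) * (D : Matrix (Fin 3) (Fin 3) F) := by
      rw [hDc]; exact h1
    have h6 : (u : Matrix (Fin 3) (Fin 3) F) * ((u⁻¹ : Matrix.SpecialLinearGroup (Fin 3) F) : Matrix (Fin 3) (Fin 3) F) = 1 := by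
      rw [← Matrix.SpecialLinearGroup.coe_mul, mul_inv_cancel, Matrix.SpecialLinearGroup.coe_one]
    have h5 : (D : Matrix (Fin 3) (Fin 3) F) * ((D⁻¹ : GL (Fin 3) F) : Matrix (Fin 3) (Fin 3) F) = 1 := D.mul_inv
    have h8 : ((A⁻¹ : GL (Fin 3) F) : Matrix (Fin 3) (Fin 3) F) * (A : Matrix (Fin 3) (Fin 3) F) = 1 := A.inv_mul
    have h3 : ((A⁻¹ : GL (Fin 3) F) : Matrix (Fin 3) (Fin 3) F) =
        ((D⁻¹ : GL (Fin 3) F) : Matrix (Fin 3) (Fin 3) F) *
          ((u⁻¹ : Matrix.SpecialLinearGroup (Fin 3) F) : Matrix (Fin 3) (Fin 3) F) := by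
      have h4 : (A : Matrix (Fin 3) (Fin 3) F) * (((D⁻¹ : GL (Fin 3) F) : Matrix (Fin 3) (Fin 3) F) *
          ((u⁻¹ : Matrix.SpecialLinearGroup (Fin 3) F) : Matrix (Fin 3) (Fin 3) F)) = 1 := by
        rw [h9, ← Matrix.mul_assoc, Matrix.mul_assoc (u : Matrix (Fin 3) (Fin 3) F), h5, Matrix.mul_one, h6]
      have h7 := congrArg (fun M => ((A⁻¹ : GL (Fin 3) F) : Matrix (Fin 3) (Fin 3) F) * M) h4
      simp only [Matrix.mul_one] at h7
      rw [← Matrix.mul_assoc, h8, Matrix.one_mul] at h7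
      exact h7.symm
    apply MulEquiv.ext
    intro g
    apply Subtype.ext
    rw [MulAut.mul_apply, MulAut.conj_apply, Matrix.SpecialLinearGroup.coe_mul, Matrix.SpecialLinearGroup.coe_mul,
      coe_cj, coe_cj, h3, h9]
    simp only [Matrix.mul_assoc]
  have h3 : lift (MulAut.conj u) = MulAut.conj (pr u) := by
    apply MulEquiv.ext
    intro x
    obtain ⟨x, rfl⟩ := pr_surjective x
    rw [lift_pr, MulAut.conj_apply, MulAut.conj_apply, map_mul, map_mul, map_inv]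
  rw [h2, map_mul, h3]
  rfl

/-- The stabiliser of the unitriangular group in the automorphism group. -/
theorem exists_triple (α : MulAut (Matrix.ProjectiveSpecialLinearGroup (Fin 3) F))
    (h : ∀ x ∈ Ubar F, α x ∈ Ubar F) :
    ∃ u ∈ Ubar F, ∃ d : Fin 3 → Fˣ, ∃ p ∈ Psi F, α = MulAut.conj u * tor d * p := by
  have : Fact (Nat.Prime 2) := ⟨Nat.prime_two⟩
  have := Fintype.ofFinite F
  have key : ∃ (A : GL (Fin 3) F), ∃ p ∈ Psi F, α = lift (cj A) * p := by
    rcases surj_three 2 le_rfl α with ⟨A, σ, hA⟩ | ⟨A, σ, hA⟩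
    · exact ⟨A, fd σ, ⟨σ, Or.inl rfl⟩, by rw [hA, map_mul]; rfl⟩
    · refine ⟨A * J⁻¹, fd σ * gr, ⟨σ, Or.inr rfl⟩, ?_⟩
      rw [hA, map_mul, map_mul, map_mul, map_mul, map_inv, map_inv]
      have h1 : (gr : MulAut (Matrix.ProjectiveSpecialLinearGroup (Fin 3) F)) = lift (cj J) * lift itr := by
        rw [gr, map_mul]
      rw [h1]
      have h2 := cJ_mul_fd (F := F) σ
      show lift (cj A) * fd σ * lift itr = _
      have h3 : (lift (cj J))⁻¹ * (fd σ * (lift (cj J) * lift itr)) = fd σ * lift itr := by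
        rw [← mul_assoc (fd σ), ← h2, mul_assoc, inv_mul_cancel_left]
      rw [mul_assoc (lift (cj A)) (lift (cj J))⁻¹, h3, mul_assoc]
  obtain ⟨A, p, hp, hA⟩ := key
  have hpinv : ∀ (i j : Fin 3) (hij : i < j), ∃ (k l : Fin 3) (hkl : k < l), p (X hkl.ne 1) = X hij.ne (1 : F) := by
    intro i j hij
    obtain ⟨σ, rfl | rfl⟩ := hp
    · exact ⟨i, j, hij, by rw [fd_X, map_one]⟩
    · refine ⟨j.rev, i.rev, Fin.rev_lt_rev.2 hij, ?_⟩
      rw [MulAut.mul_apply, gr_X, fd_X, map_one]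
      exact X_congr _ (Fin.rev_rev i) (Fin.rev_rev j) _ _
  have h1 : ∀ (i j : Fin 3) (hij : i < j), lift (cj A) (X hij.ne 1) ∈ Ubar F := by
    intro i j hij
    obtain ⟨k, l, hkl, hp'⟩ := hpinv i j hij
    rw [← hp', ← MulAut.mul_apply, ← hA]
    exact h _ (X_mem hkl 1)
  obtain ⟨h10, h20, h21⟩ := upper_of A h1
  obtain ⟨u, hu, d, hd⟩ := exists_decomp A h10 h20 h21
  exact ⟨u, hu, d, p, hp, by rw [hA, hd]⟩

omit [Finite F] [CharP F 2] in
theorem map_ker_center (u : Matrix.ProjectiveSpecialLinearGroup (Fin 3) F) (n : ℕ) (h : u ^ n = 1) :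
    (MulAut.conj u) ^ n = 1 := by
  rw [← map_pow, h, map_one]

/-- **Frames adapted to a 2-group of automorphisms of `PSL₃(F)`.** -/
theorem exists_frame (D : Subgroup (MulAut (Matrix.ProjectiveSpecialLinearGroup (Fin 3) F))) (hD : IsPGroup 2 D)
    (hDU : ∀ d ∈ D, ∀ x ∈ Ubar F, d x ∈ Ubar F) :
    ∃ c : Fin 3 → Fˣ, ∀ d ∈ D, ∃ u ∈ Ubar F, ∃ p ∈ Psi F, (∃ k, p ^ 2 ^ k = 1) ∧
      d = MulAut.conj u * (tor c * p * (tor c)⁻¹) := by
  have : Fact (Nat.Prime 2) := ⟨Nat.prime_two⟩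
  have := Fintype.ofFinite F
  have hfin : Finite (Matrix.ProjectiveSpecialLinearGroup (Fin 3) F) := inferInstance
  have hfin' : Finite (MulAut (Matrix.ProjectiveSpecialLinearGroup (Fin 3) F)) := inferInstance
  have hV : IsPGroup 2 ((Ubar F).map (MulAut.conj (G := Matrix.ProjectiveSpecialLinearGroup (Fin 3) F))) := by
    apply IsPGroup.map
    obtain ⟨S, hS⟩ := exists_sylow (F := F) 3 2
    show IsPGroup 2 ((upper 3 F).map pr)
    rw [← hS]
    exact S.isPGroup'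
  have hT : Odd (Nat.card (tor (F := F)).range) := by
    have h1 : Nat.card (tor (F := F)).range ∣ Nat.card (Fin 3 → Fˣ) := Subgroup.card_range_dvd _
    have h2 : Odd (Nat.card (Fin 3 → Fˣ)) := by
      rw [Nat.card_fun, Nat.card_eq_fintype_card (α := Fin 3), Fintype.card_fin]
      apply Odd.pow
      rw [Nat.card_units]
      obtain ⟨n, hn, hn'⟩ := FiniteField.card F 2
      rw [Nat.card_eq_fintype_card, hn']
      have h3 : Even (2 ^ (n : ℕ)) := (Nat.even_pow.2 ⟨even_two, n.ne_zero⟩)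
      exact Nat.Even.sub_odd (Nat.one_le_two_pow) h3 odd_one
    exact Odd.of_dvd_nat h2 h1
  have hVsub : ∀ α : MulAut (Matrix.ProjectiveSpecialLinearGroup (Fin 3) F), (∀ x ∈ Ubar F, α x ∈ Ubar F) →
      ∀ v ∈ (Ubar F).map MulAut.conj, α * v * α⁻¹ ∈ (Ubar F).map MulAut.conj := by
    rintro α hα _ ⟨u, hu, rfl⟩
    refine ⟨α u, hα u hu, ?_⟩
    apply MulEquiv.ext
    intro x
    rw [MulAut.mul_apply, MulAut.mul_apply, MulAut.conj_apply, MulAut.conj_apply, map_mul, map_mul, map_inv,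
      MulAut.apply_inv_self]
  have hsub : ∀ α : MulAut (Matrix.ProjectiveSpecialLinearGroup (Fin 3) F),
      (∀ (i j : Fin 3) (hij : i < j) (s : F), α (X hij.ne s) ∈ Ubar F) → ∀ x ∈ Ubar F, α x ∈ Ubar F := by
    intro α hα x hx
    obtain ⟨r, s, t, rfl⟩ := (mem_Ubar x).1 hx
    rw [map_mul, map_mul]
    exact mul_mem (mul_mem (hα 0 1 (by decide) r) (hα 1 2 (by decide) s)) (hα 0 2 (by decide) t)
  have hΨU : ∀ p ∈ Psi F, ∀ x ∈ Ubar F, p x ∈ Ubar F := by
    rintro _ ⟨σ, rfl | rfl⟩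
    · apply hsub
      intro i j hij s
      rw [fd_X]
      exact X_mem hij _
    · apply hsub
      intro i j hij s
      rw [MulAut.mul_apply, gr_X, fd_X]
      exact X_mem (Fin.rev_lt_rev.2 hij) _
  obtain ⟨t, ⟨c, rfl⟩, ht⟩ := OutSylow.exists_conj ((Ubar F).map MulAut.conj) (tor (F := F)).range (Psi F) hV hT
    (by
      rintro _ ⟨c, rfl⟩
      apply hVsub
      apply hsub
      intro i j hij s
      rw [tor_X]
      exact X_mem hij _)
    (fun p hp => hVsub p (hΨU p hp))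
    (by
      rintro _ ⟨σ, rfl | rfl⟩ _ ⟨c, rfl⟩
      · exact ⟨_, (by rw [fd_mul_tor, mul_inv_cancel_right] : fd σ * tor c * (fd σ)⁻¹ = tor _).symm⟩
      · have h1 : fd σ * gr * tor c * (fd σ * gr)⁻¹ =
            tor (fun i => Units.map (σ : F →* F) ((c i.rev)⁻¹)) := by
          rw [mul_assoc (fd σ), gr_mul_tor, ← mul_assoc, fd_mul_tor]
          group
        exact ⟨_, h1.symm⟩)
    (by
      have hc : ∀ σ τ : F ≃+* F, fd σ * fd τ = fd τ * fd σ := by
        intro σ τ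
        rw [← map_mul, ← map_mul]
        congr 1
        exact Cfsg.Agent.Lib.AutSL2Out.ringEquiv_comm σ τ
      rintro _ ⟨σ, rfl | rfl⟩ _ ⟨τ, rfl | rfl⟩
      · exact hc σ τ
      · rw [← mul_assoc, hc, mul_assoc, mul_assoc, gr_mul_fd]
      · rw [mul_assoc, gr_mul_fd, ← mul_assoc, hc, mul_assoc]
      · rw [mul_assoc, ← mul_assoc gr, gr_mul_fd, mul_assoc (fd τ), ← mul_assoc (fd σ), hc, mul_assoc (fd τ) gr,
          ← mul_assoc gr (fd σ), gr_mul_fd, mul_assoc (fd τ)]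
        simp only [mul_assoc])
    D hD (by
      intro d hd
      obtain ⟨u, hu, c, p, hp, h⟩ := exists_triple d (hDU d hd)
      exact ⟨_, ⟨u, hu, rfl⟩, _, ⟨c, rfl⟩, p, hp, h⟩)
  refine ⟨c, fun d hd => ?_⟩
  obtain ⟨_, ⟨u, hu, rfl⟩, p, hp, hk, h⟩ := ht d hd
  exact ⟨u, hu, p, hp, hk, h⟩

end Cfsg.Agent.StdRank2.OutL3
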