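import Mathlib
import Cfsg.Agent.StdRank2.OutL3
import Cfsg.Agent.StdRank2.OutAct
import Cfsg.Agent.StdRank2.FrameL3U

/-!
# Frames of type `L₃(F)` of a subgroup `A` with odd centre, and 2-elements normalising `A`
-/

set_option autoImplicit false

namespace Cfsg.Agent.StdRank2

open Subgroup Cfsg.Agent.StdRank2.OutL3 Cfsg.Agent.StdRank2.OutAct

namespace FrameL3

variable {G : Type*} [Group G] {A : Subgroup G} {F : Type*} [Field F] (fr : FrameL3 A F)

theorem map_X {i j : Fin 3} (h : i ≠ j) (s : F) :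
    fr.e (QuotientGroup.mk ⟨fr.x i j s, fr.mem h s⟩) = OutL3.X h s := fr.map h s

theorem pow_two_pow {i j : Fin 3} (h : i ≠ j) (s : F) : fr.x i j s ^ 2 ^ 1 = 1 := by
  rw [pow_one, pow_two, fr.two h]

/-- The rescaled frame. -/
noncomputable def rescale (c : Fin 3 → Fˣ) : FrameL3 A F where
  e := fr.e.trans (tor c)⁻¹
  x i j s := fr.x i j ((c i : F) * s * (c j : F)⁻¹)
  mem h s := fr.mem h _
  map h s := by
    show (tor c)⁻¹ (fr.e _) = OutL3.X h s
    rw [fr.map_X h, ← tor_X, MulAut.inv_apply_self]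
  two h s := fr.two h _

theorem rescale_x (c : Fin 3 → Fˣ) (i j : Fin 3) (s : F) :
    (fr.rescale c).x i j s = fr.x i j ((c i : F) * s * (c j : F)⁻¹) := rfl

theorem rescale_U (c : Fin 3 → Fˣ) : (fr.rescale c).U = fr.U := by
  apply le_antisymm
  · rw [U, closure_le]
    rintro _ ⟨i, j, h, s, rfl⟩
    exact fr.x_mem_U h _
  · rw [U, closure_le]
    rintro _ ⟨i, j, h, s, rfl⟩
    have h1 : fr.x i j s = (fr.rescale c).x i j ((c i : F)⁻¹ * s * (c j : F)) := by
      rw [rescale_x]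
      congr 1
      have := (c i).ne_zero
      have := (c j).ne_zero
      field_simp
    rw [h1]
    exact (fr.rescale c).x_mem_U h _

/-- The images of the elements of `U`. -/
theorem map_mem_Ubar [Finite F] {u : G} (hu : u ∈ fr.U) :
    fr.e (QuotientGroup.mk ⟨u, fr.U_le hu⟩) ∈ Ubar F := by
  have key : ∀ (u : G) (hu : u ∈ fr.U), ∀ h : u ∈ A, fr.e (QuotientGroup.mk ⟨u, h⟩) ∈ Ubar F := by
    intro u hu
    induction hu using closure_induction with
    | mem _ h =>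
      obtain ⟨i, j, h, s, rfl⟩ := h
      intro _
      rw [fr.map_X h.ne s]
      exact X_mem h s
    | one =>
      intro h
      have : (⟨1, h⟩ : A) = 1 := rfl
      rw [this, QuotientGroup.mk_one, map_one]
      exact one_mem _
    | mul a b ha hb iha ihb =>
      intro h
      have h1 : a ∈ A := fr.U_le ha
      have h2 : b ∈ A := fr.U_le hb
      have : (⟨a * b, h⟩ : A) = ⟨a, h1⟩ * ⟨b, h2⟩ := rfl
      rw [this, QuotientGroup.mk_mul, map_mul]
      exact mul_mem (iha h1) (ihb h2)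
    | inv a ha iha =>
      intro h
      have h1 : a ∈ A := fr.U_le ha
      have : (⟨a⁻¹, h⟩ : A) = ⟨a, h1⟩⁻¹ := rfl
      rw [this, QuotientGroup.mk_inv, map_inv]
      exact inv_mem (iha h1)
  exact key u hu _

theorem exists_of_mem_Ubar [Finite F] {x : Matrix.ProjectiveSpecialLinearGroup (Fin 3) F} (hx : x ∈ Ubar F) :
    ∃ (u : G) (hu : u ∈ fr.U), fr.e (QuotientGroup.mk ⟨u, fr.U_le hu⟩) = x := by
  obtain ⟨r, s, t, rfl⟩ := (mem_Ubar x).1 hx
  have h1 : fr.x 0 1 r ∈ fr.U := fr.x_mem_U (by decide) r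
  have h2 : fr.x 1 2 s ∈ fr.U := fr.x_mem_U (by decide) s
  have h3 : fr.x 0 2 t ∈ fr.U := fr.x_mem_U (by decide) t
  refine ⟨fr.x 0 1 r * fr.x 1 2 s * fr.x 0 2 t, mul_mem (mul_mem h1 h2) h3, ?_⟩
  rw [← fr.map_X (i := 0) (j := 1) (by decide) r, ← fr.map_X (i := 1) (j := 2) (by decide) s,
    ← fr.map_X (i := 0) (j := 2) (by decide) t, ← map_mul, ← map_mul, ← QuotientGroup.mk_mul, ← QuotientGroup.mk_mul]
  rfl

theorem X_injective [CharP F 2] {i j : Fin 3} (h : i ≠ j) : Function.Injective (OutL3.X (F := F) h) := by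
  intro s t hst
  obtain ⟨c, hc⟩ := Cfsg.Agent.ClassicalGeometry.AutPSL.Root.exists_smul_of_pr_eq hst
  have h1 := congrFun (congrFun hc i) i
  have h2 := congrFun (congrFun hc i) j
  have h3 : ∀ (a : F) (k l : Fin 3), (Matrix.SpecialLinearGroup.transvection h a : Matrix (Fin 3) (Fin 3) F) k l =
      (1 : Matrix (Fin 3) (Fin 3) F) k l + Matrix.single i j a k l := fun _ _ _ => rfl
  rw [Matrix.smul_apply, h3, h3, Matrix.one_apply_eq, Matrix.single_apply, Matrix.single_apply,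
    if_neg (fun e => h e.2.symm), if_neg (fun e => h e.2.symm), add_zero, smul_eq_mul, mul_one] at h1
  rw [Matrix.smul_apply, h3, h3, Matrix.one_apply_ne h, Matrix.single_apply, Matrix.single_apply,
    if_pos ⟨rfl, rfl⟩, if_pos ⟨rfl, rfl⟩, zero_add, zero_add, smul_eq_mul, ← h1, one_mul] at h2
  exact h2.symm

theorem fd_injective [CharP F 2] : Function.Injective (fd (F := F)) := by
  intro σ τ h
  ext s
  have h1 : fd σ (OutL3.X (i := 0) (j := 1) (by decide) s) = fd τ (OutL3.X (i := 0) (j := 1) (by decide) s) := by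
    rw [h]
  rw [fd_X, fd_X] at h1
  exact X_injective _ h1

variable [Finite G] [Finite F] [CharP F 2]

/-- **2-subgroups of the normaliser of `A` in adapted coordinates.** -/
theorem exists_adapted (hZ : Odd (Nat.card (center ↥A))) (T : Subgroup G) (hT : IsPGroup 2 T)
    (hTA : T ≤ normalizer (A : Set G)) (hTU : ∀ y ∈ T, ∀ u ∈ fr.U, y * u * y⁻¹ ∈ fr.U) :
    ∃ c : Fin 3 → Fˣ, ∀ y ∈ T, ∃ u ∈ fr.U, ∃ σ : F ≃+* F, (∃ k, σ ^ 2 ^ k = 1) ∧
      ((∀ i j : Fin 3, i ≠ j → ∀ s, (u * y) * (fr.rescale c).x i j s * (u * y)⁻¹ = (fr.rescale c).x i j (σ s)) ∨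
       (∀ i j : Fin 3, i ≠ j → ∀ s,
          (u * y) * (fr.rescale c).x i j s * (u * y)⁻¹ = (fr.rescale c).x j.rev i.rev (σ s))) := by
  set D : Subgroup (MulAut (Matrix.ProjectiveSpecialLinearGroup (Fin 3) F)) :=
    (T.subgroupOf (normalizer (A : Set G))).map (act A fr.e) with hD
  have hD2 : IsPGroup 2 D := by
    apply IsPGroup.map
    exact hT.comap_of_injective (normalizer (A : Set G)).subtype (Subtype.val_injective)
  have hDU : ∀ d ∈ D, ∀ x ∈ Ubar F, d x ∈ Ubar F := by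
    rintro _ ⟨y, hy, rfl⟩ x hx
    obtain ⟨u, hu, rfl⟩ := fr.exists_of_mem_Ubar hx
    rw [act_mk]
    exact fr.map_mem_Ubar (hTU y hy u hu)
  obtain ⟨c, hc⟩ := OutL3.exists_frame D hD2 hDU
  refine ⟨c, fun y hy => ?_⟩
  have hyA := hTA hy
  obtain ⟨v, hv, p, hp, ⟨k, hk⟩, h⟩ := hc (act A fr.e ⟨y, hyA⟩) ⟨⟨y, hyA⟩, hy, rfl⟩
  obtain ⟨u, hu, rfl⟩ := fr.exists_of_mem_Ubar hv
  have huA := fr.U_le hu
  have huN : u⁻¹ ∈ normalizer (A : Set G) := inv_mem (le_normalizer huA)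
  have huy : u⁻¹ * y ∈ normalizer (A : Set G) := mul_mem huN hyA
  refine ⟨u⁻¹, inv_mem hu, ?_⟩
  -- the action of `u⁻¹ y` in the rescaled frame is `p`
  have hact : act A (fr.rescale c).e ⟨u⁻¹ * y, huy⟩ = p := by
    have h1 : act A fr.e ⟨u⁻¹ * y, huy⟩ = tor c * p * (tor c)⁻¹ := by
      have h2 : (⟨u⁻¹ * y, huy⟩ : ↥(normalizer (A : Set G))) = ⟨u⁻¹, huN⟩ * ⟨y, hyA⟩ := rfl
      rw [h2, map_mul, h, act_conj_mem fr.e (inv_mem huA) huN]
      have h3 : (⟨u⁻¹, inv_mem huA⟩ : A) = ⟨u, huA⟩⁻¹ := rfl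
      rw [h3, QuotientGroup.mk_inv, map_inv, map_inv, inv_mul_cancel_left]
    apply MulEquiv.ext
    intro z
    obtain ⟨w, rfl⟩ := (fr.rescale c).e.surjective z
    induction w using QuotientGroup.induction_on with
    | H a =>
      rw [act_mk]
      show (tor c)⁻¹ (fr.e (QuotientGroup.mk (cj huy a))) = p ((tor c)⁻¹ (fr.e (QuotientGroup.mk a)))
      have h4 := act_mk fr.e ⟨u⁻¹ * y, huy⟩ a
      rw [h1] at h4
      rw [← h4, MulAut.mul_apply, MulAut.mul_apply, MulAut.inv_apply_self]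
  have hpsi : ∀ (σ : F ≃+* F) (i j : Fin 3) (h : i ≠ j) (s : F), p = fd σ →
      (u⁻¹ * y) * (fr.rescale c).x i j s * (u⁻¹ * y)⁻¹ = (fr.rescale c).x i j (σ s) := by
    intro σ i j hij s hpσ
    refine conj_eq hZ (fr.rescale c).e huy ((fr.rescale c).mem hij s) ((fr.rescale c).mem hij _)
      ((fr.rescale c).pow_two_pow hij s) ((fr.rescale c).pow_two_pow hij _) ?_
    rw [hact, (fr.rescale c).map_X hij, (fr.rescale c).map_X hij, hpσ, fd_X]
  have hpsi' : ∀ (σ : F ≃+* F) (i j : Fin 3) (h : i ≠ j) (s : F), p = fd σ * gr →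
      (u⁻¹ * y) * (fr.rescale c).x i j s * (u⁻¹ * y)⁻¹ = (fr.rescale c).x j.rev i.rev (σ s) := by
    intro σ i j hij s hpσ
    refine conj_eq hZ (fr.rescale c).e huy ((fr.rescale c).mem hij s) ((fr.rescale c).mem (rev_ne hij.symm) _)
      ((fr.rescale c).pow_two_pow hij s) ((fr.rescale c).pow_two_pow (rev_ne hij.symm) _) ?_
    rw [hact, (fr.rescale c).map_X hij, (fr.rescale c).map_X (rev_ne hij.symm), hpσ, MulAut.mul_apply, gr_X, fd_X]
  obtain ⟨σ, hσ | hσ⟩ := hp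
  · refine ⟨σ, ⟨k, ?_⟩, Or.inl fun i j hij s => hpsi σ i j hij s hσ⟩
    apply fd_injective
    rw [map_pow, ← hσ, hk, map_one]
  · refine ⟨σ, ⟨k + 1, ?_⟩, Or.inr fun i j hij s => hpsi' σ i j hij s hσ⟩
    apply fd_injective
    have h1 : (fd σ * gr) ^ 2 = fd (σ ^ 2) := by
      rw [pow_two, mul_assoc, ← mul_assoc gr, gr_mul_fd, mul_assoc (fd σ), gr_mul_gr, mul_one, ← map_mul, pow_two]
    rw [map_one, pow_succ', pow_mul, map_pow, ← h1, ← hσ, ← pow_mul, mul_comm, pow_mul, hk, one_pow]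

end FrameL3

end Cfsg.Agent.StdRank2
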