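import Mathlib
import Cfsg.Agent.StdRank2.FrameL3Def
import Cfsg.Agent.StdRank2.FrameLift

/-!
# Coordinates of the unipotent subgroup of a frame of type `L₃(F)`
-/

set_option autoImplicit false

namespace Cfsg.Agent.StdRank2.OutL3Rel

open Matrix Cfsg.Agent.StdRank2.OutL3 Cfsg.Agent.StdRank2.OutAct Cfsg.Agent.StdRank2.FrameLift
open Cfsg.Agent.ClassicalGeometry.AutPSL.Root Cfsg.Agent.ClassicalGeometry.AutPSL.SylowU

variable {F : Type*} [Field F]

/-- Unitriangular matrices. -/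
def ut (r s t : F) : Matrix.SpecialLinearGroup (Fin 3) F :=
  ⟨!![1, r, t; 0, 1, s; 0, 0, 1], by rw [Matrix.det_fin_three]; simp⟩

theorem ut_mul (r s t r' s' t' : F) : ut r s t * ut r' s' t' = ut (r + r') (s + s') (t + t' + r * s') := by
  apply Subtype.ext
  show (!![1, r, t; 0, 1, s; 0, 0, 1] : Matrix (Fin 3) (Fin 3) F) * !![1, r', t'; 0, 1, s'; 0, 0, 1] = _
  ext i j
  show _ = (!![1, r + r', t + t' + r * s'; 0, 1, s + s'; 0, 0, 1] : Matrix (Fin 3) (Fin 3) F) i j
  fin_cases i <;> fin_cases j <;> simp [Matrix.mul_apply, Fin.sum_univ_three] <;> ring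

theorem ut_mem [Finite F] (r s t : F) : ut r s t ∈ upper 3 F := by
  rw [mem_upper]
  intro i j hij
  show (!![1, r, t; 0, 1, s; 0, 0, 1] : Matrix (Fin 3) (Fin 3) F) i j = _
  fin_cases i <;> fin_cases j <;> simp_all

theorem ut_inj {r s t r' s' t' : F} (h : ut r s t = ut r' s' t') : r = r' ∧ s = s' ∧ t = t' := by
  have h1 : (!![1, r, t; 0, 1, s; 0, 0, 1] : Matrix (Fin 3) (Fin 3) F) = !![1, r', t'; 0, 1, s'; 0, 0, 1] :=
    congrArg Subtype.val h
  refine ⟨?_, ?_, ?_⟩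
  · simpa using congrFun (congrFun h1 0) 1
  · simpa using congrFun (congrFun h1 1) 2
  · simpa using congrFun (congrFun h1 0) 2

theorem X01 (r : F) : X (i := 0) (j := 1) (by decide) r = pr (ut r 0 0) := by
  rw [X_eq]
  congr 1
  apply Subtype.ext
  show (1 : Matrix (Fin 3) (Fin 3) F) + single 0 1 r = !![1, r, 0; 0, 1, 0; 0, 0, 1]
  ext i j
  fin_cases i <;> fin_cases j <;> simp [single_apply]

theorem X12 (s : F) : X (i := 1) (j := 2) (by decide) s = pr (ut 0 s 0) := by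
  rw [X_eq]
  congr 1
  apply Subtype.ext
  show (1 : Matrix (Fin 3) (Fin 3) F) + single 1 2 s = !![1, 0, 0; 0, 1, s; 0, 0, 1]
  ext i j
  fin_cases i <;> fin_cases j <;> simp [single_apply]

theorem X02 (t : F) : X (i := 0) (j := 2) (by decide) t = pr (ut 0 0 t) := by
  rw [X_eq]
  congr 1
  apply Subtype.ext
  show (1 : Matrix (Fin 3) (Fin 3) F) + single 0 2 t = !![1, 0, t; 0, 1, 0; 0, 0, 1]
  ext i j
  fin_cases i <;> fin_cases j <;> simp [single_apply]

theorem pr_ut_inj [Finite F] {r s t r' s' t' : F} (h : pr (ut r s t) = pr (ut r' s' t')) :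
    r = r' ∧ s = s' ∧ t = t' :=
  ut_inj (pr_injOn_upper (ut_mem r s t) (ut_mem r' s' t') h)

section G

variable {G : Type*} [Group G] [Finite G] {A : Subgroup G} [Finite F] [CharP F 2] (fr : FrameL3 A F)
  (hZ : Odd (Nat.card (Subgroup.center ↥A)))

omit [Finite G] [Finite F] [CharP F 2] in
theorem is2_x {i j : Fin 3} (h : i ≠ j) (s : F) : Is2 (⟨fr.x i j s, fr.mem h s⟩ : A) :=
  is2_of_sq (Subtype.ext (fr.two h s))

/-- The map of `A` onto `PSL₃(F)`. -/
noncomputable def cov : ↥A →* Matrix.ProjectiveSpecialLinearGroup (Fin 3) F :=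
  fr.e.toMonoidHom.comp (QuotientGroup.mk' (Subgroup.center ↥A))

omit [Finite G] [Finite F] [CharP F 2] in
theorem cov_apply (a : A) : cov fr a = fr.e (QuotientGroup.mk a) := rfl

theorem isPGroup_Ubar : IsPGroup 2 (Ubar F) := by
  have : Fact (Nat.Prime 2) := ⟨Nat.prime_two⟩
  have := Fintype.ofFinite F
  obtain ⟨S, hS⟩ := exists_sylow (F := F) 3 2
  show IsPGroup 2 ((upper 3 F).map pr)
  rw [← hS]
  exact S.isPGroup'

include hZ

theorem cover : OddCover (cov fr) := OddCover.of_center fr.e hZ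

omit [Finite G] in
theorem U_is2 {g : G} (hg : g ∈ fr.U) [Finite A] : Is2 g := by
  have hc : OddCover (cov fr) := OddCover.of_center fr.e hZ
  have key : ∀ g ∈ fr.U, ∀ h : g ∈ A, (⟨g, h⟩ : A) ∈ hc.up isPGroup_Ubar := by
    intro g hg
    induction hg using Subgroup.closure_induction with
    | mem _ h =>
      obtain ⟨i, j, h, s, rfl⟩ := h
      intro _
      rw [hc.mem_up]
      exact ⟨is2_x fr h.ne s, by rw [cov_apply, fr.map_X h.ne s]; exact X_mem h s⟩
    | one => intro h; exact one_mem _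
    | mul a b ha hb iha ihb => intro h; exact mul_mem (iha (fr.U_le ha)) (ihb (fr.U_le hb))
    | inv a ha iha => intro h; exact inv_mem (iha (fr.U_le ha))
  have h1 := ((hc.mem_up isPGroup_Ubar).1 (key g hg (fr.U_le hg))).1
  obtain ⟨n, hn⟩ := h1
  exact ⟨n, congrArg Subtype.val hn⟩

theorem isPGroup_U : IsPGroup 2 fr.U := by
  rintro ⟨g, hg⟩
  obtain ⟨n, hn⟩ := U_is2 fr hZ hg
  exact ⟨n, Subtype.ext hn⟩

/-- Elements of `U` are determined by their images. -/
theorem eq_of_cov {g h : G} (hg : g ∈ fr.U) (hh : h ∈ fr.U)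
    (e : cov fr ⟨g, fr.U_le hg⟩ = cov fr ⟨h, fr.U_le hh⟩) : g = h := by
  obtain ⟨n, hn⟩ := U_is2 fr hZ hg
  obtain ⟨m, hm⟩ := U_is2 fr hZ hh
  have := (cover fr hZ).eq_of_map_eq (a := ⟨g, fr.U_le hg⟩) (b := ⟨h, fr.U_le hh⟩) ⟨n, Subtype.ext hn⟩
    ⟨m, Subtype.ext hm⟩ e
  exact congrArg Subtype.val this

omit [Finite G] [Finite F] [CharP F 2] hZ

/-- Elements of `U` in Heisenberg coordinates. -/
def u (r s t : F) : G := fr.x 0 1 r * fr.x 1 2 s * fr.x 0 2 (t - r * s)

theorem u_eq_el (r s t : F) : u fr r s t = fr.el r s (t - r * s) := rfl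

theorem el_eq_u (r s t : F) : fr.el r s t = u fr r s (t + r * s) := by
  rw [u_eq_el, add_sub_cancel_right]

theorem u_mem (r s t : F) : u fr r s t ∈ fr.U :=
  mul_mem (mul_mem (fr.x_mem_U (by decide) _) (fr.x_mem_U (by decide) _)) (fr.x_mem_U (by decide) _)

theorem cov_u (r s t : F) : cov fr ⟨u fr r s t, fr.U_le (u_mem fr r s t)⟩ = pr (ut r s t) := by
  have h1 : (⟨u fr r s t, fr.U_le (u_mem fr r s t)⟩ : A) =
      ⟨fr.x 0 1 r, fr.mem (by decide) r⟩ * ⟨fr.x 1 2 s, fr.mem (by decide) s⟩ *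
        ⟨fr.x 0 2 (t - r * s), fr.mem (by decide) _⟩ := rfl
  rw [h1, map_mul, map_mul, cov_apply, cov_apply, cov_apply, fr.map_X (by decide), fr.map_X (by decide),
    fr.map_X (by decide), X01, X12, X02, ← map_mul, ← map_mul, ut_mul, ut_mul]
  congr 1
  apply Subtype.ext
  show (!![1, r + 0 + 0, _; 0, 1, _; 0, 0, 1] : Matrix (Fin 3) (Fin 3) F) = !![1, r, t; 0, 1, s; 0, 0, 1]
  congr 1
  ext i j
  fin_cases i <;> fin_cases j <;> simp

variable [Finite G] [Finite F] [CharP F 2]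
include hZ

theorem u_mul (r s t r' s' t' : F) :
    u fr r s t * u fr r' s' t' = u fr (r + r') (s + s') (t + t' + r * s') := by
  apply eq_of_cov fr hZ (mul_mem (u_mem fr _ _ _) (u_mem fr _ _ _)) (u_mem fr _ _ _)
  have h1 : (⟨u fr r s t * u fr r' s' t', fr.U_le (mul_mem (u_mem fr _ _ _) (u_mem fr _ _ _))⟩ : A) =
      ⟨u fr r s t, fr.U_le (u_mem fr _ _ _)⟩ * ⟨u fr r' s' t', fr.U_le (u_mem fr _ _ _)⟩ := rfl
  rw [h1, map_mul, cov_u, cov_u, cov_u, ← map_mul, ut_mul]

omit [Finite G] [CharP F 2] hZ in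
theorem u_inj {r s t r' s' t' : F} (h : u fr r s t = u fr r' s' t') : r = r' ∧ s = s' ∧ t = t' := by
  apply pr_ut_inj
  rw [← cov_u fr, ← cov_u fr]
  congr 1
  exact Subtype.ext h

theorem mem_U {g : G} : g ∈ fr.U ↔ ∃ r s t, g = u fr r s t := by
  constructor
  · intro hg
    obtain ⟨r, s, t, h⟩ := (mem_Ubar _).1 (fr.map_mem_Ubar hg)
    refine ⟨r, s, t + r * s, ?_⟩
    apply eq_of_cov fr hZ hg (u_mem fr _ _ _)
    rw [cov_u, cov_apply, h, X01, X12, X02, ← map_mul, ← map_mul, ut_mul, ut_mul]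
    congr 1
    apply Subtype.ext
    show (!![1, r + 0 + 0, _; 0, 1, _; 0, 0, 1] : Matrix (Fin 3) (Fin 3) F) = !![1, r, t + r * s; 0, 1, s; 0, 0, 1]
    congr 1
    ext i j
    fin_cases i <;> fin_cases j <;> simp [add_comm]
  · rintro ⟨r, s, t, rfl⟩
    exact u_mem fr _ _ _

omit [Finite G] [Finite F] [CharP F 2] hZ in
theorem x01_zero [Finite F] [CharP F 2] [Finite G] (hZ : Odd (Nat.card (Subgroup.center ↥A))) {i j : Fin 3}
    (h : i ≠ j) : fr.x i j 0 = 1 := by
  have h1 := (cover fr hZ).eq_of_map_eq (a := ⟨fr.x i j 0, fr.mem h 0⟩) (b := 1) (is2_x fr h 0) is2_one (by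
    rw [cov_apply, fr.map_X h, map_one, X_eq]
    have : Matrix.SpecialLinearGroup.transvection h (0 : F) = 1 := by
      apply Subtype.ext
      show (1 : Matrix (Fin 3) (Fin 3) F) + single i j 0 = 1
      rw [single_zero, add_zero]
    rw [this, map_one])
  exact congrArg Subtype.val h1

theorem u_r (r : F) : u fr r 0 0 = fr.x 0 1 r := by
  rw [u, x01_zero fr hZ (by decide), mul_zero, sub_zero, x01_zero fr hZ (by decide), mul_one, mul_one]

theorem u_s (s : F) : u fr 0 s 0 = fr.x 1 2 s := by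
  rw [u, x01_zero fr hZ (by decide), zero_mul, sub_zero, x01_zero fr hZ (by decide), mul_one, one_mul]

theorem u_t (t : F) : u fr 0 0 t = fr.x 0 2 t := by
  rw [u, x01_zero fr hZ (by decide), zero_mul, sub_zero, x01_zero fr hZ (by decide), one_mul, one_mul]

theorem u_zero : u fr 0 0 0 = 1 := by rw [u_r fr hZ, x01_zero fr hZ (by decide)]

theorem u_inv (r s t : F) : (u fr r s t)⁻¹ = u fr r s (t + r * s) := by
  rw [inv_eq_iff_mul_eq_one, u_mul fr hZ, ← u_zero fr hZ, CharTwo.add_self_eq_zero, CharTwo.add_self_eq_zero]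
  congr 1
  rw [← add_assoc, CharTwo.add_self_eq_zero, zero_add, CharTwo.add_self_eq_zero]

theorem u_sq (r s t : F) : u fr r s t * u fr r s t = u fr 0 0 (r * s) := by
  rw [u_mul fr hZ, CharTwo.add_self_eq_zero, CharTwo.add_self_eq_zero, CharTwo.add_self_eq_zero, zero_add]

theorem u_comm_iff (r s t r' s' t' : F) :
    u fr r s t * u fr r' s' t' = u fr r' s' t' * u fr r s t ↔ r * s' = r' * s := by
  rw [u_mul fr hZ, u_mul fr hZ]
  constructor
  · intro h
    have := (u_inj fr h).2.2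
    rw [add_comm t' t] at this
    exact add_left_cancel this
  · intro h
    rw [h, add_comm r' r, add_comm s' s, add_comm t' t]

end G

end Cfsg.Agent.StdRank2.OutL3Rel
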