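import Mathlib
import Cfsg.Agent.StdRank2.OutL3Rel

/-!
# Elements of the normaliser of `A` (type `L₃(F)`) with prescribed action on `U`
-/

set_option autoImplicit false

namespace Cfsg.Agent.StdRank2.OutL3Facts

open Matrix Cfsg.Agent.StdRank2.OutL3 Cfsg.Agent.StdRank2.OutAct Cfsg.Agent.StdRank2.FrameLift
open Cfsg.Agent.StdRank2.OutL3Rel
open Cfsg.Agent.ClassicalGeometry.AutPSL.Root Cfsg.Agent.ClassicalGeometry.AutPSL.SylowU
open Cfsg.Agent.ClassicalGeometry.AutPSL.Auto Cfsg.Agent.ClassicalGeometry.AutPSL.Main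

variable {F : Type*} [Field F]

/-! ### Automorphisms of `PSL₃(F)` -/

theorem conj_ut (a b c r s t : F) :
    MulAut.conj (pr (ut a b c)) (pr (ut r s t)) = pr (ut r s (t + a * s - r * b)) := by
  rw [MulAut.conj_apply, mul_inv_eq_iff_eq_mul, ← map_mul, ← map_mul, ut_mul, ut_mul, add_comm a r, add_comm b s]
  congr 2
  ring

theorem tor_ut_r (d : Fin 3 → Fˣ) (r : F) : tor d (pr (ut r 0 0)) = pr (ut ((d 0 : F) * r * (d 1 : F)⁻¹) 0 0) := by
  rw [← X01, tor_X, X01]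

theorem tor_ut_s (d : Fin 3 → Fˣ) (s : F) : tor d (pr (ut 0 s 0)) = pr (ut 0 ((d 1 : F) * s * (d 2 : F)⁻¹) 0) := by
  rw [← X12, tor_X, X12]

theorem fd_ut_r (σ : F ≃+* F) (r : F) : fd σ (pr (ut r 0 0)) = pr (ut (σ r) 0 0) := by
  rw [← X01, fd_X, X01]

theorem fd_ut_s (σ : F ≃+* F) (s : F) : fd σ (pr (ut 0 s 0)) = pr (ut 0 (σ s) 0) := by
  rw [← X12, fd_X, X12]

theorem gr_ut_r [CharP F 2] (r : F) : gr (pr (ut r 0 0)) = pr (ut 0 r 0) := by
  rw [← X01, gr_X, ← X12]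

theorem gr_ut_s [CharP F 2] (s : F) : gr (pr (ut 0 s 0)) = pr (ut s 0 0) := by
  rw [← X12, gr_X, ← X01]

theorem gr_ut_t [CharP F 2] (t : F) : gr (pr (ut 0 0 t)) = pr (ut 0 0 t) := by
  rw [← X02, gr_X]

theorem tor_eq_one {d : Fin 3 → Fˣ} (h1 : d 0 = d 1) (h2 : d 1 = d 2) : tor d = 1 := by
  have hd : ∀ i, d i = d 0 := by
    intro i
    fin_cases i
    · rfl
    · exact h1.symm
    · exact (h1.trans h2).symm
  apply ext_X
  intro i j hij t
  rw [tor_X, MulAut.one_apply, hd i, hd j]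
  congr 1
  rw [mul_comm (d 0 : F) t, mul_assoc, mul_inv_cancel₀ (d 0).ne_zero, mul_one]

/-- An automorphism normalising the unitriangular group and trivial modulo its centre. -/
theorem eq_conj_of_unip [Finite F] [CharP F 2] (α : MulAut (Matrix.ProjectiveSpecialLinearGroup (Fin 3) F))
    (hα : ∀ x ∈ Ubar F, α x ∈ Ubar F) (hr : ∀ r, ∃ t, α (pr (ut r 0 0)) = pr (ut r 0 t))
    (hs : ∀ s, ∃ t, α (pr (ut 0 s 0)) = pr (ut 0 s t)) : ∃ v ∈ Ubar F, α = MulAut.conj v := by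
  obtain ⟨v, hv, d, p, hp, rfl⟩ := exists_triple α hα
  obtain ⟨a, b, c, hv'⟩ := (mem_Ubar v).1 hv
  have hv'' : v = pr (ut a b (c + a * b)) := by
    rw [hv', X01, X12, X02, ← map_mul, ← map_mul, ut_mul, ut_mul]
    congr 1
    apply Subtype.ext
    show (!![1, a + 0 + 0, _; 0, 1, _; 0, 0, 1] : Matrix (Fin 3) (Fin 3) F) = !![1, a, c + a * b; 0, 1, b; 0, 0, 1]
    congr 1
    ext i j
    fin_cases i <;> fin_cases j <;> simp [add_comm]
  obtain ⟨σ, rfl | rfl⟩ := hp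
  · have h1 : ∀ r, (d 0 : F) * σ r * (d 1 : F)⁻¹ = r := by
      intro r
      obtain ⟨t, ht⟩ := hr r
      rw [MulAut.mul_apply, MulAut.mul_apply, fd_ut_r, tor_ut_r, hv'', conj_ut] at ht
      exact (pr_ut_inj ht).1
    have h2 : ∀ s, (d 1 : F) * σ s * (d 2 : F)⁻¹ = s := by
      intro s
      obtain ⟨t, ht⟩ := hs s
      rw [MulAut.mul_apply, MulAut.mul_apply, fd_ut_s, tor_ut_s, hv'', conj_ut] at ht
      exact (pr_ut_inj ht).2.1
    have h3 : d 0 = d 1 := by
      have := h1 1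
      rw [map_one, mul_one, mul_inv_eq_iff_eq_mul₀ (d 1).ne_zero, one_mul] at this
      exact Units.ext this
    have h4 : d 1 = d 2 := by
      have := h2 1
      rw [map_one, mul_one, mul_inv_eq_iff_eq_mul₀ (d 2).ne_zero, one_mul] at this
      exact Units.ext this
    have h5 : σ = 1 := by
      ext r
      have := h1 r
      rw [h3, mul_comm (d 1 : F), mul_assoc, mul_inv_cancel₀ (d 1).ne_zero, mul_one] at this
      exact this
    refine ⟨v, hv, ?_⟩
    rw [tor_eq_one h3 h4, h5, map_one, mul_one, mul_one]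
  · exfalso
    obtain ⟨t, ht⟩ := hr 1
    rw [MulAut.mul_apply, MulAut.mul_apply, MulAut.mul_apply, gr_ut_r, fd_ut_s, tor_ut_s, hv'', conj_ut] at ht
    exact zero_ne_one (pr_ut_inj ht).1

/-- An automorphism centralising the first maximal elementary abelian subgroup. -/
theorem eq_conj_of_cent [Finite F] [CharP F 2] (α : MulAut (Matrix.ProjectiveSpecialLinearGroup (Fin 3) F))
    (hr : ∀ r, α (pr (ut r 0 0)) = pr (ut r 0 0)) (ht : ∀ t, α (pr (ut 0 0 t)) = pr (ut 0 0 t)) :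
    ∃ r t, α = MulAut.conj (pr (ut r 0 t)) := by
  have : Fact (Nat.Prime 2) := ⟨Nat.prime_two⟩
  have := Fintype.ofFinite F
  rcases surj_three 2 le_rfl α with ⟨C, σ, hC⟩ | ⟨C, σ, hC⟩
  · have h01 : ∀ s, (C : Matrix (Fin 3) (Fin 3) F) * single 0 1 (σ s) = single 0 1 s * (C : Matrix (Fin 3) (Fin 3) F) := by
      intro s
      have h1 := hr s
      rw [← X01, X_eq, hC, lift_pr, MulAut.mul_apply, fld_transvection] at h1
      exact cj_transvection_eq h1
    have h02 : ∀ s, (C : Matrix (Fin 3) (Fin 3) F) * single 0 2 (σ s) = single 0 2 s * (C : Matrix (Fin 3) (Fin 3) F) := by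
      intro s
      have h1 := ht s
      rw [← X02, X_eq, hC, lift_pr, MulAut.mul_apply, fld_transvection] at h1
      exact cj_transvection_eq h1
    set c := (C : Matrix (Fin 3) (Fin 3) F) with hc
    have e1 := h01 1
    have e2 := h02 1
    rw [map_one] at e1 e2
    have a1 : c 0 0 = c 1 1 := by simpa using congrFun (congrFun e1 0) 1
    have a2 : c 1 0 = 0 := by simpa using congrFun (congrFun e1 1) 1
    have a3 : c 2 0 = 0 := by simpa using congrFun (congrFun e1 2) 1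
    have a4 : c 1 2 = 0 := by simpa using (congrFun (congrFun e1 0) 2).symm
    have a5 : c 0 0 = c 2 2 := by simpa using congrFun (congrFun e2 0) 2
    have a6 : c 2 1 = 0 := by simpa using (congrFun (congrFun e2 0) 1).symm
    have hdet : c.det ≠ 0 := by
      have h1 : IsUnit c.det := (Matrix.isUnit_iff_isUnit_det _).1 C.isUnit
      exact h1.ne_zero
    have a0 : c 0 0 ≠ 0 := by
      intro h0
      apply hdet
      rw [Matrix.det_fin_three, a2, a3, h0]
      ring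
    have hσ : σ = 1 := by
      ext s
      have h1 : c 0 0 * σ s = s * c 1 1 := by simpa using congrFun (congrFun (h01 s) 0) 1
      rw [← a1, mul_comm s] at h1
      exact mul_left_cancel₀ a0 h1
    refine ⟨c 0 1 * (c 0 0)⁻¹, c 0 2 * (c 0 0)⁻¹, ?_⟩
    have hlift : lift (cj C) = MulAut.conj (pr (ut (c 0 1 * (c 0 0)⁻¹) 0 (c 0 2 * (c 0 0)⁻¹))) := by
      set w := ut (c 0 1 * (c 0 0)⁻¹) 0 (c 0 2 * (c 0 0)⁻¹) with hw
      have hcw : c = (c 0 0) • (w : Matrix (Fin 3) (Fin 3) F) := by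
        have hw' : (w : Matrix (Fin 3) (Fin 3) F) = !![1, c 0 1 * (c 0 0)⁻¹, c 0 2 * (c 0 0)⁻¹; 0, 1, 0; 0, 0, 1] := rfl
        rw [hw']
        ext i j
        rw [Matrix.smul_apply]
        fin_cases i <;> fin_cases j <;>
          simp [a2, a3, a4, a6, ← a1, ← a5, mul_left_comm (c 0 0), mul_inv_cancel₀ a0]
      have h2 : cj C = MulAut.conj w := by
        obtain ⟨a, ha⟩ : ∃ a : F, a = c 0 0 := ⟨_, rfl⟩
        rw [← ha] at hcw a0
        apply MulEquiv.ext
        intro g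
        apply Subtype.ext
        rw [coe_cj, MulAut.conj_apply, Matrix.SpecialLinearGroup.coe_mul, Matrix.SpecialLinearGroup.coe_mul]
        have h3 : c * (((C⁻¹ : GL (Fin 3) F) : Matrix (Fin 3) (Fin 3) F)) = 1 := C.mul_inv
        have h4 : ((w⁻¹ : Matrix.SpecialLinearGroup (Fin 3) F) : Matrix (Fin 3) (Fin 3) F) * (w : Matrix (Fin 3) (Fin 3) F) = 1 := by
          rw [← Matrix.SpecialLinearGroup.coe_mul, inv_mul_cancel, Matrix.SpecialLinearGroup.coe_one]
        have h5 : ((C⁻¹ : GL (Fin 3) F) : Matrix (Fin 3) (Fin 3) F) =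
            a⁻¹ • ((w⁻¹ : Matrix.SpecialLinearGroup (Fin 3) F) : Matrix (Fin 3) (Fin 3) F) := by
          have h6 : ((w⁻¹ : Matrix.SpecialLinearGroup (Fin 3) F) : Matrix (Fin 3) (Fin 3) F) * (c *
              (((C⁻¹ : GL (Fin 3) F) : Matrix (Fin 3) (Fin 3) F))) =
              ((w⁻¹ : Matrix.SpecialLinearGroup (Fin 3) F) : Matrix (Fin 3) (Fin 3) F) := by
            rw [h3, Matrix.mul_one]
          rw [← Matrix.mul_assoc, hcw, Matrix.mul_smul, h4, Matrix.smul_mul, Matrix.one_mul] at h6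
          rw [← h6, smul_smul, inv_mul_cancel₀ a0, one_smul]
        rw [h5, ← hc]
        conv_lhs => rw [hcw]
        rw [Matrix.smul_mul, Matrix.smul_mul, Matrix.mul_smul, smul_smul, mul_inv_cancel₀ a0, one_smul]
      rw [h2]
      apply MulEquiv.ext
      intro x
      obtain ⟨x, rfl⟩ := pr_surjective x
      rw [lift_pr, MulAut.conj_apply, MulAut.conj_apply, map_mul, map_mul, map_inv]
    rw [hC, hσ, map_one, mul_one, hlift]
  · exfalso
    have h01 : (C : Matrix (Fin 3) (Fin 3) F) * single 1 0 (σ (-1)) = single 0 1 1 * (C : Matrix (Fin 3) (Fin 3) F) := by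
      have h1 := hr 1
      rw [← X01, X_eq, hC, lift_pr, MulAut.mul_apply, MulAut.mul_apply, itr_transvection, fld_transvection] at h1
      exact cj_transvection_eq h1
    have h02 : (C : Matrix (Fin 3) (Fin 3) F) * single 2 0 (σ (-1)) = single 0 2 1 * (C : Matrix (Fin 3) (Fin 3) F) := by
      have h1 := ht 1
      rw [← X02, X_eq, hC, lift_pr, MulAut.mul_apply, MulAut.mul_apply, itr_transvection, fld_transvection] at h1
      exact cj_transvection_eq h1
    have hdet : (C : Matrix (Fin 3) (Fin 3) F).det ≠ 0 := by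
      have h1 : IsUnit (C : Matrix (Fin 3) (Fin 3) F).det := (Matrix.isUnit_iff_isUnit_det _).1 C.isUnit
      exact h1.ne_zero
    have a1 : (C : Matrix (Fin 3) (Fin 3) F) 1 1 = 0 := by simpa using (congrFun (congrFun h01 0) 1).symm
    have a2 : (C : Matrix (Fin 3) (Fin 3) F) 1 2 = 0 := by simpa using (congrFun (congrFun h01 0) 2).symm
    have a3 : (C : Matrix (Fin 3) (Fin 3) F) 2 1 = 0 := by simpa using (congrFun (congrFun h02 0) 1).symm
    have a4 : (C : Matrix (Fin 3) (Fin 3) F) 2 2 = 0 := by simpa using (congrFun (congrFun h02 0) 2).symm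
    apply hdet
    rw [Matrix.det_fin_three, a1, a2, a3, a4]
    ring

/-! ### Elements of the normaliser of `A` -/

section G

variable {G : Type*} [Group G] [Finite G] {A : Subgroup G} [Finite F] [CharP F 2] (fr : FrameL3 A F)
  (hZ : Odd (Nat.card (Subgroup.center ↥A)))

omit [Finite G] [Finite F] [CharP F 2] in
theorem act_cov {y : G} (hy : y ∈ Subgroup.normalizer (A : Set G)) (a : A) :
    act A fr.e ⟨y, hy⟩ (cov fr a) = cov fr (OutAct.cj hy a) := act_mk fr.e ⟨y, hy⟩ a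

omit [Finite G] [Finite F] [CharP F 2] in
theorem act_u {y : G} (hy : y ∈ Subgroup.normalizer (A : Set G)) {r s t r' s' t' : F}
    (h : y * u fr r s t * y⁻¹ = u fr r' s' t') :
    act A fr.e ⟨y, hy⟩ (pr (ut r s t)) = pr (ut r' s' t') := by
  rw [← cov_u fr, act_cov, ← cov_u fr]
  congr 1
  exact Subtype.ext h

omit [Finite G] [Finite F] [CharP F 2] in
theorem mem_centralizer (hA : _root_.commutator ↥A = ⊤) {y v : G} (hy : y ∈ Subgroup.normalizer (A : Set G))
    (hv : v ∈ A) (h : act A fr.e ⟨y, hy⟩ = MulAut.conj (cov fr ⟨v, hv⟩)) :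
    v⁻¹ * y ∈ Subgroup.centralizer (A : Set G) := by
  have hvN : v⁻¹ ∈ Subgroup.normalizer (A : Set G) := Subgroup.le_normalizer (inv_mem hv)
  have h1 : act A fr.e ⟨v⁻¹ * y, mul_mem hvN hy⟩ = 1 := by
    have h2 : (⟨v⁻¹ * y, mul_mem hvN hy⟩ : ↥(Subgroup.normalizer (A : Set G))) = ⟨v⁻¹, hvN⟩ * ⟨y, hy⟩ := rfl
    rw [h2, map_mul, h, act_conj_mem fr.e (inv_mem hv) hvN]
    have h3 : (⟨v⁻¹, inv_mem hv⟩ : A) = ⟨v, hv⟩⁻¹ := rfl
    rw [h3, QuotientGroup.mk_inv, map_inv, map_inv, cov_apply, inv_mul_cancel]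
  exact mem_centralizer_of_act_eq_one hA fr.e h1

include hZ

/-- **An element of `N(A)` normalising `U` and trivial on `U / Z` lies in `U C(A)`.** -/
theorem exists_of_trivial (hA : _root_.commutator ↥A = ⊤) {y : G} (hy : y ∈ Subgroup.normalizer (A : Set G))
    (h : ∀ r s t, ∃ t', y * u fr r s t * y⁻¹ = u fr r s t') :
    ∃ v ∈ fr.U, v⁻¹ * y ∈ Subgroup.centralizer (A : Set G) := by
  obtain ⟨v, hv, hα⟩ := eq_conj_of_unip (act A fr.e ⟨y, hy⟩) (by
      intro x hx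
      obtain ⟨g, hg, rfl⟩ := fr.exists_of_mem_Ubar hx
      obtain ⟨r, s, t, rfl⟩ := (mem_U fr hZ).1 hg
      obtain ⟨t', ht'⟩ := h r s t
      have h1 := act_u fr hy ht'
      rw [← cov_u fr, ← cov_u fr] at h1
      show act A fr.e ⟨y, hy⟩ (cov fr _) ∈ _
      rw [h1]
      exact fr.map_mem_Ubar (u_mem fr _ _ _))
    (fun r => by
      obtain ⟨t', ht'⟩ := h r 0 0
      exact ⟨t', act_u fr hy ht'⟩)
    (fun s => by
      obtain ⟨t', ht'⟩ := h 0 s 0
      exact ⟨t', act_u fr hy ht'⟩)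
  obtain ⟨g, hg, rfl⟩ := fr.exists_of_mem_Ubar hv
  exact ⟨g, hg, mem_centralizer fr hA hy (fr.U_le hg) hα⟩

omit [Finite G] hZ in
/-- **The centraliser of `E₁` in `N(A)` is `E₁ C(A)`.** -/
theorem exists_of_cent_one (hA : _root_.commutator ↥A = ⊤) {y : G} (hy : y ∈ Subgroup.normalizer (A : Set G))
    (h : ∀ r t, y * u fr r 0 t * y⁻¹ = u fr r 0 t) :
    ∃ r t, (u fr r 0 t)⁻¹ * y ∈ Subgroup.centralizer (A : Set G) := by
  obtain ⟨r, t, hα⟩ := eq_conj_of_cent (act A fr.e ⟨y, hy⟩) (fun r => act_u fr hy (h r 0))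
    (fun t => act_u fr hy (h 0 t))
  refine ⟨r, t, mem_centralizer fr hA hy (fr.U_le (u_mem fr r 0 t)) ?_⟩
  rw [cov_u, hα]

omit [Finite G] hZ in
/-- **The centraliser of `E₂` in `N(A)` is `E₂ C(A)`.** -/
theorem exists_of_cent_two (hA : _root_.commutator ↥A = ⊤) {y : G} (hy : y ∈ Subgroup.normalizer (A : Set G))
    (h : ∀ s t, y * u fr 0 s t * y⁻¹ = u fr 0 s t) :
    ∃ s t, (u fr 0 s t)⁻¹ * y ∈ Subgroup.centralizer (A : Set G) := by
  set α := act A fr.e ⟨y, hy⟩ with hα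
  have h2 : (gr : MulAut (Matrix.ProjectiveSpecialLinearGroup (Fin 3) F))⁻¹ = gr :=
    inv_eq_of_mul_eq_one_left gr_mul_gr
  obtain ⟨r, t, h1⟩ := eq_conj_of_cent (gr * α * gr⁻¹) (fun r => by
      rw [h2, MulAut.mul_apply, MulAut.mul_apply, gr_ut_r, hα, act_u fr hy (h r 0), gr_ut_s])
    (fun t => by
      rw [h2, MulAut.mul_apply, MulAut.mul_apply, gr_ut_t, hα, act_u fr hy (h 0 t), gr_ut_t])
  have h3 : gr (pr (ut r 0 t)) = pr (ut 0 r t) := by
    have h4 : ut r 0 t = ut r 0 0 * ut 0 0 t := by rw [ut_mul]; simp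
    have h5 : ut 0 r t = ut 0 r 0 * ut 0 0 t := by rw [ut_mul]; simp
    rw [h4, h5, map_mul, map_mul, map_mul, gr_ut_r, gr_ut_t]
  refine ⟨r, t, mem_centralizer fr hA hy (fr.U_le (u_mem fr 0 r t)) ?_⟩
  rw [cov_u, ← h3, ← hα]
  have h6 : α = gr⁻¹ * (gr * α * gr⁻¹) * gr := by group
  rw [h6, h1, h2]
  apply MulEquiv.ext
  intro x
  rw [MulAut.mul_apply, MulAut.mul_apply, MulAut.conj_apply, MulAut.conj_apply, map_mul, map_mul, map_inv]
  congr 2
  have h7 := congrArg (fun β : MulAut (Matrix.ProjectiveSpecialLinearGroup (Fin 3) F) => β x) (gr_mul_gr (F := F))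
  exact h7

end G

end Cfsg.Agent.StdRank2.OutL3Facts
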