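import Cfsg.Agent.StdRank2.HexMod

/-!
# The module `Q_1/Z` of a short rank one subgroup of a hexagonal root system in characteristic two (S1778)

`k` odd (short), `L = ⟨X_k, X_{k+6}⟩ ≅ SL₂(E)`, `Q = X_{k+1} ⋯ X_{k+5}`, `Z = X_{k+3}`:
* `Q4 k g a b d e` : `g ∈ x_{k+1}(a) x_{k+2}(b) x_{k+4}(d) x_{k+5}(e) Z`; additive (`Q4.mul`), action of `x_k(s)`
  (`Q4.up`), of the reflection (`Q4.nn`) and of the torus;
* `Q_irred` : a subgroup `Z < Y ≤ Q` normalised by `X_k`, the reflection and the torus is `Q`, unless `E = F` has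
  two elements (`G₂(2)`).
-/

set_option autoImplicit false

namespace Cfsg.Agent.StdRank2.Hex

open Cfsg.Agent.SplitTwo Cfsg.Agent.SuzukiRankOne.SLTwoRel
open scoped commutatorElement

section Idx

theorem oe1 : ∀ k : ZMod 12, k.val % 2 = 1 → (k + 1).val % 2 = 0 := by decide
theorem oe2 : ∀ k : ZMod 12, k.val % 2 = 1 → (k + 2).val % 2 = 1 := by decide
theorem oe3 : ∀ k : ZMod 12, k.val % 2 = 1 → (k + 3).val % 2 = 0 := by decide
theorem oe4 : ∀ k : ZMod 12, k.val % 2 = 1 → (k + 4).val % 2 = 1 := by decide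
theorem oe5 : ∀ k : ZMod 12, k.val % 2 = 1 → (k + 5).val % 2 = 0 := by decide
theorem ia12 : ∀ k : ZMod 12, k + 1 + 1 = k + 2 := by decide
theorem ia13 : ∀ k : ZMod 12, k + 1 + 2 = k + 3 := by decide
theorem ia14 : ∀ k : ZMod 12, k + 1 + 3 = k + 4 := by decide
theorem ia15 : ∀ k : ZMod 12, k + 1 + 4 = k + 5 := by decide
theorem ia23 : ∀ k : ZMod 12, k + 2 + 1 = k + 3 := by decide
theorem ia24 : ∀ k : ZMod 12, k + 2 + 2 = k + 4 := by decide
theorem ia25 : ∀ k : ZMod 12, k + 2 + 3 = k + 5 := by decide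
theorem ia34 : ∀ k : ZMod 12, k + 3 + 1 = k + 4 := by decide
theorem ia35 : ∀ k : ZMod 12, k + 3 + 2 = k + 5 := by decide
theorem ia45 : ∀ k : ZMod 12, k + 4 + 1 = k + 5 := by decide
theorem ir1 : ∀ k : ZMod 12, 2 * k + 6 - (k + 1) = k + 5 := by decide
theorem ir2 : ∀ k : ZMod 12, 2 * k + 6 - (k + 2) = k + 4 := by decide
theorem ir3 : ∀ k : ZMod 12, 2 * k + 6 - (k + 3) = k + 3 := by decide
theorem ir4 : ∀ k : ZMod 12, 2 * k + 6 - (k + 4) = k + 2 := by decide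
theorem ir5 : ∀ k : ZMod 12, 2 * k + 6 - (k + 5) = k + 1 := by decide

end Idx

variable {E : Type*} [Field E] {σ : E ≃+* E} {Γ : Type*} [Group Γ] {x : ZMod 12 → E → Γ}

/-- `g ∈ x_{k+1}(a) x_{k+2}(b) x_{k+4}(d) x_{k+5}(e) Z`. -/
def Q4 (σ : E ≃+* E) (x : ZMod 12 → E → Γ) (k : ZMod 12) (g : Γ) (a b d e : E) : Prop :=
  σ a = a ∧ σ e = e ∧ ∃ z, σ z = z ∧ g = x (k + 1) a * x (k + 2) b * x (k + 4) d * x (k + 5) e * x (k + 3) z

theorem comm_of_one {a b : Γ} (e : ⁅a, b⁆ = 1) : a * b = b * a := commutatorElement_eq_one_iff_mul_comm.1 e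

namespace HexTwo

variable (h : HexTwo σ x) {k : ZMod 12} (hk : k.val % 2 = 1)

include h hk

theorem cc12 {a : E} (ha : σ a = a) (b : E) : x (k + 1) a * x (k + 2) b = x (k + 2) b * x (k + 1) a := by
  have := h.commL1 (oe1 k hk) ha b
  rw [ia12] at this
  exact comm_of_one this

theorem cc13 {a c : E} (ha : σ a = a) (hc : σ c = c) : x (k + 1) a * x (k + 3) c = x (k + 3) c * x (k + 1) a := by
  have := h.commL2 (oe1 k hk) ha hc
  rw [ia13] at this
  exact comm_of_one this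

theorem cc14 {a : E} (ha : σ a = a) (d : E) : x (k + 1) a * x (k + 4) d = x (k + 4) d * x (k + 1) a := by
  have := h.commL3 (oe1 k hk) ha d
  rw [ia14] at this
  exact comm_of_one this

theorem cc23 (b : E) {c : E} (hc : σ c = c) : x (k + 2) b * x (k + 3) c = x (k + 3) c * x (k + 2) b := by
  have := h.commS1 (oe2 k hk) b hc
  rw [ia23] at this
  exact comm_of_one this

theorem cc25 (b : E) {e : E} (he : σ e = e) : x (k + 2) b * x (k + 5) e = x (k + 5) e * x (k + 2) b := by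
  have := h.commS3 (oe2 k hk) b he
  rw [ia25] at this
  exact comm_of_one this

theorem cc34 {c : E} (hc : σ c = c) (d : E) : x (k + 3) c * x (k + 4) d = x (k + 4) d * x (k + 3) c := by
  have := h.commL1 (oe3 k hk) hc d
  rw [ia34] at this
  exact comm_of_one this

theorem cc35 {c e : E} (hc : σ c = c) (he : σ e = e) : x (k + 3) c * x (k + 5) e = x (k + 5) e * x (k + 3) c := by
  have := h.commL2 (oe3 k hk) hc he
  rw [ia35] at this
  exact comm_of_one this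

theorem cc45 (d : E) {e : E} (he : σ e = e) : x (k + 4) d * x (k + 5) e = x (k + 5) e * x (k + 4) d := by
  have := h.commS1 (oe4 k hk) d he
  rw [ia45] at this
  exact comm_of_one this

/-- `x_{k+5}(e) x_{k+1}(a) = x_{k+1}(a) x_{k+5}(e) x_{k+3}(a e)` -/
theorem cc51 {a e : E} (ha : σ a = a) (he : σ e = e) :
    x (k + 5) e * x (k + 1) a = x (k + 1) a * x (k + 5) e * x (k + 3) (a * e) := by
  have hae : σ (a * e) = a * e := by rw [map_mul, ha, he]
  have h1 := h.commL4 (oe1 k hk) ha he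
  rw [ia15, ia13] at h1
  have h2 := conj_eq_mod h1
  rw [mul_inv_eq_iff_eq_mul] at h2
  have h3 := h.x_sq (ok_of_fix (k + 3) hae)
  have h4 := h.cc13 hk ha hae
  have h5 := h.cc35 hk hae he
  calc x (k + 5) e * x (k + 1) a = (x (k + 3) (a * e) * x (k + 3) (a * e)) * (x (k + 5) e * x (k + 1) a) := by
        rw [h3, one_mul]
    _ = x (k + 3) (a * e) * (x (k + 3) (a * e) * x (k + 5) e * x (k + 1) a) := by group
    _ = x (k + 3) (a * e) * (x (k + 1) a * x (k + 5) e) := by rw [h2]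
    _ = x (k + 3) (a * e) * x (k + 1) a * x (k + 5) e := by group
    _ = x (k + 1) a * (x (k + 3) (a * e) * x (k + 5) e) := by rw [← h4]; group
    _ = _ := by rw [h5]; group

/-- `x_{k+4}(d) x_{k+2}(b) = x_{k+2}(b) x_{k+4}(d) x_{k+3}(tr(b d))` -/
theorem cc42 (b d : E) :
    x (k + 4) d * x (k + 2) b = x (k + 2) b * x (k + 4) d * x (k + 3) (trc σ b d) := by
  have hae : σ (trc σ b d) = trc σ b d := trc_fix h.cube b d
  have h1 := h.commS2 (oe2 k hk) b d
  rw [ia24, ia23] at h1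
  have h2 := conj_eq_mod h1
  rw [mul_inv_eq_iff_eq_mul] at h2
  have h3 := h.x_sq (ok_of_fix (k + 3) hae)
  have h4 := h.cc23 hk b hae
  have h5 := h.cc34 hk hae d
  calc x (k + 4) d * x (k + 2) b = (x (k + 3) (trc σ b d) * x (k + 3) (trc σ b d)) * (x (k + 4) d * x (k + 2) b) := by
        rw [h3, one_mul]
    _ = x (k + 3) (trc σ b d) * (x (k + 3) (trc σ b d) * x (k + 4) d * x (k + 2) b) := by group
    _ = x (k + 3) (trc σ b d) * (x (k + 2) b * x (k + 4) d) := by rw [h2]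
    _ = x (k + 3) (trc σ b d) * x (k + 2) b * x (k + 4) d := by group
    _ = x (k + 2) b * (x (k + 3) (trc σ b d) * x (k + 4) d) := by rw [← h4]; group
    _ = _ := by rw [h5]; group

/-- **Additivity of the coordinates modulo `Z`.** -/
theorem Q4_mul {g g' : Γ} {a b d e a' b' d' e' : E} (hg : Q4 σ x k g a b d e) (hg' : Q4 σ x k g' a' b' d' e') :
    Q4 σ x k (g * g') (a + a') (b + b') (d + d') (e + e') := by
  obtain ⟨ha, he, z, hz, rfl⟩ := hg
  obtain ⟨ha', he', z', hz', rfl⟩ := hg'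
  have hae : σ (a' * e) = a' * e := by rw [map_mul, ha', he]
  have hbd : σ (trc σ b' d) = trc σ b' d := trc_fix h.cube b' d
  set w : E := z + trc σ b' d + a' * e with hw
  have hww : σ (w + z') = w + z' := by
    rw [hw]; simp only [map_add, hz, hbd, hae, hz']
  refine ⟨by rw [map_add, ha, ha'], by rw [map_add, he, he'], w + z', hww, ?_⟩
  have hwf : σ w = w := by rw [hw]; simp only [map_add, hz, hbd, hae]
  have k1 := h.cc13 hk ha' hz
  have k2 := h.cc23 hk b' hz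
  have k3 := h.cc34 hk hz d'
  have k4 := h.cc35 hk hz he'
  have l51 := h.cc51 hk ha' he
  have l42 := h.cc42 hk b' d
  have l41 := h.cc14 hk ha' d
  have l21 := h.cc12 hk ha' b
  have l52 := h.cc25 hk b' he
  have l54 := h.cc45 hk d' he
  have m1 := h.cc23 hk b' hae
  have m2 := h.cc34 hk hae d'
  have m3 := h.cc35 hk hae he'
  have n1 := h.cc34 hk hbd d'
  have n2 := h.cc35 hk hbd he'
  have n3 := h.cc35 hk hbd he
  have o3 : ∀ {u v : E}, σ u = u → σ v = v → x (k + 3) u * x (k + 3) v = x (k + 3) (u + v) := fun hu hv =>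
    (h.add _ _ _ (ok_of_fix _ hu) (ok_of_fix _ hv)).symm
  -- move the central elements to the right and sort
  calc x (k + 1) a * x (k + 2) b * x (k + 4) d * x (k + 5) e * x (k + 3) z *
        (x (k + 1) a' * x (k + 2) b' * x (k + 4) d' * x (k + 5) e' * x (k + 3) z') =
      x (k + 1) a * x (k + 2) b * x (k + 4) d * x (k + 5) e * (x (k + 3) z * x (k + 1) a') * x (k + 2) b' *
        x (k + 4) d' * x (k + 5) e' * x (k + 3) z' := by group
    _ = x (k + 1) a * x (k + 2) b * x (k + 4) d * x (k + 5) e * x (k + 1) a' * (x (k + 3) z * x (k + 2) b') *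
        x (k + 4) d' * x (k + 5) e' * x (k + 3) z' := by rw [← k1]; group
    _ = x (k + 1) a * x (k + 2) b * x (k + 4) d * x (k + 5) e * x (k + 1) a' * x (k + 2) b' *
        (x (k + 3) z * x (k + 4) d') * x (k + 5) e' * x (k + 3) z' := by rw [← k2]; group
    _ = x (k + 1) a * x (k + 2) b * x (k + 4) d * x (k + 5) e * x (k + 1) a' * x (k + 2) b' *
        x (k + 4) d' * (x (k + 3) z * x (k + 5) e') * x (k + 3) z' := by rw [k3]; group
    _ = x (k + 1) a * x (k + 2) b * x (k + 4) d * (x (k + 5) e * x (k + 1) a') * x (k + 2) b' *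
        x (k + 4) d' * x (k + 5) e' * (x (k + 3) z * x (k + 3) z') := by rw [k4]; group
    _ = x (k + 1) a * x (k + 2) b * (x (k + 4) d * x (k + 1) a') * x (k + 5) e * (x (k + 3) (a' * e) * x (k + 2) b') *
        x (k + 4) d' * x (k + 5) e' * (x (k + 3) z * x (k + 3) z') := by rw [l51]; group
    _ = x (k + 1) a * (x (k + 2) b * x (k + 1) a') * x (k + 4) d * (x (k + 5) e * x (k + 2) b') *
        (x (k + 3) (a' * e) * x (k + 4) d') * x (k + 5) e' * (x (k + 3) z * x (k + 3) z') := by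
        rw [← l41, ← m1]; group
    _ = x (k + 1) a * (x (k + 1) a' * x (k + 2) b) * (x (k + 4) d * x (k + 2) b') * (x (k + 5) e *
        x (k + 4) d') * (x (k + 3) (a' * e) * x (k + 5) e') * (x (k + 3) z * x (k + 3) z') := by
        rw [← l21, ← l52, m2]; group
    _ = (x (k + 1) a * x (k + 1) a') * x (k + 2) b * (x (k + 2) b' * x (k + 4) d * x (k + 3) (trc σ b' d)) *
        (x (k + 4) d' * x (k + 5) e) * (x (k + 5) e' * x (k + 3) (a' * e)) * (x (k + 3) z * x (k + 3) z') := by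
        rw [l42, ← l54, m3]; group
    _ = (x (k + 1) a * x (k + 1) a') * (x (k + 2) b * x (k + 2) b') * x (k + 4) d *
        (x (k + 3) (trc σ b' d) * x (k + 4) d') * x (k + 5) e * (x (k + 5) e' * x (k + 3) (a' * e)) *
          (x (k + 3) z * x (k + 3) z') := by group
    _ = (x (k + 1) a * x (k + 1) a') * (x (k + 2) b * x (k + 2) b') * (x (k + 4) d * x (k + 4) d') *
        (x (k + 3) (trc σ b' d) * x (k + 5) e) * (x (k + 5) e' * x (k + 3) (a' * e)) *
          (x (k + 3) z * x (k + 3) z') := by rw [n1]; group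
    _ = (x (k + 1) a * x (k + 1) a') * (x (k + 2) b * x (k + 2) b') * (x (k + 4) d * x (k + 4) d') * x (k + 5) e *
        (x (k + 3) (trc σ b' d) * x (k + 5) e') * x (k + 3) (a' * e) *
          (x (k + 3) z * x (k + 3) z') := by rw [n3]; group
    _ = (x (k + 1) a * x (k + 1) a') * (x (k + 2) b * x (k + 2) b') * (x (k + 4) d * x (k + 4) d') * (x (k + 5) e *
        x (k + 5) e') * (x (k + 3) (trc σ b' d) * x (k + 3) (a' * e) * x (k + 3) z * x (k + 3) z') := by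
        rw [n2]; group
    _ = _ := by
      rw [← h.add (k + 1) a a' (ok_of_fix _ ha) (ok_of_fix _ ha'), ← h.add (k + 2) b b' (ok_odd (oe2 k hk) _)
        (ok_odd (oe2 k hk) _), ← h.add (k + 4) d d' (ok_odd (oe4 k hk) _) (ok_odd (oe4 k hk) _),
        ← h.add (k + 5) e e' (ok_of_fix _ he) (ok_of_fix _ he'), o3 hbd hae, o3 (by rw [map_add, hbd, hae]) hz,
        o3 (by simp only [map_add, hbd, hae, hz]) hz']
      congr 2
      rw [hw]
      ring

omit h hk in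
theorem Q4_congr {g : Γ} {a b d e a' b' d' e' : E} (hg : Q4 σ x k g a b d e) (h1 : a = a') (h2 : b = b')
    (h3 : d = d') (h4 : e = e') : Q4 σ x k g a' b' d' e' := by
  subst h1 h2 h3 h4
  exact hg

theorem Q4_1 {a : E} (ha : σ a = a) : Q4 σ x k (x (k + 1) a) a 0 0 0 :=
  ⟨ha, map_zero σ, 0, map_zero σ, by rw [h.x_zero, h.x_zero, h.x_zero, h.x_zero]; group⟩

theorem Q4_2 (b : E) : Q4 σ x k (x (k + 2) b) 0 b 0 0 :=
  ⟨map_zero σ, map_zero σ, 0, map_zero σ, by rw [h.x_zero, h.x_zero, h.x_zero, h.x_zero]; group⟩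

theorem Q4_3 {c : E} (hc : σ c = c) : Q4 σ x k (x (k + 3) c) 0 0 0 0 :=
  ⟨map_zero σ, map_zero σ, c, hc, by rw [h.x_zero, h.x_zero, h.x_zero, h.x_zero]; group⟩

theorem Q4_4 (d : E) : Q4 σ x k (x (k + 4) d) 0 0 d 0 :=
  ⟨map_zero σ, map_zero σ, 0, map_zero σ, by rw [h.x_zero, h.x_zero, h.x_zero, h.x_zero]; group⟩

theorem Q4_5 {e : E} (he : σ e = e) : Q4 σ x k (x (k + 5) e) 0 0 0 e :=
  ⟨map_zero σ, he, 0, map_zero σ, by rw [h.x_zero, h.x_zero, h.x_zero, h.x_zero]; group⟩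

/-- conjugation of a normal form -/
theorem Q4_conj {y : Γ} {g : Γ} {a b d e : E} (hg : Q4 σ x k g a b d e) {a1 b1 d1 e1 a2 b2 d2 e2 a4 b4 d4 e4 a5 b5 d5 e5 : E}
    (c1 : Q4 σ x k (y * x (k + 1) a * y⁻¹) a1 b1 d1 e1) (c2 : Q4 σ x k (y * x (k + 2) b * y⁻¹) a2 b2 d2 e2)
    (c4 : Q4 σ x k (y * x (k + 4) d * y⁻¹) a4 b4 d4 e4) (c5 : Q4 σ x k (y * x (k + 5) e * y⁻¹) a5 b5 d5 e5)
    (c3 : ∀ z, σ z = z → Q4 σ x k (y * x (k + 3) z * y⁻¹) 0 0 0 0) :
    Q4 σ x k (y * g * y⁻¹) (a1 + a2 + a4 + a5) (b1 + b2 + b4 + b5) (d1 + d2 + d4 + d5) (e1 + e2 + e4 + e5) := by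
  obtain ⟨-, -, z, hz, rfl⟩ := hg
  have e0 : y * (x (k + 1) a * x (k + 2) b * x (k + 4) d * x (k + 5) e * x (k + 3) z) * y⁻¹ =
      (y * x (k + 1) a * y⁻¹) * (y * x (k + 2) b * y⁻¹) * (y * x (k + 4) d * y⁻¹) * (y * x (k + 5) e * y⁻¹) *
        (y * x (k + 3) z * y⁻¹) := by group
  rw [e0]
  refine Q4_congr (h.Q4_mul hk (h.Q4_mul hk (h.Q4_mul hk (h.Q4_mul hk c1 c2) c4) c5) (c3 z hz)) ?_ ?_ ?_ ?_ <;>
    rw [add_zero]

/-- **Action of `x_k(s)` on `Q/Z`.** -/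
theorem Q4_up (s : E) {g : Γ} {a b d e : E} (hg : Q4 σ x k g a b d e) :
    Q4 σ x k (x k s * g * (x k s)⁻¹) (a + trc σ s b + trc σ (shp σ s) d + e * nrm σ s)
      (b + crs σ s d + e * shp σ s) (d + e * s) e := by
  obtain ⟨ha, he, -⟩ := id hg
  have t1 := trc_fix h.cube s b
  have t2 := trc_fix h.cube (shp σ s) d
  have t3 := trc_fix h.cube s (shp σ d)
  have f1 : σ (e * nrm σ s) = e * nrm σ s := by rw [map_mul, he, nrm_fix h.cube]
  have f2 : σ (e ^ 2 * nrm σ s) = e ^ 2 * nrm σ s := by rw [map_mul, map_pow, he, nrm_fix h.cube]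
  have c1 : Q4 σ x k (x k s * x (k + 1) a * (x k s)⁻¹) a 0 0 0 := by
    rw [conj_eq_mod (h.commS1 hk s ha), one_mul]
    exact h.Q4_1 hk ha
  have c2 : Q4 σ x k (x k s * x (k + 2) b * (x k s)⁻¹) (trc σ s b) b 0 0 := by
    rw [conj_eq_mod (h.commS2 hk s b)]
    refine Q4_congr (h.Q4_mul hk (h.Q4_1 hk t1) (h.Q4_2 hk b)) ?_ ?_ ?_ ?_ <;> ring
  have c4 : Q4 σ x k (x k s * x (k + 4) d * (x k s)⁻¹) (trc σ (shp σ s) d) (crs σ s d) d 0 := by
    rw [conj_eq_mod (h.commS4 hk s d)]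
    refine Q4_congr (h.Q4_mul hk (h.Q4_mul hk (h.Q4_mul hk (h.Q4_1 hk t2) (h.Q4_2 hk (crs σ s d)))
      (h.Q4_3 hk t3)) (h.Q4_4 hk d)) ?_ ?_ ?_ ?_ <;> ring
  have c5 : Q4 σ x k (x k s * x (k + 5) e * (x k s)⁻¹) (e * nrm σ s) (e * shp σ s) (e * s) e := by
    rw [conj_eq_mod (h.commS5 hk s he)]
    refine Q4_congr (h.Q4_mul hk (h.Q4_mul hk (h.Q4_mul hk (h.Q4_mul hk (h.Q4_1 hk f1) (h.Q4_2 hk _))
      (h.Q4_3 hk f2)) (h.Q4_4 hk _)) (h.Q4_5 hk he)) ?_ ?_ ?_ ?_ <;> ring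
  have c3 : ∀ z, σ z = z → Q4 σ x k (x k s * x (k + 3) z * (x k s)⁻¹) 0 0 0 0 := by
    intro z hz
    rw [conj_eq_mod (h.commS3 hk s hz), one_mul]
    exact h.Q4_3 hk hz
  refine Q4_congr (h.Q4_conj hk hg c1 c2 c4 c5 c3) ?_ ?_ ?_ ?_ <;> ring

/-- **Action of the reflection on `Q/Z`.** -/
theorem Q4_nn {g : Γ} {a b d e : E} (hg : Q4 σ x k g a b d e) : Q4 σ x k (nn x k * g * (nn x k)⁻¹) e d b a := by
  obtain ⟨ha, he, -⟩ := id hg
  have c1 : Q4 σ x k (nn x k * x (k + 1) a * (nn x k)⁻¹) 0 0 0 a := by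
    rw [h.refl k _ (ok_of_fix _ ha), ir1]
    exact h.Q4_5 hk ha
  have c2 : Q4 σ x k (nn x k * x (k + 2) b * (nn x k)⁻¹) 0 0 b 0 := by
    rw [h.refl k _ (ok_odd (oe2 k hk) _), ir2]
    exact h.Q4_4 hk b
  have c4 : Q4 σ x k (nn x k * x (k + 4) d * (nn x k)⁻¹) 0 d 0 0 := by
    rw [h.refl k _ (ok_odd (oe4 k hk) _), ir4]
    exact h.Q4_2 hk d
  have c5 : Q4 σ x k (nn x k * x (k + 5) e * (nn x k)⁻¹) e 0 0 0 := by
    rw [h.refl k _ (ok_of_fix _ he), ir5]
    exact h.Q4_1 hk he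
  have c3 : ∀ z, σ z = z → Q4 σ x k (nn x k * x (k + 3) z * (nn x k)⁻¹) 0 0 0 0 := by
    intro z hz
    rw [h.refl k _ (ok_of_fix _ hz), ir3]
    exact h.Q4_3 hk hz
  refine Q4_congr (h.Q4_conj hk hg c1 c2 c4 c5 c3) ?_ ?_ ?_ ?_ <;> ring

/-- every element of `Q` has coordinates -/
theorem exists_Q4 {g : Γ} (hg : g ∈ gen σ x (arc (k + 1) 5)) : ∃ a b d e, Q4 σ x k g a b d e := by
  have key : gen σ x (arc (k + 1) 5) ≤
      { carrier := {g | ∃ a b d e, Q4 σ x k g a b d e}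
        one_mem' := ⟨0, 0, 0, 0, by have := h.Q4_3 hk (map_zero σ); rwa [h.x_zero] at this⟩
        mul_mem' := by
          rintro g g' ⟨a, b, d, e, hg⟩ ⟨a', b', d', e', hg'⟩
          exact ⟨_, _, _, _, h.Q4_mul hk hg hg'⟩
        inv_mem' := by
          rintro g ⟨a, b, d, e, hg⟩
          obtain ⟨ha, he, z, hz, rfl⟩ := hg
          refine ⟨a, b, d, e, ?_⟩
          rw [mul_inv_rev, mul_inv_rev, mul_inv_rev, mul_inv_rev, h.x_inv (ok_of_fix _ ha), h.x_inv (ok_of_fix _ he),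
            h.x_inv (ok_of_fix _ hz), h.x_inv (ok_odd (oe2 k hk) _), h.x_inv (ok_odd (oe4 k hk) _)]
          refine Q4_congr (h.Q4_mul hk (h.Q4_3 hk hz) (h.Q4_mul hk (h.Q4_5 hk he) (h.Q4_mul hk (h.Q4_4 hk d)
            (h.Q4_mul hk (h.Q4_2 hk b) (h.Q4_1 hk ha))))) ?_ ?_ ?_ ?_ <;> ring : Subgroup Γ } := by
    refine gen_le fun l hl c hc => ?_
    have : ∀ k l : ZMod 12, (l - (k + 1)).val < 5 → l = k + 1 ∨ l = k + 2 ∨ l = k + 3 ∨ l = k + 4 ∨ l = k + 5 := by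
      decide
    rcases this k l hl with rfl | rfl | rfl | rfl | rfl
    · exact ⟨_, _, _, _, h.Q4_1 hk (hc (oe1 k hk))⟩
    · exact ⟨_, _, _, _, h.Q4_2 hk c⟩
    · exact ⟨_, _, _, _, h.Q4_3 hk (hc (oe3 k hk))⟩
    · exact ⟨_, _, _, _, h.Q4_4 hk c⟩
    · exact ⟨_, _, _, _, h.Q4_5 hk (hc (oe5 k hk))⟩
  exact key hg

omit hk in
/-- squares are surjective -/
theorem exists_sq [Finite E] (c : E) : ∃ t, t * t = c := by
  have hinj : Function.Injective (fun t : E => t * t) := by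
    intro s t e
    have h1 : (s + t) * (s + t) = 0 := by
      have h2 : (s + t) * (s + t) = s * s + t * t + (s * t + s * t) := by ring
      have e' : s * s = t * t := e
      rw [h2, e', h.add_self, h.add_self, add_zero]
    have h3 := mul_self_eq_zero.1 h1
    rw [← h.sub_eq] at h3
    exact sub_eq_zero.1 h3
  exact (Finite.injective_iff_surjective.1 hinj) c

omit hk in
theorem trc_self_ne {b : E} (hb : b ≠ 0) : trc σ b⁻¹ b = 1 := by
  unfold trc
  rw [inv_mul_cancel₀ hb, map_one, map_one, h.add_self, zero_add]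

omit hk in
theorem crs_self_ne {r d : E} (hr : σ r ≠ r) (hd : d ≠ 0) : crs σ (d * r) d ≠ 0 := by
  have e : crs σ (d * r) d = σ d * σ (σ d) * (σ r + σ (σ r)) := by
    unfold crs
    simp only [map_mul]
    ring
  rw [e]
  refine mul_ne_zero (mul_ne_zero ?_ ?_) ?_
  · exact (map_ne_zero σ).2 hd
  · exact (map_ne_zero σ).2 ((map_ne_zero σ).2 hd)
  · intro e1
    rw [← map_add] at e1
    have e2 := (map_eq_zero σ).1 e1
    rw [← h.sub_eq] at e2
    exact hr (sub_eq_zero.1 e2).symm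

/-- **`Q/Z` is irreducible.** -/
theorem Q_irred [Finite E] (hs : (∃ r, σ r ≠ r) ∨ ∃ l : E, σ l = l ∧ l * l ≠ l) {Y : Subgroup Γ}
    (hZ : gen σ x {k + 3} ≤ Y) (hY : Y ≤ gen σ x (arc (k + 1) 5)) (hne : Y ≠ gen σ x {k + 3})
    (hx : ∀ s, ∀ y ∈ Y, x k s * y * (x k s)⁻¹ ∈ Y) (hn : ∀ y ∈ Y, nn x k * y * (nn x k)⁻¹ ∈ Y)
    (hH : ∀ g ∈ h.H, ∀ y ∈ Y, g * y * g⁻¹ ∈ Y) : Y = gen σ x (arc (k + 1) 5) := by
  have z3 : ∀ c, σ c = c → x (k + 3) c ∈ Y := fun c hc => hZ (x_mem_gen (Set.mem_singleton _) (ok_of_fix _ hc))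
  -- addition, derivation and reflection
  have In_add : ∀ {a b d e a' b' d' e' : E}, (∃ g ∈ Y, Q4 σ x k g a b d e) → (∃ g ∈ Y, Q4 σ x k g a' b' d' e') →
      ∃ g ∈ Y, Q4 σ x k g (a + a') (b + b') (d + d') (e + e') := by
    rintro _ _ _ _ _ _ _ _ ⟨g, hg, q⟩ ⟨g', hg', q'⟩
    exact ⟨_, mul_mem hg hg', h.Q4_mul hk q q'⟩
  have In_D : ∀ (s : E) {a b d e : E}, (∃ g ∈ Y, Q4 σ x k g a b d e) →
      ∃ g ∈ Y, Q4 σ x k g (trc σ s b + trc σ (shp σ s) d + e * nrm σ s) (crs σ s d + e * shp σ s) (e * s) 0 := by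
    rintro s a b d e ⟨g, hg, q⟩
    refine ⟨_, mul_mem (hx s g hg) hg, Q4_congr (h.Q4_mul hk (h.Q4_up hk s q) q) ?_ ?_ ?_ ?_⟩
    · linear_combination h.add_self a
    · linear_combination h.add_self b
    · linear_combination h.add_self d
    · exact h.add_self e
  have In_N : ∀ {a b d e : E}, (∃ g ∈ Y, Q4 σ x k g a b d e) → ∃ g ∈ Y, Q4 σ x k g e d b a := by
    rintro a b d e ⟨g, hg, q⟩
    exact ⟨_, hn g hg, h.Q4_nn hk q⟩
  have In_congr : ∀ {a b d e a' b' d' e' : E}, (∃ g ∈ Y, Q4 σ x k g a b d e) → a = a' → b = b' → d = d' → e = e' →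
      ∃ g ∈ Y, Q4 σ x k g a' b' d' e' := by
    rintro _ _ _ _ _ _ _ _ q rfl rfl rfl rfl
    exact q
  have out1 : ∀ {a : E}, (∃ g ∈ Y, Q4 σ x k g a 0 0 0) → σ a = a ∧ x (k + 1) a ∈ Y := by
    rintro a ⟨g, hg, ha, -, z, hz, rfl⟩
    rw [h.x_zero, h.x_zero, h.x_zero, mul_one, mul_one, mul_one] at hg
    refine ⟨ha, ?_⟩
    have := mul_mem hg (inv_mem (z3 z hz))
    rwa [mul_inv_cancel_right] at this
  have out2 : ∀ {b : E}, (∃ g ∈ Y, Q4 σ x k g 0 b 0 0) → x (k + 2) b ∈ Y := by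
    rintro b ⟨g, hg, -, -, z, hz, rfl⟩
    rw [h.x_zero, h.x_zero, h.x_zero, one_mul, mul_one, mul_one] at hg
    have := mul_mem hg (inv_mem (z3 z hz))
    rwa [mul_inv_cancel_right] at this
  -- step 0 : a non-trivial element
  have step0 : ∃ a b d e : E, (∃ g ∈ Y, Q4 σ x k g a b d e) ∧ ¬ (a = 0 ∧ b = 0 ∧ d = 0 ∧ e = 0) := by
    by_contra hcon
    push Not at hcon
    apply hne
    refine le_antisymm (fun y hy => ?_) hZ
    obtain ⟨a, b, d, e, q⟩ := h.exists_Q4 hk (hY hy)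
    obtain ⟨h1, h2, h3, h4⟩ := hcon a b d e ⟨y, hy, q⟩
    subst h1 h2 h3 h4
    obtain ⟨-, -, z, hz, rfl⟩ := q
    rw [h.x_zero, h.x_zero, h.x_zero, h.x_zero, one_mul, one_mul, one_mul, one_mul]
    exact x_mem_gen (Set.mem_singleton _) (ok_of_fix _ hz)
  -- step 1 : `e = 0`
  have step1 : ∃ a b d : E, (∃ g ∈ Y, Q4 σ x k g a b d 0) ∧ ¬ (a = 0 ∧ b = 0 ∧ d = 0) := by
    obtain ⟨a, b, d, e, q, hne0⟩ := step0
    by_cases he : e = 0
    · subst he
      exact ⟨a, b, d, q, fun h1 => hne0 ⟨h1.1, h1.2.1, h1.2.2, rfl⟩⟩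
    · refine ⟨_, _, _, In_D 1 q, fun h1 => he ?_⟩
      rw [← h1.2.2, mul_one]
  -- step 2 : `d = e = 0`
  have step2 : ∃ a b : E, (∃ g ∈ Y, Q4 σ x k g a b 0 0) ∧ ¬ (a = 0 ∧ b = 0) := by
    obtain ⟨a, b, d, q, hne0⟩ := step1
    by_cases hd : d = 0
    · subst hd
      exact ⟨a, b, q, fun h1 => hne0 ⟨h1.1, h1.2, rfl⟩⟩
    · have hD : ∀ s, ∃ g ∈ Y, Q4 σ x k g (trc σ s b + trc σ (shp σ s) d) (crs σ s d) 0 0 := fun s =>
        In_congr (In_D s q) (by ring) (by ring) (by ring) rfl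
      by_cases hr : ∃ r, σ r ≠ r
      · obtain ⟨r, hr⟩ := hr
        exact ⟨_, _, hD (d * r), fun h1 => h.crs_self_ne hr hd h1.2⟩
      · push Not at hr
        obtain ⟨l, hl, hl2⟩ := hs.resolve_left (fun ⟨r, h1⟩ => h1 (hr r))
        have hid : ∀ s, trc σ s b + trc σ (shp σ s) d = s * b + s * s * d := by
          intro s
          have e1 : trc σ s b = s * b := by
            unfold trc
            rw [hr, hr]
            linear_combination h.add_self (s * b)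
          have e2 : trc σ (shp σ s) d = s * s * d := by
            unfold trc shp
            rw [hr, hr, hr, hr]
            linear_combination h.add_self (s * s * d)
          rw [e1, e2]
        by_cases h1 : b + d = 0
        · refine ⟨_, _, hD l, fun h2 => ?_⟩
          have h3 := h2.1
          rw [hid] at h3
          have h4 : b = d := by
            rw [← h.sub_eq] at h1
            exact sub_eq_zero.1 h1
          rw [h4] at h3
          have h5 : (l + l * l) * d = 0 := by linear_combination h3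
          rcases mul_eq_zero.1 h5 with h6 | h6
          · rw [← h.sub_eq] at h6
            exact hl2 (sub_eq_zero.1 h6).symm
          · exact hd h6
        · refine ⟨_, _, hD 1, fun h2 => h1 ?_⟩
          have h3 := h2.1
          rw [hid] at h3
          linear_combination h3
  -- step 3 : an element of `X_{k+1}`
  have step3 : ∃ a : E, σ a = a ∧ a ≠ 0 ∧ x (k + 1) a ∈ Y := by
    obtain ⟨a, b, q, hne0⟩ := step2
    by_cases hb : b = 0
    · subst hb
      obtain ⟨h1, h2⟩ := out1 q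
      exact ⟨a, h1, fun e => hne0 ⟨e, rfl⟩, h2⟩
    · have q1 : ∃ g ∈ Y, Q4 σ x k g 1 0 0 0 := by
        refine In_congr (In_D b⁻¹ q) ?_ ?_ ?_ rfl
        · rw [h.trc_self_ne hb]
          unfold trc
          simp only [mul_zero, map_zero, zero_mul, add_zero]
        · unfold crs
          simp only [mul_zero, map_zero, zero_mul, add_zero]
        · rw [zero_mul]
      exact ⟨1, map_one σ, one_ne_zero, (out1 q1).2⟩
  -- step 4 : `X_{k+1} ≤ Y`
  have step4 : ∀ u, σ u = u → x (k + 1) u ∈ Y := by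
    obtain ⟨a, ha, ha0, haY⟩ := step3
    intro u hu
    by_cases hu0 : u = 0
    · rw [hu0, h.x_zero]
      exact one_mem _
    · have ht : σ (u * a⁻¹) = u * a⁻¹ := by rw [map_mul, map_inv₀, hu, ha]
      have ht0 : u * a⁻¹ ≠ 0 := mul_ne_zero hu0 (inv_ne_zero ha0)
      have e1 : (k - 1).val % 2 = 0 := by
        have : ∀ k : ZMod 12, k.val % 2 = 1 → (k - 1).val % 2 = 0 := by decide
        exact this k hk
      have e2 : ∀ k : ZMod 12, k + 1 - (k - 1) = 2 := by decide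
      have h1 := h.tor (k - 1) (k + 1) ht0 (ok_of_fix _ ht) (ok_of_fix _ ha)
      have h2 : ch σ (k - 1) (k + 1 - (k - 1)) (u * a⁻¹) = u * a⁻¹ := by
        rw [e2]
        unfold ch
        rw [if_pos e1]
        rfl
      rw [h2, inv_mul_cancel_right₀ ha0] at h1
      have h3 := hH _ (h.hh_mem_H (k - 1) ht0 (ok_of_fix _ ht)) _ haY
      rwa [h1] at h3
  have step4' : ∀ u, σ u = u → x (k + 5) u ∈ Y := by
    intro u hu
    have h1 := hn _ (step4 u hu)
    rwa [h.refl k _ (ok_of_fix _ hu), ir1] at h1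
  -- step 5 : an element of `X_{k+2}`
  have In1 : ∀ u, σ u = u → ∃ g ∈ Y, Q4 σ x k g u 0 0 0 := fun u hu => ⟨_, step4 u hu, h.Q4_1 hk hu⟩
  have In5 : ∀ u s, σ u = u → ∃ g ∈ Y, Q4 σ x k g 0 (u * shp σ s) (u * s) 0 := by
    intro u s hu
    have f1 : σ (u * nrm σ s) = u * nrm σ s := by rw [map_mul, hu, nrm_fix h.cube]
    have q : ∃ g ∈ Y, Q4 σ x k g 0 0 0 u := ⟨_, step4' u hu, h.Q4_5 hk hu⟩
    refine In_congr (In_add (In_D s q) (In1 _ f1)) ?_ ?_ ?_ ?_
    · unfold trc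
      simp only [mul_zero, map_zero, add_zero, zero_add]
      exact h.add_self _
    · unfold crs
      simp only [mul_zero, map_zero, add_zero, zero_add]
    · rw [add_zero]
    · rw [add_zero]
  have step5 : ∃ c : E, c ≠ 0 ∧ x (k + 2) c ∈ Y := by
    rcases hs with ⟨r, hr⟩ | ⟨l, hl, hl2⟩
    · refine ⟨σ r + σ (σ r), ?_, out2 (In_congr (In_add (In_add (In5 1 1 (map_one σ)) (In5 1 r (map_one σ)))
        (In5 1 (1 + r) (map_one σ))) ?_ ?_ ?_ ?_)⟩
      · intro e1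
        rw [← map_add] at e1
        have e2 := (map_eq_zero σ).1 e1
        rw [← h.sub_eq] at e2
        exact hr (sub_eq_zero.1 e2).symm
      · ring
      · unfold shp
        simp only [map_add, map_one]
        linear_combination h.add_self 1 + h.add_self (σ r * σ (σ r))
      · linear_combination h.add_self 1 + h.add_self r
      · ring
    · refine ⟨l * l + l, ?_, out2 (In_congr (In_add (In5 1 l (map_one σ)) (In5 l 1 hl)) ?_ ?_ ?_ ?_)⟩
      · intro e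
        rw [← h.sub_eq] at e
        exact hl2 (sub_eq_zero.1 e)
      · ring
      · unfold shp
        simp only [map_one, hl]
        ring
      · linear_combination h.add_self l
      · ring
  -- step 6 : `X_{k+2} ≤ Y`
  have step6 : ∀ u, x (k + 2) u ∈ Y := by
    obtain ⟨c, hc0, hcY⟩ := step5
    intro u
    by_cases hu0 : u = 0
    · rw [hu0, h.x_zero]
      exact one_mem _
    · obtain ⟨t, ht⟩ := h.exists_sq (u * c⁻¹)
      have ht0 : t ≠ 0 := by
        rintro rfl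
        rw [mul_zero] at ht
        exact mul_ne_zero hu0 (inv_ne_zero hc0) ht.symm
      have h1 := h.tor (k + 2) (k + 2) ht0 (ok_odd (oe2 k hk) _) (ok_odd (oe2 k hk) c)
      rw [sub_self, ch_zero_right, pow_two, ht, inv_mul_cancel_right₀ hc0] at h1
      have h3 := hH _ (h.hh_mem_H (k + 2) ht0 (ok_odd (oe2 k hk) _)) _ hcY
      rwa [h1] at h3
  have step6' : ∀ u, x (k + 4) u ∈ Y := by
    intro u
    have h1 := hn _ (step6 u)
    rwa [h.refl k _ (ok_odd (oe2 k hk) _), ir2] at h1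
  refine le_antisymm hY (gen_le fun l hl c hc => ?_)
  have key : ∀ k l : ZMod 12, (l - (k + 1)).val < 5 → l = k + 1 ∨ l = k + 2 ∨ l = k + 3 ∨ l = k + 4 ∨ l = k + 5 := by
    decide
  rcases key k l hl with rfl | rfl | rfl | rfl | rfl
  · exact step4 c (hc (oe1 k hk))
  · exact step6 c
  · exact z3 c (hc (oe3 k hk))
  · exact step6' c
  · exact step4' c (hc (oe5 k hk))

/-- `Q/Z` is irreducible, with the opposite root group instead of the reflection. -/
theorem Q_irred' [Finite E] (hs : (∃ r, σ r ≠ r) ∨ ∃ l : E, σ l = l ∧ l * l ≠ l) {Y : Subgroup Γ}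
    (hZ : gen σ x {k + 3} ≤ Y) (hY : Y ≤ gen σ x (arc (k + 1) 5)) (hne : Y ≠ gen σ x {k + 3})
    (hx : ∀ s, ∀ y ∈ Y, x k s * y * (x k s)⁻¹ ∈ Y) (hx6 : ∀ s, ∀ y ∈ Y, x (k + 6) s * y * (x (k + 6) s)⁻¹ ∈ Y)
    (hH : ∀ g ∈ h.H, ∀ y ∈ Y, g * y * g⁻¹ ∈ Y) : Y = gen σ x (arc (k + 1) 5) := by
  refine h.Q_irred hk hs hZ hY hne hx (fun y hy => ?_) hH
  have e : nn x k * y * (nn x k)⁻¹ = x k 1 * (x (k + 6) 1 * (x k 1 * y * (x k 1)⁻¹) * (x (k + 6) 1)⁻¹) * (x k 1)⁻¹ := by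
    unfold nn
    group
  rw [e]
  exact hx 1 _ (hx6 1 _ (hx 1 _ hy))

end HexTwo

end Cfsg.Agent.StdRank2.Hex
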