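import Cfsg.Agent.StdRank2.OutB2Outer

/-!
# The graph automorphism of `Sp₄(q)`, `q` even
-/

set_option autoImplicit false
set_option linter.unusedSectionVars false

namespace Cfsg.Agent.StdRank2.OutSpGraph

open Subgroup
open scoped commutatorElement
open Cfsg.Agent.TitsThree.B2Pkg Cfsg.Agent.TitsThree.RankTwoIdentB2
  Cfsg.Agent.TitsThree.CoreB2 Cfsg.Agent.TitsThree.RankTwoIdx Cfsg.Agent.TitsThree.RankTwoRGD
  Cfsg.Agent.TitsThree.StdData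
open Cfsg.Agent.StdRank2.OddLift Cfsg.Agent.StdRank2.B2Lift Cfsg.Agent.StdRank2.B2Std
  Cfsg.Agent.StdRank2.B2Torus Cfsg.Agent.StdRank2.B2Act Cfsg.Agent.StdRank2.B2Act.Std
  Cfsg.Agent.StdRank2.B2Par Cfsg.Agent.StdRank2.B2Par.Std Cfsg.Agent.StdRank2.B2Self
  Cfsg.Agent.StdRank2.OutB2Par Cfsg.Agent.StdRank2.OutB2G Cfsg.Agent.StdRank2.OutL3Outer
  Cfsg.Agent.StdRank2.OutB2Grade Cfsg.Agent.StdRank2.OutB2Aut Cfsg.Agent.StdRank2.OutB2Tw
  Cfsg.Agent.StdRank2.OutB2Data Cfsg.Agent.StdRank2.OutB2Decomp Cfsg.Agent.StdRank2.OutB2Inv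
  Cfsg.Agent.StdRank2.OutField Cfsg.Agent.StdRank2.OutB2Good Cfsg.Agent.StdRank2.OutB2Ident

universe u

section sp

variable {F : Type*} [Field F]

/-- the parameter with `c`-coordinate `c` -/
def tc (c : F) : (stdSp F).T := ⟨(), c, trivial⟩

@[simp] theorem tc_c (c : F) : (tc c).c = c := rfl

theorem tc_ne {c : F} (hc : c ≠ 0) : (tc c).c ≠ 0 := hc

theorem tc_ne1 : (tc (1 : F)).c ≠ 0 := one_ne_zero

theorem T_ext {p q : (stdSp F).T} (h : p.c = q.c) : p = q := by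
  ext
  exact h

@[simp] theorem tc_eta (p : (stdSp F).T) : tc p.c = p := T_ext rfl

theorem tc_mul (a b : F) : tc (a + b) = tc a * tc b := T_ext (by
  show a + b = a + b - 0
  rw [sub_zero])

theorem tc_one : tc (0 : F) = 1 := rfl

variable [CharP F 2]

theorem neg_eq (a : F) : -a = a := by
  rw [neg_eq_iff_add_eq_zero]
  exact CharTwo.add_self_eq_zero a

theorem sc_eq (a : F) (p : (stdSp F).T) : (stdSp F).sc a p = tc (a * a * p.c) := T_ext rfl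

theorem tr_eq (a b : F) : (stdSp F).tr a b = 1 := T_ext (by
  show a * b - -1 * a * b = 0
  have := CharTwo.add_self_eq_zero (a * b)
  linear_combination this)

theorem refl_eq (p : (stdSp F).T) (hp : p.c ≠ 0) (q : (stdSp F).T) : (stdSp F).refl p hp q = q := T_ext rfl

theorem two_eq (p : (stdSp F).T) : p * p = 1 := T_ext (by
  show p.c + p.c - 0 = 0
  rw [CharTwo.add_self_eq_zero, sub_zero])

variable {Y : Type*} [Group Y] (m : B2Maps (stdSp F) Y)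

/-- The graph maps. -/
def grM : B2Maps (stdSp F) Y where
  x a := m.z₂ (tc (a * a))
  x' a := m.z₂' (tc (a * a))
  y b := m.z₁ (tc (b * b))
  y' b := m.z₁' (tc (b * b))
  z₁ p := m.y p.c
  z₂ p := m.x p.c
  z₁' p := m.y' p.c
  z₂' p := m.x' p.c

variable {m} (h : B2Rel m)
include h

theorem inv_x (a : F) : (m.x a)⁻¹ = m.x a :=
  inv_eq_of_mul_eq_one_left (by rw [← h.x_add, CharTwo.add_self_eq_zero, add_zero' h.x_add])
theorem inv_x' (a : F) : (m.x' a)⁻¹ = m.x' a :=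
  inv_eq_of_mul_eq_one_left (by rw [← h.x'_add, CharTwo.add_self_eq_zero, add_zero' h.x'_add])
theorem inv_y (a : F) : (m.y a)⁻¹ = m.y a :=
  inv_eq_of_mul_eq_one_left (by rw [← h.y_add, CharTwo.add_self_eq_zero, add_zero' h.y_add])
theorem inv_y' (a : F) : (m.y' a)⁻¹ = m.y' a :=
  inv_eq_of_mul_eq_one_left (by rw [← h.y'_add, CharTwo.add_self_eq_zero, add_zero' h.y'_add])
theorem inv_z₁ (p : (stdSp F).T) : (m.z₁ p)⁻¹ = m.z₁ p :=
  inv_eq_of_mul_eq_one_left (by rw [← h.z₁_mul, two_eq, mul_one' h.z₁_mul])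
theorem inv_z₂ (p : (stdSp F).T) : (m.z₂ p)⁻¹ = m.z₂ p :=
  inv_eq_of_mul_eq_one_left (by rw [← h.z₂_mul, two_eq, mul_one' h.z₂_mul])
theorem inv_z₁' (p : (stdSp F).T) : (m.z₁' p)⁻¹ = m.z₁' p :=
  inv_eq_of_mul_eq_one_left (by rw [← h.z₁'_mul, two_eq, mul_one' h.z₁'_mul])
theorem inv_z₂' (p : (stdSp F).T) : (m.z₂' p)⁻¹ = m.z₂' p :=
  inv_eq_of_mul_eq_one_left (by rw [← h.z₂'_mul, two_eq, mul_one' h.z₂'_mul])

variable {p₀ : (stdSp F).T} (hp : p₀.c ≠ 0)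

/-- `n_II(c) = z₂(c) z₂'(c⁻¹) z₂(c)` -/
theorem nII_flip {c : F} (hc : c ≠ 0) :
    m.nII (tc c) = m.z₂ (tc c) * m.z₂' (tc c⁻¹) * m.z₂ (tc c) := by
  have e1 : m.nII (tc c) * m.z₂ (tc c) * (m.nII (tc c))⁻¹ = m.z₂' (tc c⁻¹) := by
    rw [h.nII_z₂ (tc c) (tc_ne hc), refl_eq, sc_eq]
    congr 2
    show c⁻¹ * c⁻¹ * c = c⁻¹
    field_simp
  have e2 : m.nII (tc c) * m.z₂' (tc c⁻¹) * (m.nII (tc c))⁻¹ = m.z₂ (tc c) := by
    rw [h.nII_z₂' (tc c) (tc_ne hc), refl_eq, sc_eq]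
    congr 2
    show ((-1 : F)⁻¹ * c) * ((-1 : F)⁻¹ * c) * c⁻¹ = c
    field_simp
  have e3 : m.nII (tc c) = m.z₂' (tc c⁻¹) * m.z₂ (tc c) * m.z₂' (tc c⁻¹) := by
    unfold B2Maps.nII
    rw [sc_eq, sc_eq]
    congr 3
    · congr 1
      show (-c⁻¹) * (-c⁻¹) * c = c⁻¹
      field_simp
    · congr 1
      show (-(-1 * c⁻¹)) * (-(-1 * c⁻¹)) * c = c⁻¹
      field_simp
  calc m.nII (tc c) = m.nII (tc c) * m.nII (tc c) * (m.nII (tc c))⁻¹ := by group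
    _ = m.nII (tc c) * (m.z₂' (tc c⁻¹) * m.z₂ (tc c) * m.z₂' (tc c⁻¹)) * (m.nII (tc c))⁻¹ := by rw [← e3]
    _ = (m.nII (tc c) * m.z₂' (tc c⁻¹) * (m.nII (tc c))⁻¹) * (m.nII (tc c) * m.z₂ (tc c) * (m.nII (tc c))⁻¹) *
        (m.nII (tc c) * m.z₂' (tc c⁻¹) * (m.nII (tc c))⁻¹) := by group
    _ = _ := by rw [e1, e2]

include hp

/-- `x(c) x'(c⁻¹) x(c) = x'(c⁻¹) x(c) x'(c⁻¹)` -/
theorem nt_flip {c : F} (hc : c ≠ 0) : nt m c = m.x' c⁻¹ * m.x c * m.x' c⁻¹ := by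
  have e1 : nt m c * m.x c * (nt m c)⁻¹ = m.x' c⁻¹ := by
    refine (h.nn_x hp hc c).trans ?_
    rw [neg_eq]
    congr 1
    field_simp
  have e2 : nt m c * m.x' c⁻¹ * (nt m c)⁻¹ = m.x c := by
    refine (h.nn_x' hp hc c⁻¹).trans ?_
    rw [neg_eq]
    congr 1
    field_simp
  have e3 : nt m c = m.x c * m.x' c⁻¹ * m.x c := by
    show m.x c * m.x' (-c⁻¹) * m.x c = _
    rw [neg_eq]
  calc nt m c = nt m c * nt m c * (nt m c)⁻¹ := by group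
    _ = nt m c * (m.x c * m.x' c⁻¹ * m.x c) * (nt m c)⁻¹ := by rw [← e3]
    _ = (nt m c * m.x c * (nt m c)⁻¹) * (nt m c * m.x' c⁻¹ * (nt m c)⁻¹) * (nt m c * m.x c * (nt m c)⁻¹) := by group
    _ = _ := by rw [e1, e2]

omit hp in
theorem grM_nI : (grM m).nI = m.nII (tc 1) := by
  rw [nII_flip h one_ne_zero, inv_one]
  show m.z₂ (tc (1 * 1)) * m.z₂' (tc (-1 * -1)) * m.z₂ (tc (1 * 1)) = _
  rw [one_mul, neg_one_mul, neg_neg]

theorem grM_nII (p : (stdSp F).T) (hpc : p.c ≠ 0) : (grM m).nII p = nt m p.c := by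
  rw [nt_flip h hp hpc]
  unfold B2Maps.nII
  rw [sc_eq, sc_eq]
  show m.x' ((-p.c⁻¹) * (-p.c⁻¹) * p.c) * m.x p.c * m.x' ((-(-1 * p.c⁻¹)) * (-(-1 * p.c⁻¹)) * p.c) = _
  have e1 : (-p.c⁻¹) * (-p.c⁻¹) * p.c = p.c⁻¹ := by field_simp
  have e2 : (-(-1 * p.c⁻¹)) * (-(-1 * p.c⁻¹)) * p.c = p.c⁻¹ := by field_simp
  rw [e1, e2]

theorem grM_rel : B2Rel (grM m) where
  x_add a b := by
    show m.z₂ (tc ((a + b) * (a + b))) = m.z₂ (tc (a * a)) * m.z₂ (tc (b * b))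
    rw [← h.z₂_mul, ← tc_mul, CharTwo.add_mul_self]
  x'_add a b := by
    show m.z₂' (tc ((a + b) * (a + b))) = m.z₂' (tc (a * a)) * m.z₂' (tc (b * b))
    rw [← h.z₂'_mul, ← tc_mul, CharTwo.add_mul_self]
  y_add a b := by
    show m.z₁ (tc ((a + b) * (a + b))) = m.z₁ (tc (a * a)) * m.z₁ (tc (b * b))
    rw [← h.z₁_mul, ← tc_mul, CharTwo.add_mul_self]
  y'_add a b := by
    show m.z₁' (tc ((a + b) * (a + b))) = m.z₁' (tc (a * a)) * m.z₁' (tc (b * b))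
    rw [← h.z₁'_mul, ← tc_mul, CharTwo.add_mul_self]
  z₁_mul p q := by
    show m.y (p.c + q.c - 0) = m.y p.c * m.y q.c
    rw [sub_zero, h.y_add]
  z₂_mul p q := by
    show m.x (p.c + q.c - 0) = m.x p.c * m.x q.c
    rw [sub_zero, h.x_add]
  z₁'_mul p q := by
    show m.y' (p.c + q.c - 0) = m.y' p.c * m.y' q.c
    rw [sub_zero, h.y'_add]
  z₂'_mul p q := by
    show m.x' (p.c + q.c - 0) = m.x' p.c * m.x' q.c
    rw [sub_zero, h.x'_add]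
  x_z₂ a p := by
    show ⁅m.z₂ (tc (a * a)), m.x p.c⁆ = m.y ((stdSp F).sc a p).c * m.z₁ (tc (-((-1) * a * p.c) * -((-1) * a * p.c)))
    rw [← commutatorElement_inv, h.x_z₂, mul_inv_rev, inv_y h, inv_z₁ h, sc_eq, sc_eq]
    congr 2
    · show -((-1) * p.c * (a * a)) = a * a * p.c
      ring
    · show tc (p.c * p.c * (a * a)) = _
      congr 1
      ring
  z₁_z₂ p q := by
    show ⁅m.y p.c, m.x q.c⁆ = m.z₁ (tc (-0 * -0))
    rw [← commutatorElement_inv, h.x_y, tr_eq, mul_one' h.z₁_mul, neg_zero, zero_mul, tc_one, mul_one' h.z₁_mul,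
      inv_one]
  x_y a b := by
    show ⁅m.z₂ (tc (a * a)), m.z₁ (tc (b * b))⁆ = m.y ((stdSp F).tr a b).c
    rw [← commutatorElement_inv, h.z₁_z₂, tr_eq]
    show (m.y (-0))⁻¹ = m.y 0
    rw [neg_zero, add_zero' h.y_add, inv_one]
  x_z₁ a p := (h.y_z₂ p.c (tc (a * a))).symm
  y_z₁ b p := (h.y_z₁ p.c (tc (b * b))).symm
  y_z₂ b p := (h.x_z₁ p.c (tc (b * b))).symm
  nI_x a := by
    rw [grM_nI h]
    show m.nII (tc 1) * m.z₂ (tc (a * a)) * (m.nII (tc 1))⁻¹ = m.z₂' (tc (-a * -a))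
    rw [h.nII_z₂ (tc 1) tc_ne1, refl_eq, sc_eq]
    congr 2
    show (1 : F)⁻¹ * (1 : F)⁻¹ * (a * a) = -a * -a
    rw [inv_one]; ring
  nI_x' a := by
    rw [grM_nI h]
    show m.nII (tc 1) * m.z₂' (tc (a * a)) * (m.nII (tc 1))⁻¹ = m.z₂ (tc (-a * -a))
    rw [h.nII_z₂' (tc 1) tc_ne1, refl_eq, sc_eq]
    congr 2
    show ((-1 : F)⁻¹ * 1) * ((-1 : F)⁻¹ * 1) * (a * a) = -a * -a
    field_simp
  nI_y b := by
    rw [grM_nI h]
    show m.nII (tc 1) * m.z₁ (tc (b * b)) * (m.nII (tc 1))⁻¹ = m.z₁ (tc (-1 * b * (-1 * b)))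
    rw [h.nII_z₁ (tc 1) tc_ne1, refl_eq]
    congr 2
    ring
  nI_y' b := by
    rw [grM_nI h]
    show m.nII (tc 1) * m.z₁' (tc (b * b)) * (m.nII (tc 1))⁻¹ = m.z₁' (tc ((-1 : F)⁻¹ * b * ((-1 : F)⁻¹ * b)))
    rw [h.nII_z₁' (tc 1) tc_ne1, refl_eq]
    congr 2
    field_simp
  nI_z₁ p := by
    rw [grM_nI h]
    show m.nII (tc 1) * m.y p.c * (m.nII (tc 1))⁻¹ = m.x (-1 * -1 * p.c)
    rw [h.nII_y (tc 1) tc_ne1]
    congr 1
    show (1 : F)⁻¹ * p.c = _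
    rw [inv_one]; ring
  nI_z₂ p := by
    rw [grM_nI h]
    show m.nII (tc 1) * m.x p.c * (m.nII (tc 1))⁻¹ = m.y p.c
    rw [h.nII_x (tc 1) tc_ne1]
    show m.y (-1 * 1 * p.c) = m.y p.c
    rw [mul_one, neg_one_mul, neg_eq]
  nI_z₁' p := by
    rw [grM_nI h]
    show m.nII (tc 1) * m.y' p.c * (m.nII (tc 1))⁻¹ = m.x' (-1 * -1 * p.c)
    rw [h.nII_y' (tc 1) tc_ne1]
    show m.x' (-((-1 : F)⁻¹ * 1 * p.c)) = _
    congr 1
    field_simp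
  nI_z₂' p := by
    rw [grM_nI h]
    show m.nII (tc 1) * m.x' p.c * (m.nII (tc 1))⁻¹ = m.y' p.c
    rw [h.nII_x' (tc 1) tc_ne1]
    show m.y' (-((1 : F)⁻¹ * p.c)) = m.y' p.c
    rw [inv_one, one_mul, neg_eq]
  nII_x p hpc a := by
    rw [grM_nII h hp p hpc]
    show nt m p.c * m.z₂ (tc (a * a)) * (nt m p.c)⁻¹ = m.z₁ (tc (-1 * p.c * a * (-1 * p.c * a)))
    refine (h.nn_z₂ hpc (tc (a * a))).trans ?_
    rw [sc_eq]
    congr 2
    show p.c * p.c * (a * a) = _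
    ring
  nII_y p hpc b := by
    rw [grM_nII h hp p hpc]
    show nt m p.c * m.z₁ (tc (b * b)) * (nt m p.c)⁻¹ = m.z₂ (tc (p.c⁻¹ * b * (p.c⁻¹ * b)))
    refine (h.nn_z₁ hpc (tc (b * b))).trans ?_
    rw [sc_eq]
    congr 2
    show -p.c⁻¹ * -p.c⁻¹ * (b * b) = _
    ring
  nII_x' p hpc a := by
    rw [grM_nII h hp p hpc]
    show nt m p.c * m.z₂' (tc (a * a)) * (nt m p.c)⁻¹ = m.z₁' (tc (-(p.c⁻¹ * a) * -(p.c⁻¹ * a)))
    refine (h.nn_z₂' hp hpc (tc (a * a))).trans ?_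
    rw [sc_eq]
    congr 2
    show p.c⁻¹ * p.c⁻¹ * (a * a) = _
    ring
  nII_y' p hpc b := by
    rw [grM_nII h hp p hpc]
    show nt m p.c * m.z₁' (tc (b * b)) * (nt m p.c)⁻¹ =
      m.z₂' (tc (-((-1 : F)⁻¹ * p.c * b) * -((-1 : F)⁻¹ * p.c * b)))
    refine (h.nn_z₁' hp hpc (tc (b * b))).trans ?_
    rw [sc_eq]
    congr 2
    show -p.c * -p.c * (b * b) = _
    field_simp
  nII_z₁ p hpc q := by
    rw [grM_nII h hp p hpc]
    show nt m p.c * m.y q.c * (nt m p.c)⁻¹ = m.y q.c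
    refine (h.nn_y hpc q.c).trans ?_
    congr 1
    show -1 * p.c * p.c⁻¹ * q.c = q.c
    rw [mul_assoc (-1 : F), mul_inv_cancel₀ hpc, mul_one, neg_one_mul, neg_eq]
  nII_z₁' p hpc q := by
    rw [grM_nII h hp p hpc]
    show nt m p.c * m.y' q.c * (nt m p.c)⁻¹ = m.y' q.c
    refine (h.nn_y' hp hpc q.c).trans ?_
    congr 1
    show (-1 : F)⁻¹ * p.c * p.c⁻¹ * q.c = q.c
    rw [mul_assoc (-1 : F)⁻¹, mul_inv_cancel₀ hpc, mul_one, inv_neg, inv_one, neg_one_mul, neg_eq]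
  nII_z₂ p hpc q := by
    rw [grM_nII h hp p hpc]
    show nt m p.c * m.x q.c * (nt m p.c)⁻¹ = m.x' (p.c⁻¹ * p.c⁻¹ * q.c)
    refine (h.nn_x hp hpc q.c).trans ?_
    rw [neg_eq]
  nII_z₂' p hpc q := by
    rw [grM_nII h hp p hpc]
    show nt m p.c * m.x' q.c * (nt m p.c)⁻¹ = m.x (((-1 : F)⁻¹ * p.c) * ((-1 : F)⁻¹ * p.c) * q.c)
    refine (h.nn_x' hp hpc q.c).trans ?_
    rw [neg_eq]
    congr 1
    field_simp

end sp

section gr

variable {F : Type*} [Field F] [Finite F] [CharP F 2]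

theorem exists_sq (a : F) : ∃ b : F, b * b = a := exists_sqrt a

omit [CharP F 2] in
theorem finT : Finite (stdSp F).T :=
  Finite.of_injective (fun p : (stdSp F).T => p.c) (fun _ _ h => T_ext h)

section sets

variable {Y : Type*} [Group Y] (m : B2Maps (stdSp F) Y)

theorem genSet_gr : genSet (grM m) = genSet m := by
  ext g
  constructor
  · rintro (⟨a, rfl | rfl⟩ | ⟨p, rfl | rfl⟩)
    · exact Or.inr ⟨_, Or.inl rfl⟩
    · exact Or.inr ⟨_, Or.inr rfl⟩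
    · exact Or.inl ⟨_, Or.inl rfl⟩
    · exact Or.inl ⟨_, Or.inr rfl⟩
  · rintro (⟨a, rfl | rfl⟩ | ⟨p, rfl | rfl⟩)
    · exact Or.inr ⟨tc a, Or.inl rfl⟩
    · exact Or.inr ⟨tc a, Or.inr rfl⟩
    · obtain ⟨b, hb⟩ := exists_sq p.c
      exact Or.inl ⟨b, Or.inl (by show _ = m.z₂ (tc (b * b)); rw [hb, tc_eta])⟩
    · obtain ⟨b, hb⟩ := exists_sq p.c
      exact Or.inl ⟨b, Or.inr (by show _ = m.z₂' (tc (b * b)); rw [hb, tc_eta])⟩

theorem posSet_gr : posSet (grM m) = posSet m := by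
  ext g
  constructor
  · rintro (⟨a, rfl | rfl⟩ | ⟨p, rfl | rfl⟩)
    · exact Or.inr ⟨_, Or.inr rfl⟩
    · exact Or.inr ⟨_, Or.inl rfl⟩
    · exact Or.inl ⟨_, Or.inr rfl⟩
    · exact Or.inl ⟨_, Or.inl rfl⟩
  · rintro (⟨a, rfl | rfl⟩ | ⟨p, rfl | rfl⟩)
    · exact Or.inr ⟨tc a, Or.inr rfl⟩
    · exact Or.inr ⟨tc a, Or.inl rfl⟩
    · obtain ⟨b, hb⟩ := exists_sq p.c
      exact Or.inl ⟨b, Or.inr (by show _ = m.z₁ (tc (b * b)); rw [hb, tc_eta])⟩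
    · obtain ⟨b, hb⟩ := exists_sq p.c
      exact Or.inl ⟨b, Or.inl (by show _ = m.z₂ (tc (b * b)); rw [hb, tc_eta])⟩

theorem UU_gr : UU (grM m) = UU m := by
  unfold UU
  rw [posSet_gr]

end sets

variable {A : Type u} [Group A]

/-- The graph package. -/
def gr (S : Std (stdSp F) A) : Std (stdSp F) A where
  m := grM S.m
  rel := grM_rel S.rel S.hp₀
  p₀ := S.p₀
  hp₀ := S.hp₀
  gen := by rw [genSet_gr]; exact S.gen
  ndI := by
    obtain ⟨p, hp⟩ := S.ndJ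
    obtain ⟨b, hb⟩ := exists_sq p.c
    refine ⟨b, ?_⟩
    rw [UU_gr]
    show S.m.z₂' (tc (b * b)) ∉ _
    rw [hb, tc_eta]
    exact hp
  ndJ := by
    obtain ⟨a, ha⟩ := S.ndI
    refine ⟨tc a, ?_⟩
    rw [UU_gr]
    exact ha

theorem gr_U (S : Std (stdSp F) A) : (gr S).U = S.U := UU_gr S.m

section simple

variable [IsSimpleGroup A] (S : Std (stdSp F) A)

/-- The graph automorphism. -/
noncomputable def gm : MulAut A := (exists_equiv S (gr S)).choose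

theorem gm_spec : Carries (gm S).toMonoidHom S.m (grM S.m) := (exists_equiv S (gr S)).choose_spec

theorem gm_x (a : F) : gm S (S.m.x a) = S.m.z₂ (tc (a * a)) := (gm_spec S).x a
theorem gm_x' (a : F) : gm S (S.m.x' a) = S.m.z₂' (tc (a * a)) := (gm_spec S).x' a
theorem gm_y (a : F) : gm S (S.m.y a) = S.m.z₁ (tc (a * a)) := (gm_spec S).y a
theorem gm_y' (a : F) : gm S (S.m.y' a) = S.m.z₁' (tc (a * a)) := (gm_spec S).y' a
theorem gm_z₁ (p : (stdSp F).T) : gm S (S.m.z₁ p) = S.m.y p.c := (gm_spec S).z₁ p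
theorem gm_z₂ (p : (stdSp F).T) : gm S (S.m.z₂ p) = S.m.x p.c := (gm_spec S).z₂ p
theorem gm_z₁' (p : (stdSp F).T) : gm S (S.m.z₁' p) = S.m.y' p.c := (gm_spec S).z₁' p
theorem gm_z₂' (p : (stdSp F).T) : gm S (S.m.z₂' p) = S.m.x' p.c := (gm_spec S).z₂' p

/-- the Frobenius automorphism -/
noncomputable def frob (F : Type*) [Field F] [Finite F] [CharP F 2] : F ≃+* F := frobeniusEquiv F 2

theorem frob_apply (a : F) : frob F a = a * a := by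
  show a ^ 2 = a * a
  rw [pow_two]

theorem T_sp (ρ : F ≃+* F) (p : (stdSp F).T) : (nSp (F := F)).T ρ p = tc (ρ p.c) := T_ext rfl

theorem gm_mul_gm : gm S * gm S = fd nSp S (frob F) := by
  apply aut_ext S
  · intro a
    rw [MulAut.mul_apply, gm_x, gm_z₂, fd_x, frob_apply, tc_c]
  · intro a
    rw [MulAut.mul_apply, gm_x', gm_z₂', fd_x', frob_apply, tc_c]
  · intro q
    rw [MulAut.mul_apply, gm_z₂, gm_x, fd_z₂, T_sp, frob_apply]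
  · intro q
    rw [MulAut.mul_apply, gm_z₂', gm_x', fd_z₂', T_sp, frob_apply]

theorem gm_mul_fd (ρ : F ≃+* F) : gm S * fd nSp S ρ = fd nSp S ρ * gm S := by
  apply aut_ext S
  · intro a
    rw [MulAut.mul_apply, MulAut.mul_apply, fd_x, gm_x, gm_x, fd_z₂, T_sp, tc_c, map_mul]
  · intro a
    rw [MulAut.mul_apply, MulAut.mul_apply, fd_x', gm_x', gm_x', fd_z₂', T_sp, tc_c, map_mul]
  · intro q
    rw [MulAut.mul_apply, MulAut.mul_apply, fd_z₂, gm_z₂, gm_z₂, fd_x, T_sp, tc_c]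
  · intro q
    rw [MulAut.mul_apply, MulAut.mul_apply, fd_z₂', gm_z₂', gm_z₂', fd_x', T_sp, tc_c]

theorem gm_mul_dg (c : Fˣ × Fˣ) : gm S * dg S c = dg S (c.1 * c.2, c.1 * c.2⁻¹) * gm S := by
  apply aut_ext S
  · intro a
    rw [MulAut.mul_apply, MulAut.mul_apply, dg_x, gm_x, gm_x, dg_z₂, sc_eq]
    congr 2
    show _ = ((c.1 * c.2⁻¹ : Fˣ) : F) * ((c.1 * c.2⁻¹ : Fˣ) : F) * (a * a)
    rw [Units.val_mul, Units.val_inv_eq_inv_val]
    ring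
  · intro a
    rw [MulAut.mul_apply, MulAut.mul_apply, dg_x', gm_x', gm_x', dg_z₂', sc_eq]
    congr 2
    show _ = ((c.1 * c.2⁻¹ : Fˣ) : F)⁻¹ * ((c.1 * c.2⁻¹ : Fˣ) : F)⁻¹ * (a * a)
    rw [Units.val_mul, Units.val_inv_eq_inv_val, mul_inv, inv_inv]
    ring
  · intro q
    rw [MulAut.mul_apply, MulAut.mul_apply, dg_z₂, gm_z₂, gm_z₂, dg_x, sc_eq]
    congr 1
    show (c.2 : F) * c.2 * q.c = ((c.1 * c.2 : Fˣ) : F) * ((c.1 * c.2⁻¹ : Fˣ) : F)⁻¹ * q.c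
    rw [Units.val_mul, Units.val_mul, Units.val_inv_eq_inv_val, mul_inv, inv_inv]
    have := c.1.ne_zero
    field_simp
  · intro q
    rw [MulAut.mul_apply, MulAut.mul_apply, dg_z₂', gm_z₂', gm_z₂', dg_x', sc_eq]
    congr 1
    show (c.2 : F)⁻¹ * (c.2 : F)⁻¹ * q.c = ((c.1 * c.2⁻¹ : Fˣ) : F) * ((c.1 * c.2 : Fˣ) : F)⁻¹ * q.c
    rw [Units.val_mul, Units.val_mul, Units.val_inv_eq_inv_val, mul_inv]
    have := c.1.ne_zero
    field_simp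

theorem gm_U {v : A} (hv : v ∈ S.U) : gm S v ∈ S.U := by
  have h : S.U ≤ S.U.comap (gm S).toMonoidHom := by
    show Subgroup.closure (posSet S.m) ≤ _
    rw [closure_le]
    rintro _ (⟨a, rfl | rfl⟩ | ⟨p, rfl | rfl⟩)
    · show gm S (S.m.x a) ∈ S.U
      rw [gm_x]; exact z₂_mem _
    · show gm S (S.m.y a) ∈ S.U
      rw [gm_y]; exact z₁_mem _
    · show gm S (S.m.z₁ p) ∈ S.U
      rw [gm_z₁]; exact y_mem _
    · show gm S (S.m.z₂ p) ∈ S.U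
      rw [gm_z₂]; exact x_mem _
  exact h hv

variable [Finite A]

theorem gm_swap : (∀ v ∈ S.VI, gm S v ∈ S.VJ) ∧ ∀ v ∈ S.VJ, gm S v ∈ S.VI := by
  have := finT (F := F)
  rcases par_or (S := S) (φ := gm S) (fun v hv => gm_U S hv) with ⟨-, h⟩ | h
  · exfalso
    have h1 := h _ (S.x_mem_VJ 1)
    rw [gm_x, S.z₂_mem_VJ_iff] at h1
    have h2 := congrArg PQDatum.T.c h1
    rw [tc_c, mul_one] at h2
    exact one_ne_zero h2
  · exact h

/-- **Decomposition of the automorphisms normalising `U`.** -/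
theorem decompSp (hF : 3 ≤ Nat.card F) {φ : MulAut A} (hU : ∀ v ∈ S.U, φ v ∈ S.U) :
    ∃ u ∈ S.U, ∃ (c : Fˣ × Fˣ) (ρ : F ≃+* F), φ = MulAut.conj u * (dg S c * fd nSp S ρ) ∨
      φ = MulAut.conj u * (dg S c * (gm S * fd nSp S ρ)) := by
  have := finT (F := F)
  rcases par_or hU with ⟨h1, h2⟩ | ⟨h1, h2⟩
  · obtain ⟨u, hu, c, ρ, e⟩ := decomp (N := nSp) (S := S) (φ := φ) (tySp hF) hU h1 h2
    exact ⟨u, hu, c, ρ, Or.inl e⟩
  · obtain ⟨k1, k2⟩ := gm_swap S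
    obtain ⟨u, hu, c, ρ, e⟩ := decomp (N := nSp) (S := S) (φ := φ * gm S) (tySp hF) (fun v hv => hU _ (gm_U S hv))
      (fun v hv => h2 _ (k1 v hv)) (fun v hv => h1 _ (k2 v hv))
    refine ⟨u, hu, c, ρ * (frob F)⁻¹, Or.inr ?_⟩
    have e1 : (gm S)⁻¹ = gm S * fd nSp S (frob F)⁻¹ := by
      rw [map_inv, ← gm_mul_gm S]
      group
    have e2 : φ = φ * gm S * (gm S)⁻¹ := by group
    have e3 : fd nSp S ρ * (gm S * fd nSp S (frob F)⁻¹) = gm S * fd nSp S (ρ * (frob F)⁻¹) := by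
      rw [← mul_assoc, ← gm_mul_fd, mul_assoc, ← map_mul]
    rw [e2, e, e1, mul_assoc, mul_assoc, e3]

end simple

end gr

end Cfsg.Agent.StdRank2.OutSpGraph
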