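import Cfsg.Agent.StdRank2.B2Torus
import Cfsg.Agent.StdSpFour.Base

/-!
# The `B₂` package of `Sp₄(F)`, characteristic two, in coordinates `F`

`S : Std (stdSp F) A`, `Z(A) = 1`.  `xs, xs'` (short simple root and its negative), `xl, xl'` (long simple root),
`ys, ys'` (short, highest short root), `zl, zl'` (highest root), the torus `h α β` (a homomorphism
`Fˣ × Fˣ → A`), `nI`, `nII`.  `exists_base`: the abstract environment `StdSpFour.Base` of S1778.
-/

set_option autoImplicit false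
set_option linter.unusedSectionVars false
set_option linter.unusedSimpArgs false

namespace Cfsg.Agent.StdRank2.SpFrame

open Subgroup
open Cfsg.Agent.TitsThree.B2Pkg Cfsg.Agent.TitsThree.RankTwoIdentB2
  Cfsg.Agent.TitsThree.CoreB2 Cfsg.Agent.TitsThree.RankTwoIdx Cfsg.Agent.TitsThree.RankTwoRGD
  Cfsg.Agent.TitsThree.StdData
open Cfsg.Agent.StdRank2.OddLift Cfsg.Agent.StdRank2.B2Lift Cfsg.Agent.StdRank2.B2Std
  Cfsg.Agent.StdRank2.B2Torus
open scoped commutatorElement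

universe u

variable {F : Type*} [Field F]

/-- the element of the parameter group -/
def tt (c : F) : (stdSp F).T := ⟨(), c, trivial⟩

@[simp] theorem tt_c (c : F) : (tt c).c = c := rfl

theorem eq_tt (p : (stdSp F).T) : p = tt p.c := rfl

theorem tt_mul (a b : F) : tt a * tt b = tt (a + b) := by
  ext
  change a + b - 0 = a + b; ring

theorem tt_one : (1 : (stdSp F).T) = tt 0 := rfl

theorem sc_tt (a c : F) : (stdSp F).sc a (tt c) = tt (a * a * c) := rfl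

theorem refl_eq (p : (stdSp F).T) (hp : p.c ≠ 0) (q : (stdSp F).T) : (stdSp F).refl p hp q = q := rfl

theorem unrefl_eq (p : (stdSp F).T) (hp : p.c ≠ 0) (q : (stdSp F).T) : (stdSp F).unrefl p hp q = q := rfl

theorem tr_eq [CharP F 2] (a b : F) : (stdSp F).tr a b = 1 := by
  have h2 : (2 : F) = 0 := by exact_mod_cast CharP.cast_eq_zero F 2
  ext
  change a * b - (-1) * a * b = 0
  linear_combination a * b * h2

theorem neg_eq [CharP F 2] (a : F) : -a = a := CharTwo.neg_eq a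

/-- the square root -/
noncomputable def rt [Finite F] [CharP F 2] (a : F) : F :=
  Classical.choose (show ∃ s : F, s * s = a by
    have := Fintype.ofFinite F
    obtain ⟨s, hs⟩ := FiniteField.isSquare_of_char_two (F := F)
      (CharP.ringChar_of_prime_eq_zero Nat.prime_two (by exact_mod_cast CharP.cast_eq_zero F 2)) a
    exact ⟨s, hs.symm⟩)

theorem rt_mul_self [Finite F] [CharP F 2] (a : F) : rt a * rt a = a :=
  Classical.choose_spec (show ∃ s : F, s * s = a by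
    have := Fintype.ofFinite F
    obtain ⟨s, hs⟩ := FiniteField.isSquare_of_char_two (F := F)
      (CharP.ringChar_of_prime_eq_zero Nat.prime_two (by exact_mod_cast CharP.cast_eq_zero F 2)) a
    exact ⟨s, hs.symm⟩)

theorem rt_ne_zero [Finite F] [CharP F 2] {a : F} (ha : a ≠ 0) : rt a ≠ 0 := by
  intro h
  have := rt_mul_self a
  rw [h, zero_mul] at this
  exact ha this.symm

section

variable {A : Type u} [Group A] [Finite F] [CharP F 2] (S : Std (stdSp F) A)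

/-- the torus -/
noncomputable def h (α β : Fˣ) : A :=
  hI S.m (α * rt (β : F)) * hII S.m (tt ((α : F) * β)) (tt 1)

theorem hI_ne (α β : Fˣ) : (α : F) * rt (β : F) ≠ 0 := mul_ne_zero α.ne_zero (rt_ne_zero β.ne_zero)

theorem hII_ne (α β : Fˣ) : (tt ((α : F) * β)).c ≠ 0 := mul_ne_zero α.ne_zero β.ne_zero

theorem one_c : (tt (1 : F)).c ≠ 0 := one_ne_zero

theorem h_mem (α β : Fˣ) : h S α β ∈ S.H :=
  mul_mem (hI_mem_H (hI_ne α β)) (hII_mem_H (hII_ne α β) one_c)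

theorem comp {g k a b c : A} (h1 : g * a * g⁻¹ = b) (h2 : k * b * k⁻¹ = c) :
    (k * g) * a * (k * g)⁻¹ = c := by
  rw [← h2, ← h1]; group

variable (α β : Fˣ)

theorem h_x (a : F) : h S α β * S.m.x a * (h S α β)⁻¹ = S.m.x (α * a) := by
  refine (comp (hII_x S.rel (hII_ne α β) one_c a) (hI_x S.rel S.hp₀ (hI_ne α β) _)).trans ?_
  congr 1
  have h1 := rt_mul_self (β : F)
  have h2 := α.ne_zero
  have h3 := β.ne_zero
  simp only [tt_c]
  field_simp
  linear_combination a * h1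

theorem h_x' (a : F) : h S α β * S.m.x' a * (h S α β)⁻¹ = S.m.x' ((α : F)⁻¹ * a) := by
  refine (comp (hII_x' S.rel (hII_ne α β) one_c a) (hI_x' S.rel S.hp₀ (hI_ne α β) _)).trans ?_
  congr 1
  have h1 := rt_mul_self (β : F)
  have h2 := α.ne_zero
  have h3 := β.ne_zero
  have h4 := rt_ne_zero h3
  simp only [tt_c]
  field_simp
  linear_combination -a * h1

theorem h_y (a : F) : h S α β * S.m.y a * (h S α β)⁻¹ = S.m.y (α * β * a) := by
  refine (comp (hII_y S.rel (hII_ne α β) one_c a) (hI_y S.rel (hI_ne α β) _)).trans ?_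
  congr 1
  have h2 := α.ne_zero
  have h3 := β.ne_zero
  have h4 := rt_ne_zero h3
  change ((α : F) * rt (β : F)) * ((α : F) * rt (β : F))⁻¹ * ((α : F) * β * (1 : F)⁻¹ * a) = _
  field_simp

theorem h_y' (a : F) : h S α β * S.m.y' a * (h S α β)⁻¹ = S.m.y' (((α : F) * β)⁻¹ * a) := by
  refine (comp (hII_y' S.rel (hII_ne α β) one_c a) (hI_y' S.rel S.hp₀ (hI_ne α β) _)).trans ?_
  congr 1
  have h2 := α.ne_zero
  have h3 := β.ne_zero
  have h4 := rt_ne_zero h3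
  change ((α : F) * rt (β : F)) * ((α : F) * rt (β : F))⁻¹ * (((α : F) * β)⁻¹ * 1 * a) = _
  field_simp

theorem h_z₁ (c : F) : h S α β * S.m.z₁ (tt c) * (h S α β)⁻¹ = S.m.z₁ (tt (α ^ 2 * β * c)) := by
  refine (comp (hII_z₁ S.rel (hII_ne α β) one_c (tt c)) (hI_z₁ S.rel (hI_ne α β) _)).trans ?_
  congr 1
  rw [refl_eq, unrefl_eq, sc_tt]
  congr 1
  have h1 := rt_mul_self (β : F)
  linear_combination (α : F) ^ 2 * c * h1

theorem h_z₁' (c : F) : h S α β * S.m.z₁' (tt c) * (h S α β)⁻¹ = S.m.z₁' (tt (((α : F) ^ 2 * β)⁻¹ * c)) := by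
  refine (comp (hII_z₁' S.rel (hII_ne α β) one_c (tt c)) (hI_z₁' S.rel S.hp₀ (hI_ne α β) _)).trans ?_
  congr 1
  rw [refl_eq, unrefl_eq, sc_tt]
  congr 1
  have h1 := rt_mul_self (β : F)
  have h2 := α.ne_zero
  have h3 := β.ne_zero
  have h4 := rt_ne_zero h3
  change ((α : F) * rt (β : F))⁻¹ * ((α : F) * rt (β : F))⁻¹ * c = _
  field_simp
  linear_combination -c * h1

theorem h_z₂ (c : F) : h S α β * S.m.z₂ (tt c) * (h S α β)⁻¹ = S.m.z₂ (tt (β * c)) := by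
  refine (comp (hII_z₂ S.rel (hII_ne α β) one_c (tt c)) (hI_z₂ S.rel (hI_ne α β) _)).trans ?_
  congr 1
  rw [refl_eq, unrefl_eq, sc_tt, sc_tt]
  congr 1
  have h1 := rt_mul_self (β : F)
  have h2 := α.ne_zero
  have h3 := β.ne_zero
  have h4 := rt_ne_zero h3
  simp only [tt_c]
  field_simp
  linear_combination -c * h1

theorem h_z₂' (c : F) : h S α β * S.m.z₂' (tt c) * (h S α β)⁻¹ = S.m.z₂' (tt ((β : F)⁻¹ * c)) := by
  refine (comp (hII_z₂' S.rel (hII_ne α β) one_c (tt c)) (hI_z₂' S.rel S.hp₀ (hI_ne α β) _)).trans ?_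
  congr 1
  rw [refl_eq, unrefl_eq, sc_tt, sc_tt]
  congr 1
  have h1 := rt_mul_self (β : F)
  have h2 := α.ne_zero
  have h3 := β.ne_zero
  have h4 := rt_ne_zero h3
  change ((α : F) * rt (β : F)) * ((α : F) * rt (β : F)) * ((((α : F) * β)⁻¹ * 1) * (((α : F) * β)⁻¹ * 1) * c) = _
  field_simp
  linear_combination c * h1

/-- Two elements with the same action on the simple root elements are equal when `Z(A) = 1`. -/
theorem eq_of_act (hZ : Subgroup.center A = ⊥) {g k : A}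
    (h1 : ∀ a, g * S.m.x a * g⁻¹ = k * S.m.x a * k⁻¹)
    (h2 : ∀ a, g * S.m.x' a * g⁻¹ = k * S.m.x' a * k⁻¹)
    (h3 : ∀ a, g * S.m.z₂ (tt a) * g⁻¹ = k * S.m.z₂ (tt a) * k⁻¹)
    (h4 : ∀ a, g * S.m.z₂' (tt a) * g⁻¹ = k * S.m.z₂' (tt a) * k⁻¹) : g = k := by
  have key : ∀ y : A, g * y * g⁻¹ = k * y * k⁻¹ → (k⁻¹ * g) * y * (k⁻¹ * g)⁻¹ = y := by
    intro y hy
    have : (k⁻¹ * g) * y * (k⁻¹ * g)⁻¹ = k⁻¹ * (g * y * g⁻¹) * k := by group
    rw [this, hy]; group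
  have h5 : k⁻¹ * g ∈ Subgroup.center A :=
    Std.mem_center S (fun a => key _ (h1 a)) (fun a => key _ (h2 a))
      (fun p => key _ (h3 p.c)) (fun p => key _ (h4 p.c))
  rw [hZ, mem_bot, inv_mul_eq_one] at h5
  exact h5.symm

theorem h_mul (hZ : Subgroup.center A = ⊥) (α β α' β' : Fˣ) :
    h S (α * α') (β * β') = h S α β * h S α' β' := by
  apply eq_of_act S hZ
  · intro a
    rw [h_x, comp (h_x S α' β' a) (h_x S α β _)]
    congr 1; push_cast; ring
  · intro a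
    rw [h_x', comp (h_x' S α' β' a) (h_x' S α β _)]
    congr 1; push_cast; rw [mul_inv]; ring
  · intro a
    rw [h_z₂, comp (h_z₂ S α' β' a) (h_z₂ S α β _)]
    congr 2; push_cast; ring
  · intro a
    rw [h_z₂', comp (h_z₂' S α' β' a) (h_z₂' S α β _)]
    congr 2; push_cast; rw [mul_inv]; ring

/-- the reflection `n_I` -/
def na : A := S.m.nI

/-- the reflection `n_II` -/
def nb : A := S.m.nII (tt 1)

theorem na_x (a : F) : na S * S.m.x a * (na S)⁻¹ = S.m.x' a := by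
  have := S.rel.nI_x a
  rwa [neg_eq] at this

theorem na_x' (a : F) : na S * S.m.x' a * (na S)⁻¹ = S.m.x a := by
  have := S.rel.nI_x' a
  rwa [neg_eq] at this

theorem na_y (a : F) : na S * S.m.y a * (na S)⁻¹ = S.m.y a := by
  have := S.rel.nI_y a
  have e : (stdSp F).ε * (stdSp F).σ a = a := by
    change (-1 : F) * a = a
    rw [neg_eq (1 : F), one_mul]
  rwa [e] at this

theorem na_y' (a : F) : na S * S.m.y' a * (na S)⁻¹ = S.m.y' a := by
  have := S.rel.nI_y' a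
  have e : (stdSp F).ε⁻¹ * (stdSp F).σ a = a := by
    change (-1 : F)⁻¹ * a = a
    rw [neg_eq (1 : F), inv_one, one_mul]
  rwa [e] at this

theorem na_z₁ (c : F) : na S * S.m.z₁ (tt c) * (na S)⁻¹ = S.m.z₂ (tt c) := by
  have := S.rel.nI_z₁ (tt c)
  rw [sc_tt] at this
  have e : (-1 : F) * -1 * c = c := by ring
  rwa [e] at this

theorem na_z₂ (c : F) : na S * S.m.z₂ (tt c) * (na S)⁻¹ = S.m.z₁ (tt c) := S.rel.nI_z₂ (tt c)

theorem na_z₁' (c : F) : na S * S.m.z₁' (tt c) * (na S)⁻¹ = S.m.z₂' (tt c) := by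
  have := S.rel.nI_z₁' (tt c)
  rw [sc_tt] at this
  have e : (-1 : F) * -1 * c = c := by ring
  rwa [e] at this

theorem na_z₂' (c : F) : na S * S.m.z₂' (tt c) * (na S)⁻¹ = S.m.z₁' (tt c) := S.rel.nI_z₂' (tt c)

theorem nb_x (a : F) : nb S * S.m.x a * (nb S)⁻¹ = S.m.y a := by
  have := S.rel.nII_x (tt 1) one_c a
  have e : (stdSp F).ε * (stdSp F).σ (tt (1 : F)).c * a = a := by
    change (-1 : F) * 1 * a = a
    rw [neg_eq (1 : F)]; ring
  rwa [e] at this

theorem nb_y (a : F) : nb S * S.m.y a * (nb S)⁻¹ = S.m.x a := by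
  have := S.rel.nII_y (tt 1) one_c a
  have e : (tt (1 : F)).c⁻¹ * a = a := by
    change (1 : F)⁻¹ * a = a
    rw [inv_one, one_mul]
  rwa [e] at this

theorem nb_x' (a : F) : nb S * S.m.x' a * (nb S)⁻¹ = S.m.y' a := by
  have := S.rel.nII_x' (tt 1) one_c a
  have e : -((tt (1 : F)).c⁻¹ * (stdSp F).σ a) = a := by
    change -((1 : F)⁻¹ * a) = a
    rw [neg_eq, inv_one, one_mul]
  rwa [e] at this

theorem nb_y' (a : F) : nb S * S.m.y' a * (nb S)⁻¹ = S.m.x' a := by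
  have := S.rel.nII_y' (tt 1) one_c a
  have e : -((stdSp F).ε⁻¹ * (tt (1 : F)).c * (stdSp F).σ a) = a := by
    change -((-1 : F)⁻¹ * 1 * a) = a
    rw [neg_eq, neg_eq (1 : F), inv_one]; ring
  rwa [e] at this

theorem nb_z₁ (c : F) : nb S * S.m.z₁ (tt c) * (nb S)⁻¹ = S.m.z₁ (tt c) :=
  S.rel.nII_z₁ (tt 1) one_c (tt c)

theorem nb_z₁' (c : F) : nb S * S.m.z₁' (tt c) * (nb S)⁻¹ = S.m.z₁' (tt c) :=
  S.rel.nII_z₁' (tt 1) one_c (tt c)

theorem nb_z₂ (c : F) : nb S * S.m.z₂ (tt c) * (nb S)⁻¹ = S.m.z₂' (tt c) := by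
  have := S.rel.nII_z₂ (tt 1) one_c (tt c)
  rw [refl_eq, sc_tt] at this
  have e : ((stdSp F).σ (tt (1 : F)).c)⁻¹ * ((stdSp F).σ (tt (1 : F)).c)⁻¹ * c = c := by
    change (1 : F)⁻¹ * (1 : F)⁻¹ * c = c
    rw [inv_one]; ring
  rwa [e] at this

theorem nb_z₂' (c : F) : nb S * S.m.z₂' (tt c) * (nb S)⁻¹ = S.m.z₂ (tt c) := by
  have := S.rel.nII_z₂' (tt 1) one_c (tt c)
  rw [refl_eq, sc_tt] at this
  have e : ((stdSp F).ε⁻¹ * (tt (1 : F)).c) * ((stdSp F).ε⁻¹ * (tt (1 : F)).c) * c = c := by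
    change ((-1 : F)⁻¹ * 1) * ((-1 : F)⁻¹ * 1) * c = c
    rw [neg_eq (1 : F), inv_one]; ring
  rwa [e] at this

theorem inv_of_conj {n a b : A} (h1 : n * a * n⁻¹ = b) : n⁻¹ * b * n⁻¹⁻¹ = a := by
  rw [← h1]; group

theorem na_h (hZ : Subgroup.center A = ⊥) (α β : Fˣ) :
    na S * h S α β * (na S)⁻¹ = h S α⁻¹ (α ^ 2 * β) := by
  have c3 : ∀ {n g a b c d : A}, n⁻¹ * a * n⁻¹⁻¹ = b → g * b * g⁻¹ = c → n * c * n⁻¹ = d →
      (n * g * n⁻¹) * a * (n * g * n⁻¹)⁻¹ = d := by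
    intro n g a b c d h1 h2 h3
    rw [← h3, ← h2, ← h1]; group
  apply eq_of_act S hZ
  · intro a
    rw [c3 (inv_of_conj (na_x' S a)) (h_x' S α β a) (na_x' S _), h_x]
    congr 1; push_cast; ring
  · intro a
    rw [c3 (inv_of_conj (na_x S a)) (h_x S α β a) (na_x S _), h_x']
    congr 1; push_cast; rw [inv_inv]
  · intro a
    rw [c3 (inv_of_conj (na_z₁ S a)) (h_z₁ S α β a) (na_z₁ S _), h_z₂]
    congr 2
  · intro a
    rw [c3 (inv_of_conj (na_z₁' S a)) (h_z₁' S α β a) (na_z₁' S _), h_z₂']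
    congr 2

theorem nb_h (hZ : Subgroup.center A = ⊥) (α β : Fˣ) :
    nb S * h S α β * (nb S)⁻¹ = h S (α * β) β⁻¹ := by
  have c3 : ∀ {n g a b c d : A}, n⁻¹ * a * n⁻¹⁻¹ = b → g * b * g⁻¹ = c → n * c * n⁻¹ = d →
      (n * g * n⁻¹) * a * (n * g * n⁻¹)⁻¹ = d := by
    intro n g a b c d h1 h2 h3
    rw [← h3, ← h2, ← h1]; group
  apply eq_of_act S hZ
  · intro a
    rw [c3 (inv_of_conj (nb_y S a)) (h_y S α β a) (nb_y S _), h_x]
    congr 1
  · intro a
    rw [c3 (inv_of_conj (nb_y' S a)) (h_y' S α β a) (nb_y' S _), h_x']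
    congr 1
  · intro a
    rw [c3 (inv_of_conj (nb_z₂' S a)) (h_z₂' S α β a) (nb_z₂' S _), h_z₂]
    congr 2; push_cast; ring
  · intro a
    rw [c3 (inv_of_conj (nb_z₂ S a)) (h_z₂ S α β a) (nb_z₂ S _), h_z₂']
    congr 2; push_cast; rw [inv_inv]

/-! ### Commutators in coordinates -/

theorem x_y_comm (a b : F) : Commute (S.m.x a) (S.m.y b) := by
  have h1 := S.rel.x_y a b
  rw [tr_eq, mul_one' S.rel.z₁_mul] at h1
  exact commutatorElement_eq_one_iff_mul_comm.1 h1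

theorem x_z₁_comm (a c : F) : Commute (S.m.x a) (S.m.z₁ (tt c)) := S.rel.x_z₁ a _
theorem y_z₁_comm (a c : F) : Commute (S.m.y a) (S.m.z₁ (tt c)) := S.rel.y_z₁ a _
theorem y_z₂_comm (a c : F) : Commute (S.m.y a) (S.m.z₂ (tt c)) := S.rel.y_z₂ a _

theorem z₁_z₂_comm (a c : F) : Commute (S.m.z₁ (tt a)) (S.m.z₂ (tt c)) := by
  have h1 := S.rel.z₁_z₂ (tt a) (tt c)
  have e : -(stdSp F).h (tt c).w (tt a).w = (0 : F) := by
    change -(0 : F) = 0
    exact neg_zero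
  rw [e, add_zero' S.rel.y_add] at h1
  exact commutatorElement_eq_one_iff_mul_comm.1 h1

theorem x_z₂ (u s : F) : S.m.x u * S.m.z₂ (tt s) =
    S.m.z₂ (tt s) * S.m.x u * S.m.y (u * s) * S.m.z₁ (tt (u ^ 2 * s)) := by
  have h1 := S.rel.x_z₂ u (tt s)
  have e1 : -((stdSp F).ε * u * (stdSp F).σ (tt s).c) = u * s := by
    change -((-1 : F) * u * s) = u * s
    ring
  have e2 : (stdSp F).sc u (tt s) = tt (u ^ 2 * s) := by rw [sc_tt, sq]
  rw [e1, e2] at h1
  have h2 : S.m.x u * S.m.z₂ (tt s) = ⁅S.m.x u, S.m.z₂ (tt s)⁆ * (S.m.z₂ (tt s) * S.m.x u) := by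
    rw [commutatorElement_def]; group
  rw [h2, h1]
  have c1 : Commute (S.m.z₁ (tt (u ^ 2 * s)) * S.m.y (u * s)) (S.m.z₂ (tt s) * S.m.x u) := by
    refine Commute.mul_left (Commute.mul_right (z₁_z₂_comm S _ _) (x_z₁_comm S _ _).symm)
      (Commute.mul_right (y_z₂_comm S _ _) (x_y_comm S _ _).symm)
  rw [c1.eq, (y_z₁_comm S (u * s) (u ^ 2 * s)).symm.eq]
  simp only [mul_assoc]

theorem eq_nf (u s m r : F) : S.m.x u * S.m.z₂ (tt s) * S.m.y m * S.m.z₁ (tt r) =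
    B2Std.nf S.m u (tt r) m (tt s) := by
  unfold B2Std.nf
  have c1 := (z₁_z₂_comm S r s).eq
  have c2 := (y_z₂_comm S m s).eq
  have c3 := (y_z₁_comm S m r).eq
  calc S.m.x u * S.m.z₂ (tt s) * S.m.y m * S.m.z₁ (tt r)
      = S.m.x u * (S.m.z₂ (tt s) * (S.m.y m * S.m.z₁ (tt r))) := by simp only [mul_assoc]
    _ = S.m.x u * (S.m.z₂ (tt s) * S.m.z₁ (tt r) * S.m.y m) := by rw [c3]; simp only [mul_assoc]
    _ = S.m.x u * (S.m.z₁ (tt r) * (S.m.z₂ (tt s) * S.m.y m)) := by rw [← c1]; simp only [mul_assoc]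
    _ = _ := by rw [← c2]; simp only [mul_assoc]

/-- The Weyl element `n_I` is an involution (when `Z(A) = 1`). -/
theorem na_sq (hZ : Subgroup.center A = ⊥) : na S * na S = 1 := by
  apply eq_of_act S hZ
  · intro a; rw [comp (na_x S a) (na_x' S a)]; simp
  · intro a; rw [comp (na_x' S a) (na_x S a)]; simp
  · intro a; rw [comp (na_z₂ S a) (na_z₁ S a)]; simp
  · intro a; rw [comp (na_z₂' S a) (na_z₁' S a)]; simp

theorem nb_sq (hZ : Subgroup.center A = ⊥) : nb S * nb S = 1 := by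
  apply eq_of_act S hZ
  · intro a; rw [comp (nb_x S a) (nb_y S a)]; simp
  · intro a; rw [comp (nb_x' S a) (nb_y' S a)]; simp
  · intro a; rw [comp (nb_z₂ S a) (nb_z₂' S a)]; simp
  · intro a; rw [comp (nb_z₂' S a) (nb_z₂ S a)]; simp

end

section base

variable {G : Type u} [Group G] {A : Subgroup G} [Finite F] [CharP F 2] (S : Std (stdSp F) ↥A)

/-- **The abstract environment of type `Sp₄`** (S1778) from a package in `A` with `Z(A) = 1` and an element
`t` of square `1` centralising `A`, not in `A`. -/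
noncomputable def base (hZ : Subgroup.center ↥A = ⊥) {t : G} (htt : t * t = 1)
    (htA : t ∈ Subgroup.centralizer (A : Set G)) (htn : t ∉ A) : StdSpFour.Base F G where
  t := t
  xa u := (S.m.x u : G)
  xb u := (S.m.z₂ (tt u) : G)
  zs u := (S.m.y u : G)
  zl u := (S.m.z₁ (tt u) : G)
  h α β := ((SpFrame.h S α β : ↥A) : G)
  na := ((SpFrame.na S : ↥A) : G)
  nb := ((SpFrame.nb S : ↥A) : G)
  tt := htt
  xa_add u v := congrArg A.subtype (S.rel.x_add u v)
  xb_add u v := by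
    have := S.rel.z₂_mul (SpFrame.tt u) (SpFrame.tt v)
    rw [tt_mul] at this
    exact congrArg A.subtype this
  zs_add u v := congrArg A.subtype (S.rel.y_add u v)
  zl_add u v := by
    have := S.rel.z₁_mul (SpFrame.tt u) (SpFrame.tt v)
    rw [tt_mul] at this
    exact congrArg A.subtype this
  t_xa u := (mem_centralizer_iff.1 htA _ (S.m.x u).2).symm
  t_xb u := (mem_centralizer_iff.1 htA _ (S.m.z₂ (SpFrame.tt u)).2).symm
  t_zs u := (mem_centralizer_iff.1 htA _ (S.m.y u).2).symm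
  t_zl u := (mem_centralizer_iff.1 htA _ (S.m.z₁ (SpFrame.tt u)).2).symm
  t_h α β := (mem_centralizer_iff.1 htA _ (SpFrame.h S α β).2).symm
  t_na := (mem_centralizer_iff.1 htA _ (SpFrame.na S).2).symm
  t_nb := (mem_centralizer_iff.1 htA _ (SpFrame.nb S).2).symm
  xa_zs u m := congrArg A.subtype (x_y_comm S u m).eq
  xa_zl u m := congrArg A.subtype (x_z₁_comm S u m).eq
  xb_zs u m := congrArg A.subtype (y_z₂_comm S m u).symm.eq
  xb_zl u m := congrArg A.subtype (z₁_z₂_comm S m u).symm.eq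
  zs_zl u m := congrArg A.subtype (y_z₁_comm S u m).eq
  xa_xb u s := congrArg A.subtype (x_z₂ S u s)
  h_mul α β α' β' := congrArg A.subtype (SpFrame.h_mul S hZ α β α' β')
  h_xa α β u := congrArg A.subtype (mul_inv_eq_iff_eq_mul.1 (h_x S α β u))
  h_xb α β u := congrArg A.subtype (mul_inv_eq_iff_eq_mul.1 (h_z₂ S α β u))
  h_zs α β u := congrArg A.subtype (mul_inv_eq_iff_eq_mul.1 (h_y S α β u))
  h_zl α β u := congrArg A.subtype (mul_inv_eq_iff_eq_mul.1 (h_z₁ S α β u))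
  na_h α β := congrArg A.subtype (mul_inv_eq_iff_eq_mul.1 (na_h S hZ α β))
  nb_h α β := congrArg A.subtype (mul_inv_eq_iff_eq_mul.1 (nb_h S hZ α β))
  na_xb u := congrArg A.subtype (mul_inv_eq_iff_eq_mul.1 (na_z₂ S u))
  na_zl u := congrArg A.subtype (mul_inv_eq_iff_eq_mul.1 (na_z₁ S u))
  na_zs u := congrArg A.subtype (mul_inv_eq_iff_eq_mul.1 (na_y S u))
  nb_xa u := congrArg A.subtype (mul_inv_eq_iff_eq_mul.1 (nb_x S u))
  nb_zs u := congrArg A.subtype (mul_inv_eq_iff_eq_mul.1 (nb_y S u))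
  nb_zl u := congrArg A.subtype (mul_inv_eq_iff_eq_mul.1 (nb_z₁ S u))
  inj u s m r hh := by
    have h1 : S.m.x u * S.m.z₂ (SpFrame.tt s) * S.m.y m * S.m.z₁ (SpFrame.tt r) = 1 :=
      A.subtype_injective hh
    rw [eq_nf] at h1
    obtain ⟨e1, e2, e3, e4⟩ := S.nf_eq_one h1
    exact ⟨e1, congrArg PQDatum.T.c e4, e3, congrArg PQDatum.T.c e2⟩
  t_ne u s m r hh := htn (by
    rw [← hh]
    exact (S.m.x u * S.m.z₂ (SpFrame.tt s) * S.m.y m * S.m.z₁ (SpFrame.tt r)).2)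

end base

end Cfsg.Agent.StdRank2.SpFrame
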