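import Cfsg.Agent.StdRank2.B2Amb
import Cfsg.Agent.StdRank2.SpFrame

/-!
# `Sp₄(F)`, characteristic two: the self-centralising facts `StdSpFour.Base.Self`

`inner_of_Z`: an automorphism of `A` centralising `Z = y(F) z₁(F)` is conjugation by an element of `U`.
`base_self`: `Base.Self` for the environment `SpFrame.base`.
-/

set_option autoImplicit false
set_option linter.unusedSectionVars false

namespace Cfsg.Agent.StdRank2.SpSelf

open Subgroup
open Cfsg.Agent.TitsThree.B2Pkg Cfsg.Agent.TitsThree.RankTwoIdentB2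
  Cfsg.Agent.TitsThree.CoreB2 Cfsg.Agent.TitsThree.RankTwoIdx Cfsg.Agent.TitsThree.RankTwoRGD
  Cfsg.Agent.TitsThree.StdData
open Cfsg.Agent.StdRank2.OddLift Cfsg.Agent.StdRank2.B2Lift Cfsg.Agent.StdRank2.B2Std
  Cfsg.Agent.StdRank2.B2Torus Cfsg.Agent.StdRank2.B2Act Cfsg.Agent.StdRank2.B2Act.Std
  Cfsg.Agent.StdRank2.B2Par Cfsg.Agent.StdRank2.B2Par.Std Cfsg.Agent.StdRank2.B2Self
  Cfsg.Agent.StdRank2.B2Amb Cfsg.Agent.StdRank2.SpFrame
open scoped commutatorElement Pointwise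

universe u

variable {F : Type*} [Field F]

theorem lam_Sp {lam : F} (h0 : lam ≠ 0) (h1 : lam ≠ 1) : Lam (stdSp F) lam :=
  ⟨h0, h1, rfl, trivial, trivial⟩

instance [Finite F] : Finite (stdSp F).T :=
  Finite.of_injective (fun p => p.c) (fun p q h => by
    ext
    exact h)

variable {A : Type u} [Group A] (S : Std (stdSp F) A) [Finite F] [CharP F 2]

theorem hT_Sp : ∃ g ∈ S.H, ∃ β : F, β ≠ 1 ∧ ActT g S.m.z₂ β 1 :=
  ⟨1, one_mem _, 0, zero_ne_one, fun p => ⟨p, rfl, by rw [one_mul], by simp⟩⟩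

/-- the intersection of `V_I` and `V_J` -/
theorem mem_inf {v : A} : v ∈ S.VI ⊓ S.VJ ↔ ∃ b c, v = S.m.z₁ (tt c) * S.m.y b := by
  constructor
  · rintro ⟨h1, h2⟩
    obtain ⟨p, b, q, rfl⟩ := mem_VI_iff.1 h1
    have h3 := mem_VJ_iff.1 h2
    have h4 : PZ S (B2Std.nf S.m 0 p b q) q := ⟨0, p, b, rfl⟩
    have h5 := h4.uniq h3
    refine ⟨b, p.c, ?_⟩
    rw [h5]
    unfold B2Std.nf
    rw [show S.m.x 0 = 1 from add_zero' S.rel.x_add, show S.m.z₂ 1 = 1 from mul_one' S.rel.z₂_mul]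
    group
    rfl
  · rintro ⟨b, c, rfl⟩
    exact ⟨mul_mem (S.z₁_mem_VI _) (S.y_mem_VI _), mul_mem (S.z₁_mem_VJ _) (S.y_mem_VJ _)⟩

variable [Finite A]

/-- `C(Z) ≤ U` -/
theorem cent_Z (hZ : Subgroup.center A = ⊥) {g : A} (hy : ∀ b, g * S.m.y b = S.m.y b * g)
    (hz : ∀ c, g * S.m.z₁ (tt c) = S.m.z₁ (tt c) * g) : g ∈ S.U := by
  have hD : Scal (stdSp F) := scal_Sp
  have hn : g ∈ Subgroup.normalizer ((S.VI ⊓ S.VJ : Subgroup A) : Set A) := by
    apply mem_normalizer_of_conj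
    intro v hv
    obtain ⟨b, c, rfl⟩ := (mem_inf S).1 hv
    have : g * (S.m.z₁ (tt c) * S.m.y b) * g⁻¹ = S.m.z₁ (tt c) * S.m.y b := by
      calc g * (S.m.z₁ (tt c) * S.m.y b) * g⁻¹ = (g * S.m.z₁ (tt c)) * S.m.y b * g⁻¹ := by group
        _ = S.m.z₁ (tt c) * (g * S.m.y b) * g⁻¹ := by rw [hz]; group
        _ = _ := by rw [hy]; group
    rw [this]; exact hv
  have hle : S.U ⊔ S.H ≤ Subgroup.normalizer ((S.VI ⊓ S.VJ : Subgroup A) : Set A) :=
    B_le_of_conj (fun u hu v hv => ⟨S.UVI u hu v hv.1, S.UVJ u hu v hv.2⟩)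
      (fun u hu v hv => ⟨S.HVI u hu v hv.1, S.HVJ u hu v hv.2⟩)
  have h1 := S.r2.core.eq_D (by norm_num) (S := Subgroup.normalizer ((S.VI ⊓ S.VJ : Subgroup A) : Set A))
    (by rw [S.core_G]; exact le_top) (by rw [core_D]; exact hle) ?_ ?_
  · rw [h1, core_D, mem_B] at hn
    obtain ⟨u, hu, h, hh, rfl⟩ := hn
    obtain ⟨l, μ, ν, ht⟩ := exists_tact S.rel S.hp₀ hD hh
    have cu1 : ∀ b, u * S.m.y b * u⁻¹ = S.m.y b := by
      intro b
      obtain ⟨a, p, b', q, rfl⟩ := exists_nf S.rel hu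
      have c1 : Commute (S.m.x a) (S.m.y b) := x_y_comm S a b
      have c2 : Commute (S.m.z₁ p) (S.m.y b) := (S.rel.y_z₁ b p).symm
      have c3 : Commute (S.m.y b') (S.m.y b) := by
        change S.m.y b' * S.m.y b = S.m.y b * S.m.y b'
        rw [← S.rel.y_add, ← S.rel.y_add, add_comm]
      have c4 : Commute (S.m.z₂ q) (S.m.y b) := (S.rel.y_z₂ b q).symm
      have c5 : Commute (B2Std.nf S.m a p b' q) (S.m.y b) :=
        ((c1.mul_left c2).mul_left c3).mul_left c4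
      exact mul_inv_eq_iff_eq_mul.2 c5.eq
    have cu2 : ∀ c, u * S.m.z₁ (tt c) * u⁻¹ = S.m.z₁ (tt c) := by
      intro c
      exact mul_inv_eq_iff_eq_mul.2 (z₁_comm_U (S := S) (p := tt c) rfl hu).symm
    have e1 : l * μ = 1 := by
      have h2 := hy 1
      have h3 : u * (h * S.m.y 1 * h⁻¹) * u⁻¹ = S.m.y 1 := by
        calc u * (h * S.m.y 1 * h⁻¹) * u⁻¹ = (u * h * S.m.y 1) * (u * h)⁻¹ := by group
          _ = _ := by rw [h2]; group
      rw [ht.y, cu1] at h3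
      have := S.y_injective h3
      rw [mul_one] at this
      exact this
    have e2 : l * l = 1 := by
      have h2 := hz 1
      obtain ⟨p', i1, i2, i3⟩ := ht.z₁ (tt 1)
      have h3 : u * (h * S.m.z₁ (tt 1) * h⁻¹) * u⁻¹ = S.m.z₁ (tt 1) := by
        calc u * (h * S.m.z₁ (tt 1) * h⁻¹) * u⁻¹ = (u * h * S.m.z₁ (tt 1)) * (u * h)⁻¹ := by group
          _ = _ := by rw [h2]; group
      rw [i3, eq_tt p', cu2] at h3
      have h4 := congrArg PQDatum.T.c (S.z₁_injective h3)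
      change p'.c = 1 at h4
      rw [i2] at h4
      change l * l * 1 = 1 at h4
      rwa [mul_one] at h4
    have e3 : l = μ := mul_left_cancel₀ ht.l0 (e2.trans e1.symm)
    have : h = 1 := H_eq_one hZ ht e3 (fun q => rfl) e2
    rw [this, mul_one]
    exact hu
  · rw [core_nI]
    intro hn
    have h2 := (mem_normalizer_iff.1 hn (S.m.z₁ (tt 1))).1 ⟨S.z₁_mem_VI _, S.z₁_mem_VJ _⟩
    have h4 := na_z₁ S 1
    unfold na at h4
    rw [h4] at h2
    have h3 : S.m.z₂ (tt 1) ∈ S.VJ := h2.2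
    rw [S.z₂_mem_VJ_iff] at h3
    exact one_ne_zero (congrArg PQDatum.T.c h3)
  · rw [core_nJ]
    intro hn
    have h2 := (mem_normalizer_iff.1 hn (S.m.y 1)).1 ⟨S.y_mem_VI _, S.y_mem_VJ _⟩
    rw [S.rel.nII_y S.p₀ S.hp₀] at h2
    have h3 : S.m.x (S.p₀.c⁻¹ * 1) ∈ S.VI := h2.1
    rw [S.x_mem_VI_iff, mul_one] at h3
    exact S.hp₀ (inv_eq_zero.1 h3)

omit [Finite A] in
theorem mul_sp (a p b q a' p' b' q' : F) :
    B2Std.nf S.m a (tt p) b (tt q) * B2Std.nf S.m a' (tt p') b' (tt q') =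
      B2Std.nf S.m (a + a') (tt (p + a' * a' * q + p')) (b + a' * q + b') (tt (q + q')) := by
  have hc2 : (2 : F) = 0 := by exact_mod_cast CharP.cast_eq_zero F 2
  rw [mul_nf S.rel, tr_eq, inv_one, mul_one, sc_tt, tt_mul, tt_mul, tt_mul]
  congr 2
  · congr 1; ring
  · change b + (-1) * a' * q + 0 = b + a' * q
    linear_combination -(a' * q) * hc2

omit [Finite A] in
theorem exists_nf_sp {u : A} (hu : u ∈ S.U) : ∃ a p b q : F, u = B2Std.nf S.m a (tt p) b (tt q) := by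
  obtain ⟨a, p, b, q, rfl⟩ := exists_nf S.rel hu
  exact ⟨a, p.c, b, q.c, rfl⟩

omit [Finite A] in
theorem nf_inj_sp {a p b q a' p' b' q' : F}
    (h : B2Std.nf S.m a (tt p) b (tt q) = B2Std.nf S.m a' (tt p') b' (tt q')) :
    a = a' ∧ p = p' ∧ b = b' ∧ q = q' := by
  obtain ⟨h1, h2, h3, h4⟩ := S.nf_inj h
  exact ⟨h1, congrArg PQDatum.T.c h2, h3, congrArg PQDatum.T.c h4⟩

omit [Finite A] in
theorem U_comm_y {u : A} (hu : u ∈ S.U) (b : F) : u * S.m.y b = S.m.y b * u := by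
  obtain ⟨a, p, b', q, rfl⟩ := exists_nf S.rel hu
  have c1 : Commute (S.m.x a) (S.m.y b) := x_y_comm S a b
  have c2 : Commute (S.m.z₁ p) (S.m.y b) := (S.rel.y_z₁ b p).symm
  have c3 : Commute (S.m.y b') (S.m.y b) := by
    change S.m.y b' * S.m.y b = S.m.y b * S.m.y b'
    rw [← S.rel.y_add, ← S.rel.y_add, add_comm]
  have c4 : Commute (S.m.z₂ q) (S.m.y b) := (S.rel.y_z₂ b q).symm
  have c5 : Commute (B2Std.nf S.m a p b' q) (S.m.y b) :=
    ((c1.mul_left c2).mul_left c3).mul_left c4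
  exact c5.eq

/-- automorphisms centralising `Z = y(F) z₁(F)` -/
theorem inner_of_Z {lam : F} (L : Lam (stdSp F) lam) (hZ : Subgroup.center A = ⊥) {φ : MulAut A}
    (hy : ∀ b, φ (S.m.y b) = S.m.y b) (hz : ∀ c, φ (S.m.z₁ (tt c)) = S.m.z₁ (tt c)) :
    ∃ u ∈ S.U, φ = MulAut.conj u := by
  have hU : ∀ u ∈ S.U, φ u ∈ S.U := by
    intro u hu
    apply cent_Z S hZ
    · intro b
      have := congrArg φ (U_comm_y S hu b)
      rwa [map_mul, map_mul, hy] at this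
    · intro c
      have := congrArg φ (z₁_comm_U (S := S) (p := tt c) rfl hu).symm
      rwa [map_mul, map_mul, hz] at this
  have hc2 : (2 : F) = 0 := by exact_mod_cast CharP.cast_eq_zero F 2
  -- the basic computation
  have key : ∀ a s : F, ∀ a1 p1 b1 q1 a2 p2 b2 q2 : F,
      φ (S.m.x a) = B2Std.nf S.m a1 (tt p1) b1 (tt q1) →
      φ (S.m.z₂ (tt s)) = B2Std.nf S.m a2 (tt p2) b2 (tt q2) →
      a1 * q1 = 0 ∧ a2 * q2 = 0 ∧ a2 * q1 + a1 * q2 = a * s ∧
        a2 * a2 * q1 + a1 * a1 * q2 = a * a * s := by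
    intro a s a1 p1 b1 q1 a2 p2 b2 q2 h1 h2
    have sq1 : S.m.x a * S.m.x a = 1 := by
      rw [← S.rel.x_add, CharTwo.add_self_eq_zero]; exact add_zero' S.rel.x_add
    have sq2 : S.m.z₂ (tt s) * S.m.z₂ (tt s) = 1 := by
      rw [← S.rel.z₂_mul, tt_mul, CharTwo.add_self_eq_zero]; exact mul_one' S.rel.z₂_mul
    have coords : ∀ a1 p1 b1 q1 : F,
        B2Std.nf S.m a1 (tt p1) b1 (tt q1) * B2Std.nf S.m a1 (tt p1) b1 (tt q1) = 1 →
        a1 * q1 = 0 := by
      intro a1 p1 b1 q1 h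
      rw [mul_sp, ← nf_one S.rel] at h
      have h3 := (nf_inj_sp S h).2.2.1
      linear_combination h3 - b1 * hc2
    have i1 : a1 * q1 = 0 := coords a1 p1 b1 q1 (by rw [← h1, ← map_mul, sq1, map_one])
    have i2 : a2 * q2 = 0 := coords a2 p2 b2 q2 (by rw [← h2, ← map_mul, sq2, map_one])
    have h3 := congrArg φ (x_z₂ S a s)
    simp only [map_mul, hy, hz] at h3
    rw [h1, h2, y_eq_nf S.rel, z₁_eq_nf S.rel, tt_one, mul_sp, mul_sp, mul_sp, mul_sp] at h3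
    obtain ⟨-, j1, j2, -⟩ := nf_inj_sp S h3
    refine ⟨i1, i2, ?_, ?_⟩
    · linear_combination j2 + a1 * q2 * hc2
    · linear_combination j1 + a1 * a1 * q2 * hc2
  have hx : ∀ a, a ≠ 0 → ∀ a1 p1 b1 q1 : F,
      φ (S.m.x a) = B2Std.nf S.m a1 (tt p1) b1 (tt q1) → a1 = a ∧ q1 = 0 := by
    intro a ha a1 p1 b1 q1 h1
    have ha1 : a1 ≠ 0 := by
      intro h0
      subst h0
      have step : ∀ s : F, s ≠ 0 → q1 = s := by
        intro s hs
        obtain ⟨a2, p2, b2, q2, h2⟩ := exists_nf_sp S (hU _ (z₂_mem (m := S.m) (tt s)))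
        obtain ⟨-, -, i1, i2⟩ := key a s _ _ _ _ _ _ _ _ h1 h2
        have i3 : (a2 - a) * (a * s) = 0 := by linear_combination i2 - a2 * i1
        have i4 := (mul_eq_zero.1 i3).resolve_right (mul_ne_zero ha hs)
        have i5 : a2 = a := by linear_combination i4
        subst i5
        have i6 : a2 * (q1 - s) = 0 := by linear_combination i1
        have i7 := (mul_eq_zero.1 i6).resolve_left ha
        linear_combination i7
      exact L.ne1 ((step lam L.ne0).symm.trans (step 1 one_ne_zero))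
    obtain ⟨a2, p2, b2, q2, h2⟩ := exists_nf_sp S (hU _ (z₂_mem (m := S.m) (tt 1)))
    obtain ⟨i0, -, i1, i2⟩ := key a 1 _ _ _ _ _ _ _ _ h1 h2
    have hq1 := (mul_eq_zero.1 i0).resolve_left ha1
    refine ⟨?_, hq1⟩
    rw [hq1] at i1 i2
    have i3 : (a1 - a) * a = 0 := by linear_combination i2 - a1 * i1
    have i4 := (mul_eq_zero.1 i3).resolve_right ha
    linear_combination i4
  have hz2 : ∀ s, PZ S (φ (S.m.z₂ (tt s))) (tt s) := by
    intro s
    obtain ⟨a1, p1, b1, q1, h1⟩ := exists_nf_sp S (hU _ (x_mem (m := S.m) 1))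
    obtain ⟨a2, p2, b2, q2, h2⟩ := exists_nf_sp S (hU _ (z₂_mem (m := S.m) (tt s)))
    obtain ⟨-, -, i1, -⟩ := key 1 s _ _ _ _ _ _ _ _ h1 h2
    obtain ⟨e1, e2⟩ := hx 1 one_ne_zero _ _ _ _ h1
    rw [e1, e2] at i1
    have e3 : q2 = s := by linear_combination i1
    rw [h2, e3]
    exact ⟨_, _, _, rfl⟩
  refine inner_of_triv L scal_Sp (hT_Sp S) hZ ⟨fun a => ?_, fun q => ⟨1, rfl, ?_⟩, fun q _ => hz2 q.c⟩
  · obtain ⟨a1, p1, b1, q1, h1⟩ := exists_nf_sp S (hU _ (x_mem (m := S.m) a))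
    by_cases ha : a = 0
    · subst ha
      rw [show S.m.x 0 = 1 from add_zero' S.rel.x_add, map_one]
      exact PX.one
    · rw [h1, (hx a ha _ _ _ _ h1).1]
      exact ⟨_, _, _, rfl⟩
  · rw [mul_one]; exact hz2 q.c

section base

variable {G : Type u} [Group G] {A : Subgroup G} [Finite A] (S : Std (stdSp F) ↥A)

/-- **`Base.Self` for the frame of type `Sp₄`.** -/
theorem base_self (hF : 3 ≤ Nat.card F) (hZ : Subgroup.center ↥A = ⊥) {t : G} (h : Amb A t)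
    (htt : t * t = 1) (htA : t ∈ Subgroup.centralizer (A : Set G)) (htn : t ∉ A) :
    (SpFrame.base S hZ htt htA htn).Self := by
  obtain ⟨lam, h0, h1⟩ := B2Inst.exists_ne hF
  have L := lam_Sp h0 h1
  have conv : ∀ (v : ↥A) (a s m r : F), v = B2Std.nf S.m a (tt r) m (tt s) →
      (v : G) = (S.m.x a : G) * (S.m.z₂ (tt s) : G) * (S.m.y m : G) * (S.m.z₁ (tt r) : G) := by
    intro v a s m r hv
    rw [hv, ← eq_nf S a s m r]
    rfl
  refine ⟨?_, ?_, ?_⟩
  · intro g hgt hb hs hl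
    obtain ⟨φ, hφ⟩ := h.exists_cj hgt
    have key : ∀ v : ↥A, g * (v : G) = v * g → φ v = v := by
      intro v hv
      apply Subtype.ext
      rw [hφ, hv, mul_inv_cancel_right]
    have hV : ∀ v ∈ S.VI, φ v = v := by
      intro v hv
      obtain ⟨p, b, q, rfl⟩ := mem_VI_iff.1 hv
      unfold B2Std.nf
      have k1 : φ (S.m.z₁ p) = S.m.z₁ p := key _ (hl p.c).eq
      have k2 : φ (S.m.z₂ q) = S.m.z₂ q := key _ (hb q.c).eq
      rw [show S.m.x 0 = 1 from add_zero' S.rel.x_add, one_mul, map_mul, map_mul,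
        k1, key _ (hs b).eq, k2]
    obtain ⟨u, hu, rfl, -⟩ := inner_of_VI L scal_Sp (hT_Sp S) hZ hV
    obtain ⟨p, b, q, rfl⟩ := mem_VI_iff.1 hu
    have e := conv _ 0 q.c b p.c rfl
    have e0 : (S.m.x 0 : G) = 1 := congrArg Subtype.val (add_zero' S.rel.x_add)
    rw [e0, one_mul] at e
    refine ⟨q.c, b, p.c, ?_⟩
    rcases h.eq_of hgt hφ rfl with h2 | h2
    · left; exact h2.trans e
    · right; rw [h2]; exact congrArg (t * ·) e
  · intro g hgt hb hs hl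
    obtain ⟨φ, hφ⟩ := h.exists_cj hgt
    have key : ∀ v : ↥A, g * (v : G) = v * g → φ v = v := by
      intro v hv
      apply Subtype.ext
      rw [hφ, hv, mul_inv_cancel_right]
    have hV : ∀ v ∈ S.VJ, φ v = v := by
      intro v hv
      obtain ⟨a, p, b, rfl⟩ := mem_VJ_iff.1 hv
      unfold B2Std.nf
      have k1 : φ (S.m.z₁ p) = S.m.z₁ p := key _ (hl p.c).eq
      rw [show S.m.z₂ 1 = 1 from mul_one' S.rel.z₂_mul, mul_one, map_mul, map_mul,
        k1, key _ (hs b).eq, key _ (hb a).eq]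
    obtain ⟨u, hu, rfl, -⟩ := inner_of_VJ L scal_Sp (hT_Sp S) hZ hV
    obtain ⟨a, p, b, rfl⟩ := mem_VJ_iff.1 hu
    have e := conv _ a 0 b p.c rfl
    have e0 : (S.m.z₂ (tt 0) : G) = 1 := congrArg Subtype.val (mul_one' S.rel.z₂_mul)
    rw [e0, mul_one] at e
    refine ⟨a, b, p.c, ?_⟩
    rcases h.eq_of hgt hφ rfl with h2 | h2
    · left; exact h2.trans e
    · right; rw [h2]; exact congrArg (t * ·) e
  · intro g hgt hs hl
    obtain ⟨φ, hφ⟩ := h.exists_cj hgt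
    have key : ∀ v : ↥A, g * (v : G) = v * g → φ v = v := by
      intro v hv
      apply Subtype.ext
      rw [hφ, hv, mul_inv_cancel_right]
    obtain ⟨u, hu, rfl⟩ := inner_of_Z S L hZ (fun b => key _ (hs b).eq) (fun c => key _ (hl c).eq)
    obtain ⟨a, p, b, q, rfl⟩ := exists_nf_sp S hu
    have e := conv _ a q b p rfl
    refine ⟨a, q, b, p, ?_⟩
    rcases h.eq_of hgt hφ rfl with h2 | h2
    · left; exact h2.trans e
    · right; rw [h2]; exact congrArg (t * ·) e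

end base

end Cfsg.Agent.StdRank2.SpSelf
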