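import Cfsg.Agent.StdRank2.OutB2G
import Cfsg.Agent.StdRank2.SpSelf

/-!
# Type `Sp₄(F)`, `|F| ≥ 4` even: automorphisms of `A` and elementary abelian subgroups of `U`

`swap_card`: an automorphism interchanging `V_I` and `V_J` fixes at most `q²` elements of an elementary abelian
subgroup of `U`.
`fld_card`: an automorphism of field type `ρ`, `ρ² = 1 ≠ ρ` fixes at most `q^{3/2}` of them.
`inner_of_one`, `inner_of_mul`: involutory automorphisms of type `1`, products of two commuting ones of type `≠ 1`.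
-/

set_option autoImplicit false
set_option linter.unusedSectionVars false

namespace Cfsg.Agent.StdRank2.SpJe

open Subgroup
open Cfsg.Agent.TitsThree.B2Pkg Cfsg.Agent.TitsThree.RankTwoIdentB2
  Cfsg.Agent.TitsThree.CoreB2 Cfsg.Agent.TitsThree.RankTwoIdx Cfsg.Agent.TitsThree.RankTwoRGD
  Cfsg.Agent.TitsThree.StdData
open Cfsg.Agent.StdRank2.OddLift Cfsg.Agent.StdRank2.B2Lift Cfsg.Agent.StdRank2.B2Std
  Cfsg.Agent.StdRank2.B2Torus Cfsg.Agent.StdRank2.B2Act Cfsg.Agent.StdRank2.B2Act.Std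
  Cfsg.Agent.StdRank2.B2Par Cfsg.Agent.StdRank2.B2Par.Std Cfsg.Agent.StdRank2.B2Self
  Cfsg.Agent.StdRank2.OutB2Par Cfsg.Agent.StdRank2.OutB2Grade Cfsg.Agent.StdRank2.OutB2Aut
  Cfsg.Agent.StdRank2.OutB2Tw Cfsg.Agent.StdRank2.OutB2Data Cfsg.Agent.StdRank2.OutB2Decomp
  Cfsg.Agent.StdRank2.SpFrame Cfsg.Agent.StdRank2.SpSelf

universe u

/-! ### Counting -/

/-- Counting along a coordinate. -/
theorem card_le_mul {G : Type*} [Group G] [Finite G] {F : Type*} [Finite F] (H K : Subgroup G) (S0 : Set F)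
    (R : G → F → Prop) (h1 : ∀ x ∈ H, ∃ a ∈ S0, R x a)
    (h2 : ∀ x ∈ H, ∀ y ∈ H, ∀ a, R x a → R y a → x⁻¹ * y ∈ K) :
    Nat.card H ≤ Nat.card S0 * Nat.card (H ⊓ K : Subgroup G) := by
  classical
  choose a ha hR using fun x : H => h1 x x.2
  have h3 : ∀ c : F, ∃ y : H, (∃ x : H, a x = c) → a y = c := by
    intro c
    by_cases h : ∃ x : H, a x = c
    · obtain ⟨x, hx⟩ := h
      exact ⟨x, fun _ => hx⟩
    · exact ⟨1, fun h' => absurd h' h⟩
  choose rep hrep using h3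
  rw [← Nat.card_prod]
  apply Nat.card_le_card_of_injective (fun x : H => ((⟨a x, ha x⟩ : S0),
    (⟨(rep (a x) : G)⁻¹ * x, mem_inf.mpr ⟨mul_mem (inv_mem (rep (a x)).2) x.2, by
      apply h2 _ (rep (a x)).2 _ x.2 (a x) _ (hR x)
      have := hR (rep (a x))
      rwa [hrep (a x) ⟨x, rfl⟩] at this⟩⟩ : (H ⊓ K : Subgroup G))))
  intro x y hxy
  have h4 := (Prod.mk.inj hxy).1
  have h5 := (Prod.mk.inj hxy).2
  have e1 : a x = a y := congrArg Subtype.val h4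
  have e2 : (rep (a x) : G)⁻¹ * x = (rep (a y) : G)⁻¹ * y := congrArg Subtype.val h5
  rw [e1] at e2
  exact Subtype.ext (mul_left_cancel e2)

/-- The number of fixed points of `a ↦ c ρ(a)`. -/
theorem card_fix_le {F : Type*} [Field F] [Finite F] (c : F) (ρ : F ≃+* F) :
    Nat.card {a : F | c * ρ a = a} ≤ Nat.card {a : F // ρ a = a} := by
  by_cases h : ∃ a0, a0 ≠ 0 ∧ c * ρ a0 = a0
  · obtain ⟨a0, h0, h1⟩ := h
    have hρ0 : ρ a0 ≠ 0 := (map_ne_zero_iff ρ ρ.injective).2 h0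
    have hc : c ≠ 0 := by
      rintro rfl
      rw [zero_mul] at h1
      exact h0 h1.symm
    apply Nat.card_le_card_of_injective (fun a : {a : F | c * ρ a = a} => (⟨a * a0⁻¹, by
      have h2 : c * ρ (a : F) = a := a.2
      rw [map_mul, map_inv₀]
      have e1 : (ρ a0)⁻¹ = c * a0⁻¹ := by
        have h3 : a0⁻¹ = (ρ a0)⁻¹ * c⁻¹ := by rw [← mul_inv_rev, h1]
        rw [h3, mul_comm (ρ a0)⁻¹, mul_inv_cancel_left₀ hc]
      rw [e1]
      calc ρ (a : F) * (c * a0⁻¹) = (c * ρ (a : F)) * a0⁻¹ := by ring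
        _ = _ := by rw [h2]⟩ : {a : F // ρ a = a}))
    intro a b hab
    have h2 : (a : F) * a0⁻¹ = b * a0⁻¹ := congrArg Subtype.val hab
    exact Subtype.ext (mul_right_cancel₀ (inv_ne_zero h0) h2)
  · push Not at h
    apply Nat.card_le_card_of_injective (fun _ : {a : F | c * ρ a = a} => (⟨0, map_zero ρ⟩ : {a : F // ρ a = a}))
    intro a b _
    have ha : (a : F) = 0 := by
      by_contra h0
      exact h _ h0 a.2
    have hb : (b : F) = 0 := by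
      by_contra h0
      exact h _ h0 b.2
    exact Subtype.ext (ha.trans hb.symm)

variable {F : Type*} [Field F] [Finite F] [CharP F 2]
variable {A : Type u} [Group A] (S : Std (stdSp F) A)

/-! ### Elementary abelian subgroups of `U` -/

theorem nf_sq {a p b q : F} (h : B2Std.nf S.m a (tt p) b (tt q) * B2Std.nf S.m a (tt p) b (tt q) = 1) :
    a = 0 ∨ q = 0 := by
  have hc2 : (2 : F) = 0 := by exact_mod_cast CharP.cast_eq_zero F 2
  rw [mul_sp, ← nf_one S.rel] at h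
  have h3 := (nf_inj_sp S h).2.2.1
  have h4 : a * q = 0 := by linear_combination h3 - b * hc2
  exact mul_eq_zero.mp h4

/-- An involution of `U` is in `V_I` or `V_J`. -/
theorem mem_or {v : A} (hv : v ∈ S.U) (h : v * v = 1) : v ∈ S.VI ∨ v ∈ S.VJ := by
  obtain ⟨a, p, b, q, rfl⟩ := exists_nf_sp S hv
  rcases nf_sq S h with rfl | rfl
  · exact Or.inl (mem_VI_iff.2 ⟨_, _, _, rfl⟩)
  · exact Or.inr (mem_VJ_iff.2 ⟨_, _, _, rfl⟩)

/-- An elementary abelian subgroup of `U` is in `V_I` or `V_J`. -/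
theorem le_or {B : Subgroup A} (hB : B ≤ S.U) (h : ∀ v ∈ B, v * v = 1) : B ≤ S.VI ∨ B ≤ S.VJ := by
  by_contra hcon
  push Not at hcon
  obtain ⟨h1, h2⟩ := hcon
  obtain ⟨x, hx, hxI⟩ := SetLike.not_le_iff_exists.mp h1
  obtain ⟨y, hy, hyJ⟩ := SetLike.not_le_iff_exists.mp h2
  have hxJ := (mem_or S (hB hx) (h x hx)).resolve_left hxI
  have hyI := (mem_or S (hB hy) (h y hy)).resolve_right hyJ
  rcases mem_or S (hB (mul_mem hx hy)) (h _ (mul_mem hx hy)) with h3 | h3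
  · apply hxI
    have : x = x * y * y⁻¹ := by group
    rw [this]
    exact mul_mem h3 (inv_mem hyI)
  · apply hyJ
    have : y = x⁻¹ * (x * y) := by group
    rw [this]
    exact mul_mem (inv_mem hxJ) h3

/-- `|V_I ∩ V_J| ≤ q²`. -/
theorem card_inf_le [Finite A] : Nat.card (S.VI ⊓ S.VJ : Subgroup A) ≤ Nat.card F * Nat.card F := by
  rw [← Nat.card_prod]
  apply Nat.card_le_card_of_surjective (fun p : F × F => (⟨S.m.z₁ (tt p.1) * S.m.y p.2,
    (mem_inf S).2 ⟨_, _, rfl⟩⟩ : (S.VI ⊓ S.VJ : Subgroup A)))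
  rintro ⟨v, hv⟩
  obtain ⟨b, c, rfl⟩ := (mem_inf S).1 hv
  exact ⟨(c, b), rfl⟩

/-! ### Automorphisms -/

section simple

variable [Finite A] [IsSimpleGroup A] {φ : MulAut A}

/-- Automorphisms interchanging `V_I`, `V_J`. -/
theorem swap_card (h1 : ∀ v ∈ S.VI, φ v ∈ S.VJ) (h2 : ∀ v ∈ S.VJ, φ v ∈ S.VI) {B : Subgroup A}
    (hB : B ≤ S.U) (hsq : ∀ v ∈ B, v * v = 1) (hfix : ∀ v ∈ B, φ v = v) :
    Nat.card B ≤ Nat.card F * Nat.card F := by
  refine le_trans ?_ (card_inf_le S)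
  apply Subgroup.card_le_of_le
  intro v hv
  rcases le_or S hB hsq with h | h
  · refine Subgroup.mem_inf.mpr ⟨h hv, ?_⟩
    have := h1 v (h hv)
    rwa [hfix v hv] at this
  · refine Subgroup.mem_inf.mpr ⟨?_, h hv⟩
    have := h2 v (h hv)
    rwa [hfix v hv] at this

/-- The automorphism `conj u * dg c * fd ρ` on normal forms. -/
theorem apply_nf {u : A} {c : Fˣ × Fˣ} {ρ : F ≃+* F} (e : φ = MulAut.conj u * (dg S c * fd nSp S ρ))
    (a p b q : F) : φ (B2Std.nf S.m a (tt p) b (tt q)) =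
      u * B2Std.nf S.m ((c.1 : F) * (c.2 : F)⁻¹ * ρ a) (tt ((c.1 : F) * c.1 * ρ p)) ((c.1 : F) * c.2 * ρ b)
        (tt ((c.2 : F) * c.2 * ρ q)) * u⁻¹ := by
  have h1 := auto_tww nSp S ρ c.1.ne_zero c.2.ne_zero
  have h2 : (Units.mk0 (c.1 : F) c.1.ne_zero, Units.mk0 (c.2 : F) c.2.ne_zero) = c := by
    ext <;> rfl
  rw [h2] at h1
  rw [e, MulAut.mul_apply, ← h1, auto_nf]
  rfl

theorem comm_Z {u : A} (hu : u ∈ S.U) (p b : F) :
    u * B2Std.nf S.m 0 (tt p) b (tt 0) * u⁻¹ = B2Std.nf S.m 0 (tt p) b (tt 0) := by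
  have e1 : B2Std.nf S.m 0 (tt p) b (tt 0) = S.m.z₁ (tt p) * S.m.y b := by
    unfold B2Std.nf
    rw [show S.m.x 0 = 1 from add_zero' S.rel.x_add, ← tt_one, show S.m.z₂ 1 = 1 from mul_one' S.rel.z₂_mul,
      one_mul, mul_one]
  have h1 := z₁_comm_U (S := S) (p := tt p) rfl hu
  have h2 := U_comm_y S hu b
  rw [e1, mul_inv_eq_iff_eq_mul]
  calc u * (S.m.z₁ (tt p) * S.m.y b) = (u * S.m.z₁ (tt p)) * S.m.y b := by group
    _ = S.m.z₁ (tt p) * (u * S.m.y b) := by rw [← h1]; group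
    _ = _ := by rw [h2]; group

/-- `|B ∩ V_I ∩ V_J| ≤ |Fix ρ|²`. -/
theorem card_Z {u : A} (hu : u ∈ S.U) {c : Fˣ × Fˣ} {ρ : F ≃+* F}
    (e : φ = MulAut.conj u * (dg S c * fd nSp S ρ)) {B : Subgroup A} (hB : B ≤ S.VI ⊓ S.VJ)
    (hfix : ∀ v ∈ B, φ v = v) :
    Nat.card B ≤ Nat.card {a : F // ρ a = a} * Nat.card {a : F // ρ a = a} := by
  refine le_trans ?_ (Nat.mul_le_mul (card_fix_le ((c.1 : F) * c.1) ρ) (card_fix_le ((c.1 : F) * c.2) ρ))
  rw [← Nat.card_prod]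
  have h1 : ∀ v : B, ∃ p b : F, (v : A) = B2Std.nf S.m 0 (tt p) b (tt 0) ∧ (c.1 : F) * c.1 * ρ p = p ∧
      (c.1 : F) * c.2 * ρ b = b := by
    intro v
    obtain ⟨b, p, h2⟩ := (mem_inf S).1 (hB v.2)
    have e1 : (v : A) = B2Std.nf S.m 0 (tt p) b (tt 0) := by
      rw [h2]
      unfold B2Std.nf
      rw [show S.m.x 0 = 1 from add_zero' S.rel.x_add, ← tt_one, show S.m.z₂ 1 = 1 from mul_one' S.rel.z₂_mul,
        one_mul, mul_one]
    have h3 := hfix v v.2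
    rw [e1, apply_nf S e, map_zero, mul_zero, mul_zero, comm_Z S hu] at h3
    obtain ⟨-, h4, h5, -⟩ := nf_inj_sp S h3
    exact ⟨p, b, e1, h4, h5⟩
  choose p b h2 h3 h4 using h1
  apply Nat.card_le_card_of_injective (fun v : B => ((⟨p v, h3 v⟩ : {a : F | (c.1 : F) * c.1 * ρ a = a}),
    (⟨b v, h4 v⟩ : {a : F | (c.1 : F) * c.2 * ρ a = a})))
  intro v w hvw
  have e1 : p v = p w := congrArg Subtype.val (Prod.mk.inj hvw).1
  have e2 : b v = b w := congrArg Subtype.val (Prod.mk.inj hvw).2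
  apply Subtype.ext
  rw [h2 v, h2 w, e1, e2]

theorem tt_inj {a b : F} (h : tt a = tt b) : a = b := congrArg PQDatum.T.c h

/-- Automorphisms of field type. -/
theorem fld_card {u : A} (hu : u ∈ S.U) {c : Fˣ × Fˣ} {ρ : F ≃+* F}
    (e : φ = MulAut.conj u * (dg S c * fd nSp S ρ)) {B : Subgroup A} (hB : B ≤ S.U)
    (hsq : ∀ v ∈ B, v * v = 1) (hfix : ∀ v ∈ B, φ v = v) :
    Nat.card B ≤ Nat.card {a : F // ρ a = a} * (Nat.card {a : F // ρ a = a} * Nat.card {a : F // ρ a = a}) := by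
  rcases le_or S hB hsq with h | h
  · -- `B ≤ V_I`
    have h1 := card_le_mul B (S.VI ⊓ S.VJ) {a : F | (c.2 : F) * c.2 * ρ a = a} (fun x a => PZ S x (tt a))
      (by
        intro x hx
        obtain ⟨a, p, b, q, hq⟩ := exists_nf_sp S (hB hx)
        refine ⟨q, ?_, ⟨_, _, _, hq⟩⟩
        have h2 := hfix x hx
        rw [hq, apply_nf S e] at h2
        obtain ⟨r, hr⟩ := exists_PZ hu
        have h3 : PZ S (B2Std.nf S.m a (tt p) b (tt q)) (tt q) := ⟨_, _, _, rfl⟩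
        have h4 := PZ.conj (S := S) (g := B2Std.nf S.m ((c.1 : F) * (c.2 : F)⁻¹ * ρ a)
          (tt ((c.1 : F) * c.1 * ρ p)) ((c.1 : F) * c.2 * ρ b) (tt ((c.2 : F) * c.2 * ρ q)))
          (q := tt ((c.2 : F) * c.2 * ρ q)) ⟨_, _, _, rfl⟩ hr
        rw [h2] at h4
        have h5 := h4.uniq h3
        have h6 : r * tt ((c.2 : F) * c.2 * ρ q) * r⁻¹ = tt ((c.2 : F) * c.2 * ρ q) := by
          rw [← comm_of_w (p := tt ((c.2 : F) * c.2 * ρ q)) rfl r]; group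
        rw [h6] at h5
        exact tt_inj h5)
      (by
        intro x hx y hy a hxa hya
        have h2 := hxa.inv.mul hya
        rw [inv_mul_cancel] at h2
        exact Subgroup.mem_inf.mpr ⟨mul_mem (inv_mem (h hx)) (h hy), mem_VJ_iff.2 h2⟩)
    refine h1.trans (Nat.mul_le_mul (card_fix_le _ ρ) ?_)
    exact card_Z S hu e inf_le_right (fun v hv => hfix v hv.1)
  · -- `B ≤ V_J`
    have h1 := card_le_mul B (S.VI ⊓ S.VJ) {a : F | (c.1 : F) * (c.2 : F)⁻¹ * ρ a = a} (fun x a => PX S x a)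
      (by
        intro x hx
        obtain ⟨a, p, b, q, hq⟩ := exists_nf_sp S (hB hx)
        refine ⟨a, ?_, ⟨_, _, _, hq⟩⟩
        have h2 := hfix x hx
        rw [hq, apply_nf S e] at h2
        have h3 : PX S (B2Std.nf S.m a (tt p) b (tt q)) a := ⟨_, _, _, rfl⟩
        have h4 := PX.conj (S := S) (g := B2Std.nf S.m ((c.1 : F) * (c.2 : F)⁻¹ * ρ a)
          (tt ((c.1 : F) * c.1 * ρ p)) ((c.1 : F) * c.2 * ρ b) (tt ((c.2 : F) * c.2 * ρ q)))
          (a := (c.1 : F) * (c.2 : F)⁻¹ * ρ a) ⟨_, _, _, rfl⟩ hu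
        rw [h2] at h4
        exact h4.uniq h3)
      (by
        intro x hx y hy a hxa hya
        have h2 := hxa.inv.mul hya
        rw [neg_add_cancel] at h2
        exact Subgroup.mem_inf.mpr ⟨mem_VI_iff.2 h2, mul_mem (inv_mem (h hx)) (h hy)⟩)
    refine h1.trans (Nat.mul_le_mul (card_fix_le _ ρ) ?_)
    exact card_Z S hu e inf_le_right (fun v hv => hfix v hv.1)

/-- `φ` acts on `U/V_I` as `k ρ`. -/
structure Fac (φ : MulAut A) (ρ : F ≃+* F) : Prop where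
  I : ∀ v ∈ S.VI, φ v ∈ S.VI
  x : ∃ k : F, k ≠ 0 ∧ ∀ a, PX S (φ (S.m.x a)) (k * ρ a)

variable {S}

theorem Fac.mul {ψ : MulAut A} {ρ τ : F ≃+* F} (h : Fac S φ ρ) (h' : Fac S ψ τ) : Fac S (φ * ψ) (ρ * τ) := by
  refine ⟨fun v hv => h.I _ (h'.I v hv), ?_⟩
  obtain ⟨k, hk, hx⟩ := h.x
  obtain ⟨l, hl, hy⟩ := h'.x
  refine ⟨k * ρ l, mul_ne_zero hk ((map_ne_zero_iff ρ ρ.injective).2 hl), fun a => ?_⟩
  obtain ⟨v, hv, e⟩ := PX.decomp (hy a)
  rw [MulAut.mul_apply, e, map_mul]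
  have h1 := (hx (l * τ a)).mul (mem_VI_iff.1 (h.I v hv))
  rw [add_zero, map_mul, ← mul_assoc] at h1
  exact h1

theorem Fac.uniq {ρ τ : F ≃+* F} (h : Fac S φ ρ) (h' : Fac S φ τ) : ρ = τ := by
  obtain ⟨k, hk, hx⟩ := h.x
  obtain ⟨l, hl, hy⟩ := h'.x
  have h1 : k = l := by
    have := (hx 1).uniq (hy 1)
    rwa [map_one, map_one, mul_one, mul_one] at this
  ext a
  have := (hx a).uniq (hy a)
  rw [h1] at this
  exact mul_left_cancel₀ hl this

theorem Fac.one : Fac S (1 : MulAut A) 1 :=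
  ⟨fun _ hv => hv, 1, one_ne_zero, fun a => by
    rw [one_mul]
    exact PX.x a⟩

theorem Fac.of_decomp {u : A} (hu : u ∈ S.U) {c : Fˣ × Fˣ} {ρ : F ≃+* F} (hI : ∀ v ∈ S.VI, φ v ∈ S.VI)
    (e : φ = MulAut.conj u * (dg S c * fd nSp S ρ)) : Fac S φ ρ := by
  refine ⟨hI, (c.1 : F) * (c.2 : F)⁻¹, mul_ne_zero c.1.ne_zero (inv_ne_zero c.2.ne_zero), fun a => ?_⟩
  have h1 : S.m.x a = B2Std.nf S.m a (tt 0) 0 (tt 0) := by
    rw [x_eq_nf S.rel a, tt_one]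
  rw [h1, apply_nf S e]
  exact PX.conj ⟨_, _, _, rfl⟩ hu

variable (S)

/-- Involutory automorphisms of type `1` are inner. -/
theorem inner_of_one {u : A} (hu : u ∈ S.U) {c : Fˣ × Fˣ} (e : φ = MulAut.conj u * (dg S c * fd nSp S 1))
    (h2 : φ * φ = 1) : φ = MulAut.conj u := by
  have key : ∀ k : F, k * k = 1 → k = 1 := by
    intro k hk
    rcases mul_self_eq_one_iff.mp hk with h | h
    · exact h
    · rw [h, CharTwo.neg_eq]
  -- `c.1 = c.2`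
  have h3 : ∀ v, φ (φ v) = v := by
    intro v
    have := congrArg (fun ψ : MulAut A => ψ v) h2
    exact this
  have hx : ∀ {g : A} {a : F}, PX S g a → PX S (φ g) ((c.1 : F) * (c.2 : F)⁻¹ * a) := by
    rintro g a ⟨p, b, q, rfl⟩
    have h4 := apply_nf S e a p.c b q.c
    rw [← eq_tt p, ← eq_tt q] at h4
    rw [h4]
    exact PX.conj ⟨_, _, _, rfl⟩ hu
  have hz : ∀ {g : A} {q : F}, PZ S g (tt q) → PZ S (φ g) (tt ((c.2 : F) * c.2 * q)) := by
    rintro g q ⟨a, p, b, rfl⟩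
    have h4 := apply_nf S e a p.c b q
    rw [← eq_tt p] at h4
    rw [h4]
    obtain ⟨r, hr⟩ := exists_PZ hu
    have h5 := PZ.conj (S := S) (g := B2Std.nf S.m ((c.1 : F) * (c.2 : F)⁻¹ * a)
          (tt ((c.1 : F) * c.1 * p.c)) ((c.1 : F) * c.2 * b) (tt ((c.2 : F) * c.2 * q)))
          (q := tt ((c.2 : F) * c.2 * q)) ⟨_, _, _, rfl⟩ hr
    have h6 : r * tt ((c.2 : F) * c.2 * q) * r⁻¹ = tt ((c.2 : F) * c.2 * q) := by
      rw [← comm_of_w (p := tt ((c.2 : F) * c.2 * q)) rfl r]; group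
    rw [h6] at h5
    exact h5
  have e1 : (c.1 : F) * (c.2 : F)⁻¹ = 1 := by
    apply key
    have h4 := hx (hx (PX.x (S := S) 1))
    rw [h3, mul_one] at h4
    exact h4.uniq (PX.x 1)
  have e2 : (c.2 : F) = 1 := by
    apply key
    apply key
    have h4 := hz (hz (PZ.z₂ (S := S) (tt 1)))
    rw [h3, mul_one] at h4
    exact tt_inj (h4.uniq (PZ.z₂ (tt 1)))
  have e3 : (c.1 : F) = 1 := by
    rw [e2, inv_one, mul_one] at e1
    exact e1
  have e4 : c = 1 := Prod.ext (Units.ext e3) (Units.ext e2)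
  rw [e, e4, map_one, map_one, mul_one, mul_one]

/-- Products of two commuting involutory automorphisms of types `≠ 1`. -/
theorem inner_of_mul (hF : 3 ≤ Nat.card F) {ψ : MulAut A} (hφU : ∀ v ∈ S.U, φ v ∈ S.U)
    (hφI : ∀ v ∈ S.VI, φ v ∈ S.VI) (hφJ : ∀ v ∈ S.VJ, φ v ∈ S.VJ)
    (hψU : ∀ v ∈ S.U, ψ v ∈ S.U) (hψI : ∀ v ∈ S.VI, ψ v ∈ S.VI) (hψJ : ∀ v ∈ S.VJ, ψ v ∈ S.VJ)
    (hφ2 : φ * φ = 1) (hψ2 : ψ * ψ = 1) (hc : φ * ψ = ψ * φ) {ρ τ : F ≃+* F}
    (h1 : Fac S φ ρ) (h2 : Fac S ψ τ) (hρ : ρ ≠ 1) (hτ : τ ≠ 1) :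
    ∃ u ∈ S.U, φ * ψ = MulAut.conj u := by
  have e1 : ρ * ρ = 1 := by
    have := h1.mul h1
    rw [hφ2] at this
    exact this.uniq Fac.one
  have e2 : τ * τ = 1 := by
    have := h2.mul h2
    rw [hψ2] at this
    exact this.uniq Fac.one
  have e3 : ρ = τ := OutField.unique_invol e1 e2 hρ hτ
  have hU : ∀ v ∈ S.U, (φ * ψ) v ∈ S.U := fun v hv => hφU _ (hψU v hv)
  have hI : ∀ v ∈ S.VI, (φ * ψ) v ∈ S.VI := fun v hv => hφI _ (hψI v hv)
  have hJ : ∀ v ∈ S.VJ, (φ * ψ) v ∈ S.VJ := fun v hv => hφJ _ (hψJ v hv)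
  obtain ⟨u, hu, c, σ, e⟩ := decomp (tySp hF) hU hI hJ
  have h3 := Fac.of_decomp hu hI e
  have h4 := h1.mul h2
  rw [← e3, e1] at h4
  have h5 := h3.uniq h4
  rw [h5] at e
  refine ⟨u, hu, inner_of_one S hu e ?_⟩
  calc φ * ψ * (φ * ψ) = φ * (ψ * φ) * ψ := by group
    _ = (φ * φ) * (ψ * ψ) := by rw [← hc]; group
    _ = 1 := by rw [hφ2, hψ2, one_mul]

end simple

end Cfsg.Agent.StdRank2.SpJe
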