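import Cfsg.Agent.StdRank2.L3G.HeisEquiv

/-!
# The coordinates on the grown group are compatible with the Weyl elements

`na_ua : na² = 1, (na * xb 1)³ = 1 ⟹ na (ua u) na⁻¹ = uc u` (no torus, no hypothesis on `q`).
-/

set_option autoImplicit false
set_option linter.unusedSectionVars false

namespace Cfsg.Agent.StdRank2.L3Wey

open Subgroup Cfsg.Agent.StdRank2.L3G Quad

variable {F : Type*} [Field F] [CharP F 2] {G : Type*} [Group G]

/-- `n` is a Weyl element for `a` (it swaps `X_a` and `X_c`). -/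
structure WeylA (E : Base F G) (A Z : Subgroup G) (n : G) : Prop where
  sq : n * n = 1
  t : E.t * n = n * E.t
  a : ∀ x, n * E.xa x * n⁻¹ = E.xc x
  c : ∀ x, n * E.xc x * n⁻¹ = E.xa x
  A : ∀ g ∈ A, n * g * n⁻¹ ∈ Z
  braid : (n * E.xb 1) ^ 3 = 1

section

variable {E : Base F G} {A B Z : Subgroup G} (C : Core E A B Z) (K : Coord E A B Z) {n₀ : G}
  (W : WeylA E A Z n₀)
include C W

/-- the correction term of `na`. -/
theorem exists_na (s : F) : ∃ c, n₀ * K.pa s * n₀⁻¹ = K.pc s * E.xc c := by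
  have h1 : n₀ * K.pa s * n₀⁻¹ ∈ Z := W.A _ (K.pa_mem s)
  refine C.Z_eq h1 (K.pc_mem s) ?_
  have h2 := K.pa_t s
  have h3 := K.pc_t s
  have h4 : n₀ * K.pa s * n₀⁻¹ * E.t * (n₀ * K.pa s * n₀⁻¹)⁻¹
      = n₀ * (K.pa s * E.t * (K.pa s)⁻¹) * n₀⁻¹ := by
    have : n₀⁻¹ * E.t = E.t * n₀⁻¹ := by
      rw [inv_mul_eq_iff_eq_mul, ← mul_assoc, ← W.t, mul_inv_cancel_right]
    calc n₀ * K.pa s * n₀⁻¹ * E.t * (n₀ * K.pa s * n₀⁻¹)⁻¹
        = n₀ * K.pa s * (n₀⁻¹ * E.t) * n₀ * (K.pa s)⁻¹ * n₀⁻¹ := by group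
      _ = _ := by rw [this]; group
  rw [h4, h2, h3]
  calc n₀ * (E.xa s * E.t) * n₀⁻¹ = (n₀ * E.xa s * n₀⁻¹) * (n₀ * E.t) * n₀⁻¹ := by group
    _ = _ := by rw [W.a, ← W.t]; group

/-- **`na` is compatible with the sections.** -/
theorem na_pa (s : F) : n₀ * K.pa s * n₀⁻¹ = K.pc s := by
  obtain ⟨l, hl⟩ := exists_na C K W s
  have hni : n₀⁻¹ = n₀ := inv_of_sq W.sq
  have hA : ∀ x ∈ A, ∀ y ∈ A, x * y = y * x := fun x hx y hy => C.A_comm hx hy
  have ha := K.pa_mem s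
  have hc := K.pc_mem s
  have hxa : ∀ r, E.xa r ∈ A := C.memA
  have hxc : ∀ r, E.xc r ∈ Z := C.memZ
  -- `na` on `pc`
  have hl2 : n₀ * K.pc s * n₀⁻¹ = K.pa s * E.xa l := by
    have h1 : K.pa s = n₀ * (n₀ * K.pa s * n₀⁻¹) * n₀⁻¹ := by
      calc K.pa s = (n₀ * n₀) * K.pa s * (n₀ * n₀)⁻¹ := by rw [W.sq]; group
        _ = _ := by group
    rw [hl] at h1
    have h2 : n₀ * (K.pc s * E.xc l) * n₀⁻¹ = (n₀ * K.pc s * n₀⁻¹) * E.xa l := by
      rw [← W.c]; group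
    rw [h2] at h1
    have h3 : K.pa s * E.xa l = (n₀ * K.pc s * n₀⁻¹) * (E.xa l * E.xa l) := by
      calc K.pa s * E.xa l = ((n₀ * K.pc s * n₀⁻¹) * E.xa l) * E.xa l := by rw [← h1]
        _ = _ := by group
    rw [h3, E.xa_sq, mul_one]
  -- the action of `xb 1`
  have hb1 : E.xb 1 * K.pa s * (E.xb 1)⁻¹ = K.pc s * K.pa s := by
    have h1 := K.pa_xb s 1
    rw [mul_one] at h1
    have h2 : E.xb 1 * K.pa s * (E.xb 1)⁻¹ = (cm (K.pa s) (E.xb 1))⁻¹ * K.pa s := by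
      unfold cm; group
    rw [h2, h1, inv_of_sq (C.Z_sq _ hc)]
  have hb2 : E.xb 1 * K.pc s * (E.xb 1)⁻¹ = K.pc s := conj_of_comm (C.Z_B _ hc _ (C.memB 1)).symm
  have hb3 : ∀ r, E.xb 1 * E.xa r * (E.xb 1)⁻¹ = E.xc r * E.xa r := by
    intro r
    have h1 := E.swap.a_b 1 r
    simp only [Base.swap_xa, Base.swap_xb, Base.swap_xc] at h1
    rw [h1, one_mul, mul_assoc, mul_assoc, mul_inv_cancel, mul_one]
  have hb4 : ∀ r, E.xb 1 * E.xc r * (E.xb 1)⁻¹ = E.xc r := fun r => conj_of_comm (E.c_b r 1).symm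
  set n := n₀ * E.xb 1 with hn
  have hcn : ∀ x, n * x * n⁻¹ = n₀ * (E.xb 1 * x * (E.xb 1)⁻¹) * n₀⁻¹ := by
    intro x; rw [hn]; group
  have cmul : ∀ x y : G, n * (x * y) * n⁻¹ = (n * x * n⁻¹) * (n * y * n⁻¹) := by intro x y; group
  have namul : ∀ x y : G, n₀ * (x * y) * n₀⁻¹ = (n₀ * x * n₀⁻¹) * (n₀ * y * n₀⁻¹) := by
    intro x y; group
  have e1 : n * K.pa s * n⁻¹ = (K.pa s * E.xa l) * (K.pc s * E.xc l) := by
    rw [hcn, hb1, namul, hl2, hl]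
  have e2 : n * K.pc s * n⁻¹ = K.pa s * E.xa l := by rw [hcn, hb2, hl2]
  have e3 : ∀ r, n * E.xa r * n⁻¹ = E.xa r * E.xc r := by
    intro r
    rw [hcn, hb3, namul, W.c, W.a]
  have e4 : ∀ r, n * E.xc r * n⁻¹ = E.xa r := by
    intro r
    rw [hcn, hb4, W.c]
  have e5 : n * (n * K.pa s * n⁻¹) * n⁻¹ = K.pc s := by
    rw [e1, cmul, cmul, cmul, e1, e2, e3, e4]
    have ca : ∀ r, E.xa r * K.pa s = K.pa s * E.xa r := fun r => hA _ (hxa r) _ ha
    have cc : ∀ r, E.xc r * K.pc s = K.pc s * E.xc r := fun r => C.Z_comm (hxc r) hc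
    have cca : ∀ r, E.xc r * K.pa s = K.pa s * E.xc r := fun r => C.Z_A _ (hxc r) _ ha
    have cac : ∀ r, E.xa r * K.pc s = K.pc s * E.xa r := fun r => (C.Z_A _ hc _ (hxa r)).symm
    have ccc : K.pc s * K.pa s = K.pa s * K.pc s := C.Z_A _ hc _ ha
    have cxx : E.xc l * E.xa l = E.xa l * E.xc l := E.c_a l l
    have sa : K.pa s * K.pa s = 1 := C.A_sq _ ha
    have sxa := E.xa_sq l
    have sxc := E.xc_sq l
    calc K.pa s * E.xa l * (K.pc s * E.xc l) * (E.xa l * E.xc l) * (K.pa s * E.xa l * E.xa l)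
        = K.pa s * E.xa l * K.pc s * E.xc l * E.xa l * E.xc l * K.pa s * (E.xa l * E.xa l) := by
          simp only [mul_assoc]
      _ = K.pa s * E.xa l * K.pc s * E.xc l * E.xa l * (E.xc l * K.pa s) := by
          rw [sxa, mul_one, mul_assoc _ (E.xc l) (K.pa s)]
      _ = K.pa s * E.xa l * K.pc s * E.xc l * (E.xa l * K.pa s) * E.xc l := by
          rw [cca]; simp only [mul_assoc]
      _ = K.pa s * E.xa l * K.pc s * (E.xc l * K.pa s) * E.xa l * E.xc l := by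
          rw [ca]; simp only [mul_assoc]
      _ = K.pa s * E.xa l * (K.pc s * K.pa s) * E.xc l * E.xa l * E.xc l := by
          rw [cca]; simp only [mul_assoc]
      _ = K.pa s * (E.xa l * K.pa s) * K.pc s * (E.xc l * E.xa l) * E.xc l := by
          rw [ccc]; simp only [mul_assoc]
      _ = (K.pa s * K.pa s) * (E.xa l * K.pc s) * E.xa l * (E.xc l * E.xc l) := by
          rw [ca, cxx]; simp only [mul_assoc]
      _ = K.pc s * (E.xa l * E.xa l) := by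
          rw [sa, sxc, cac, one_mul, mul_one, mul_assoc]
      _ = K.pc s := by rw [sxa, mul_one]
  have e6 : K.pa s = K.pa s * E.xa l := by
    have h1 : n * (n * (n * K.pa s * n⁻¹) * n⁻¹) * n⁻¹ = n ^ 3 * K.pa s * (n ^ 3)⁻¹ := by
      rw [pow_succ, pow_two]; group
    rw [W.braid, inv_one, one_mul, mul_one, e5, e2] at h1
    exact h1.symm
  have e7 : E.xa l = 1 := (left_eq_mul.1 e6)
  have e8 := E.xa_eq_one e7
  subst e8
  rw [hl, E.xc_zero, mul_one]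

theorem na_ua (u : Q K.g) : n₀ * K.ua u * n₀⁻¹ = K.uc u := by
  unfold Coord.ua Coord.uc
  have : n₀ * (E.xa u.re * K.pa u.im) * n₀⁻¹ = (n₀ * E.xa u.re * n₀⁻¹) * (n₀ * K.pa u.im * n₀⁻¹) := by
    group
  rw [this, W.a, na_pa C K W]

theorem na_uc (u : Q K.g) : n₀ * K.uc u * n₀⁻¹ = K.ua u := by
  rw [← na_ua C K W u]
  calc n₀ * (n₀ * K.ua u * n₀⁻¹) * n₀⁻¹ = (n₀ * n₀) * K.ua u * (n₀ * n₀)⁻¹ := by group
    _ = K.ua u := by rw [W.sq]; group

end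

end Cfsg.Agent.StdRank2.L3Wey
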