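import Cfsg.Agent.StdRank2.L3X
import Cfsg.Agent.StdRank2.L3Wey

/-!
# The grown root system of type `A₂` over the ring `Q g`, in `X`
-/

set_option autoImplicit false
set_option linter.unusedSectionVars false

namespace Cfsg.Agent.StdRank2.L3Roots

open Subgroup Cfsg.Agent.StdRank2.FrameL3 Cfsg.Agent.StdRank2.L3G Quad Cfsg.Agent.StdRank2.L3X

/-- A root system of type `A₂` over `Q g` extending the frame `fr`; `t` acts as `tau`. -/
structure Roots {G : Type*} [Group G] {A : Subgroup G} {F : Type*} [Field F] [CharP F 2]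
    (t : G) (fr : FrameL3 A F) (g : F) where
  y : Fin 3 → Fin 3 → Q g → G
  add : ∀ {i j : Fin 3}, i ≠ j → ∀ u v, y i j (u + v) = y i j u * y i j v
  con : ∀ {i j : Fin 3}, i ≠ j → ∀ s, y i j (con s) = fr.x i j s
  tau : ∀ {i j : Fin 3}, i ≠ j → ∀ u, t * y i j u * t⁻¹ = y i j (tau g u)
  inj : ∀ {i j : Fin 3}, i ≠ j → ∀ u, y i j u = 1 → u = 0
  wey : ∀ σ : Equiv.Perm (Fin 3), ∃ n ∈ A, (∀ {i j : Fin 3}, i ≠ j → ∀ u,
    n * y i j u * n⁻¹ = y (σ i) (σ j) u) ∧ (∀ {i j : Fin 3}, i ≠ j → ∀ u,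
    n * fr.x i j u * n⁻¹ = fr.x (σ i) (σ j) u)
  comm : ∀ {i j k l : Fin 3}, i ≠ j → k ≠ l → j ≠ k → i ≠ l → ∀ u v,
    y i j u * y k l v = y k l v * y i j u
  conj : ∀ {i j k : Fin 3}, i ≠ j → j ≠ k → i ≠ k → ∀ u v,
    y i j u * y j k v * (y i j u)⁻¹ = y i k (u * v) * y j k v
  opp : ∀ {i j : Fin 3}, i ≠ j → ∀ u v, u * v = 0 → y i j u * y j i v = y j i v * y i j u

theorem perm_two : ∀ i j : Fin 3, i ≠ j → ∃ σ : Equiv.Perm (Fin 3), σ 0 = i ∧ σ 1 = j := by decide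

theorem perm_three : ∀ i j k : Fin 3, i ≠ j → j ≠ k → i ≠ k →
    ∃ σ : Equiv.Perm (Fin 3), σ 0 = i ∧ σ 1 = j ∧ σ 2 = k := by decide

theorem perm_gen : ∀ σ : Equiv.Perm (Fin 3),
    σ = 1 ∨ σ = Equiv.swap 0 1 ∨ σ = Equiv.swap 1 2 ∨ σ = Equiv.swap 0 1 * Equiv.swap 1 2 ∨
      σ = Equiv.swap 1 2 * Equiv.swap 0 1 ∨ σ = Equiv.swap 0 1 * Equiv.swap 1 2 * Equiv.swap 0 1 := by
  decide

section Braid

variable {G : Type*} [Group G]

/-- `(w x)³ = 1`. -/
theorem braid_aux {a b w : G} (ha : a * a = 1) (hb : b * b = 1) (hw : w = a * b * a)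
    (h : w * a * w⁻¹ = b) : (w * a) ^ 3 = 1 := by
  have h1 : w * w = 1 := by
    rw [hw]
    calc a * b * a * (a * b * a) = a * b * (a * a) * b * a := by group
      _ = a * (b * b) * a := by rw [ha]; group
      _ = 1 := by rw [hb, mul_one, ha]
  have h2 : w⁻¹ = w := inv_eq_of_mul_eq_one_right h1
  have h3 : w * a = a * b := by
    rw [hw, mul_assoc (a * b), ha, mul_one]
  rw [h2, h3] at h
  rw [h3]
  -- `a b w = b`
  have h4 : a * b * a * b * a = b := by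
    rw [hw] at h
    calc a * b * a * b * a = a * b * (a * b * a) := by group
      _ = b := h
  calc (a * b) ^ 3 = (a * b * a * b * a) * b := by rw [pow_succ, pow_two]; group
    _ = 1 := by rw [h4, hb]

end Braid

variable {X : Type*} [Group X] [Finite X] {A : Subgroup X} {t : X}
  {F : Type*} [Field F] [Finite F] [CharP F 2] {fr : FrameL3 A F} (h : XSit A t fr)

/-- The base for part II. -/
def base : L3G.Base F X where
  xa := fr.x 0 1
  xb := fr.x 1 2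
  xc := fr.x 0 2
  t := t
  xa_add x y := (fr.add h.hZ (by decide) x y).symm
  xb_add x y := (fr.add h.hZ (by decide) x y).symm
  xc_add x y := (fr.add h.hZ (by decide) x y).symm
  c_a x y := fr.comm h.hZ (by decide) (by decide) (by decide) (by decide) x y
  c_b x y := fr.comm h.hZ (by decide) (by decide) (by decide) (by decide) x y
  a_b x y := by
    rw [← h.el_a, ← h.el_b, ← h.el_z, fr.el_mul h.hZ, fr.el_mul h.hZ, fr.el_mul h.hZ]
    congr 1
    · ring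
    · ring
    · have : x * y + x * y = 0 := CharTwo.add_self_eq_zero _
      simp [this]
  u_inj x y z hh := by
    have h1 : fr.el x y z = fr.el 0 0 0 := by rw [fr.el_zero h.hZ]; exact hh
    exact fr.el_inj.1 h1
  t_sq := h.tt
  t_a x := h.tA _ (fr.mem (by decide) x)
  t_b x := h.tA _ (fr.mem (by decide) x)
  t_c x := h.tA _ (fr.mem (by decide) x)
  t_not x y z hh := h.t_not (hh ▸ h.el_mem x y z)

theorem envG_base {ν : F} (hν0 : ν ≠ 0) (hν1 : ν ^ 3 ≠ 1) : (h.envG hν0 hν1).base = base h := rfl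

include h in
theorem w_braid {i j : Fin 3} (hij : i ≠ j) : (fr.w i j 1 * fr.x i j 1) ^ 3 = 1 := by
  apply braid_aux (fr.two hij 1) (fr.two hij.symm 1)
  · rw [FrameL3.w, inv_one]
  · rw [fr.w_conj_one h.hZ hij hij, Equiv.swap_apply_left, Equiv.swap_apply_right]

include h in
/-- `w01 w12 w01⁻¹ = w02 = w12 w01 w12⁻¹`. -/
theorem w_rel : fr.w 0 1 1 * fr.w 1 2 1 * (fr.w 0 1 1)⁻¹ = fr.w 1 2 1 * fr.w 0 1 1 * (fr.w 1 2 1)⁻¹ := by
  have h1 : fr.w 0 1 1 * fr.w 1 2 1 * (fr.w 0 1 1)⁻¹ = fr.w 0 2 1 := by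
    have e : fr.w 0 1 1 * fr.w 1 2 1 * (fr.w 0 1 1)⁻¹ =
        (fr.w 0 1 1 * fr.x 1 2 1 * (fr.w 0 1 1)⁻¹) * (fr.w 0 1 1 * fr.x 2 1 1 * (fr.w 0 1 1)⁻¹) *
          (fr.w 0 1 1 * fr.x 1 2 1 * (fr.w 0 1 1)⁻¹) := by
      have hq : fr.w 1 2 1 = fr.x 1 2 1 * fr.x 2 1 1 * fr.x 1 2 1 := by rw [FrameL3.w, inv_one]
      rw [hq]
      group
    rw [e, fr.w_conj_one h.hZ (by decide) (by decide), fr.w_conj_one h.hZ (by decide) (by decide)]
    rw [FrameL3.w, inv_one]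
    rfl
  have h2 : fr.w 1 2 1 * fr.w 0 1 1 * (fr.w 1 2 1)⁻¹ = fr.w 0 2 1 := by
    have e : fr.w 1 2 1 * fr.w 0 1 1 * (fr.w 1 2 1)⁻¹ =
        (fr.w 1 2 1 * fr.x 0 1 1 * (fr.w 1 2 1)⁻¹) * (fr.w 1 2 1 * fr.x 1 0 1 * (fr.w 1 2 1)⁻¹) *
          (fr.w 1 2 1 * fr.x 0 1 1 * (fr.w 1 2 1)⁻¹) := by
      have hq : fr.w 0 1 1 = fr.x 0 1 1 * fr.x 1 0 1 * fr.x 0 1 1 := by rw [FrameL3.w, inv_one]
      rw [hq]
      group
    rw [e, fr.w_conj_one h.hZ (by decide) (by decide), fr.w_conj_one h.hZ (by decide) (by decide)]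
    rw [FrameL3.w, inv_one]
    rfl
  rw [h1, h2]

/-- The input in `X`. -/
structure Input (Ag Bg Zg : Subgroup X) where
  core : Core (base h) Ag Bg Zg
  K : Coord (base h) Ag Bg Zg
  na : L3Wey.WeylA (base h) Ag Zg (fr.w 1 2 1)
  nb : L3Wey.WeylA (base h).swap Bg Zg (fr.w 0 1 1)

section Build

variable {h} {Ag Bg Zg : Subgroup X} (I : Input h Ag Bg Zg)

/-- the root elements. -/
def Input.y (i j : Fin 3) (u : Q I.K.g) : X :=
  if i = 0 then (if j = 1 then I.K.ua u else I.K.uc u)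
  else if i = 1 then (if j = 0 then fr.w 0 1 1 * I.K.ua u * (fr.w 0 1 1)⁻¹ else I.K.ub u)
  else (if j = 0 then fr.w 0 1 1 * (fr.w 1 2 1 * I.K.ub u * (fr.w 1 2 1)⁻¹) * (fr.w 0 1 1)⁻¹
    else fr.w 1 2 1 * I.K.ub u * (fr.w 1 2 1)⁻¹)

theorem Input.y01 (u : Q I.K.g) : I.y 0 1 u = I.K.ua u := rfl
theorem Input.y02 (u : Q I.K.g) : I.y 0 2 u = I.K.uc u := rfl
theorem Input.y12 (u : Q I.K.g) : I.y 1 2 u = I.K.ub u := rfl
theorem Input.y10 (u : Q I.K.g) : I.y 1 0 u = fr.w 0 1 1 * I.K.ua u * (fr.w 0 1 1)⁻¹ := rfl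
theorem Input.y21 (u : Q I.K.g) : I.y 2 1 u = fr.w 1 2 1 * I.K.ub u * (fr.w 1 2 1)⁻¹ := rfl
theorem Input.y20 (u : Q I.K.g) : I.y 2 0 u =
    fr.w 0 1 1 * (fr.w 1 2 1 * I.K.ub u * (fr.w 1 2 1)⁻¹) * (fr.w 0 1 1)⁻¹ := rfl

theorem Input.q_ua (u : Q I.K.g) : fr.w 1 2 1 * I.K.ua u * (fr.w 1 2 1)⁻¹ = I.K.uc u :=
  L3Wey.na_ua I.core I.K I.na u

theorem Input.q_uc (u : Q I.K.g) : fr.w 1 2 1 * I.K.uc u * (fr.w 1 2 1)⁻¹ = I.K.ua u :=
  L3Wey.na_uc I.core I.K I.na u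

theorem Input.p_ub (u : Q I.K.g) : fr.w 0 1 1 * I.K.ub u * (fr.w 0 1 1)⁻¹ = I.K.uc u :=
  L3Wey.na_ua I.core.swap (I.K.swap I.core) I.nb u

theorem Input.p_uc (u : Q I.K.g) : fr.w 0 1 1 * I.K.uc u * (fr.w 0 1 1)⁻¹ = I.K.ub u :=
  L3Wey.na_uc I.core.swap (I.K.swap I.core) I.nb u

theorem conj_conj_self {w x : X} (hw : w * w = 1) : w * (w * x * w⁻¹) * w⁻¹ = x := by
  calc w * (w * x * w⁻¹) * w⁻¹ = (w * w) * x * (w * w)⁻¹ := by group
    _ = x := by rw [hw]; group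

theorem Input.p_y {i j : Fin 3} (hij : i ≠ j) (u : Q I.K.g) :
    fr.w 0 1 1 * I.y i j u * (fr.w 0 1 1)⁻¹ = I.y (Equiv.swap 0 1 i) (Equiv.swap 0 1 j) u := by
  have hp := fr.w_mul_self (i := 0) (j := 1) (by decide) 1
  fin_cases i <;> fin_cases j
  · exact absurd rfl hij
  · show fr.w 0 1 1 * I.y 0 1 u * (fr.w 0 1 1)⁻¹ = I.y 1 0 u
    rw [I.y01, I.y10]
  · show fr.w 0 1 1 * I.y 0 2 u * (fr.w 0 1 1)⁻¹ = I.y 1 2 u
    rw [I.y02, I.y12, I.p_uc]
  · show fr.w 0 1 1 * I.y 1 0 u * (fr.w 0 1 1)⁻¹ = I.y 0 1 u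
    rw [I.y01, I.y10, conj_conj_self hp]
  · exact absurd rfl hij
  · show fr.w 0 1 1 * I.y 1 2 u * (fr.w 0 1 1)⁻¹ = I.y 0 2 u
    rw [I.y02, I.y12, I.p_ub]
  · show fr.w 0 1 1 * I.y 2 0 u * (fr.w 0 1 1)⁻¹ = I.y 2 1 u
    rw [I.y20, I.y21, conj_conj_self hp]
  · show fr.w 0 1 1 * I.y 2 1 u * (fr.w 0 1 1)⁻¹ = I.y 2 0 u
    rw [I.y20, I.y21]
  · exact absurd rfl hij

theorem Input.q_y {i j : Fin 3} (hij : i ≠ j) (u : Q I.K.g) :
    fr.w 1 2 1 * I.y i j u * (fr.w 1 2 1)⁻¹ = I.y (Equiv.swap 1 2 i) (Equiv.swap 1 2 j) u := by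
  have hp := fr.w_mul_self (i := 0) (j := 1) (by decide) 1
  have hq := fr.w_mul_self (i := 1) (j := 2) (by decide) 1
  have hpi := fr.w_inv (i := 0) (j := 1) (by decide) 1
  have hqi := fr.w_inv (i := 1) (j := 2) (by decide) 1
  have hrel := w_rel h
  -- `q p ua = p q ub`
  have key : ∀ u, fr.w 1 2 1 * (fr.w 0 1 1 * I.K.ua u * (fr.w 0 1 1)⁻¹) * (fr.w 1 2 1)⁻¹ =
      fr.w 0 1 1 * (fr.w 1 2 1 * I.K.ub u * (fr.w 1 2 1)⁻¹) * (fr.w 0 1 1)⁻¹ := by
    intro u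
    rw [← I.q_uc u, ← I.p_uc u]
    have e1 : fr.w 1 2 1 * (fr.w 0 1 1 * (fr.w 1 2 1 * I.K.uc u * (fr.w 1 2 1)⁻¹) * (fr.w 0 1 1)⁻¹) *
        (fr.w 1 2 1)⁻¹ = (fr.w 1 2 1 * fr.w 0 1 1 * fr.w 1 2 1) * I.K.uc u *
          (fr.w 1 2 1 * fr.w 0 1 1 * fr.w 1 2 1)⁻¹ := by group
    have e2 : fr.w 0 1 1 * (fr.w 1 2 1 * (fr.w 0 1 1 * I.K.uc u * (fr.w 0 1 1)⁻¹) * (fr.w 1 2 1)⁻¹) *
        (fr.w 0 1 1)⁻¹ = (fr.w 0 1 1 * fr.w 1 2 1 * fr.w 0 1 1) * I.K.uc u *
          (fr.w 0 1 1 * fr.w 1 2 1 * fr.w 0 1 1)⁻¹ := by group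
    rw [hpi, hqi] at hrel
    rw [e1, e2, hrel]
  fin_cases i <;> fin_cases j
  · exact absurd rfl hij
  · show fr.w 1 2 1 * I.y 0 1 u * (fr.w 1 2 1)⁻¹ = I.y 0 2 u
    rw [I.y01, I.y02, I.q_ua]
  · show fr.w 1 2 1 * I.y 0 2 u * (fr.w 1 2 1)⁻¹ = I.y 0 1 u
    rw [I.y01, I.y02, I.q_uc]
  · show fr.w 1 2 1 * I.y 1 0 u * (fr.w 1 2 1)⁻¹ = I.y 2 0 u
    rw [I.y10, I.y20, key]
  · exact absurd rfl hij
  · show fr.w 1 2 1 * I.y 1 2 u * (fr.w 1 2 1)⁻¹ = I.y 2 1 u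
    rw [I.y12, I.y21]
  · show fr.w 1 2 1 * I.y 2 0 u * (fr.w 1 2 1)⁻¹ = I.y 1 0 u
    rw [I.y10, I.y20, ← key, conj_conj_self hq]
  · show fr.w 1 2 1 * I.y 2 1 u * (fr.w 1 2 1)⁻¹ = I.y 1 2 u
    rw [I.y12, I.y21, conj_conj_self hq]
  · exact absurd rfl hij

/-- Weyl equivariance. -/
theorem Input.wey (σ : Equiv.Perm (Fin 3)) : ∃ n ∈ A, (∀ {i j : Fin 3}, i ≠ j → ∀ u : Q I.K.g,
    n * I.y i j u * n⁻¹ = I.y (σ i) (σ j) u) ∧ (∀ {i j : Fin 3}, i ≠ j → ∀ u,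
    n * fr.x i j u * n⁻¹ = fr.x (σ i) (σ j) u) := by
  have hmul : ∀ σ τ : Equiv.Perm (Fin 3), (∃ n ∈ A, (∀ {i j : Fin 3}, i ≠ j → ∀ u : Q I.K.g,
      n * I.y i j u * n⁻¹ = I.y (σ i) (σ j) u) ∧ (∀ {i j : Fin 3}, i ≠ j → ∀ u,
      n * fr.x i j u * n⁻¹ = fr.x (σ i) (σ j) u)) → (∃ n ∈ A, (∀ {i j : Fin 3}, i ≠ j → ∀ u : Q I.K.g,
      n * I.y i j u * n⁻¹ = I.y (τ i) (τ j) u) ∧ (∀ {i j : Fin 3}, i ≠ j → ∀ u,
      n * fr.x i j u * n⁻¹ = fr.x (τ i) (τ j) u)) → (∃ n ∈ A, (∀ {i j : Fin 3}, i ≠ j → ∀ u : Q I.K.g,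
      n * I.y i j u * n⁻¹ = I.y ((σ * τ) i) ((σ * τ) j) u) ∧ (∀ {i j : Fin 3}, i ≠ j → ∀ u,
      n * fr.x i j u * n⁻¹ = fr.x ((σ * τ) i) ((σ * τ) j) u)) := by
    rintro σ τ ⟨n, hn, h1, h2⟩ ⟨m, hm, h3, h4⟩
    refine ⟨n * m, mul_mem hn hm, fun {i j} hij u => ?_, fun {i j} hij u => ?_⟩
    · have : n * m * I.y i j u * (n * m)⁻¹ = n * (m * I.y i j u * m⁻¹) * n⁻¹ := by group
      rw [this, h3 hij, h1 (fun hh => hij (τ.injective hh))]
      rfl
    · have : n * m * fr.x i j u * (n * m)⁻¹ = n * (m * fr.x i j u * m⁻¹) * n⁻¹ := by group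
      rw [this, h4 hij, h2 (fun hh => hij (τ.injective hh))]
      rfl
  have hP : ∃ n ∈ A, (∀ {i j : Fin 3}, i ≠ j → ∀ u : Q I.K.g,
      n * I.y i j u * n⁻¹ = I.y (Equiv.swap 0 1 i) (Equiv.swap 0 1 j) u) ∧
      (∀ {i j : Fin 3}, i ≠ j → ∀ u,
      n * fr.x i j u * n⁻¹ = fr.x (Equiv.swap 0 1 i) (Equiv.swap 0 1 j) u) :=
    ⟨fr.w 0 1 1, fr.w_mem (by decide) 1, fun hij u => I.p_y hij u,
      fun hij u => fr.w_conj_one h.hZ (by decide) hij u⟩
  have hQ : ∃ n ∈ A, (∀ {i j : Fin 3}, i ≠ j → ∀ u : Q I.K.g,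
      n * I.y i j u * n⁻¹ = I.y (Equiv.swap 1 2 i) (Equiv.swap 1 2 j) u) ∧
      (∀ {i j : Fin 3}, i ≠ j → ∀ u,
      n * fr.x i j u * n⁻¹ = fr.x (Equiv.swap 1 2 i) (Equiv.swap 1 2 j) u) :=
    ⟨fr.w 1 2 1, fr.w_mem (by decide) 1, fun hij u => I.q_y hij u,
      fun hij u => fr.w_conj_one h.hZ (by decide) hij u⟩
  rcases perm_gen σ with rfl | rfl | rfl | rfl | rfl | rfl
  · exact ⟨1, one_mem _, fun hij u => by simp, fun hij u => by simp⟩
  · exact hP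
  · exact hQ
  · exact hmul _ _ hP hQ
  · exact hmul _ _ hQ hP
  · exact hmul _ _ (hmul _ _ hP hQ) hP

theorem conj_eq {n x y z w : X} (h1 : n * x * n⁻¹ = z) (h2 : n * y * n⁻¹ = w) (h3 : x * y = y * x) :
    z * w = w * z := by
  rw [← h1, ← h2]
  calc n * x * n⁻¹ * (n * y * n⁻¹) = n * (x * y) * n⁻¹ := by group
    _ = _ := by rw [h3]; group

theorem Input.comm {i j k l : Fin 3} (hij : i ≠ j) (hkl : k ≠ l) (hjk : j ≠ k) (hil : i ≠ l)
    (u v : Q I.K.g) : I.y i j u * I.y k l v = I.y k l v * I.y i j u := by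
  have C := I.core
  have b1 : I.y 0 2 u * I.y 0 2 v = I.y 0 2 v * I.y 0 2 u :=
    C.Z_comm (I.K.uc_mem C u) (I.K.uc_mem C v)
  have b2 : I.y 0 1 u * I.y 0 2 v = I.y 0 2 v * I.y 0 1 u :=
    (C.Z_A _ (I.K.uc_mem C v) _ (I.K.ua_mem C u)).symm
  have b3 : I.y 1 2 u * I.y 0 2 v = I.y 0 2 v * I.y 1 2 u :=
    (C.Z_B _ (I.K.uc_mem C v) _ (I.K.ub_mem C u)).symm
  by_cases hik : i = k
  · subst hik
    by_cases hjl : j = l
    · subst hjl
      -- same root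
      obtain ⟨σ, h1, h2⟩ := perm_two i j hij
      have h3 : ∃ τ : Equiv.Perm (Fin 3), τ 0 = i ∧ τ 2 = j := by
        refine ⟨σ * Equiv.swap 1 2, ?_, ?_⟩
        · show σ (Equiv.swap 1 2 0) = i
          rw [← h1]; rfl
        · show σ (Equiv.swap 1 2 2) = j
          rw [← h2]; rfl
      obtain ⟨τ, h4, h5⟩ := h3
      obtain ⟨n, -, hn, -⟩ := I.wey τ
      have e1 := hn (i := 0) (j := 2) (by decide) u
      have e2 := hn (i := 0) (j := 2) (by decide) v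
      rw [h4, h5] at e1 e2
      exact conj_eq e1 e2 b1
    · obtain ⟨σ, h1, h2, h3⟩ := perm_three i j l hij hjl hkl
      obtain ⟨n, -, hn, -⟩ := I.wey σ
      have e1 := hn (i := 0) (j := 1) (by decide) u
      have e2 := hn (i := 0) (j := 2) (by decide) v
      rw [h1, h2] at e1
      rw [h1, h3] at e2
      exact conj_eq e1 e2 b2
  · -- `j = l` since `i, j, k` are distinct and `l ≠ i, k`
    have hjl : j = l := by
      revert i j k l
      decide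
    subst hjl
    obtain ⟨σ, h1, h2, h3⟩ := perm_three k i j (Ne.symm hik) hij hkl
    obtain ⟨n, -, hn, -⟩ := I.wey σ
    have e1 := hn (i := 1) (j := 2) (by decide) u
    have e2 := hn (i := 0) (j := 2) (by decide) v
    rw [h2, h3] at e1
    rw [h1, h3] at e2
    exact conj_eq e1 e2 b3

theorem Input.conj {i j k : Fin 3} (hij : i ≠ j) (hjk : j ≠ k) (hik : i ≠ k) (u v : Q I.K.g) :
    I.y i j u * I.y j k v * (I.y i j u)⁻¹ = I.y i k (u * v) * I.y j k v := by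
  have C := I.core
  obtain ⟨σ, h1, h2, h3⟩ := perm_three i j k hij hjk hik
  obtain ⟨n, -, hn, -⟩ := I.wey σ
  have e1 := hn (i := 0) (j := 1) (by decide) u
  have e2 := hn (i := 1) (j := 2) (by decide) v
  have e3 := hn (i := 0) (j := 2) (by decide) (u * v)
  rw [h1, h2] at e1
  rw [h2, h3] at e2
  rw [h1, h3] at e3
  have b : I.y 0 1 u * I.y 1 2 v * (I.y 0 1 u)⁻¹ = I.y 0 2 (u * v) * I.y 1 2 v := by
    have h4 := I.K.cm_ua_ub C u v
    unfold cm at h4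
    rw [I.y01, I.y12, I.y02, ← h4]
    group
  rw [← e1, ← e2, ← e3]
  calc n * I.y 0 1 u * n⁻¹ * (n * I.y 1 2 v * n⁻¹) * (n * I.y 0 1 u * n⁻¹)⁻¹
      = n * (I.y 0 1 u * I.y 1 2 v * (I.y 0 1 u)⁻¹) * n⁻¹ := by group
    _ = _ := by rw [b]; group

theorem Input.add {i j : Fin 3} (hij : i ≠ j) (u v : Q I.K.g) :
    I.y i j (u + v) = I.y i j u * I.y i j v := by
  obtain ⟨σ, h1, h2⟩ := perm_two i j hij
  obtain ⟨n, -, hn, -⟩ := I.wey σ
  have e := fun w => hn (i := 0) (j := 1) (by decide) w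
  rw [h1, h2] at e
  rw [← e, ← e, ← e]
  have b : I.y 0 1 (u + v) = I.y 0 1 u * I.y 0 1 v := I.K.ua_add I.core u v
  rw [b]; group

theorem Input.sq {i j : Fin 3} (hij : i ≠ j) (u : Q I.K.g) : I.y i j u * I.y i j u = 1 := by
  obtain ⟨σ, h1, h2⟩ := perm_two i j hij
  obtain ⟨n, -, hn, -⟩ := I.wey σ
  have e := hn (i := 0) (j := 1) (by decide) u
  rw [h1, h2] at e
  rw [← e]
  have b : I.y 0 1 u * I.y 0 1 u = 1 := I.core.A_sq _ (I.K.ua_mem I.core u)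
  calc n * I.y 0 1 u * n⁻¹ * (n * I.y 0 1 u * n⁻¹) = n * (I.y 0 1 u * I.y 0 1 u) * n⁻¹ := by group
    _ = 1 := by rw [b]; group

theorem Input.con {i j : Fin 3} (hij : i ≠ j) (s : F) : I.y i j (con s) = fr.x i j s := by
  obtain ⟨σ, h1, h2⟩ := perm_two i j hij
  obtain ⟨n, -, hn, hx⟩ := I.wey σ
  have e := hn (i := 0) (j := 1) (by decide) (Quad.con s : Q I.K.g)
  have e2 := hx (i := 0) (j := 1) (by decide) s
  rw [h1, h2] at e e2
  rw [← e, ← e2]
  have b : I.y 0 1 (Quad.con s : Q I.K.g) = fr.x 0 1 s := by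
    rw [I.y01]
    show fr.x 0 1 s * I.K.pa 0 = fr.x 0 1 s
    rw [hom_zero I.K.pa_add, mul_one]
  rw [b]

include h in
theorem t_inv_comm {n : X} (hn : n ∈ A) : n * t = t * n := (h.tA n hn).symm

theorem Input.tau {i j : Fin 3} (hij : i ≠ j) (u : Q I.K.g) :
    t * I.y i j u * t⁻¹ = I.y i j (tau I.K.g u) := by
  obtain ⟨σ, h1, h2⟩ := perm_two i j hij
  obtain ⟨n, hnA, hn, -⟩ := I.wey σ
  have e := fun w => hn (i := 0) (j := 1) (by decide) w
  rw [h1, h2] at e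
  rw [← e, ← e]
  have b : t * I.y 0 1 u * t⁻¹ = I.y 0 1 (Quad.tau I.K.g u) := I.K.t_ua I.core u
  rw [← b]
  have hc := h.tA n hnA
  calc t * (n * I.y 0 1 u * n⁻¹) * t⁻¹ = (t * n) * I.y 0 1 u * (t * n)⁻¹ := by group
    _ = _ := by rw [hc]; group

theorem Input.inj {i j : Fin 3} (hij : i ≠ j) (u : Q I.K.g) (hu : I.y i j u = 1) : u = 0 := by
  obtain ⟨σ, h1, h2⟩ := perm_two i j hij
  obtain ⟨n, hnA, hn, -⟩ := I.wey σ
  have e := hn (i := 0) (j := 1) (by decide) u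
  rw [h1, h2, hu] at e
  apply I.K.ua_eq_one I.core
  have : I.K.ua u = n⁻¹ * (n * I.y 0 1 u * n⁻¹) * n := by rw [I.y01]; group
  rw [this, e]; group

/-! ### opposite root elements -/

/-- centralising row 2 and column 2 -/
def Input.J2 (z : X) : Prop := ∀ r : Q I.K.g, z * I.y 0 2 r = I.y 0 2 r * z ∧ z * I.y 1 2 r = I.y 1 2 r * z ∧
  z * I.y 2 0 r = I.y 2 0 r * z ∧ z * I.y 2 1 r = I.y 2 1 r * z

theorem comm_mul_left {z a b : X} (h1 : z * a = a * z) (h2 : z * b = b * z) : z * (a * b) = (a * b) * z := by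
  rw [← mul_assoc, h1, mul_assoc, h2, mul_assoc]

theorem comm_inv {z a : X} (h1 : z * a = a * z) : z * a⁻¹ = a⁻¹ * z := by
  rw [eq_inv_mul_iff_mul_eq, ← mul_assoc, ← h1, mul_inv_cancel_right]

/-- `y01` and `y10` lie in the group generated by row 2 and column 2. -/
theorem Input.J2.comm01 {z : X} (hz : I.J2 z) (u : Q I.K.g) : z * I.y 0 1 u = I.y 0 1 u * z := by
  have h1 := I.conj (i := 0) (j := 2) (k := 1) (by decide) (by decide) (by decide) u 1
  rw [mul_one] at h1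
  have h2 : I.y 0 1 u = I.y 0 2 u * I.y 2 1 1 * (I.y 0 2 u)⁻¹ * (I.y 2 1 1)⁻¹ := by rw [h1]; group
  rw [h2]
  exact comm_mul_left (comm_mul_left (comm_mul_left (hz u).1 (hz 1).2.2.2) (comm_inv (hz u).1))
    (comm_inv (hz 1).2.2.2)

theorem Input.J2.comm10 {z : X} (hz : I.J2 z) (u : Q I.K.g) : z * I.y 1 0 u = I.y 1 0 u * z := by
  have h1 := I.conj (i := 1) (j := 2) (k := 0) (by decide) (by decide) (by decide) u 1
  rw [mul_one] at h1
  have h2 : I.y 1 0 u = I.y 1 2 u * I.y 2 0 1 * (I.y 1 2 u)⁻¹ * (I.y 2 0 1)⁻¹ := by rw [h1]; group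
  rw [h2]
  exact comm_mul_left (comm_mul_left (comm_mul_left (hz u).2.1 (hz 1).2.2.1) (comm_inv (hz u).2.1))
    (comm_inv (hz 1).2.2.1)

theorem Input.J2.mul {z w : X} (hz : I.J2 z) (hw : I.J2 w) : I.J2 (z * w) := by
  intro r
  have key : ∀ {a : X}, z * a = a * z → w * a = a * w → z * w * a = a * (z * w) := by
    intro a h1 h2
    rw [mul_assoc, h2, ← mul_assoc, h1, mul_assoc]
  exact ⟨key (hz r).1 (hw r).1, key (hz r).2.1 (hw r).2.1, key (hz r).2.2.1 (hw r).2.2.1,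
    key (hz r).2.2.2 (hw r).2.2.2⟩

theorem Input.J2.conj_t {z : X} (hz : I.J2 z) : I.J2 (t * z * t⁻¹) := by
  intro r
  have key : ∀ {i j : Fin 3}, i ≠ j → (∀ r, z * I.y i j r = I.y i j r * z) →
      t * z * t⁻¹ * I.y i j r = I.y i j r * (t * z * t⁻¹) := by
    intro i j hij h1
    have h2 := I.tau hij (Quad.tau I.K.g r)
    have h3 : Quad.tau I.K.g (Quad.tau I.K.g r) = r := by
      have := congrArg (fun f : RingAut (Q I.K.g) => f r) (tau_tau (g := I.K.g))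
      exact this
    rw [h3] at h2
    rw [← h2]
    have h4 := h1 (Quad.tau I.K.g r)
    calc t * z * t⁻¹ * (t * I.y i j (Quad.tau I.K.g r) * t⁻¹)
        = t * (z * I.y i j (Quad.tau I.K.g r)) * t⁻¹ := by group
      _ = _ := by rw [h4]; group
  exact ⟨key (by decide) fun r => (hz r).1, key (by decide) fun r => (hz r).2.1,
    key (by decide) fun r => (hz r).2.2.1, key (by decide) fun r => (hz r).2.2.2⟩

/-- **no fixed points of `t`**. -/
theorem Input.J2.eq_one {z : X} (hz : I.J2 z) (hzt : z * t = t * z) : z = 1 := by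
  have hx : ∀ s, (z * fr.x 0 2 s = fr.x 0 2 s * z) ∧ (z * fr.x 1 2 s = fr.x 1 2 s * z) ∧
      (z * fr.x 2 0 s = fr.x 2 0 s * z) ∧ (z * fr.x 2 1 s = fr.x 2 1 s * z) := by
    intro s
    have := hz (Quad.con s)
    rw [I.con (by decide), I.con (by decide), I.con (by decide), I.con (by decide)] at this
    exact this
  obtain ⟨x, z', hh⟩ := h.cent_two hzt (fun x => (hx x).2.1) (fun x => (hx x).1)
  set m := fr.x 1 2 x * fr.x 0 2 z' with hm
  have hmA : m ∈ A := mul_mem (fr.mem (by decide) _) (fr.mem (by decide) _)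
  -- `m` commutes with row 2 and column 2
  have hmc : ∀ a ∈ A, z * a = a * z → m * a = a * m := by
    intro a ha hza
    rcases hh with h1 | h1
    · rw [← h1]; exact hza
    · have h2 : m = t * z := by rw [h1, ← mul_assoc, h.tt, one_mul]
      rw [h2, mul_assoc, hza, ← mul_assoc, h.tA a ha, mul_assoc]
  have hm1 : m = 1 := by
    apply h.eq_one hmA
    have k02 : ∀ s, m * fr.x 0 2 s = fr.x 0 2 s * m := fun s => hmc _ (fr.mem (by decide) s) (hx s).1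
    have k12 : ∀ s, m * fr.x 1 2 s = fr.x 1 2 s * m := fun s => hmc _ (fr.mem (by decide) s) (hx s).2.1
    have k20 : ∀ s, m * fr.x 2 0 s = fr.x 2 0 s * m := fun s => hmc _ (fr.mem (by decide) s) (hx s).2.2.1
    have k21 : ∀ s, m * fr.x 2 1 s = fr.x 2 1 s * m := fun s => hmc _ (fr.mem (by decide) s) (hx s).2.2.2
    have k01 : ∀ s, m * fr.x 0 1 s = fr.x 0 1 s * m := by
      intro s
      have h1 := fr.conj h.hZ (i := 0) (j := 2) (k := 1) (by decide) (by decide) (by decide) s 1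
      rw [mul_one] at h1
      have h2 : fr.x 0 1 s = fr.x 0 2 s * fr.x 2 1 1 * (fr.x 0 2 s)⁻¹ * (fr.x 2 1 1)⁻¹ := by rw [h1]; group
      rw [h2]
      exact comm_mul_left (comm_mul_left (comm_mul_left (k02 s) (k21 1)) (comm_inv (k02 s)))
        (comm_inv (k21 1))
    have k10 : ∀ s, m * fr.x 1 0 s = fr.x 1 0 s * m := by
      intro s
      have h1 := fr.conj h.hZ (i := 1) (j := 2) (k := 0) (by decide) (by decide) (by decide) s 1
      rw [mul_one] at h1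
      have h2 : fr.x 1 0 s = fr.x 1 2 s * fr.x 2 0 1 * (fr.x 1 2 s)⁻¹ * (fr.x 2 0 1)⁻¹ := by rw [h1]; group
      rw [h2]
      exact comm_mul_left (comm_mul_left (comm_mul_left (k12 s) (k20 1)) (comm_inv (k12 s)))
        (comm_inv (k20 1))
    intro i j hij s
    fin_cases i <;> fin_cases j
    · exact absurd rfl hij
    · exact k01 s
    · exact k02 s
    · exact k10 s
    · exact absurd rfl hij
    · exact k12 s
    · exact k20 s
    · exact k21 s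
    · exact absurd rfl hij
  rcases hh with h1 | h1
  · rw [h1, hm1]
  · exfalso
    rw [hm1, mul_one] at h1
    have h2 := (hz (Quad.th I.K.g)).1
    have h3 := I.tau (i := 0) (j := 2) (by decide) (Quad.th I.K.g)
    rw [h1] at h2
    rw [h2, mul_inv_cancel_right, tau_th, I.add (by decide)] at h3
    have h4 : I.y 0 2 1 = 1 := (left_eq_mul.1 h3)
    have h5 := I.inj (by decide) _ h4
    exact Quad.one_ne_zero' h5

/-- the opposite relation for `(0, 1)`. -/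
theorem Input.opp01 (u v : Q I.K.g) (huv : u * v = 0) : I.y 0 1 u * I.y 1 0 v = I.y 1 0 v * I.y 0 1 u := by
  set a := I.y 0 1 u with ha
  set b := I.y 1 0 v with hb
  have haa : a * a = 1 := I.sq (by decide) u
  have hbb : b * b = 1 := I.sq (by decide) v
  have hai : a⁻¹ = a := inv_eq_of_mul_eq_one_right haa
  have hbi : b⁻¹ = b := inv_eq_of_mul_eq_one_right hbb
  have hyi : ∀ {i j : Fin 3}, i ≠ j → ∀ r, (I.y i j r)⁻¹ = I.y i j r := fun hij r =>
    inv_eq_of_mul_eq_one_right (I.sq hij r)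
  have hy0 : ∀ {i j : Fin 3}, i ≠ j → I.y i j 0 = 1 := by
    intro i j hij
    have := I.add hij 0 0
    rw [add_zero] at this
    exact left_eq_mul.1 this
  -- actions
  have a02 : ∀ r, a * I.y 0 2 r * a⁻¹ = I.y 0 2 r := fun r => by
    rw [I.comm (i := 0) (j := 1) (k := 0) (l := 2) (by decide) (by decide) (by decide) (by decide),
      mul_inv_cancel_right]
  have a12 : ∀ r, a * I.y 1 2 r * a⁻¹ = I.y 0 2 (u * r) * I.y 1 2 r := fun r =>
    I.conj (by decide) (by decide) (by decide) u r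
  have a21 : ∀ r, a * I.y 2 1 r * a⁻¹ = I.y 2 1 r := fun r => by
    rw [I.comm (i := 0) (j := 1) (k := 2) (l := 1) (by decide) (by decide) (by decide) (by decide),
      mul_inv_cancel_right]
  have conj' : ∀ {i j k : Fin 3}, i ≠ j → j ≠ k → i ≠ k → ∀ r s,
      I.y j k s * I.y i j r * (I.y j k s)⁻¹ = I.y i k (r * s) * I.y i j r := by
    intro i j k hij hjk hik r s
    have h1 := I.conj hij hjk hik r s
    have h2 := I.comm hik hij hik.symm hij (r * s) r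
    -- y_ij y_jk y_ij⁻¹ = y_ik y_jk ⟹ y_ij y_jk = y_ik y_jk y_ij
    have h3 : I.y i j r * I.y j k s = I.y i k (r * s) * I.y j k s * I.y i j r := by
      rw [← h1]; group
    have h4 : I.y j k s * I.y i j r = I.y i k (r * s) * I.y i j r * I.y j k s := by
      have h5 := I.comm hik hjk hjk.symm hik (r * s) s
      have h6 := I.sq hik (r * s)
      calc I.y j k s * I.y i j r = (I.y i k (r * s) * I.y i k (r * s)) * I.y j k s * I.y i j r := by
            rw [h6, one_mul]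
        _ = I.y i k (r * s) * (I.y i k (r * s) * I.y j k s * I.y i j r) := by group
        _ = _ := by rw [← h3]; group
    rw [h4, mul_inv_cancel_right]
  have a20 : ∀ r, a * I.y 2 0 r * a⁻¹ = I.y 2 1 (r * u) * I.y 2 0 r := fun r =>
    conj' (by decide) (by decide) (by decide) r u
  have b12 : ∀ r, b * I.y 1 2 r * b⁻¹ = I.y 1 2 r := fun r => by
    rw [I.comm (i := 1) (j := 0) (k := 1) (l := 2) (by decide) (by decide) (by decide) (by decide),
      mul_inv_cancel_right]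
  have b02 : ∀ r, b * I.y 0 2 r * b⁻¹ = I.y 1 2 (v * r) * I.y 0 2 r := fun r =>
    I.conj (by decide) (by decide) (by decide) v r
  have b20 : ∀ r, b * I.y 2 0 r * b⁻¹ = I.y 2 0 r := fun r => by
    rw [I.comm (i := 1) (j := 0) (k := 2) (l := 0) (by decide) (by decide) (by decide) (by decide),
      mul_inv_cancel_right]
  have b21 : ∀ r, b * I.y 2 1 r * b⁻¹ = I.y 2 0 (r * v) * I.y 2 1 r := fun r =>
    conj' (by decide) (by decide) (by decide) r v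
  have cm : ∀ (n x y : X), n * (x * y) * n⁻¹ = (n * x * n⁻¹) * (n * y * n⁻¹) := fun n x y => by group
  have huv' : ∀ r : Q I.K.g, u * (v * r) = 0 := fun r => by rw [← mul_assoc, huv, zero_mul]
  have hvu' : ∀ r : Q I.K.g, v * (u * r) = 0 := fun r => by
    rw [← mul_assoc, mul_comm v u, huv, zero_mul]
  have hvu2 : ∀ r : Q I.K.g, r * v * u = 0 := fun r => by
    rw [mul_assoc, mul_comm v u, huv, mul_zero]
  have huv2 : ∀ r : Q I.K.g, r * u * v = 0 := fun r => by rw [mul_assoc, huv, mul_zero]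
  -- `a b` and `b a` act in the same way on row 2 and column 2
  have act : ∀ {x : X}, a * (b * x * b⁻¹) * a⁻¹ = b * (a * x * a⁻¹) * b⁻¹ →
      (a⁻¹ * b⁻¹ * a * b) * x = x * (a⁻¹ * b⁻¹ * a * b) := by
    intro x hx
    have h1 : (b * a)⁻¹ * (a * b) * x * ((b * a)⁻¹ * (a * b))⁻¹ = x := by
      calc (b * a)⁻¹ * (a * b) * x * ((b * a)⁻¹ * (a * b))⁻¹
          = (b * a)⁻¹ * (a * (b * x * b⁻¹) * a⁻¹) * (b * a) := by group
        _ = x := by rw [hx]; group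
    have h2 : a⁻¹ * b⁻¹ * a * b = (b * a)⁻¹ * (a * b) := by group
    rw [h2]
    exact mul_inv_eq_iff_eq_mul.1 h1
  set c := a⁻¹ * b⁻¹ * a * b with hc
  have hcJ : I.J2 c := by
    intro r
    refine ⟨act ?_, act ?_, act ?_, act ?_⟩
    · rw [b02, a02, cm, a12, a02, b02, huv', hy0 (by decide), one_mul]
    · rw [b12, a12, cm, b02, b12, hvu', hy0 (by decide), one_mul]
    · rw [b20, a20, cm, b21, b20, huv2, hy0 (by decide), one_mul]
    · rw [b21, a21, cm, a20, a21, b21, hvu2, hy0 (by decide), one_mul]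
  -- `c` commutes with `a` and `b`
  have hca : c * a = a * c := hcJ.comm01 I u
  have hcb : c * b = b * c := hcJ.comm10 I v
  have hcc : c * c = 1 := by
    have h1 : c = a * b * a * b := by rw [hc, hai, hbi]
    have h2 : a * c = b * a * b := by
      rw [h1]
      calc a * (a * b * a * b) = (a * a) * b * a * b := by group
        _ = b * a * b := by rw [haa, one_mul]
    -- `c = a⁻¹ c a = b a b a = c⁻¹`
    have h5 : c = b * a * b * a := by
      have : c = a * c * a⁻¹ := by rw [← hca, mul_inv_cancel_right]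
      rw [this, h2, hai]
    calc c * c = (a * b * a * b) * (b * a * b * a) := by rw [← h1, ← h5]
      _ = a * b * a * (b * b) * a * b * a := by group
      _ = a * b * (a * a) * b * a := by rw [hbb]; group
      _ = a * (b * b) * a := by rw [haa]; group
      _ = 1 := by rw [hbb, mul_one, haa]
  -- the product of `c` and its `t`-conjugate
  have htt := h.tt
  set d := t * c * t⁻¹ with hd
  have hdJ : I.J2 d := hcJ.conj_t I
  have hcd : c * d = d * c := by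
    -- `d` is a word in `y01 (tau u)` and `y10 (tau v)`
    have h1 : d = (I.y 0 1 (Quad.tau I.K.g u))⁻¹ * (I.y 1 0 (Quad.tau I.K.g v))⁻¹ *
        I.y 0 1 (Quad.tau I.K.g u) * I.y 1 0 (Quad.tau I.K.g v) := by
      rw [hd, hc, ← I.tau (i := 0) (j := 1) (by decide) u, ← I.tau (i := 1) (j := 0) (by decide) v,
        ← ha, ← hb]
      group
    rw [h1]
    have e1 := hcJ.comm01 I (Quad.tau I.K.g u)
    have e2 := hcJ.comm10 I (Quad.tau I.K.g v)
    exact comm_mul_left (comm_mul_left (comm_mul_left (comm_inv e1) (comm_inv e2)) e1) e2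
  have htd : t * d * t⁻¹ = c := by
    rw [hd]
    calc t * (t * c * t⁻¹) * t⁻¹ = (t * t) * c * (t * t)⁻¹ := by group
      _ = c := by rw [htt]; group
  have h1 : c * d = 1 := by
    apply (hcJ.mul I hdJ).eq_one
    have h2 : t * (c * d) * t⁻¹ = c * d := by
      calc t * (c * d) * t⁻¹ = (t * c * t⁻¹) * (t * d * t⁻¹) := by group
        _ = d * c := by rw [htd]
        _ = c * d := hcd.symm
    rw [mul_inv_eq_iff_eq_mul] at h2
    exact h2.symm
  have h2 : d = c := by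
    have : c * d = c * c := by rw [h1, hcc]
    exact mul_left_cancel this
  have h3 : c = 1 := by
    apply hcJ.eq_one
    have : t * c * t⁻¹ = c := h2
    rw [mul_inv_eq_iff_eq_mul] at this
    exact this.symm
  have h4 : a⁻¹ * b⁻¹ * a * b = 1 := h3
  calc a * b = b * a * (a⁻¹ * b⁻¹ * a * b) := by group
    _ = b * a := by rw [h4, mul_one]

theorem Input.opp {i j : Fin 3} (hij : i ≠ j) (u v : Q I.K.g) (huv : u * v = 0) :
    I.y i j u * I.y j i v = I.y j i v * I.y i j u := by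
  obtain ⟨σ, h1, h2⟩ := perm_two i j hij
  obtain ⟨n, -, hn, -⟩ := I.wey σ
  have e1 := hn (i := 0) (j := 1) (by decide) u
  have e2 := hn (i := 1) (j := 0) (by decide) v
  rw [h1, h2] at e1 e2
  exact conj_eq e1 e2 (I.opp01 u v huv)

/-- **The root system in `X`.** -/
def Input.roots : Roots t fr I.K.g where
  y := I.y
  add hij := I.add hij
  con hij := I.con hij
  tau hij := I.tau hij
  inj hij := I.inj hij
  wey := I.wey
  comm hij hkl hjk hil := I.comm hij hkl hjk hil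
  conj hij hjk hik := I.conj hij hjk hik
  opp hij := I.opp hij

end Build

include h in
theorem full {ν : F} (hν0 : ν ≠ 0) (hν1 : ν ^ 3 ≠ 1) : (h.envG hν0 hν1).Full where
  diag u hu := by
    obtain ⟨d, hd, -⟩ := h.exists_tor (c := ![u, 1, u⁻¹]) (by simp; field_simp)
    have hd' := h.isTor_of_tor hd
    refine ⟨d, ⟨_, hd'⟩, fun x => ?_, fun x => ?_⟩
    · show d * fr.x 0 1 x * d⁻¹ = fr.x 0 1 (u * x)
      rw [hd'.2.2 0 1 (by decide)]; congr 1; simp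
    · show d * fr.x 1 2 x * d⁻¹ = fr.x 1 2 (u * x)
      rw [hd'.2.2 1 2 (by decide)]; congr 1; simp; ring
  cube_a u hu := by
    obtain ⟨d, hd, -⟩ := h.exists_tor (c := ![u ^ 2, u⁻¹, u⁻¹]) (by simp; field_simp)
    have hd' := h.isTor_of_tor hd
    refine ⟨d, ⟨_, hd'⟩, fun x => ?_, fun x => ?_⟩
    · show d * fr.x 0 1 x * d⁻¹ = fr.x 0 1 (u ^ 3 * x)
      rw [hd'.2.2 0 1 (by decide)]; congr 1; simp; ring
    · show d * fr.x 1 2 x * d⁻¹ = fr.x 1 2 x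
      rw [hd'.2.2 1 2 (by decide)]; congr 1; simp; field_simp
  cube_b u hu := by
    obtain ⟨d, hd, -⟩ := h.exists_tor (c := ![u, u, (u ^ 2)⁻¹]) (by simp; field_simp)
    have hd' := h.isTor_of_tor hd
    refine ⟨d, ⟨_, hd'⟩, fun x => ?_, fun x => ?_⟩
    · show d * fr.x 0 1 x * d⁻¹ = fr.x 0 1 x
      rw [hd'.2.2 0 1 (by decide)]; congr 1; simp; field_simp
    · show d * fr.x 1 2 x * d⁻¹ = fr.x 1 2 (u ^ 3 * x)
      rw [hd'.2.2 1 2 (by decide)]; congr 1; simp; ring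
  big := ⟨ν, fun hh => hν1 (mul_left_cancel₀ hν0 (by rw [mul_one, ← pow_succ']; exact hh))⟩

/-- **The input for `q ≥ 8`.** -/
theorem exists_input {ν : F} (hν0 : ν ≠ 0) (hν1 : ν ^ 3 ≠ 1) {Ag Bg Zg : Subgroup X}
    (Gr : Grown (h.envG hν0 hν1) Ag Bg Zg) : Nonempty (Input h Ag Bg Zg) := by
  obtain ⟨K⟩ := Gr.exists_coord (full h hν0 hν1)
  refine ⟨⟨Gr.core, K, ?_, ?_⟩⟩
  · exact {
      sq := fr.w_mul_self (by decide) 1
      t := h.tA _ (fr.w_mem (by decide) 1)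
      a := fun x => fr.w_conj_one h.hZ (i := 1) (j := 2) (by decide) (k := 0) (l := 1) (by decide) x
      c := fun x => fr.w_conj_one h.hZ (i := 1) (j := 2) (by decide) (k := 0) (l := 2) (by decide) x
      A := fun g hg => (Gr.na_A g).1 hg
      braid := w_braid h (by decide) }
  · exact {
      sq := fr.w_mul_self (by decide) 1
      t := h.tA _ (fr.w_mem (by decide) 1)
      a := fun x => fr.w_conj_one h.hZ (i := 0) (j := 1) (by decide) (k := 1) (l := 2) (by decide) x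
      c := fun x => fr.w_conj_one h.hZ (i := 0) (j := 1) (by decide) (k := 0) (l := 2) (by decide) x
      A := fun g hg => (Gr.nb_B g).1 hg
      braid := w_braid h (by decide) }

end Cfsg.Agent.StdRank2.L3Roots
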