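import Cfsg.Agent.StdRank2.FrameL3U

/-!
# The two parabolic subgroups and the elementary abelian subgroups of `U` for `FrameL3`

`Row i` = the group of all `x i j s` (`j ≠ i`), `Col j` = the group of all `x i j s` (`i ≠ j`);
`E₁ = Row 0`, `E₂ = Col 2` are the two maximal elementary abelian subgroups of `U`.
-/

set_option autoImplicit false
set_option linter.unusedSimpArgs false

namespace Cfsg.Agent.StdRank2.FrameL3

open Matrix
open Matrix.SpecialLinearGroup (transvection)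
open Cfsg.Agent.ClassicalGeometry.AutPSL.Root
open Cfsg.Agent.ClassicalGeometry.AutPSL.SylowU
open Cfsg.Agent.StdRank2.FrameLift
open Cfsg.Agent.StdRank2.ModelL3
open scoped commutatorElement

theorem fin3_eq : ∀ i j k l : Fin 3, i ≠ j → i ≠ k → j ≠ k → l ≠ k → ¬ l = i → l = j := by decide

section Model

variable {F : Type*} [Field F]

/-- Conjugation of a general transvection. -/
theorem sl_conj_tr {ι : Type*} [Fintype ι] [DecidableEq ι] (M : Matrix.SpecialLinearGroup ι F)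
    (a φ : ι → F) (h : φ ⬝ᵥ a = 0) :
    ∃ h', M * tr a φ h * M⁻¹ = tr ((M : Matrix ι ι F) *ᵥ a)
      (φ ᵥ* ((M⁻¹ : Matrix.SpecialLinearGroup ι F) : Matrix ι ι F)) h' := by
  have e : ((M⁻¹ : Matrix.SpecialLinearGroup ι F) : Matrix ι ι F) * (M : Matrix ι ι F) = 1 := by
    rw [← Matrix.SpecialLinearGroup.coe_mul, inv_mul_cancel, Matrix.SpecialLinearGroup.coe_one]
  have e' : (M : Matrix ι ι F) * ((M⁻¹ : Matrix.SpecialLinearGroup ι F) : Matrix ι ι F) = 1 := by
    rw [← Matrix.SpecialLinearGroup.coe_mul, mul_inv_cancel, Matrix.SpecialLinearGroup.coe_one]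
  have h' : (φ ᵥ* ((M⁻¹ : Matrix.SpecialLinearGroup ι F) : Matrix ι ι F)) ⬝ᵥ
      ((M : Matrix ι ι F) *ᵥ a) = 0 := by
    rw [← dotProduct_mulVec, mulVec_mulVec, e, one_mulVec, h]
  refine ⟨h', ?_⟩
  apply Subtype.ext
  rw [Matrix.SpecialLinearGroup.coe_mul, Matrix.SpecialLinearGroup.coe_mul, coe_tr, coe_tr, mul_add,
    mul_one, add_mul, e', mul_vecMulVec, vecMulVec_mul]

/-- The product of two elements of one row. -/
theorem tv_row {i j k : Fin 3} (hij : i ≠ j) (hik : i ≠ k) (a c : F) :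
    ∃ h, transvection hij a * transvection hik c
      = tr (Pi.single i 1) (a • Pi.single j 1 + c • Pi.single k 1 : Fin 3 → F) h := by
  have h1 : (a • Pi.single j 1 + c • Pi.single k 1 : Fin 3 → F) ⬝ᵥ Pi.single i 1 = 0 := by
    rw [dotProduct_single]
    simp [hij, hik]
  refine ⟨h1, ?_⟩
  apply Subtype.ext
  rw [Matrix.SpecialLinearGroup.coe_mul, coe_transvection, coe_transvection, coe_tr, mul_add,
    mul_one, add_mul, one_mul, single_mul_single_of_ne _ _ _ _ hij.symm, add_zero, add_assoc]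
  congr 1
  ext p q
  simp only [Matrix.add_apply, single_apply, vecMulVec_apply, Pi.add_apply, Pi.smul_apply,
    Pi.single_apply, smul_eq_mul]
  by_cases hp : p = i
  · subst hp
    by_cases hq : q = j
    · subst hq
      by_cases hk : q = k
      · subst hk; simp
      · simp [hk, Ne.symm hk]
    · by_cases hk : q = k
      · subst hk; simp [hq, Ne.symm hq]
      · simp [hq, Ne.symm hq, hk, Ne.symm hk]
  · simp [hp, Ne.symm hp]

/-- The product of two elements of one column. -/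
theorem tv_col {i j k : Fin 3} (hik : i ≠ k) (hjk : j ≠ k) (a c : F) :
    ∃ h, transvection hik a * transvection hjk c
      = tr (a • Pi.single i 1 + c • Pi.single j 1 : Fin 3 → F) (Pi.single k 1) h := by
  have h1 : (Pi.single k 1 : Fin 3 → F) ⬝ᵥ (a • Pi.single i 1 + c • Pi.single j 1 : Fin 3 → F)
      = 0 := by
    rw [single_dotProduct]
    simp [hik.symm, hjk.symm]
  refine ⟨h1, ?_⟩
  apply Subtype.ext
  rw [Matrix.SpecialLinearGroup.coe_mul, coe_transvection, coe_transvection, coe_tr, mul_add,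
    mul_one, add_mul, one_mul, single_mul_single_of_ne _ _ _ _ hjk.symm, add_zero, add_assoc]
  congr 1
  ext p q
  simp only [Matrix.add_apply, single_apply, vecMulVec_apply, Pi.add_apply, Pi.smul_apply,
    Pi.single_apply, smul_eq_mul]
  by_cases hq : q = k
  · subst hq
    by_cases hp : p = i
    · subst hp
      by_cases hj : p = j
      · subst hj; simp
      · simp [hj, Ne.symm hj]
    · by_cases hj : p = j
      · subst hj; simp [hp, Ne.symm hp]
      · simp [hp, Ne.symm hp, hj, Ne.symm hj]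
  · simp [hq, Ne.symm hq]

theorem vecMulVec_ne {ι : Type*} [DecidableEq ι] {a φ : ι → F} (ha : a ≠ 0) (hφ : φ ≠ 0) :
    vecMulVec a φ ≠ 0 := by
  intro h
  obtain ⟨i, hi⟩ := Function.ne_iff.1 ha
  obtain ⟨j, hj⟩ := Function.ne_iff.1 hφ
  have := congrFun (congrFun h i) j
  rw [vecMulVec_apply] at this
  rcases mul_eq_zero.1 this with h1 | h1
  · exact hi h1
  · exact hj h1

theorem mulVec_ne_zero {ι : Type*} [Fintype ι] [DecidableEq ι] (M : Matrix.SpecialLinearGroup ι F)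
    {a : ι → F} (ha : a ≠ 0) : (M : Matrix ι ι F) *ᵥ a ≠ 0 := by
  intro h
  apply ha
  have e : ((M⁻¹ : Matrix.SpecialLinearGroup ι F) : Matrix ι ι F) * (M : Matrix ι ι F) = 1 := by
    rw [← Matrix.SpecialLinearGroup.coe_mul, inv_mul_cancel, Matrix.SpecialLinearGroup.coe_one]
  rw [← one_mulVec a, ← e, ← mulVec_mulVec, h, mulVec_zero]

theorem vecMul_ne_zero {ι : Type*} [Fintype ι] [DecidableEq ι] (M : Matrix.SpecialLinearGroup ι F)
    {a : ι → F} (ha : a ≠ 0) : a ᵥ* (M : Matrix ι ι F) ≠ 0 := by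
  intro h
  apply ha
  have e : (M : Matrix ι ι F) * ((M⁻¹ : Matrix.SpecialLinearGroup ι F) : Matrix ι ι F) = 1 := by
    rw [← Matrix.SpecialLinearGroup.coe_mul, mul_inv_cancel, Matrix.SpecialLinearGroup.coe_one]
  rw [← vecMul_one a, ← e, ← vecMul_vecMul, h, zero_vecMul]

/-- If `M` moves the root element `x i j s` into the row group of `i`, then `M` fixes the point `e_i`. -/
theorem col_of_conj {i j k : Fin 3} (hij : i ≠ j) (hik : i ≠ k) {s a c : F} (hs : s ≠ 0)
    {M : Matrix.SpecialLinearGroup (Fin 3) F}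
    (h : pr (M * transvection hij s * M⁻¹) = pr (transvection hij a * transvection hik c)) :
    ∀ l, l ≠ i → (M : Matrix (Fin 3) (Fin 3) F) l i = 0 := by
  obtain ⟨h1, e1⟩ := tv_row hij hik a c
  rw [transvection_eq_tr hij s] at h
  obtain ⟨h2, e2⟩ := sl_conj_tr M (s • Pi.single i 1) (Pi.single j 1) (by
    rw [dotProduct_smul, single_dotProduct, Pi.single_eq_of_ne hij.symm]; simp)
  rw [e2, e1] at h
  have h3 := tr_eq_iff.1 (tr_eq_of_pr_eq h)
  obtain ⟨d, hd⟩ := exists_smul_of_vecMulVec_eq (vecMul_ne_zero _ (by simp)) h3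
  intro l hl
  have h4 := congrFun hd l
  rw [mulVec_smul, Pi.smul_apply, Pi.smul_apply, Pi.single_eq_of_ne hl, smul_zero,
    mulVec_single, smul_eq_mul] at h4
  rcases mul_eq_zero.1 h4 with h5 | h5
  · exact absurd h5 hs
  · simpa using h5

/-- The same for the columns: `M` fixes the line (linear form) `e_j`. -/
theorem row_of_conj {i j k : Fin 3} (hij : i ≠ j) (hkj : k ≠ j) {s a c : F} (hs : s ≠ 0)
    {M : Matrix.SpecialLinearGroup (Fin 3) F}
    (h : pr (M * transvection hij s * M⁻¹) = pr (transvection hij a * transvection hkj c)) :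
    ∀ l, l ≠ j → (M : Matrix (Fin 3) (Fin 3) F) j l = 0 := by
  obtain ⟨h1, e1⟩ := tv_col hij hkj a c
  rw [transvection_eq_tr hij s] at h
  obtain ⟨h2, e2⟩ := sl_conj_tr M (s • Pi.single i 1) (Pi.single j 1) (by
    rw [dotProduct_smul, single_dotProduct, Pi.single_eq_of_ne hij.symm]; simp)
  rw [e2, e1] at h
  have h3 := tr_eq_iff.1 (tr_eq_of_pr_eq h)
  obtain ⟨d, hd⟩ := exists_smul_of_vecMulVec_eq' (mulVec_ne_zero _ (by simp [hs])) h3
  -- e_j = d • (e_j M)
  have e : ((M⁻¹ : Matrix.SpecialLinearGroup (Fin 3) F) : Matrix (Fin 3) (Fin 3) F)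
      * (M : Matrix (Fin 3) (Fin 3) F) = 1 := by
    rw [← Matrix.SpecialLinearGroup.coe_mul, inv_mul_cancel, Matrix.SpecialLinearGroup.coe_one]
  have h4 : (Pi.single j 1 : Fin 3 → F) = d • (Pi.single j 1 ᵥ* (M : Matrix (Fin 3) (Fin 3) F)) := by
    rw [← smul_vecMul, ← hd, vecMul_vecMul, e, vecMul_one]
  have hd0 : d ≠ 0 := by
    rintro rfl
    rw [zero_smul] at h4
    have := congrFun h4 j
    rw [Pi.single_eq_same] at this
    exact one_ne_zero this
  intro l hl
  have h5 := congrFun h4 l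
  rw [Pi.single_eq_of_ne hl, Pi.smul_apply, smul_eq_mul, single_one_vecMul] at h5
  rcases mul_eq_zero.1 h5.symm with h6 | h6
  · exact absurd h6 hd0
  · exact h6

theorem wl_mul_self [CharP F 2] {i j : Fin 3} (h : i ≠ j) (u : F) : wl h u * wl h u = 1 := by
  have h1 : transvection h u * transvection h u = 1 := by
    rw [← Matrix.SpecialLinearGroup.transvection_add, CharTwo.add_self_eq_zero,
      Matrix.SpecialLinearGroup.transvection_coeff_zero]
  have h2 : transvection h.symm u⁻¹ * transvection h.symm u⁻¹ = 1 := by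
    rw [← Matrix.SpecialLinearGroup.transvection_add, CharTwo.add_self_eq_zero,
      Matrix.SpecialLinearGroup.transvection_coeff_zero]
  unfold wl
  calc transvection h u * transvection h.symm u⁻¹ * transvection h u *
        (transvection h u * transvection h.symm u⁻¹ * transvection h u)
      = transvection h u * (transvection h.symm u⁻¹ * (transvection h u * transvection h u) *
        transvection h.symm u⁻¹) * transvection h u := by simp only [mul_assoc]
    _ = 1 := by rw [h1, mul_one, h2, mul_one, h1]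

/-- Decomposition of the stabiliser of the point `e_i`. -/
theorem parabolic_decomp [CharP F 2] {i j k : Fin 3} (hij : i ≠ j) (hik : i ≠ k) (hjk : j ≠ k)
    {M : Matrix.SpecialLinearGroup (Fin 3) F}
    (h1 : ∀ l, l ≠ i → (M : Matrix (Fin 3) (Fin 3) F) l i = 0) :
    ∃ (c : Fin 3 → F) (hc : c 0 * c 1 * c 2 = 1) (a b d : F),
      M = transvection hik d * transvection hij a * transvection hjk b * dg c hc ∨
      ∃ b' : F, M = transvection hik d * transvection hij a * transvection hjk b * dg c hc *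
        wl hjk 1 * transvection hjk b' := by
  by_cases hr : (M : Matrix (Fin 3) (Fin 3) F) k j = 0
  · obtain ⟨c, hc, a, b, d, h⟩ := borel_decomp (i := i) (j := k) (k := j) hik hij hjk h1 (by
      intro l hl
      by_cases hli : l = i
      · subst hli; exact h1 k hik.symm
      · have : l = j := fin3_eq i j k l hij hik hjk hl hli
        subst this; exact hr)
    exact ⟨c, hc, a, b, d, Or.inl h⟩
  · set b' := (M : Matrix (Fin 3) (Fin 3) F) k k / (M : Matrix (Fin 3) (Fin 3) F) k j with hb'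
    set N := M * transvection hjk b' * wl hjk 1 with hN
    have hw : ∀ a b, (wl hjk (1 : F) : Matrix (Fin 3) (Fin 3) F) a b
        = if a = (Equiv.swap j k) b then 1 else 0 := by
      intro a b
      rw [wl_apply hjk one_ne_zero]
      simp
    have hMt : ∀ a b, ((M * transvection hjk b' : Matrix.SpecialLinearGroup (Fin 3) F) :
        Matrix (Fin 3) (Fin 3) F) a b = (M : Matrix (Fin 3) (Fin 3) F) a b
          + if b = k then (M : Matrix (Fin 3) (Fin 3) F) a j * b' else 0 := by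
      intro a b
      rw [Matrix.SpecialLinearGroup.coe_mul, coe_transvection, mul_add, mul_one, Matrix.add_apply,
        Matrix.mul_apply, Finset.sum_eq_single j]
      · rw [single_apply]
        by_cases hb : b = k
        · subst hb; simp
        · simp [hb, Ne.symm hb]
      · intro l _ hl
        rw [single_apply, if_neg (fun h => hl h.1.symm), mul_zero]
      · intro h; exact absurd (Finset.mem_univ _) h
    have hNe : ∀ a b, (N : Matrix (Fin 3) (Fin 3) F) a b
        = ((M * transvection hjk b' : Matrix.SpecialLinearGroup (Fin 3) F) :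
          Matrix (Fin 3) (Fin 3) F) a (Equiv.swap j k b) := by
      intro a b
      rw [hN, Matrix.SpecialLinearGroup.coe_mul, Matrix.mul_apply,
        Finset.sum_eq_single (Equiv.swap j k b)]
      · rw [hw, if_pos rfl, mul_one]
      · intro l _ hl
        rw [hw, if_neg hl, mul_zero]
      · intro h; exact absurd (Finset.mem_univ _) h
    obtain ⟨c, hc, a, b, d, h⟩ := borel_decomp (i := i) (j := k) (k := j) (M := N) hik hij hjk (by
      intro l hl
      rw [hNe, Equiv.swap_apply_of_ne_of_ne hij hik, hMt, if_neg hik, add_zero]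
      exact h1 l hl) (by
      intro l hl
      by_cases hli : l = i
      · subst hli
        rw [hNe, Equiv.swap_apply_of_ne_of_ne hij hik, hMt, if_neg hik, add_zero]
        exact h1 k hik.symm
      · have hlj : l = j := fin3_eq i j k l hij hik hjk hl hli
        subst hlj
        rw [hNe, Equiv.swap_apply_left, hMt, if_pos rfl, hb', mul_div_cancel₀ _ hr,
          CharTwo.add_self_eq_zero])
    refine ⟨c, hc, a, b, d, Or.inr ⟨b', ?_⟩⟩
    rw [← h, hN]
    have h3 : transvection hjk b' * transvection hjk b' = 1 := by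
      rw [← Matrix.SpecialLinearGroup.transvection_add, CharTwo.add_self_eq_zero,
        Matrix.SpecialLinearGroup.transvection_coeff_zero]
    rw [mul_assoc (M * transvection hjk b'), wl_mul_self hjk, mul_one, mul_assoc, h3, mul_one]

end Model

variable {G : Type*} [Group G] {A : Subgroup G} {F : Type*} [Field F] (R : FrameL3 A F)

/-- The root groups of row `i` (transvections with centre `e_i`). -/
def Row (R : FrameL3 A F) (i : Fin 3) : Subgroup G :=
  Subgroup.closure {g | ∃ (j : Fin 3) (_ : i ≠ j) (s : F), g = R.x i j s}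

/-- The root groups of column `j` (transvections with axis `e_j`). -/
def Col (R : FrameL3 A F) (j : Fin 3) : Subgroup G :=
  Subgroup.closure {g | ∃ (i : Fin 3) (_ : i ≠ j) (s : F), g = R.x i j s}

theorem x_mem_Row {i j : Fin 3} (h : i ≠ j) (s : F) : R.x i j s ∈ R.Row i :=
  Subgroup.subset_closure ⟨j, h, s, rfl⟩

theorem x_mem_Col {i j : Fin 3} (h : i ≠ j) (s : F) : R.x i j s ∈ R.Col j :=
  Subgroup.subset_closure ⟨i, h, s, rfl⟩

theorem Row_le (i : Fin 3) : R.Row i ≤ A := by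
  rw [Row, Subgroup.closure_le]
  rintro g ⟨j, h, s, rfl⟩
  exact R.mem h s

theorem Col_le (j : Fin 3) : R.Col j ≤ A := by
  rw [Col, Subgroup.closure_le]
  rintro g ⟨i, h, s, rfl⟩
  exact R.mem h s

section Odd

variable [CharP F 2] (hZ : Odd (Nat.card (Subgroup.center ↥A)))
include hZ

theorem row_mul {i j k : Fin 3} (hij : i ≠ j) (hik : i ≠ k) (a c a' c' : F) :
    R.x i j a * R.x i k c * (R.x i j a' * R.x i k c') = R.x i j (a + a') * R.x i k (c + c') := by
  have e := R.comm hZ hik hij hik.symm hij c a'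
  calc R.x i j a * R.x i k c * (R.x i j a' * R.x i k c')
      = R.x i j a * (R.x i k c * R.x i j a') * R.x i k c' := by simp only [mul_assoc]
    _ = R.x i j a * R.x i j a' * (R.x i k c * R.x i k c') := by rw [e]; simp only [mul_assoc]
    _ = _ := by rw [R.add hZ hij, R.add hZ hik]

theorem col_mul {i j k : Fin 3} (hik : i ≠ k) (hjk : j ≠ k) (a c a' c' : F) :
    R.x i k a * R.x j k c * (R.x i k a' * R.x j k c') = R.x i k (a + a') * R.x j k (c + c') := by
  have e := R.comm hZ hjk hik hik.symm hjk c a'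
  calc R.x i k a * R.x j k c * (R.x i k a' * R.x j k c')
      = R.x i k a * (R.x j k c * R.x i k a') * R.x j k c' := by simp only [mul_assoc]
    _ = R.x i k a * R.x i k a' * (R.x j k c * R.x j k c') := by rw [e]; simp only [mul_assoc]
    _ = _ := by rw [R.add hZ hik, R.add hZ hjk]

theorem mem_Row {i j k : Fin 3} (hij : i ≠ j) (hik : i ≠ k) (hjk : j ≠ k) {g : G} :
    g ∈ R.Row i ↔ ∃ a c : F, g = R.x i j a * R.x i k c := by
  constructor
  · intro hg
    refine Subgroup.closure_induction (p := fun g _ => ∃ a c : F, g = R.x i j a * R.x i k c)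
      ?_ ?_ ?_ ?_ hg
    · rintro g ⟨l, hl, s, rfl⟩
      by_cases hlk : l = k
      · subst hlk
        exact ⟨0, s, by rw [R.x_zero hZ hij, one_mul]⟩
      · have : l = j := fin3_eq i j k l hij hik hjk hlk (Ne.symm hl)
        subst this
        exact ⟨s, 0, by rw [R.x_zero hZ hik, mul_one]⟩
    · exact ⟨0, 0, by rw [R.x_zero hZ hij, R.x_zero hZ hik, one_mul]⟩
    · rintro x y _ _ ⟨a, c, rfl⟩ ⟨a', c', rfl⟩
      exact ⟨_, _, R.row_mul hZ hij hik a c a' c'⟩
    · rintro x _ ⟨a, c, rfl⟩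
      refine ⟨a, c, ?_⟩
      rw [inv_eq_iff_mul_eq_one, R.row_mul hZ hij hik, CharTwo.add_self_eq_zero,
        CharTwo.add_self_eq_zero, R.x_zero hZ hij, R.x_zero hZ hik, one_mul]
  · rintro ⟨a, c, rfl⟩
    exact mul_mem (R.x_mem_Row hij a) (R.x_mem_Row hik c)

theorem mem_Col {i j k : Fin 3} (hij : i ≠ j) (hik : i ≠ k) (hjk : j ≠ k) {g : G} :
    g ∈ R.Col k ↔ ∃ a c : F, g = R.x i k a * R.x j k c := by
  constructor
  · intro hg
    refine Subgroup.closure_induction (p := fun g _ => ∃ a c : F, g = R.x i k a * R.x j k c)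
      ?_ ?_ ?_ ?_ hg
    · rintro g ⟨l, hl, s, rfl⟩
      by_cases hli : l = i
      · subst hli
        exact ⟨s, 0, by rw [R.x_zero hZ hjk, mul_one]⟩
      · have : l = j := fin3_eq i j k l hij hik hjk hl hli
        subst this
        exact ⟨0, s, by rw [R.x_zero hZ hik, one_mul]⟩
    · exact ⟨0, 0, by rw [R.x_zero hZ hik, R.x_zero hZ hjk, one_mul]⟩
    · rintro x y _ _ ⟨a, c, rfl⟩ ⟨a', c', rfl⟩
      exact ⟨_, _, R.col_mul hZ hik hjk a c a' c'⟩
    · rintro x _ ⟨a, c, rfl⟩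
      refine ⟨a, c, ?_⟩
      rw [inv_eq_iff_mul_eq_one, R.col_mul hZ hik hjk, CharTwo.add_self_eq_zero,
        CharTwo.add_self_eq_zero, R.x_zero hZ hik, R.x_zero hZ hjk, one_mul]
  · rintro ⟨a, c, rfl⟩
    exact mul_mem (R.x_mem_Col hik a) (R.x_mem_Col hjk c)

theorem row_inj {i j k : Fin 3} (hij : i ≠ j) (hik : i ≠ k) (hjk : j ≠ k) {a c a' c' : F} :
    R.x i j a * R.x i k c = R.x i j a' * R.x i k c' ↔ a = a' ∧ c = c' := by
  refine ⟨fun h => ?_, fun h => by rw [h.1, h.2]⟩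
  -- x i j (a+a') = x i k (c+c'), compare commutators with x k i
  have h1 : R.x i j (a + a') * R.x i k (c + c') = 1 := by
    rw [← R.row_mul hZ hij hik, h, R.row_mul hZ hij hik, CharTwo.add_self_eq_zero,
      CharTwo.add_self_eq_zero, R.x_zero hZ hij, R.x_zero hZ hik, one_mul]
  have h2 : R.x i j (a + a') = R.x i k (c + c') := by
    rw [mul_eq_one_iff_eq_inv, R.x_inv hik] at h1
    exact h1
  -- x j k 1 commutes with x i k, and x j k 1 x i j b x j k 1 = x i k b x i j b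
  have h3 := R.conj' hZ hij hjk hik (a + a') 1
  have h4 : R.x j k 1 * R.x i k (c + c') * (R.x j k 1)⁻¹ = R.x i k (c + c') := by
    rw [R.comm hZ hjk hik hik.symm hjk, mul_inv_cancel_right]
  rw [← h2] at h4
  rw [h4, mul_one] at h3
  have h5 : R.x i k (a + a') = 1 := by
    exact (mul_eq_right.1 h3.symm)
  rw [R.x_eq_one hZ hik] at h5
  have ha : a = a' := CharTwo.add_eq_zero.1 h5
  rw [h5, R.x_zero hZ hij] at h2
  have h6 := (R.x_eq_one hZ hik).1 h2.symm
  exact ⟨ha, CharTwo.add_eq_zero.1 h6⟩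

theorem col_inj {i j k : Fin 3} (hij : i ≠ j) (hik : i ≠ k) (hjk : j ≠ k) {a c a' c' : F} :
    R.x i k a * R.x j k c = R.x i k a' * R.x j k c' ↔ a = a' ∧ c = c' := by
  refine ⟨fun h => ?_, fun h => by rw [h.1, h.2]⟩
  have h1 : R.x i k (a + a') * R.x j k (c + c') = 1 := by
    rw [← R.col_mul hZ hik hjk, h, R.col_mul hZ hik hjk, CharTwo.add_self_eq_zero,
      CharTwo.add_self_eq_zero, R.x_zero hZ hik, R.x_zero hZ hjk, one_mul]
  have h2 : R.x i k (a + a') = R.x j k (c + c') := by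
    rw [mul_eq_one_iff_eq_inv, R.x_inv hjk] at h1
    exact h1
  have h3 := R.conj hZ hij hjk hik 1 (c + c')
  have h4 : R.x i j 1 * R.x i k (a + a') * (R.x i j 1)⁻¹ = R.x i k (a + a') := by
    rw [R.comm hZ hij hik hij.symm hik, mul_inv_cancel_right]
  rw [h2] at h4
  rw [h4, one_mul] at h3
  have h5 : R.x i k (c + c') = 1 := mul_eq_right.1 h3.symm
  rw [R.x_eq_one hZ hik] at h5
  have hc : c = c' := CharTwo.add_eq_zero.1 h5
  rw [h5, R.x_zero hZ hjk] at h2
  have h6 := (R.x_eq_one hZ hik).1 h2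
  exact ⟨CharTwo.add_eq_zero.1 h6, hc⟩

theorem card_Row [Finite F] (i : Fin 3) : Nat.card (R.Row i) = Nat.card F ^ 2 := by
  obtain ⟨j, hji, -⟩ := exists_third i i
  obtain ⟨k, hki, hkj⟩ := exists_third i j
  have e : (F × F) ≃ R.Row i := Equiv.ofBijective
    (fun p => ⟨R.x i j p.1 * R.x i k p.2, (R.mem_Row hZ hji.symm hki.symm hkj.symm).2 ⟨_, _, rfl⟩⟩)
    (by
      constructor
      · rintro ⟨a, c⟩ ⟨a', c'⟩ h
        obtain ⟨rfl, rfl⟩ := (R.row_inj hZ hji.symm hki.symm hkj.symm).1 (congrArg Subtype.val h)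
        rfl
      · rintro ⟨g, hg⟩
        obtain ⟨a, c, rfl⟩ := (R.mem_Row hZ hji.symm hki.symm hkj.symm).1 hg
        exact ⟨(a, c), rfl⟩)
  rw [← Nat.card_congr e, Nat.card_prod]
  ring

theorem card_Col [Finite F] (k : Fin 3) : Nat.card (R.Col k) = Nat.card F ^ 2 := by
  obtain ⟨j, hjk, -⟩ := exists_third k k
  obtain ⟨i, hik, hij⟩ := exists_third k j
  have e : (F × F) ≃ R.Col k := Equiv.ofBijective
    (fun p => ⟨R.x i k p.1 * R.x j k p.2, (R.mem_Col hZ hij hik hjk).2 ⟨_, _, rfl⟩⟩)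
    (by
      constructor
      · rintro ⟨a, c⟩ ⟨a', c'⟩ h
        obtain ⟨rfl, rfl⟩ := (R.col_inj hZ hij hik hjk).1 (congrArg Subtype.val h)
        rfl
      · rintro ⟨g, hg⟩
        obtain ⟨a, c, rfl⟩ := (R.mem_Col hZ hij hik hjk).1 hg
        exact ⟨(a, c), rfl⟩)
  rw [← Nat.card_congr e, Nat.card_prod]
  ring

theorem Row_sq {i : Fin 3} {g : G} (hg : g ∈ R.Row i) : g * g = 1 := by
  obtain ⟨j, hji, -⟩ := exists_third i i
  obtain ⟨k, hki, hkj⟩ := exists_third i j
  obtain ⟨a, c, rfl⟩ := (R.mem_Row hZ hji.symm hki.symm hkj.symm).1 hg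
  rw [R.row_mul hZ hji.symm hki.symm, CharTwo.add_self_eq_zero,
    CharTwo.add_self_eq_zero, R.x_zero hZ hji.symm, R.x_zero hZ hki.symm, one_mul]

theorem Col_sq {k : Fin 3} {g : G} (hg : g ∈ R.Col k) : g * g = 1 := by
  obtain ⟨j, hjk, -⟩ := exists_third k k
  obtain ⟨i, hik, hij⟩ := exists_third k j
  obtain ⟨a, c, rfl⟩ := (R.mem_Col hZ hij hik hjk).1 hg
  rw [R.col_mul hZ hik hjk, CharTwo.add_self_eq_zero,
    CharTwo.add_self_eq_zero, R.x_zero hZ hik, R.x_zero hZ hjk, one_mul]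

omit [CharP F 2] hZ in
theorem comm_of_sq {X : Type*} [Group X] {H : Subgroup X} (h : ∀ g ∈ H, g * g = 1) {a b : X}
    (ha : a ∈ H) (hb : b ∈ H) : a * b = b * a := by
  have h1 := h _ (mul_mem ha hb)
  have h2 : (a * b)⁻¹ = a * b := inv_eq_of_mul_eq_one_left h1
  rw [_root_.mul_inv_rev, inv_eq_of_mul_eq_one_left (h _ ha), inv_eq_of_mul_eq_one_left (h _ hb)] at h2
  exact h2.symm

theorem Row_comm {i : Fin 3} {a b : G} (ha : a ∈ R.Row i) (hb : b ∈ R.Row i) : a * b = b * a :=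
  comm_of_sq (fun _ h => R.Row_sq hZ h) ha hb

theorem Col_comm {i : Fin 3} {a b : G} (ha : a ∈ R.Col i) (hb : b ∈ R.Col i) : a * b = b * a :=
  comm_of_sq (fun _ h => R.Col_sq hZ h) ha hb

/-- `E₁ = Row 0` in coordinates. -/
theorem mem_Row_zero {g : G} : g ∈ R.Row 0 ↔ ∃ a c : F, g = R.el a 0 c := by
  rw [R.mem_Row hZ h01 h02 h12]
  simp only [el, R.x_zero hZ h12, mul_one]

/-- `E₂ = Col 2` in coordinates. -/
theorem mem_Col_two {g : G} : g ∈ R.Col 2 ↔ ∃ b c : F, g = R.el 0 b c := by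
  rw [R.mem_Col hZ h01 h02 h12]
  constructor
  · rintro ⟨a, c, rfl⟩
    refine ⟨c, a, ?_⟩
    rw [el, R.x_zero hZ h01, one_mul, R.comm hZ h02 h12 (by decide) (by decide)]
  · rintro ⟨b, c, rfl⟩
    refine ⟨c, b, ?_⟩
    rw [el, R.x_zero hZ h01, one_mul, R.comm hZ h02 h12 (by decide) (by decide)]

omit [CharP F 2] hZ in
theorem Row_zero_le_U : R.Row 0 ≤ R.U := by
  rw [Row, Subgroup.closure_le]
  rintro g ⟨j, h, s, rfl⟩
  exact R.x_mem_U (Fin.pos_of_ne_zero (Ne.symm h)) s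

omit [CharP F 2] hZ in
theorem Col_two_le_U : R.Col 2 ≤ R.U := by
  rw [Col, Subgroup.closure_le]
  rintro g ⟨j, h, s, rfl⟩
  exact R.x_mem_U (by revert h; revert j; decide) s

/-- Involutions of `U` lie in `E₁` or `E₂`. -/
theorem mem_Row_or_Col {g : G} (hg : g ∈ R.U) (h : g * g = 1) : g ∈ R.Row 0 ∨ g ∈ R.Col 2 := by
  obtain ⟨a, b, c, rfl⟩ := (R.mem_U hZ).1 hg
  rw [R.el_sq hZ, R.x_eq_one hZ h02] at h
  rcases mul_eq_zero.1 h with h1 | h1
  · subst h1
    exact Or.inr ((R.mem_Col_two hZ).2 ⟨_, _, rfl⟩)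
  · subst h1
    exact Or.inl ((R.mem_Row_zero hZ).2 ⟨_, _, rfl⟩)

omit [CharP F 2] hZ in
theorem le_or_le_of_union {X : Type*} [Group X] {P H K : Subgroup X}
    (h : ∀ g ∈ P, g ∈ H ∨ g ∈ K) : P ≤ H ∨ P ≤ K := by
  by_contra hcon
  rw [not_or] at hcon
  obtain ⟨h1, h2⟩ := hcon
  obtain ⟨a, ha, haH⟩ := SetLike.not_le_iff_exists.1 h1
  obtain ⟨b, hb, hbK⟩ := SetLike.not_le_iff_exists.1 h2
  have haK := (h a ha).resolve_left haH
  have hbH := (h b hb).resolve_right hbK
  rcases h _ (mul_mem ha hb) with h3 | h3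
  · exact haH ((Subgroup.mul_mem_cancel_right _ hbH).1 h3)
  · exact hbK ((Subgroup.mul_mem_cancel_left _ haK).1 h3)

/-- Elementary abelian subgroups of `U` lie in `E₁` or `E₂`. -/
theorem le_Row_or_Col {P : Subgroup G} (hP : P ≤ R.U) (h : ∀ g ∈ P, g * g = 1) :
    P ≤ R.Row 0 ∨ P ≤ R.Col 2 :=
  le_or_le_of_union fun g hg => R.mem_Row_or_Col hZ (hP hg) (h g hg)

/-- The same for subgroups of `K × U`, `K` centralising `U`: if all elements of `P ≤ K U` are involutions
or `1` and `K ∩ U = 1`, the `U`-parts lie in `E₁` or in `E₂`. -/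
theorem le_Row_or_Col' {K P : Subgroup G} (hK : ∀ k ∈ K, ∀ u ∈ R.U, k * u = u * k)
    (hKU : K ⊓ R.U = ⊥) (hP : P ≤ K ⊔ R.U) (h : ∀ g ∈ P, g * g = 1) :
    P ≤ K ⊔ R.Row 0 ∨ P ≤ K ⊔ R.Col 2 := by
  have hnorm : ∀ {H : Subgroup G}, H ≤ R.U → ∀ g, g ∈ K ⊔ H → ∃ k ∈ K, ∃ u ∈ H, g = k * u := by
    intro H hH g hg
    refine Subgroup.closure_induction (p := fun g _ => ∃ k ∈ K, ∃ u ∈ H, g = k * u) ?_ ?_ ?_ ?_
      (by rwa [Subgroup.sup_eq_closure] at hg)
    · rintro g (hg | hg)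
      · exact ⟨g, hg, 1, one_mem _, (mul_one g).symm⟩
      · exact ⟨1, one_mem _, g, hg, (one_mul g).symm⟩
    · exact ⟨1, one_mem _, 1, one_mem _, (one_mul 1).symm⟩
    · rintro x y _ _ ⟨k, hk, u, hu, rfl⟩ ⟨k', hk', u', hu', rfl⟩
      refine ⟨k * k', mul_mem hk hk', u * u', mul_mem hu hu', ?_⟩
      calc k * u * (k' * u') = k * (u * k') * u' := by group
        _ = k * (k' * u) * u' := by rw [hK k' hk' u (hH hu)]
        _ = k * k' * (u * u') := by group
    · rintro x _ ⟨k, hk, u, hu, rfl⟩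
      refine ⟨k⁻¹, inv_mem hk, u⁻¹, inv_mem hu, ?_⟩
      rw [_root_.mul_inv_rev, hK _ (inv_mem hk) _ (inv_mem (hH hu))]
  apply le_or_le_of_union
  intro g hg
  obtain ⟨k, hk, u, hu, rfl⟩ := hnorm le_rfl g (hP hg)
  have h1 := h _ hg
  have h2 : (k * k) * (u * u) = 1 := by
    calc (k * k) * (u * u) = k * (k * u) * u := by group
      _ = k * (u * k) * u := by rw [hK k hk u hu]
      _ = k * u * (k * u) := by group
      _ = 1 := h1
  have h3 : u * u = 1 := by
    have h4 : u * u ∈ K ⊓ R.U := by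
      refine Subgroup.mem_inf.2 ⟨?_, mul_mem hu hu⟩
      rw [mul_eq_one_iff_eq_inv.1 (show (u * u) * (k * k) = 1 by
        rw [← h2, hK _ (mul_mem hk hk) _ (mul_mem hu hu)])]
      exact inv_mem (mul_mem hk hk)
    rw [hKU] at h4
    exact Subgroup.mem_bot.1 h4
  rcases R.mem_Row_or_Col hZ hu h3 with h4 | h4
  · exact Or.inl (mul_mem (Subgroup.mem_sup_left hk) (Subgroup.mem_sup_right h4))
  · exact Or.inr (mul_mem (Subgroup.mem_sup_left hk) (Subgroup.mem_sup_right h4))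

/-- The rank one group of `x j k`, `x k j`. -/
def Lev (R : FrameL3 A F) (j k : Fin 3) : Subgroup G :=
  Subgroup.closure {g | ∃ s : F, g = R.x j k s ∨ g = R.x k j s}

omit [CharP F 2] hZ in
theorem Lev_le {j k : Fin 3} (h : j ≠ k) : R.Lev j k ≤ A := by
  rw [Lev, Subgroup.closure_le]
  rintro g ⟨s, rfl | rfl⟩
  · exact R.mem h s
  · exact R.mem h.symm s

/-- `Lev j k` is transitive on the involutions of row `i`. -/
theorem row_transitive {i j k : Fin 3} (hij : i ≠ j) (hik : i ≠ k) (hjk : j ≠ k) {a c : F}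
    (h : a ≠ 0 ∨ c ≠ 0) :
    ∃ g ∈ R.Lev j k, g * (R.x i j a * R.x i k c) * g⁻¹ = R.x i j 1 := by
  have act1 : ∀ t a c : F, R.x j k t * (R.x i j a * R.x i k c) * (R.x j k t)⁻¹
      = R.x i j a * R.x i k (c + a * t) := by
    intro t a c
    have e1 := R.conj' hZ hij hjk hik a t
    have e2 := R.comm hZ hjk hik hik.symm hjk t c
    have e3 := R.comm hZ hik hij hik.symm hij (a * t) a
    calc R.x j k t * (R.x i j a * R.x i k c) * (R.x j k t)⁻¹
        = (R.x j k t * R.x i j a * (R.x j k t)⁻¹) * ((R.x j k t * R.x i k c) * (R.x j k t)⁻¹) := by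
          group
      _ = R.x i j a * R.x i k (a * t) * R.x i k c := by rw [e1, e2, e3, mul_inv_cancel_right]
      _ = _ := by rw [mul_assoc, R.add hZ hik, add_comm]
  have act2 : ∀ t a c : F, R.x k j t * (R.x i j a * R.x i k c) * (R.x k j t)⁻¹
      = R.x i j (a + c * t) * R.x i k c := by
    intro t a c
    have e1 := R.conj' hZ hik hjk.symm hij c t
    have e2 := R.comm hZ hjk.symm hij hij.symm hjk.symm t a
    calc R.x k j t * (R.x i j a * R.x i k c) * (R.x k j t)⁻¹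
        = ((R.x k j t * R.x i j a) * (R.x k j t)⁻¹) * (R.x k j t * R.x i k c * (R.x k j t)⁻¹) := by
          group
      _ = R.x i j a * (R.x i j (c * t) * R.x i k c) := by rw [e1, e2, mul_inv_cancel_right]
      _ = _ := by rw [← mul_assoc, R.add hZ hij]
  have m1 : ∀ t, R.x j k t ∈ R.Lev j k := fun t => Subgroup.subset_closure ⟨t, Or.inl rfl⟩
  have m2 : ∀ t, R.x k j t ∈ R.Lev j k := fun t => Subgroup.subset_closure ⟨t, Or.inr rfl⟩
  -- from (1, c) to (1, 0)
  have step : ∀ c : F, ∃ g ∈ R.Lev j k, g * (R.x i j 1 * R.x i k c) * g⁻¹ = R.x i j 1 := by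
    intro c
    refine ⟨_, m1 c, ?_⟩
    rw [act1, one_mul, CharTwo.add_self_eq_zero, R.x_zero hZ hik, mul_one]
  by_cases hc : c = 0
  · have ha : a ≠ 0 := h.resolve_right (fun h => h hc)
    subst hc
    -- (a,0) → (a,1) → (1,1)
    obtain ⟨g, hg, he⟩ := step 1
    refine ⟨g * (R.x k j (a + 1) * R.x j k a⁻¹), mul_mem hg (mul_mem (m2 _) (m1 _)), ?_⟩
    have e1 := act1 a⁻¹ a 0
    rw [zero_add, mul_inv_cancel₀ ha] at e1
    have e2 := act2 (a + 1) a 1
    rw [one_mul, ← add_assoc, CharTwo.add_self_eq_zero, zero_add] at e2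
    calc g * (R.x k j (a + 1) * R.x j k a⁻¹) * (R.x i j a * R.x i k 0) *
          (g * (R.x k j (a + 1) * R.x j k a⁻¹))⁻¹
        = g * (R.x k j (a + 1) * (R.x j k a⁻¹ * (R.x i j a * R.x i k 0) * (R.x j k a⁻¹)⁻¹) *
            (R.x k j (a + 1))⁻¹) * g⁻¹ := by group
      _ = R.x i j 1 := by rw [e1, e2, he]
  · obtain ⟨g, hg, he⟩ := step c
    refine ⟨g * R.x k j (c⁻¹ * (a + 1)), mul_mem hg (m2 _), ?_⟩
    have e2 := act2 (c⁻¹ * (a + 1)) a c
    rw [mul_inv_cancel_left₀ hc, ← add_assoc, CharTwo.add_self_eq_zero, zero_add] at e2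
    calc g * R.x k j (c⁻¹ * (a + 1)) * (R.x i j a * R.x i k c) * (g * R.x k j (c⁻¹ * (a + 1)))⁻¹
        = g * (R.x k j (c⁻¹ * (a + 1)) * (R.x i j a * R.x i k c) *
            (R.x k j (c⁻¹ * (a + 1)))⁻¹) * g⁻¹ := by group
      _ = R.x i j 1 := by rw [e2, he]

/-- `Lev i j` is transitive on the involutions of column `k`. -/
theorem col_transitive {i j k : Fin 3} (hij : i ≠ j) (hik : i ≠ k) (hjk : j ≠ k) {a c : F}
    (h : a ≠ 0 ∨ c ≠ 0) :
    ∃ g ∈ R.Lev i j, g * (R.x i k a * R.x j k c) * g⁻¹ = R.x i k 1 := by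
  have act1 : ∀ t a c : F, R.x j i t * (R.x i k a * R.x j k c) * (R.x j i t)⁻¹
      = R.x i k a * R.x j k (c + t * a) := by
    intro t a c
    have e1 := R.conj hZ hij.symm hik hjk t a
    have e2 := R.comm hZ hij.symm hjk hij hjk t c
    have e3 := R.comm hZ hjk hik hik.symm hjk (t * a) a
    calc R.x j i t * (R.x i k a * R.x j k c) * (R.x j i t)⁻¹
        = (R.x j i t * R.x i k a * (R.x j i t)⁻¹) * ((R.x j i t * R.x j k c) * (R.x j i t)⁻¹) := by
          group
      _ = R.x i k a * R.x j k (t * a) * R.x j k c := by rw [e1, e2, e3, mul_inv_cancel_right]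
      _ = _ := by rw [mul_assoc, R.add hZ hjk, add_comm]
  have act2 : ∀ t a c : F, R.x i j t * (R.x i k a * R.x j k c) * (R.x i j t)⁻¹
      = R.x i k (a + t * c) * R.x j k c := by
    intro t a c
    have e1 := R.conj hZ hij hjk hik t c
    have e2 := R.comm hZ hij hik hij.symm hik t a
    calc R.x i j t * (R.x i k a * R.x j k c) * (R.x i j t)⁻¹
        = ((R.x i j t * R.x i k a) * (R.x i j t)⁻¹) * (R.x i j t * R.x j k c * (R.x i j t)⁻¹) := by
          group
      _ = R.x i k a * (R.x i k (t * c) * R.x j k c) := by rw [e1, e2, mul_inv_cancel_right]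
      _ = _ := by rw [← mul_assoc, R.add hZ hik]
  have m1 : ∀ t, R.x j i t ∈ R.Lev i j := fun t => Subgroup.subset_closure ⟨t, Or.inr rfl⟩
  have m2 : ∀ t, R.x i j t ∈ R.Lev i j := fun t => Subgroup.subset_closure ⟨t, Or.inl rfl⟩
  have step : ∀ c : F, ∃ g ∈ R.Lev i j, g * (R.x i k 1 * R.x j k c) * g⁻¹ = R.x i k 1 := by
    intro c
    refine ⟨_, m1 c, ?_⟩
    rw [act1, mul_one, CharTwo.add_self_eq_zero, R.x_zero hZ hjk, mul_one]
  by_cases hc : c = 0
  · have ha : a ≠ 0 := h.resolve_right (fun h => h hc)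
    subst hc
    obtain ⟨g, hg, he⟩ := step 1
    refine ⟨g * (R.x i j (a + 1) * R.x j i a⁻¹), mul_mem hg (mul_mem (m2 _) (m1 _)), ?_⟩
    have e1 := act1 a⁻¹ a 0
    rw [zero_add, inv_mul_cancel₀ ha] at e1
    have e2 := act2 (a + 1) a 1
    rw [mul_one, ← add_assoc, CharTwo.add_self_eq_zero, zero_add] at e2
    calc g * (R.x i j (a + 1) * R.x j i a⁻¹) * (R.x i k a * R.x j k 0) *
          (g * (R.x i j (a + 1) * R.x j i a⁻¹))⁻¹
        = g * (R.x i j (a + 1) * (R.x j i a⁻¹ * (R.x i k a * R.x j k 0) * (R.x j i a⁻¹)⁻¹) *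
            (R.x i j (a + 1))⁻¹) * g⁻¹ := by group
      _ = R.x i k 1 := by rw [e1, e2, he]
  · obtain ⟨g, hg, he⟩ := step c
    refine ⟨g * R.x i j ((a + 1) * c⁻¹), mul_mem hg (m2 _), ?_⟩
    have e2 := act2 ((a + 1) * c⁻¹) a c
    rw [inv_mul_cancel_right₀ hc, ← add_assoc, CharTwo.add_self_eq_zero, zero_add] at e2
    calc g * R.x i j ((a + 1) * c⁻¹) * (R.x i k a * R.x j k c) * (g * R.x i j ((a + 1) * c⁻¹))⁻¹
        = g * (R.x i j ((a + 1) * c⁻¹) * (R.x i k a * R.x j k c) *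
            (R.x i j ((a + 1) * c⁻¹))⁻¹) * g⁻¹ := by group
      _ = R.x i k 1 := by rw [e2, he]

/-- An element of `A` moving `x i j s` into the row group of `i` lies in the parabolic subgroup fixing the
point `e_i`: it is `u * y` or `u * y * w j k 1 * x j k b'`, `u = x i k d * x i j a * x j k b`, `y` a torus
element. -/
theorem parabolic_row {i j k : Fin 3} (hij : i ≠ j) (hik : i ≠ k) (hjk : j ≠ k) {g : G}
    (hg : g ∈ A) {s a₀ c₀ : F} (hs : s ≠ 0)
    (h : g * R.x i j s * g⁻¹ = R.x i j a₀ * R.x i k c₀) :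
    ∃ (a b d : F) (c : Fin 3 → F) (y : G), R.Tor y c ∧
      (g = R.x i k d * R.x i j a * R.x j k b * y ∨
        ∃ b' : F, g = R.x i k d * R.x i j a * R.x j k b * y * R.w j k 1 * R.x j k b') := by
  obtain ⟨M, hM⟩ := pr_surjective (R.f ⟨g, hg⟩)
  have h1 : R.f (⟨g, hg⟩ * R.X hij s * (⟨g, hg⟩ : ↥A)⁻¹) = R.f (R.X hij a₀ * R.X hik c₀) := by
    congr 1
    exact Subtype.ext h
  rw [map_mul, map_mul, map_inv, map_mul, R.f_X, R.f_X, R.f_X, ← hM, ← map_inv, ← map_mul,
    ← map_mul, ← map_mul] at h1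
  have h2 := col_of_conj hij hik hs h1
  obtain ⟨c, hc, a, b, d, h3⟩ := parabolic_decomp hij hik hjk h2
  rcases h3 with h3 | ⟨b', h3⟩
  · have hyA : (R.x j k b)⁻¹ * (R.x i j a)⁻¹ * (R.x i k d)⁻¹ * g ∈ A :=
      mul_mem (mul_mem (mul_mem (inv_mem (R.mem hjk b)) (inv_mem (R.mem hij a)))
        (inv_mem (R.mem hik d))) hg
    have hTor : R.Tor ((R.x j k b)⁻¹ * (R.x i j a)⁻¹ * (R.x i k d)⁻¹ * g) c := by
      refine ⟨hyA, hc, ?_⟩
      have h6 : (⟨(R.x j k b)⁻¹ * (R.x i j a)⁻¹ * (R.x i k d)⁻¹ * g, hyA⟩ : ↥A)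
          = (R.X hjk b)⁻¹ * (R.X hij a)⁻¹ * (R.X hik d)⁻¹ * ⟨g, hg⟩ := rfl
      rw [h6, map_mul, map_mul, map_mul, map_inv, map_inv, map_inv, R.f_X, R.f_X, R.f_X, ← hM, h3,
        map_mul, map_mul, map_mul]
      group
    exact ⟨a, b, d, c, _, hTor, Or.inl (by group)⟩
  · have hyA : (R.x j k b)⁻¹ * (R.x i j a)⁻¹ * (R.x i k d)⁻¹ * g * (R.x j k b')⁻¹ *
        (R.w j k 1)⁻¹ ∈ A :=
      mul_mem (mul_mem (mul_mem (mul_mem (mul_mem (inv_mem (R.mem hjk b)) (inv_mem (R.mem hij a)))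
        (inv_mem (R.mem hik d))) hg) (inv_mem (R.mem hjk b'))) (inv_mem (R.w_mem hjk 1))
    have hTor : R.Tor ((R.x j k b)⁻¹ * (R.x i j a)⁻¹ * (R.x i k d)⁻¹ * g * (R.x j k b')⁻¹ *
        (R.w j k 1)⁻¹) c := by
      refine ⟨hyA, hc, ?_⟩
      have h6 : (⟨(R.x j k b)⁻¹ * (R.x i j a)⁻¹ * (R.x i k d)⁻¹ * g * (R.x j k b')⁻¹ *
          (R.w j k 1)⁻¹, hyA⟩ : ↥A)
          = (R.X hjk b)⁻¹ * (R.X hij a)⁻¹ * (R.X hik d)⁻¹ * ⟨g, hg⟩ * (R.X hjk b')⁻¹ *
            (⟨R.w j k 1, R.w_mem hjk 1⟩ : ↥A)⁻¹ := rfl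
      rw [h6, map_mul, map_mul, map_mul, map_mul, map_mul, map_inv, map_inv, map_inv, map_inv,
        map_inv, R.f_X, R.f_X, R.f_X, R.f_X, R.f_w hjk, ← hM, h3,
        map_mul, map_mul, map_mul, map_mul, map_mul]
      group
    exact ⟨a, b, d, c, _, hTor, Or.inr ⟨b', by group⟩⟩

/-- The centraliser of row `i` in `A`. -/
theorem centralizer_Row [Finite F] {i j k : Fin 3} (hij : i ≠ j) (hik : i ≠ k) (hjk : j ≠ k) {g : G}
    (hg : g ∈ A) (h1 : g * R.x i j 1 = R.x i j 1 * g) (h2 : g * R.x i k 1 = R.x i k 1 * g) :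
    ∃ (a c : F) (z : G), z ∈ A ∧ (∀ a ∈ A, z * a = a * z) ∧ g = R.x i j a * R.x i k c * z := by
  obtain ⟨a, b, d, c, y, hy, hc, he⟩ := R.borel hZ (s := 1) (t := 1) hik hij hjk hg one_ne_zero
    (by rw [h2, mul_inv_cancel_right])
  -- g = x i k d * x i j a * x j k b * y, c i = c k
  have e0 : R.x i j (c i * 1 * (c j)⁻¹) = y * R.x i j 1 * y⁻¹ := (hy.conj hZ hij 1).symm
  have e1 := R.conj' hZ hij hjk hik (c i * 1 * (c j)⁻¹) b
  have e2 : g * R.x i j 1 * g⁻¹ = R.x i j 1 := by rw [h1, mul_inv_cancel_right]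
  have e3 : g * R.x i j 1 * g⁻¹
      = R.x i j (c i * 1 * (c j)⁻¹) * R.x i k (c i * 1 * (c j)⁻¹ * b) := by
    have r1 : R.x i j (c i * 1 * (c j)⁻¹) ∈ R.Row i := R.x_mem_Row hij _
    have r2 : R.x i k (c i * 1 * (c j)⁻¹ * b) ∈ R.Row i := R.x_mem_Row hik _
    have r3 : R.x i k d * R.x i j a ∈ R.Row i := mul_mem (R.x_mem_Row hik _) (R.x_mem_Row hij _)
    have r4 := R.Row_comm hZ r3 (mul_mem r2 r1)
    calc g * R.x i j 1 * g⁻¹
        = (R.x i k d * R.x i j a) * (R.x j k b * (y * R.x i j 1 * y⁻¹) * (R.x j k b)⁻¹) *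
            (R.x i k d * R.x i j a)⁻¹ := by rw [he]; group
      _ = R.x i k (c i * 1 * (c j)⁻¹ * b) * R.x i j (c i * 1 * (c j)⁻¹) := by
          rw [← e0, e1, r4, mul_inv_cancel_right]
      _ = _ := R.Row_comm hZ r2 r1
  rw [e2] at e3
  have e4 : R.x i j 1 * R.x i k 0 = R.x i j 1 := by rw [R.x_zero hZ hik, mul_one]
  rw [← e4] at e3
  have e5 := (R.row_inj hZ hij hik hjk).1 e3
  have hcj := hy.ne_zero j
  have hck := hy.ne_zero k
  have hci := hy.ne_zero i
  have f1 : c i = c j := by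
    have := e5.1.symm
    rw [mul_one] at this
    exact (mul_inv_eq_one₀ hcj).1 this
  have f2 : b = 0 := by
    have := e5.2.symm
    rcases mul_eq_zero.1 this with h | h
    · exfalso
      rw [e5.1.symm] at h
      exact one_ne_zero h
    · exact h
  have f3 : c i = c k := by
    rw [mul_one] at hc
    exact (mul_inv_eq_one₀ hck).1 hc
  have hcent : c 0 = c 1 ∧ c 1 = c 2 := by
    have : ∀ l, c l = c i := by
      intro l
      by_cases h1 : l = k
      · rw [h1, f3]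
      · by_cases h2 : l = i
        · rw [h2]
        · rw [fin3_eq i j k l hij hik hjk h1 h2, f1]
    exact ⟨(this 0).trans (this 1).symm, (this 1).trans (this 2).symm⟩
  refine ⟨a, d, y, hy.mem, hy.central hcent.1 hcent.2, ?_⟩
  rw [he, f2, R.x_zero hZ hjk, mul_one, R.comm hZ hik hij hik.symm hij]

end Odd

end Cfsg.Agent.StdRank2.FrameL3
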