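import Mathlib
import Cfsg.Agent.StdRank2.L3Env

/-!
# Type `L₃(q)`: the normaliser of `J = U × ⟨t⟩`

If some element of `N(J)` does not commute with `t`, then for every `u` there is an element which
centralises `U` and maps `t` to `t z(u)`.
-/

set_option autoImplicit false
set_option linter.unusedSectionVars false
set_option linter.dupNamespace false

namespace Cfsg.Agent.StdRank2.L3Norm

open Subgroup Cfsg.Agent.StdRank2.L3Env

variable {X : Type*} [Group X] {F : Type*} [Field F] [Finite F] [CharP F 2] (E : Env X F)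

theorem z_conj_one {u : F} (hu : u ≠ 0) : ∃ g, g * E.t = E.t * g ∧ g * E.z u * g⁻¹ = E.z 1 := by
  have h := E.inv_conj 0 0 u (by rw [E.el_sq, mul_zero, E.z_zero]) (fun h => hu (E.z_eq_one h))
  exact h

/-- `t` is not conjugate to an involution of `U`. -/
theorem not_conj_el (g : X) (a b c : F) : g * E.t * g⁻¹ ≠ E.el a b c := by
  intro h
  have h1 : E.el a b c * E.el a b c = 1 := by
    rw [← h]
    calc g * E.t * g⁻¹ * (g * E.t * g⁻¹) = g * (E.t * E.t) * g⁻¹ := by group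
      _ = 1 := by rw [E.t_sq]; group
  have h2 : E.el a b c ≠ 1 := by
    rw [← h]
    intro h3
    exact E.t_ne_one (by rwa [mul_inv_eq_one, mul_eq_left] at h3)
  obtain ⟨k, _, hk⟩ := E.inv_conj a b c h1 h2
  refine E.t_z (k * g) ?_
  rw [← hk, ← h]
  group

/-- the basic situation. -/
structure Nor (n : X) : Prop where
  el : ∀ a b c, ∃ a' b' c', n * E.el a b c * n⁻¹ = E.el a' b' c'
  el' : ∀ a b c, ∃ a' b' c', n⁻¹ * E.el a b c * n = E.el a' b' c'
  t : ∃ u, n * E.t * n⁻¹ = E.t * E.z u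
  t' : ∃ u, n⁻¹ * E.t * n = E.t * E.z u

variable {E}

theorem t_of_mem {n : X} (hn : n ∈ normalizer (E.J : Set X)) :
    ∃ u, n * E.t * n⁻¹ = E.t * E.z u := by
  have h1 : n * E.t * n⁻¹ ∈ E.J := (mem_normalizer_iff.mp hn _).mp E.t_mem_J
  have h2 : ∀ a b c, n * E.t * n⁻¹ * E.el a b c = E.el a b c * (n * E.t * n⁻¹) := by
    intro a b c
    have h3 : n⁻¹ * E.el a b c * n ∈ E.J := by
      rw [mem_normalizer_iff.mp hn]
      have : n * (n⁻¹ * E.el a b c * n) * n⁻¹ = E.el a b c := by group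
      rw [this]
      exact E.el_mem_J _ _ _
    have h4 : ∀ x ∈ E.J, E.t * x = x * E.t := by
      rintro x ⟨a, b, c, rfl | rfl⟩
      · exact E.t_el _ _ _
      · rw [mul_assoc, ← E.t_el]
    have h5 := h4 _ h3
    calc n * E.t * n⁻¹ * E.el a b c = n * (E.t * (n⁻¹ * E.el a b c * n)) * n⁻¹ := by group
      _ = _ := by rw [h5]; group
  obtain ⟨c, hc | hc⟩ := E.mem_center_J h1 h2
  · exact absurd hc (not_conj_el E n 0 0 c)
  · exact ⟨c, hc⟩

/-- an element of `N(J)` moving `t` maps the involutions of `U` into `U`. -/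
theorem inv_of_mem {n : X} (hn : n ∈ normalizer (E.J : Set X)) (hnt : n * E.t ≠ E.t * n)
    {a b c : F} (h : E.el a b c * E.el a b c = 1) :
    ∃ a' b' c', n * E.el a b c * n⁻¹ = E.el a' b' c' := by
  obtain ⟨u, hu⟩ := t_of_mem hn
  have hu0 : u ≠ 0 := by
    rintro rfl
    rw [E.z_zero, mul_one, mul_inv_eq_iff_eq_mul] at hu
    exact hnt hu
  obtain ⟨a', b', c', h1 | h1⟩ : n * E.el a b c * n⁻¹ ∈ E.J :=
    (mem_normalizer_iff.mp hn _).mp (E.el_mem_J _ _ _)
  · exact ⟨_, _, _, h1⟩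
  exfalso
  have hsq : E.el a' b' c' * E.el a' b' c' = 1 := by
    rw [← E.tel_mul, ← h1]
    calc n * E.el a b c * n⁻¹ * (n * E.el a b c * n⁻¹) = n * (E.el a b c * E.el a b c) * n⁻¹ := by
          group
      _ = 1 := by rw [h]; group
  by_cases h0 : E.el a' b' c' = 1
  · rw [h0, mul_one] at h1
    refine not_conj_el E n⁻¹ a b c ?_
    rw [← h1]; group
  · -- `el a b c ~ t z 1`, `t ~ t z 1`
    obtain ⟨k, hk1, hk⟩ := E.inv_conj _ _ _ hsq h0
    obtain ⟨g, hg1, hg⟩ := z_conj_one E hu0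
    have e1 : g * n * E.t * (g * n)⁻¹ = E.t * E.z 1 := by
      calc g * n * E.t * (g * n)⁻¹ = g * (n * E.t * n⁻¹) * g⁻¹ := by group
        _ = (g * E.t) * g⁻¹ * (g * E.z u * g⁻¹) := by rw [hu]; group
        _ = _ := by rw [hg, hg1, mul_inv_cancel_right]
    have e2 : k * n * E.el a b c * (k * n)⁻¹ = E.t * E.z 1 := by
      calc k * n * E.el a b c * (k * n)⁻¹ = k * (n * E.el a b c * n⁻¹) * k⁻¹ := by group
        _ = (k * E.t) * k⁻¹ * (k * E.el a' b' c' * k⁻¹) := by rw [h1]; group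
        _ = _ := by rw [hk, hk1, mul_inv_cancel_right, Env.z_def]
    refine not_conj_el E ((k * n)⁻¹ * (g * n)) a b c ?_
    calc (k * n)⁻¹ * (g * n) * E.t * ((k * n)⁻¹ * (g * n))⁻¹
        = (k * n)⁻¹ * (g * n * E.t * (g * n)⁻¹) * (k * n) := by group
      _ = (k * n)⁻¹ * (k * n * E.el a b c * (k * n)⁻¹) * (k * n) := by rw [e1, e2]
      _ = _ := by group

theorem el_of_mem {n : X} (hn : n ∈ normalizer (E.J : Set X)) (hnt : n * E.t ≠ E.t * n)
    (a b c : F) : ∃ a' b' c', n * E.el a b c * n⁻¹ = E.el a' b' c' := by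
  obtain ⟨a1, b1, c1, h1⟩ := inv_of_mem (a := a) (b := 0) (c := 0) hn hnt
    (by rw [E.el_sq, mul_zero, E.z_zero])
  obtain ⟨a2, b2, c2, h2⟩ := inv_of_mem (a := 0) (b := b) (c := 0) hn hnt
    (by rw [E.el_sq, zero_mul, E.z_zero])
  obtain ⟨a3, b3, c3, h3⟩ := inv_of_mem (a := 0) (b := 0) (c := c) hn hnt
    (by rw [E.el_sq, zero_mul, E.z_zero])
  have h4 : n * E.el a b c * n⁻¹ = E.el a1 b1 c1 * E.el a2 b2 c2 * E.el a3 b3 c3 := by
    rw [← h1, ← h2, ← h3, E.el_eq, Env.z_def]; group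
  rw [h4, E.el_mul, E.el_mul]
  exact ⟨_, _, _, rfl⟩

theorem inv_comm {n : X} (hnt : n * E.t ≠ E.t * n) : n⁻¹ * E.t ≠ E.t * n⁻¹ := by
  intro h
  apply hnt
  calc n * E.t = n * (E.t * n⁻¹) * n := by group
    _ = E.t * n := by rw [← h]; group

theorem nor_of_mem {n : X} (hn : n ∈ normalizer (E.J : Set X)) (hnt : n * E.t ≠ E.t * n) :
    Nor E n := by
  have hn' := inv_mem hn
  have hnt' := inv_comm hnt
  refine ⟨el_of_mem hn hnt, fun a b c => ?_, t_of_mem hn, ?_⟩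
  · have := el_of_mem hn' hnt' a b c
    rwa [inv_inv] at this
  · have := t_of_mem hn'
    rwa [inv_inv] at this

theorem Nor.inv {n : X} (h : Nor E n) : Nor E n⁻¹ :=
  ⟨fun a b c => by rw [inv_inv]; exact h.el' a b c, fun a b c => by rw [inv_inv]; exact h.el a b c,
    by rw [inv_inv]; exact h.t', by rw [inv_inv]; exact h.t⟩

theorem Nor.z {n : X} (h : Nor E n) (c : F) : ∃ c', n * E.z c * n⁻¹ = E.z c' := by
  obtain ⟨a1, b1, c1, h1⟩ := h.el 0 0 c
  obtain ⟨c', h2 | h2⟩ := E.mem_center_J (x := n * E.z c * n⁻¹) ⟨_, _, _, Or.inl h1⟩ (by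
    intro a b c'
    obtain ⟨a2, b2, c2, h2⟩ := h.el' a b c'
    calc n * E.z c * n⁻¹ * E.el a b c' = n * (E.z c * (n⁻¹ * E.el a b c' * n)) * n⁻¹ := by group
      _ = n * ((n⁻¹ * E.el a b c' * n) * E.z c) * n⁻¹ := by rw [h2, E.z_comm]
      _ = _ := by group)
  · exact ⟨c', h2⟩
  · exact absurd (h2.symm.trans h1) (E.tel_ne _ _ _ _ _ _)

/-- The action of `n` on `U / Z` and `Z`. -/
theorem Nor.exists_maps {n : X} (h : Nor E n) : ∃ f g k : F → F,
    (∀ a b, k (a * b) = f a * g b) ∧ k 1 ≠ 0 ∧ (∀ a b, k (a + b) = k a + k b) ∧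
    (∀ a b, k a = k b → a = b) ∧
    (∀ c, n * E.z c * n⁻¹ = E.z (k c)) ∧
    ((∀ a b c, ∃ c', n * E.el a b c * n⁻¹ = E.el (f a) (g b) c') ∨
      (∀ a b c, ∃ c', n * E.el a b c * n⁻¹ = E.el (g b) (f a) c')) := by
  choose p q r hpqr using h.el
  choose k hk using h.z
  have hkinj : ∀ a b, k a = k b → a = b := by
    intro a b hab
    have h1 := hk a
    rw [hab, ← hk b] at h1
    exact E.z_inj (mul_left_cancel (mul_right_cancel h1))
  have hk0 : k 0 = 0 := by
    have h1 := hk 0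
    rw [E.z_zero, mul_one, mul_inv_cancel] at h1
    exact E.z_eq_one h1.symm
  have hk1 : k 1 ≠ 0 := fun h1 => one_ne_zero (hkinj 1 0 (by rw [h1, hk0]))
  have hkadd : ∀ a b, k (a + b) = k a + k b := by
    intro a b
    apply E.z_inj
    rw [← hk, ← E.z_mul, ← E.z_mul, ← hk a, ← hk b]
    group
  have hadd : ∀ a b a' b', p (a + a') (b + b') 0 = p a b 0 + p a' b' 0 ∧
      q (a + a') (b + b') 0 = q a b 0 + q a' b' 0 := by
    intro a b a' b'
    have h1 : (n * E.el a b 0 * n⁻¹) * (n * E.el a' b' 0 * n⁻¹) =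
        (n * E.el (a + a') (b + b') 0 * n⁻¹) * (n * E.z (a' * b) * n⁻¹) := by
      calc (n * E.el a b 0 * n⁻¹) * (n * E.el a' b' 0 * n⁻¹)
          = n * (E.el a b 0 * E.el a' b' 0) * n⁻¹ := by group
        _ = n * (E.el (a + a') (b + b') 0 * E.z (a' * b)) * n⁻¹ := by
            rw [E.el_mul, E.el_mul_z, add_zero]
        _ = _ := by group
    rw [hpqr, hpqr, hpqr, hk, E.el_mul, E.el_mul_z] at h1
    have h2 := E.el_inj h1
    exact ⟨h2.1.symm, h2.2.1.symm⟩
  have hsqr : ∀ a b, a * b = 0 → p a b 0 * q a b 0 = 0 := by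
    intro a b hab
    have h1 : (n * E.el a b 0 * n⁻¹) * (n * E.el a b 0 * n⁻¹) = 1 := by
      calc (n * E.el a b 0 * n⁻¹) * (n * E.el a b 0 * n⁻¹)
          = n * (E.el a b 0 * E.el a b 0) * n⁻¹ := by group
        _ = 1 := by rw [E.el_sq, hab, E.z_zero]; group
    rw [hpqr, E.el_sq] at h1
    exact E.z_eq_one h1
  have hcomm : ∀ a b, k (a * b) = p a 0 0 * q 0 b 0 + p 0 b 0 * q a 0 0 := by
    intro a b
    have h1 : (n * E.el 0 b 0 * n⁻¹) * (n * E.el a 0 0 * n⁻¹) =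
        (n * E.z (a * b) * n⁻¹) * ((n * E.el a 0 0 * n⁻¹) * (n * E.el 0 b 0 * n⁻¹)) := by
      have h2 := E.el_comm 0 b 0 a 0 0
      rw [zero_mul, add_zero] at h2
      calc (n * E.el 0 b 0 * n⁻¹) * (n * E.el a 0 0 * n⁻¹)
          = n * (E.el 0 b 0 * E.el a 0 0) * n⁻¹ := by group
        _ = _ := by rw [h2]; group
    rw [hpqr, hpqr, hk, E.el_comm] at h1
    exact (E.z_inj (mul_right_cancel h1)).symm
  have hf1 := zero_or_zero (f := fun a => p a 0 0) (g := fun a => q a 0 0)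
    (fun a b => by have := (hadd a 0 b 0).1; rwa [add_zero] at this)
    (fun a b => by have := (hadd a 0 b 0).2; rwa [add_zero] at this)
    (fun a => hsqr a 0 (mul_zero a))
  have hf2 := zero_or_zero (f := fun a => p 0 a 0) (g := fun a => q 0 a 0)
    (fun a b => by have := (hadd 0 a 0 b).1; rwa [add_zero] at this)
    (fun a b => by have := (hadd 0 a 0 b).2; rwa [add_zero] at this)
    (fun a => hsqr 0 a (zero_mul a))
  have hdec : ∀ a b c, ∃ c', n * E.el a b c * n⁻¹ = E.el (p a 0 0 + p 0 b 0) (q a 0 0 + q 0 b 0) c' := by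
    intro a b c
    have h4 : n * E.el a b c * n⁻¹ = (n * E.el a 0 0 * n⁻¹) * (n * E.el 0 b 0 * n⁻¹) *
        (n * E.z c * n⁻¹) := by rw [E.el_eq]; group
    rw [h4, hpqr, hpqr, hk, E.el_mul, E.el_mul_z]
    exact ⟨_, rfl⟩
  have hkk : k (1 * 1) ≠ 0 := by rwa [one_mul]
  rcases hf1 with hf1 | hf1 <;> rcases hf2 with hf2 | hf2
  · exfalso
    apply hkk
    rw [hcomm]
    rw [hf1, hf2, zero_mul, zero_mul, add_zero]
  · -- `f1 = 0`, `g2 = 0`
    refine ⟨fun a => q a 0 0, fun b => p 0 b 0, k, ?_, hk1, hkadd, hkinj, hk, Or.inr ?_⟩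
    · intro a b
      rw [hcomm, hf1, zero_mul, zero_add, mul_comm]
    · intro a b c
      obtain ⟨c', hc'⟩ := hdec a b c
      rw [hf1, hf2, add_zero, zero_add] at hc'
      exact ⟨c', hc'⟩
  · refine ⟨fun a => p a 0 0, fun b => q 0 b 0, k, ?_, hk1, hkadd, hkinj, hk, Or.inl ?_⟩
    · intro a b
      rw [hcomm, hf2, zero_mul, add_zero]
    · intro a b c
      obtain ⟨c', hc'⟩ := hdec a b c
      rw [hf1, hf2, add_zero, zero_add] at hc'
      exact ⟨c', hc'⟩
  · exfalso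
    apply hkk
    rw [hcomm]
    rw [hf1, hf2, mul_zero, mul_zero, add_zero]

/-- a non-trivial element `m` which is trivial on `U / Z` and `Z`, moving `t`. -/
theorem exists_act {n : X} (h : Nor E n) (hnt : n * E.t ≠ E.t * n)
    (hF : ∃ μ : F, μ ≠ 0 ∧ μ ≠ 1) : ∃ m u, u ≠ 0 ∧ E.Act m 1 u := by
  obtain ⟨f, g, k, H, hk1, hkadd, hkinj, hkz, hact⟩ := h.exists_maps
  obtain ⟨μ, hμ0, hμ1⟩ := hF
  obtain ⟨d, hdt, hd, hdel⟩ := E.exists_tor μ hμ0
  have hk0 : k 0 = 0 := by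
    have h1 := hkz 0
    rw [E.z_zero, mul_one, mul_inv_cancel] at h1
    exact E.z_eq_one h1.symm
  set l := k μ / k 1 with hl
  have hl0 : l ≠ 0 := by
    rw [hl]
    refine div_ne_zero (fun h0 => hμ0 ?_) hk1
    exact hkinj μ 0 (by rw [h0, hk0])
  have hl1 : l ≠ 1 := by
    rw [hl]
    intro h0
    rw [div_eq_one_iff_eq hk1] at h0
    exact hμ1 (hkinj _ _ h0)
  obtain ⟨u, hu⟩ := h.t
  obtain ⟨u', hu'⟩ := h.t'
  have hu0 : u ≠ 0 := by
    rintro rfl
    rw [E.z_zero, mul_one, mul_inv_eq_iff_eq_mul] at hu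
    exact hnt hu
  have huu : k u' = u := by
    have h1 : n * (n⁻¹ * E.t * n) * n⁻¹ = E.t := by group
    have h2 : n * (n⁻¹ * E.t * n) * n⁻¹ = (n * E.t * n⁻¹) * (n * E.z u' * n⁻¹) := by
      rw [hu']; group
    rw [h2, hu, hkz, mul_assoc, E.z_mul, mul_eq_left] at h1
    have h3 := E.z_eq_one h1
    rw [CharTwo.add_eq_zero] at h3
    exact h3.symm
  have sem := fun x a => semilinear H hk1 x a
  -- the action of `n d n⁻¹`
  have hd' : E.Act (n * d * n⁻¹) l (u + l * l * u) := by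
    have hz : ∀ c, (n * d * n⁻¹) * E.z c * (n * d * n⁻¹)⁻¹ = E.z (l * l * c) := by
      intro c
      obtain ⟨c', hc'⟩ := h.inv.z c
      rw [inv_inv] at hc'
      have h1 : k c' = c := by
        apply E.z_inj
        rw [← hkz, ← hc']; group
      calc (n * d * n⁻¹) * E.z c * (n * d * n⁻¹)⁻¹ = n * (d * (n⁻¹ * E.z c * n) * d⁻¹) * n⁻¹ := by
            group
        _ = E.z (k (μ * μ * c')) := by rw [hc', hd.z, hkz]
        _ = _ := by rw [mul_assoc μ, (sem μ _).2.2, (sem μ _).2.2, h1, ← hl]; congr 1; ring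
    refine ⟨?_, ?_, hz⟩
    · calc (n * d * n⁻¹) * E.t * (n * d * n⁻¹)⁻¹ = n * (d * (n⁻¹ * E.t * n) * d⁻¹) * n⁻¹ := by
            group
        _ = n * ((d * E.t) * d⁻¹ * (d * E.z u' * d⁻¹)) * n⁻¹ := by rw [hu']; group
        _ = (n * E.t * n⁻¹) * (n * E.z (μ * μ * u') * n⁻¹) := by
            rw [hdt, mul_inv_cancel_right, hd.z]; group
        _ = E.t * E.z (u + l * l * u) := by
            rw [hu, hkz, mul_assoc μ, (sem μ _).2.2, (sem μ _).2.2, huu, ← hl, mul_assoc, E.z_mul]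
            congr 2; ring
    · intro a b c
      obtain ⟨a', b', c', h1⟩ := h.el' a b c
      have e1 : (n * d * n⁻¹) * E.el a b c * (n * d * n⁻¹)⁻¹ =
          n * E.el (μ * a') (μ * b') (μ * μ * c') * n⁻¹ := by
        rw [← hdel, ← h1]; group
      have e2 : E.el a b c = n * E.el a' b' c' * n⁻¹ := by rw [← h1]; group
      rcases hact with hact | hact
      · obtain ⟨c1, h2⟩ := hact a' b' c'
        obtain ⟨c2, h3⟩ := hact (μ * a') (μ * b') (μ * μ * c')
        rw [← e2] at h2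
        obtain ⟨ha, hb, -⟩ := E.el_inj h2
        refine ⟨c2, ?_⟩
        rw [e1, h3, (sem μ _).1, (sem μ _).2.1, ← hl, ha, hb]
      · obtain ⟨c1, h2⟩ := hact a' b' c'
        obtain ⟨c2, h3⟩ := hact (μ * a') (μ * b') (μ * μ * c')
        rw [← e2] at h2
        obtain ⟨ha, hb, -⟩ := E.el_inj h2
        refine ⟨c2, ?_⟩
        rw [e1, h3, (sem μ _).1, (sem μ _).2.1, ← hl, ha, hb]
  obtain ⟨d₂, -, hd₂, -⟩ := E.exists_tor l hl0
  have h1 := hd'.mul (hd₂.inv hl0)
  rw [mul_inv_cancel₀ hl0, mul_zero, mul_zero, add_zero] at h1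
  refine ⟨_, _, ?_, h1⟩
  have h2 : u + l * l * u = (1 + l) * (1 + l) * u := by
    linear_combination (- l * u) * (CharTwo.two_eq_zero : (2 : F) = 0)
  rw [h2]
  have h3 : 1 + l ≠ 0 := by
    rw [Ne, CharTwo.add_eq_zero]; exact fun h => hl1 h.symm
  exact mul_ne_zero (mul_ne_zero h3 h3) hu0

/-- all the values `u` occur. -/
theorem exists_act_all {n : X} (h : Nor E n) (hnt : n * E.t ≠ E.t * n)
    (hF : ∃ μ : F, μ ≠ 0 ∧ μ ≠ 1) (u : F) : ∃ m, E.Act m 1 u := by
  rcases eq_or_ne u 0 with rfl | hu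
  · refine ⟨1, by rw [E.z_zero]; group, fun a b c => ⟨c, ?_⟩, fun c => ?_⟩
    · rw [one_mul, one_mul, one_mul, inv_one, mul_one]
    · rw [one_mul, one_mul, one_mul, inv_one, mul_one]
  · obtain ⟨m, v, hv, hm⟩ := exists_act h hnt hF
    obtain ⟨l, hl⟩ := exists_sq (u / v)
    have hl0 : l ≠ 0 := by
      rintro rfl
      rw [zero_mul] at hl
      exact div_ne_zero hu hv hl.symm
    obtain ⟨d, -, hd, -⟩ := E.exists_tor l hl0
    have h1 := (hd.mul hm).mul (hd.inv hl0)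
    have e1 : l * 1 * l⁻¹ = 1 := by rw [mul_one, mul_inv_cancel₀ hl0]
    have e2 : 0 + l * l * v + l * 1 * (l * 1) * (l⁻¹ * l⁻¹ * 0) = u := by
      rw [mul_zero, mul_zero, add_zero, zero_add, hl, div_mul_cancel₀ _ hv]
    rw [e1, e2] at h1
    exact ⟨_, h1⟩

/-- The additive correction of an element trivial on `U / Z` and on `Z`. -/
theorem exists_corr {m : X} {u : F} (h : E.Act m 1 u) : ∃ φ ψ : F → F,
    (∀ a b, φ (a + b) = φ a + φ b) ∧ (∀ a b, ψ (a + b) = ψ a + ψ b) ∧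
    ∀ a b c, m * E.el a b c * m⁻¹ = E.el a b (c + (φ a + ψ b)) := by
  have h1 : ∀ a b, ∃ c', m * E.el a b 0 * m⁻¹ = E.el a b c' := by
    intro a b
    obtain ⟨c', hc'⟩ := h.el a b 0
    rw [one_mul, one_mul] at hc'
    exact ⟨c', hc'⟩
  choose r hr using h1
  have hz : ∀ c, m * E.z c * m⁻¹ = E.z c := by
    intro c
    rw [h.z, one_mul, one_mul]
  have hr' : ∀ a b c, m * E.el a b c * m⁻¹ = E.el a b (c + r a b) := by
    intro a b c
    have e : E.el a b c = E.el a b 0 * E.z c := by rw [E.el_mul_z, zero_add]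
    calc m * E.el a b c * m⁻¹ = (m * E.el a b 0 * m⁻¹) * (m * E.z c * m⁻¹) := by rw [e]; group
      _ = _ := by rw [hr, hz, E.el_mul_z, add_comm]
  have hadd : ∀ a b a' b', r (a + a') (b + b') = r a b + r a' b' := by
    intro a b a' b'
    have e1 : (m * E.el a b 0 * m⁻¹) * (m * E.el a' b' 0 * m⁻¹) =
        m * E.el (a + a') (b + b') (a' * b) * m⁻¹ := by
      have e2 : E.el (a + a') (b + b') (a' * b) = E.el a b 0 * E.el a' b' 0 := by
        rw [E.el_mul, add_zero, zero_add]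
      rw [e2]; group
    rw [hr, hr, hr', E.el_mul] at e1
    have e3 := (E.el_inj e1).2.2
    rw [add_comm (a' * b)] at e3
    exact (add_right_cancel e3).symm
  refine ⟨fun a => r a 0, fun b => r 0 b, ?_, ?_, ?_⟩
  · intro a b
    have := hadd a 0 b 0
    rwa [add_zero] at this
  · intro a b
    have := hadd 0 a 0 b
    rwa [add_zero] at this
  · intro a b c
    have := hadd a 0 0 b
    rw [add_zero, zero_add] at this
    rw [hr', this]

/-- **The correction is inner.** -/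
theorem corr_eq {m : X} {u : F} (h : E.Act m 1 u) : ∃ p q : F,
    ∀ a b c, m * E.el a b c * m⁻¹ = E.el a b (c + (p * a + q * b)) := by
  obtain ⟨φ, ψ, hφ, hψ, H⟩ := exists_corr h
  -- the torus conjugates of `m`
  have key : ∀ l : F, l ≠ 0 → l ≠ 1 → ∃ p q : F, ∀ a b,
      l * l * (φ (l⁻¹ * a) + ψ (l⁻¹ * b)) + (φ a + ψ b) +
      (l + 1) * (l + 1) * (φ ((l + 1)⁻¹ * a) + ψ ((l + 1)⁻¹ * b)) = p * a + q * b := by
    intro l hl0 hl1
    have conj : ∀ l : F, l ≠ 0 → ∃ x, E.Act x 1 (l * l * u) ∧ ∀ a b c,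
        x * E.el a b c * x⁻¹ = E.el a b (c + l * l * (φ (l⁻¹ * a) + ψ (l⁻¹ * b))) := by
      intro l hl0
      obtain ⟨d, -, hd, hdel⟩ := E.exists_tor l hl0
      refine ⟨d * m * d⁻¹, ?_, ?_⟩
      · have h1 := (hd.mul h).mul (hd.inv hl0)
        have e1 : l * 1 * l⁻¹ = 1 := by rw [mul_one, mul_inv_cancel₀ hl0]
        have e2 : 0 + l * l * u + l * 1 * (l * 1) * (l⁻¹ * l⁻¹ * 0) = l * l * u := by
          rw [mul_zero, mul_zero, add_zero, zero_add]
        rwa [e1, e2] at h1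
      · intro a b c
        have e1 : d⁻¹ * E.el a b c * d = E.el (l⁻¹ * a) (l⁻¹ * b) (l⁻¹ * l⁻¹ * c) := by
          have e2 : d * E.el (l⁻¹ * a) (l⁻¹ * b) (l⁻¹ * l⁻¹ * c) * d⁻¹ = E.el a b c := by
            rw [hdel]
            congr 1 <;> field_simp
          rw [← e2]; group
        calc d * m * d⁻¹ * E.el a b c * (d * m * d⁻¹)⁻¹
            = d * (m * (d⁻¹ * E.el a b c * d) * m⁻¹) * d⁻¹ := by group
          _ = _ := by
            rw [e1, H, hdel]
            congr 1 <;> field_simp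
    have hl1' : l + 1 ≠ 0 := by rw [Ne, CharTwo.add_eq_zero]; exact hl1
    obtain ⟨x, hx, hxel⟩ := conj l hl0
    obtain ⟨y, hy, hyel⟩ := conj (l + 1) hl1'
    have h1 := (hx.mul h).mul (hy.inv one_ne_zero)
    have e2 : l * l * u + 1 * 1 * u + 1 * 1 * (1 * 1) * (1⁻¹ * 1⁻¹ * ((l + 1) * (l + 1) * u)) = 0 := by
      rw [inv_one]
      linear_combination (l * l * u + u + l * u) * (CharTwo.two_eq_zero : (2 : F) = 0)
    rw [e2] at h1
    have h2 : x * m * y⁻¹ * E.t = E.t * (x * m * y⁻¹) := by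
      have := h1.t
      rwa [E.z_zero, mul_one, mul_inv_eq_iff_eq_mul] at this
    have hyel' : ∀ a b c, y⁻¹ * E.el a b c * y = E.el a b
        (c + (l + 1) * (l + 1) * (φ ((l + 1)⁻¹ * a) + ψ ((l + 1)⁻¹ * b))) := by
      intro a b c
      have e3 := hyel a b (c + (l + 1) * (l + 1) * (φ ((l + 1)⁻¹ * a) + ψ ((l + 1)⁻¹ * b)))
      rw [add_assoc c, add_self, add_zero] at e3
      rw [← e3]; group
    have h3 : ∀ a b c, (x * m * y⁻¹) * E.el a b c * (x * m * y⁻¹)⁻¹ = E.el a b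
        (c + (l * l * (φ (l⁻¹ * a) + ψ (l⁻¹ * b)) + (φ a + ψ b) +
      (l + 1) * (l + 1) * (φ ((l + 1)⁻¹ * a) + ψ ((l + 1)⁻¹ * b)))) := by
      intro a b c
      calc (x * m * y⁻¹) * E.el a b c * (x * m * y⁻¹)⁻¹
          = x * (m * (y⁻¹ * E.el a b c * y) * m⁻¹) * x⁻¹ := by group
        _ = _ := by
          rw [hyel', H, hxel]
          congr 1
          ring
    obtain ⟨p', q', c', hc⟩ := E.cen _ h2 (fun a b => ⟨_, h3 a b 0⟩) (fun c => by
      have h4 := h3 0 0 c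
      have h5 : φ 0 = 0 := by
        have := hφ 0 0
        rw [add_zero] at this
        exact left_eq_add.mp this
      have h6 : ψ 0 = 0 := by
        have := hψ 0 0
        rw [add_zero] at this
        exact left_eq_add.mp this
      rw [mul_zero, mul_zero, h5, h6, add_zero, mul_zero, add_zero, mul_zero, add_zero,
        add_zero, mul_inv_eq_iff_eq_mul] at h4
      exact h4)
    refine ⟨q', p', fun a b => ?_⟩
    have h5 : (x * m * y⁻¹) * E.el a b 0 * (x * m * y⁻¹)⁻¹ = E.el a b (0 + (a * q' + p' * b)) := by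
      rcases hc with hc | hc
      · rw [hc, E.el_conj]
      · rw [hc]
        calc E.t * E.el p' q' c' * E.el a b 0 * (E.t * E.el p' q' c')⁻¹
            = E.t * (E.el p' q' c' * E.el a b 0 * (E.el p' q' c')⁻¹) * E.t⁻¹ := by group
          _ = _ := by rw [E.el_conj, E.t_el, mul_inv_cancel_right]
    rw [h3] at h5
    have h6 := (E.el_inj h5).2.2
    rw [zero_add, zero_add] at h6
    rw [h6]; ring
  have hφ0 : φ 0 = 0 := by
    have := hφ 0 0
    rw [add_zero] at this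
    exact left_eq_add.mp this
  have hψ0 : ψ 0 = 0 := by
    have := hψ 0 0
    rw [add_zero] at this
    exact left_eq_add.mp this
  -- the derivation property
  have der : ∀ χ : F → F, (∀ a b, χ (a + b) = χ a + χ b) → χ 0 = 0 →
      (∀ l : F, l ≠ 0 → l ≠ 1 → ∃ p : F, ∀ a, l * l * χ (l⁻¹ * a) + χ a +
        (l + 1) * (l + 1) * χ ((l + 1)⁻¹ * a) = p * a) → ∀ x, χ x = χ 1 * x := by
    intro χ hχ hχ0 hder
    have h2 : ∀ κ : F, ∃ c : F, ∀ x, χ (κ * x) = κ * χ x + c * x := by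
      intro κ
      rcases eq_or_ne κ 0 with rfl | hκ0
      · exact ⟨0, fun x => by rw [zero_mul, hχ0, zero_mul, add_zero]⟩
      rcases eq_or_ne κ 1 with rfl | hκ1
      · exact ⟨0, fun x => by rw [one_mul, one_mul, zero_mul, add_zero]⟩
      obtain ⟨l, rfl⟩ := exists_sq κ
      have hl0 : l ≠ 0 := by rintro rfl; exact hκ0 (mul_zero 0)
      have hl1 : l ≠ 1 := by rintro rfl; exact hκ1 (mul_one 1)
      have hl1' : l + 1 ≠ 0 := by rw [Ne, CharTwo.add_eq_zero]; exact hl1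
      obtain ⟨p, hp⟩ := hder l hl0 hl1
      refine ⟨p * (l * (l + 1)), fun x => ?_⟩
      have h3 := hp (l * (l + 1) * x)
      have e1 : l⁻¹ * (l * (l + 1) * x) = l * x + x := by field_simp
      have e2 : (l + 1)⁻¹ * (l * (l + 1) * x) = l * x := by field_simp
      have e3 : l * (l + 1) * x = l * l * x + l * x := by ring
      rw [e1, e2, hχ] at h3
      rw [e3, hχ] at h3
      linear_combination h3 - (l * l * χ (l * x) + χ (l * x) + l * χ (l * x) + l * l * χ x) *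
        (CharTwo.two_eq_zero : (2 : F) = 0)
    choose c hc using h2
    exact fun x => eq_of_scale χ c hc x
  refine ⟨φ 1, ψ 1, fun a b c => ?_⟩
  rw [H]
  congr 2
  rw [der φ hφ hφ0 (fun l h0 h1 => ?_) a, der ψ hψ hψ0 (fun l h0 h1 => ?_) b]
  · obtain ⟨p, q, hpq⟩ := key l h0 h1
    refine ⟨q, fun a => ?_⟩
    have := hpq 0 a
    rwa [mul_zero, mul_zero, mul_zero, hφ0, zero_add, zero_add, zero_add, zero_add] at this
  · obtain ⟨p, q, hpq⟩ := key l h0 h1
    refine ⟨p, fun a => ?_⟩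
    have := hpq a 0
    rwa [mul_zero, mul_zero, mul_zero, hψ0, add_zero, add_zero, add_zero, add_zero] at this

/-- **The output of this file**: for every `u` an element centralising `U` with `t ↦ t z(u)`. -/
theorem exists_centralising {n : X} (hn : n ∈ normalizer (E.J : Set X)) (hnt : n * E.t ≠ E.t * n)
    (hF : ∃ μ : F, μ ≠ 0 ∧ μ ≠ 1) (u : F) :
    ∃ y, (∀ a b c, y * E.el a b c = E.el a b c * y) ∧ y * E.t * y⁻¹ = E.t * E.z u := by
  obtain ⟨m, hm⟩ := exists_act_all (nor_of_mem hn hnt) hnt hF u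
  obtain ⟨p, q, hpq⟩ := corr_eq hm
  refine ⟨E.el q p 0 * m, fun a b c => ?_, ?_⟩
  · rw [← mul_inv_eq_iff_eq_mul]
    calc E.el q p 0 * m * E.el a b c * (E.el q p 0 * m)⁻¹
        = E.el q p 0 * (m * E.el a b c * m⁻¹) * (E.el q p 0)⁻¹ := by group
      _ = _ := by
        rw [hpq, E.el_conj]
        congr 1
        have : c + (p * a + q * b) + (a * p + q * b) = c + (p * a + p * a) + (q * b + q * b) := by
          ring
        rw [this, add_self, add_self, add_zero, add_zero]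
  · calc E.el q p 0 * m * E.t * (E.el q p 0 * m)⁻¹
        = E.el q p 0 * (m * E.t * m⁻¹) * (E.el q p 0)⁻¹ := by group
      _ = E.t * E.z u := by
        rw [hm.t, ← mul_assoc, ← E.t_el, mul_assoc E.t, ← E.z_comm, ← mul_assoc,
          mul_inv_cancel_right]

end Cfsg.Agent.StdRank2.L3Norm
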