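import Mathlib
import Cfsg.Agent.StdRank2.L3Norm

/-!
# Type `L₃(q)`: the subgroup `Zh` of order `q ^ 2`

`Y` = the elements centralising `U` and mapping `t` into `t Z`.  `Zh = [Y, d] Z` for a torus
element `d`: it is abelian, `Y = Zh × ⟨t⟩`, and it is normalised by `N(J)`.
-/

set_option autoImplicit false
set_option linter.unusedSectionVars false
set_option linter.dupNamespace false

namespace Cfsg.Agent.StdRank2.L3Zh

open Subgroup Cfsg.Agent.StdRank2.L3Env Cfsg.Agent.StdRank2.L3Norm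

variable {X : Type*} [Group X] {F : Type*} [Field F] [Finite F] [CharP F 2] (E : Env X F)

/-- `y` centralises `U` and maps `t` to `t z(u)`. -/
structure YY (y : X) (u : F) : Prop where
  el : ∀ a b c, y * E.el a b c = E.el a b c * y
  t : y * E.t = E.t * y * E.z u

variable {E}

theorem YY.z {y : X} {u : F} (h : YY E y u) (c : F) : y * E.z c = E.z c * y := h.el 0 0 c

theorem YY.t_conj {y : X} {u : F} (h : YY E y u) : y * E.t * y⁻¹ = E.t * E.z u := by
  rw [h.t, mul_assoc E.t, h.z, ← mul_assoc, mul_inv_cancel_right]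

theorem YY.of_conj {y : X} {u : F} (h : ∀ a b c, y * E.el a b c = E.el a b c * y)
    (h' : y * E.t * y⁻¹ = E.t * E.z u) : YY E y u := by
  refine ⟨h, ?_⟩
  have h2 : y * E.z u = E.z u * y := h 0 0 u
  rw [mul_inv_eq_iff_eq_mul] at h'
  rw [h', mul_assoc, mul_assoc, h2]

theorem YY.mul {y y' : X} {u u' : F} (h : YY E y u) (h' : YY E y' u') :
    YY E (y * y') (u + u') := by
  refine ⟨fun a b c => ?_, ?_⟩
  · rw [mul_assoc, h'.el, ← mul_assoc, h.el, mul_assoc]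
  · calc y * y' * E.t = y * (y' * E.t) := by group
      _ = (y * E.t) * y' * E.z u' := by rw [h'.t]; group
      _ = E.t * y * (E.z u * y') * E.z u' := by rw [h.t]; group
      _ = E.t * (y * y') * (E.z u * E.z u') := by rw [← h'.z]; group
      _ = _ := by rw [E.z_mul]

theorem YY.one : YY E 1 0 := ⟨fun a b c => by rw [one_mul, mul_one], by
  rw [E.z_zero]; group⟩

theorem YY.inv {y : X} {u : F} (h : YY E y u) : YY E y⁻¹ u := by
  refine ⟨fun a b c => ?_, ?_⟩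
  · rw [inv_mul_eq_iff_eq_mul, ← mul_assoc, h.el, mul_inv_cancel_right]
  · have h1 : y * E.t * E.z u = E.t * y := by
      rw [h.t, mul_assoc, E.z_self, mul_one]
    have h2 : E.z u * y⁻¹ = y⁻¹ * E.z u := by
      rw [eq_inv_mul_iff_mul_eq, ← mul_assoc, h.z, mul_inv_cancel_right]
    calc y⁻¹ * E.t = y⁻¹ * (E.t * y) * y⁻¹ := by group
      _ = E.t * (E.z u * y⁻¹) := by rw [← h1]; group
      _ = _ := by rw [h2]; group

theorem YY.of_z (c : F) : YY E (E.z c) 0 := by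
  refine ⟨fun a b d => E.z_comm a b d c, ?_⟩
  rw [E.z_zero, mul_one, E.t_z_comm]

theorem YY.of_t : YY E E.t 0 := by
  refine ⟨fun a b d => E.t_el a b d, ?_⟩
  rw [E.z_zero, mul_one]

theorem YY.unique {y : X} {u u' : F} (h : YY E y u) (h' : YY E y u') : u = u' := by
  have h1 := h.t
  rw [h'.t] at h1
  exact (E.z_inj (mul_left_cancel h1)).symm

/-- the kernel of `u`. -/
theorem YY.ker {y : X} (h : YY E y 0) : ∃ c, y = E.z c ∨ y = E.t * E.z c := by
  have h1 : y * E.t = E.t * y := by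
    have := h.t
    rwa [E.z_zero, mul_one] at this
  obtain ⟨a, b, m, hm⟩ := E.cen y h1 (fun a b => ⟨0, by rw [h.el, mul_inv_cancel_right]⟩)
    (fun m => h.el 0 0 m)
  exact E.mem_center_J ⟨a, b, m, hm⟩ h.el

theorem YY.t_comm {y : X} {u : F} (h : YY E y u) (h' : y * E.t = E.t * y) : u = 0 := by
  have h1 := h.t
  rw [h', left_eq_mul] at h1
  exact E.z_eq_one h1

/-- squares are in `Z`. -/
theorem YY.sq {y : X} {u : F} (h : YY E y u) : ∃ c, y * y = E.z c := by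
  have h1 := h.mul h
  rw [add_self] at h1
  obtain ⟨c, hc | hc⟩ := h1.ker
  · exact ⟨c, hc⟩
  · exfalso
    -- `y` commutes with `t`
    have h2 : y * (E.t * E.z c) = E.t * E.z c * y := by rw [← hc, mul_assoc]
    have h3 : y * E.t = E.t * y := by
      have h4 : y * E.t * E.z c = E.t * y * E.z c := by
        rw [mul_assoc, h2, mul_assoc, mul_assoc, h.z]
      exact mul_right_cancel h4
    have h5 := h.t_comm h3
    subst h5
    obtain ⟨c', hc' | hc'⟩ := h.ker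
    · rw [hc', E.z_self, eq_comm] at hc
      refine E.tel_ne 0 0 c 0 0 0 ?_
      rw [E.el_zero]; exact hc
    · rw [hc', Env.z_def, Env.z_def, E.tel_mul, ← Env.z_def, E.z_self, eq_comm] at hc
      refine E.tel_ne 0 0 c 0 0 0 ?_
      rw [E.el_zero]; exact hc

/-- commutators are in `Z`. -/
theorem YY.comm {y y' : X} {u u' : F} (h : YY E y u) (h' : YY E y' u') :
    ∃ c, y * y' = y' * y * E.z c := by
  obtain ⟨a, ha⟩ := h.sq
  obtain ⟨b, hb⟩ := h'.sq
  obtain ⟨c, hc⟩ := (h.mul h').sq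
  refine ⟨a + b + c, ?_⟩
  have e1 : y⁻¹ = y * E.z a := by
    rw [inv_eq_iff_mul_eq_one, ← mul_assoc, ha, E.z_self]
  have e2 : y'⁻¹ = y' * E.z b := by
    rw [inv_eq_iff_mul_eq_one, ← mul_assoc, hb, E.z_self]
  have e3 : y * y' = E.z c * (y'⁻¹ * y⁻¹) := by
    rw [← hc]; group
  rw [e3, e1, e2]
  calc E.z c * (y' * E.z b * (y * E.z a)) = E.z c * (y' * (E.z b * y) * E.z a) := by group
    _ = E.z c * (y' * y) * (E.z b * E.z a) := by rw [← h.z]; group
    _ = y' * y * (E.z c * (E.z b * E.z a)) := by rw [← (h'.mul h).z]; group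
    _ = _ := by rw [E.z_mul, E.z_mul]; congr 2; ring

/-- conjugation by an element normalising everything. -/
theorem YY.conj {y : X} {u : F} (h : YY E y u) {n : X} (hn : Nor E n) : ∃ u', YY E (n * y * n⁻¹) u' := by
  have hel : ∀ a b c, n * y * n⁻¹ * E.el a b c = E.el a b c * (n * y * n⁻¹) := by
    intro a b c
    obtain ⟨a', b', c', h1⟩ := hn.el' a b c
    calc n * y * n⁻¹ * E.el a b c = n * (y * (n⁻¹ * E.el a b c * n)) * n⁻¹ := by group
      _ = n * ((n⁻¹ * E.el a b c * n) * y) * n⁻¹ := by rw [h1, h.el]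
      _ = _ := by group
  obtain ⟨v, hv⟩ := hn.t'
  obtain ⟨u', hu'⟩ := hn.z u
  refine ⟨u', YY.of_conj hel ?_⟩
  calc n * y * n⁻¹ * E.t * (n * y * n⁻¹)⁻¹ = n * (y * (n⁻¹ * E.t * n) * y⁻¹) * n⁻¹ := by group
    _ = n * ((y * E.t * y⁻¹) * (y * E.z v * y⁻¹)) * n⁻¹ := by rw [hv]; group
    _ = n * (E.t * E.z u * E.z v) * n⁻¹ := by rw [h.t_conj, h.z, mul_inv_cancel_right]
    _ = n * (E.t * E.z v * E.z u) * n⁻¹ := by
        rw [mul_assoc E.t, E.z_mul, add_comm, ← E.z_mul, mul_assoc E.t]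
    _ = n * ((n⁻¹ * E.t * n) * E.z u) * n⁻¹ := by rw [hv]
    _ = E.t * (n * E.z u * n⁻¹) := by group
    _ = _ := by rw [hu']

theorem YY.conj_act {y : X} {u : F} (h : YY E y u) {d : X} {l : F} (hl : l ≠ 0)
    (hdt : d * E.t = E.t * d)
    (hd : ∀ a b c, d * E.el a b c * d⁻¹ = E.el (l * a) (l * b) (l * l * c)) :
    YY E (d * y * d⁻¹) (l * l * u) := by
  have hel : ∀ a b c, d * y * d⁻¹ * E.el a b c = E.el a b c * (d * y * d⁻¹) := by
    intro a b c
    have h1 : d⁻¹ * E.el a b c * d = E.el (l⁻¹ * a) (l⁻¹ * b) (l⁻¹ * l⁻¹ * c) := by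
      have e2 : d * E.el (l⁻¹ * a) (l⁻¹ * b) (l⁻¹ * l⁻¹ * c) * d⁻¹ = E.el a b c := by
        rw [hd]
        congr 1 <;> field_simp
      rw [← e2]; group
    calc d * y * d⁻¹ * E.el a b c = d * (y * (d⁻¹ * E.el a b c * d)) * d⁻¹ := by group
      _ = d * ((d⁻¹ * E.el a b c * d) * y) * d⁻¹ := by rw [h1, h.el]
      _ = _ := by group
  refine YY.of_conj hel ?_
  have hdt' : d⁻¹ * E.t * d = E.t := by rw [mul_assoc, ← hdt]; group
  calc d * y * d⁻¹ * E.t * (d * y * d⁻¹)⁻¹ = d * (y * (d⁻¹ * E.t * d) * y⁻¹) * d⁻¹ := by group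
    _ = (d * E.t) * d⁻¹ * (d * E.z u * d⁻¹) := by rw [hdt', h.t_conj]; group
    _ = _ := by
      rw [hdt, mul_inv_cancel_right]
      congr 1
      have := hd 0 0 u
      rwa [mul_zero] at this

theorem z_z (E : Env X F) (b c : F) : E.z b * E.z c = E.z c * E.z b := by
  rw [E.z_mul, E.z_mul, add_comm]

/-- the fixed torus element. -/
structure Tor (E : Env X F) (d : X) (l : F) : Prop where
  l0 : l ≠ 0
  t : d * E.t = E.t * d
  el : ∀ a b c, d * E.el a b c * d⁻¹ = E.el (l * a) (l * b) (l * l * c)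

theorem Tor.z {d : X} {l : F} (h : Tor E d l) (c : F) : d * E.z c * d⁻¹ = E.z (l * l * c) := by
  have := h.el 0 0 c
  rwa [mul_zero] at this

theorem Tor.t_conj {d : X} {l : F} (h : Tor E d l) : d * E.t * d⁻¹ = E.t := by
  rw [h.t, mul_inv_cancel_right]

theorem exists_tor' (E : Env X F) {l : F} (hl : l ≠ 0) : ∃ d, Tor E d l := by
  obtain ⟨d, h1, -, h2⟩ := E.exists_tor l hl
  exact ⟨d, hl, h1, h2⟩

/-- the generators of `Zh`. -/
def IsW (E : Env X F) (d x : X) : Prop := ∃ y u c, YY E y u ∧ x = y⁻¹ * (d * y * d⁻¹) * E.z c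

theorem IsW.yy {d : X} {l : F} (hd : Tor E d l) {x : X} (hx : IsW E d x) : ∃ u, YY E x u := by
  obtain ⟨y, u, c, hy, rfl⟩ := hx
  exact ⟨_, (hy.inv.mul (hy.conj_act hd.l0 hd.t hd.el)).mul (YY.of_z c)⟩

theorem IsW.z {d : X} (c : F) : IsW E d (E.z c) :=
  ⟨1, 0, c, YY.one, by group⟩

theorem IsW.mul {d : X} {l : F} (hd : Tor E d l) {x x' : X} (hx : IsW E d x) (hx' : IsW E d x') :
    IsW E d (x * x') := by
  obtain ⟨y, u, c, hy, rfl⟩ := hx
  obtain ⟨y', u', c', hy', rfl⟩ := hx'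
  have hyd := hy.conj_act hd.l0 hd.t hd.el
  have hyd' := hy'.conj_act hd.l0 hd.t hd.el
  obtain ⟨m, hm⟩ := hyd.comm hy'.inv
  obtain ⟨k, hk⟩ := hyd.comm hyd'
  refine ⟨y' * y, u' + u, c + c' + m + k, hy'.mul hy, ?_⟩
  have e1 : d * (y' * y) * d⁻¹ = (d * y' * d⁻¹) * (d * y * d⁻¹) := by group
  rw [e1, mul_inv_rev]
  set p := d * y * d⁻¹
  set p' := d * y' * d⁻¹
  calc y⁻¹ * p * E.z c * (y'⁻¹ * p' * E.z c')
      = y⁻¹ * p * (E.z c * y'⁻¹) * p' * E.z c' := by group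
    _ = y⁻¹ * (p * y'⁻¹) * (E.z c * p') * E.z c' := by rw [← hy'.inv.z]; group
    _ = y⁻¹ * y'⁻¹ * p * (E.z m * p') * E.z c * E.z c' := by rw [hm, ← hyd'.z]; group
    _ = y⁻¹ * y'⁻¹ * (p * p') * E.z m * E.z c * E.z c' := by rw [← hyd'.z]; group
    _ = y⁻¹ * y'⁻¹ * (p' * p) * (E.z k * E.z m * E.z c * E.z c') := by rw [hk]; group
    _ = _ := by rw [E.z_mul, E.z_mul, E.z_mul]; congr 2; ring

theorem IsW.inv {d : X} {l : F} (hd : Tor E d l) {x : X} (hx : IsW E d x) : IsW E d x⁻¹ := by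
  obtain ⟨y, u, c, hy, rfl⟩ := hx
  have hyd := hy.inv.conj_act hd.l0 hd.t hd.el
  obtain ⟨k, hk⟩ := hyd.comm hy
  refine ⟨y⁻¹, u, k + c, hy.inv, ?_⟩
  calc (y⁻¹ * (d * y * d⁻¹) * E.z c)⁻¹ = (E.z c)⁻¹ * ((d * y⁻¹ * d⁻¹) * y) := by group
    _ = E.z c * (y * (d * y⁻¹ * d⁻¹)) * E.z k := by rw [hk, E.z_inv]; group
    _ = (y * (d * y⁻¹ * d⁻¹)) * (E.z k * E.z c) := by
        rw [← (hy.mul hyd).z c, z_z E k c]; group
    _ = _ := by rw [E.z_mul]; group

theorem sq_ne {l : F} (hl1 : l ≠ 1) : 1 + l * l ≠ 0 := by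
  have h : 1 + l * l = (1 + l) * (1 + l) := by
    linear_combination (- l) * (CharTwo.two_eq_zero : (2 : F) = 0)
  rw [h]
  have h3 : 1 + l ≠ 0 := by
    rw [Ne, CharTwo.add_eq_zero]; exact fun h => hl1 h.symm
  exact mul_ne_zero h3 h3

theorem IsW.ker {d : X} {l : F} (hd : Tor E d l) (hl1 : l ≠ 1) {x : X} (hx : IsW E d x)
    (h0 : YY E x 0) : ∃ c, x = E.z c := by
  obtain ⟨y, u, c, hy, rfl⟩ := hx
  have hyd := hy.conj_act hd.l0 hd.t hd.el
  have h1 := ((hy.inv.mul hyd).mul (YY.of_z c)).unique h0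
  have h2 : (1 + l * l) * u = 0 := by linear_combination h1
  have h3 : u = 0 := (mul_eq_zero.mp h2).resolve_left (sq_ne hl1)
  subst h3
  obtain ⟨m, hm | hm⟩ := hy.ker
  · refine ⟨m + l * l * m + c, ?_⟩
    rw [hm, E.z_inv, hd.z, E.z_mul, E.z_mul]
  · refine ⟨m + l * l * m + c, ?_⟩
    have e1 : d * (E.t * E.z m) * d⁻¹ = E.t * E.z (l * l * m) := by
      calc d * (E.t * E.z m) * d⁻¹ = (d * E.t * d⁻¹) * (d * E.z m * d⁻¹) := by group
        _ = _ := by rw [hd.t_conj, hd.z]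
    rw [hm, e1, mul_inv_rev, E.z_inv, ← mul_assoc, mul_assoc (E.z m), inv_mul_cancel, mul_one,
      E.z_mul, E.z_mul]

theorem IsW.onto {d : X} {l : F} (hd : Tor E d l) (hl1 : l ≠ 1) (hall : ∀ u, ∃ y, YY E y u)
    (u : F) : ∃ x, IsW E d x ∧ YY E x u := by
  obtain ⟨y, hy⟩ := hall (u / (1 + l * l))
  have hyd := hy.conj_act hd.l0 hd.t hd.el
  refine ⟨y⁻¹ * (d * y * d⁻¹) * E.z 0, ⟨y, _, 0, hy, rfl⟩, ?_⟩
  have h1 := (hy.inv.mul hyd).mul (YY.of_z 0)
  have h2 : u / (1 + l * l) + l * l * (u / (1 + l * l)) + 0 = u := by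
    have h3 := sq_ne hl1
    have h4 : u / (1 + l * l) + l * l * (u / (1 + l * l)) + 0 =
      (1 + l * l) * (u / (1 + l * l)) := by ring
    rw [h4, mul_div_cancel₀ _ h3]
  rwa [h2] at h1

theorem IsW.mul_z {d : X} {x : X} (hx : IsW E d x) (m : F) :
    IsW E d (x * E.z m) := by
  obtain ⟨y, u, c, hy, rfl⟩ := hx
  exact ⟨y, u, c + m, hy, by rw [mul_assoc _ (E.z c), E.z_mul]⟩

theorem IsW.conj_tor {d e : X} {l k : F} (hd : Tor E d l) (he : Tor E e k) {x : X}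
    (hx : IsW E d x) : IsW E d (e * x * e⁻¹) := by
  obtain ⟨y, u, c, hy, rfl⟩ := hx
  have hye := hy.conj_act he.l0 he.t he.el
  have hyed := hye.conj_act hd.l0 hd.t hd.el
  -- the commutator of `d` and `e`
  have hc : YY E (e * d * e⁻¹ * d⁻¹) 0 := by
    have hinv : ∀ {g : X} {r : F}, Tor E g r → ∀ a b c, g⁻¹ * E.el a b c * g =
        E.el (r⁻¹ * a) (r⁻¹ * b) (r⁻¹ * r⁻¹ * c) := by
      intro g r hg a b c
      have e2 : g * E.el (r⁻¹ * a) (r⁻¹ * b) (r⁻¹ * r⁻¹ * c) * g⁻¹ = E.el a b c := by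
        have := hg.l0
        rw [hg.el]
        congr 1 <;> field_simp
      rw [← e2]; group
    refine YY.of_conj (fun a b c => ?_) ?_
    · rw [← mul_inv_eq_iff_eq_mul]
      calc e * d * e⁻¹ * d⁻¹ * E.el a b c * (e * d * e⁻¹ * d⁻¹)⁻¹
          = e * (d * (e⁻¹ * (d⁻¹ * E.el a b c * d) * e) * d⁻¹) * e⁻¹ := by group
        _ = _ := by
          have h1 := hd.l0
          have h2 := he.l0
          rw [hinv hd, hinv he, hd.el, he.el]
          congr 1 <;> field_simp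
    · rw [E.z_zero, mul_one]
      have h1 : d⁻¹ * E.t * d = E.t := by rw [mul_assoc, ← hd.t]; group
      have h2 : e⁻¹ * E.t * e = E.t := by rw [mul_assoc, ← he.t]; group
      calc e * d * e⁻¹ * d⁻¹ * E.t * (e * d * e⁻¹ * d⁻¹)⁻¹
          = e * (d * (e⁻¹ * (d⁻¹ * E.t * d) * e) * d⁻¹) * e⁻¹ := by group
        _ = E.t := by rw [h1, h2, hd.t_conj, he.t_conj]
  obtain ⟨m, hm⟩ := hc.comm hyed
  refine ⟨e * y * e⁻¹, _, m + k * k * c, hye, ?_⟩
  set c' := e * d * e⁻¹ * d⁻¹ with hc'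
  calc e * (y⁻¹ * (d * y * d⁻¹) * E.z c) * e⁻¹
      = (e * y * e⁻¹)⁻¹ * (c' * (d * (e * y * e⁻¹) * d⁻¹)) * c'⁻¹ * (e * E.z c * e⁻¹) := by
        rw [hc']; group
    _ = (e * y * e⁻¹)⁻¹ * (d * (e * y * e⁻¹) * d⁻¹) * (c' * E.z m) * c'⁻¹ * E.z (k * k * c) := by
        rw [hm, he.z]; group
    _ = (e * y * e⁻¹)⁻¹ * (d * (e * y * e⁻¹) * d⁻¹) * (E.z m * E.z (k * k * c)) := by
        rw [hc.z m]; group
    _ = _ := by rw [E.z_mul]

/-- the subgroup. -/
def zhSub {d : X} {l : F} (hd : Tor E d l) : Subgroup X where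
  carrier := {x | IsW E d x}
  mul_mem' := fun hx hy => hx.mul hd hy
  one_mem' := by rw [← E.z_zero]; exact IsW.z 0
  inv_mem' := fun hx => hx.inv hd

/-- the result of the construction. -/
structure Seed (E : Env X F) where
  Zh : Subgroup X
  z_mem : ∀ c, E.z c ∈ Zh
  yy : ∀ x ∈ Zh, ∃ u, YY E x u
  ker : ∀ x ∈ Zh, YY E x 0 → ∃ c, x = E.z c
  onto : ∀ u, ∃ x ∈ Zh, YY E x u
  comm : ∀ x ∈ Zh, ∀ y ∈ Zh, x * y = y * x
  κ : F
  sq : ∀ x ∈ Zh, ∀ u, YY E x u → x * x = E.z (κ * u)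

theorem exists_seed (hF : ∃ μ : F, μ ≠ 0 ∧ μ ≠ 1) (hall : ∀ u, ∃ y, YY E y u) :
    Nonempty (Seed E) := by
  obtain ⟨l, hl0, hl1⟩ := hF
  obtain ⟨d, hd⟩ := exists_tor' E hl0
  have honto := fun u => IsW.onto hd hl1 hall u
  choose w hw hwu using honto
  have hmod : ∀ x u, IsW E d x → YY E x u → ∃ c, x = w u * E.z c := by
    intro x u hx hxu
    have h1 := (hwu u).inv.mul hxu
    rw [add_self] at h1
    obtain ⟨c, hc⟩ := ((hw u).inv hd |>.mul hd hx).ker hd hl1 h1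
    exact ⟨c, by rw [← hc]; group⟩
  have hcomm : ∀ u v, ∃ c, w u * w v = w v * w u * E.z c := fun u v => (hwu u).comm (hwu v)
  choose β hβ using hcomm
  have hβ' : ∀ x y u v, IsW E d x → YY E x u → IsW E d y → YY E y v →
      x * y = y * x * E.z (β u v) := by
    intro x y u v hx hxu hy hyv
    obtain ⟨c, rfl⟩ := hmod x u hx hxu
    obtain ⟨c', rfl⟩ := hmod y v hy hyv
    calc w u * E.z c * (w v * E.z c') = w u * (E.z c * w v) * E.z c' := by group
      _ = w u * w v * (E.z c * E.z c') := by rw [← (hwu v).z]; group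
      _ = w v * w u * (E.z (β u v) * (E.z c * E.z c')) := by rw [hβ]; group
      _ = w v * w u * (E.z c' * E.z c * E.z (β u v)) := by
          congr 1
          rw [E.z_mul, E.z_mul, E.z_mul, E.z_mul]
          congr 1; ring
      _ = w v * (w u * E.z c') * E.z c * E.z (β u v) := by group
      _ = _ := by rw [(hwu u).z]; group
  have hz : ∀ x u c, YY E x u → x * E.z c = E.z c * x := fun x u c h => h.z c
  have zc : ∀ {x y : X} {a b : F}, x * E.z a = x * E.z b → a = b :=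
    fun h => E.z_inj (mul_left_cancel h)
  have b1 : ∀ x y v, β (x + y) v = β x v + β y v := by
    intro x y v
    have h1 := hβ' (w x * w y) (w v) (x + y) v ((hw x).mul hd (hw y)) ((hwu x).mul (hwu y))
      (hw v) (hwu v)
    have h2 : w x * w y * w v = w v * (w x * w y) * E.z (β x v + β y v) := by
      calc w x * w y * w v = w x * (w y * w v) := by group
        _ = w x * w v * (w y * E.z (β y v)) := by rw [hβ]; group
        _ = w v * w x * (E.z (β x v) * w y) * E.z (β y v) := by rw [hβ]; group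
        _ = w v * (w x * w y) * (E.z (β x v) * E.z (β y v)) := by rw [← (hwu y).z]; group
        _ = _ := by rw [E.z_mul]
    rw [h2] at h1
    exact (E.z_inj (mul_left_cancel h1)).symm
  have bsymm : ∀ x y, β x y = β y x := by
    intro x y
    have h1 := hβ x y
    rw [hβ y x, mul_assoc, E.z_mul, left_eq_mul] at h1
    have h2 := E.z_eq_one h1
    rw [CharTwo.add_eq_zero] at h2
    exact h2.symm
  have b2 : ∀ x y v, β x (y + v) = β x y + β x v := by
    intro x y v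
    rw [bsymm, b1, bsymm y, bsymm v]
  have b3 : ∀ x, β x x = 0 := by
    intro x
    have h1 := hβ x x
    rw [left_eq_mul] at h1
    exact E.z_eq_one h1
  have b4 : ∀ k x y, k ≠ 0 → β (k * x) (k * y) = k * β x y := by
    intro k x y hk
    obtain ⟨r, rfl⟩ := exists_sq k
    have hr : r ≠ 0 := by rintro rfl; exact hk (mul_zero 0)
    obtain ⟨e, he⟩ := exists_tor' E hr
    have h1 := hβ' (e * w x * e⁻¹) (e * w y * e⁻¹) (r * r * x) (r * r * y)
      ((hw x).conj_tor hd he) ((hwu x).conj_act he.l0 he.t he.el)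
      ((hw y).conj_tor hd he) ((hwu y).conj_act he.l0 he.t he.el)
    have h2 : e * w x * e⁻¹ * (e * w y * e⁻¹) =
        e * w y * e⁻¹ * (e * w x * e⁻¹) * E.z (r * r * β x y) := by
      rw [← he.z]
      calc e * w x * e⁻¹ * (e * w y * e⁻¹) = e * (w x * w y) * e⁻¹ := by group
        _ = _ := by rw [hβ]; group
    rw [h2] at h1
    exact (E.z_inj (mul_left_cancel h1)).symm
  have hβ0 : ∀ x y, β x y = 0 := alt_eq_zero β b1 b2 b3 b4
  have hab : ∀ x y, IsW E d x → IsW E d y → x * y = y * x := by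
    intro x y hx hy
    obtain ⟨u, hu⟩ := hx.yy hd
    obtain ⟨v, hv⟩ := hy.yy hd
    rw [hβ' x y u v hx hu hy hv, hβ0, E.z_zero, mul_one]
  -- the squares
  choose q hq using fun u => (hwu u).sq
  have hq' : ∀ x u, IsW E d x → YY E x u → x * x = E.z (q u) := by
    intro x u hx hxu
    obtain ⟨c, rfl⟩ := hmod x u hx hxu
    calc w u * E.z c * (w u * E.z c) = w u * (E.z c * w u) * E.z c := by group
      _ = w u * w u * (E.z c * E.z c) := by rw [← (hwu u).z]; group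
      _ = _ := by rw [hq, E.z_self, mul_one]
  have q1 : ∀ k x, k ≠ 0 → q (k * x) = k * q x := by
    intro k x hk
    obtain ⟨r, rfl⟩ := exists_sq k
    have hr : r ≠ 0 := by rintro rfl; exact hk (mul_zero 0)
    obtain ⟨e, he⟩ := exists_tor' E hr
    have h1 := hq' (e * w x * e⁻¹) (r * r * x)
      ((hw x).conj_tor hd he) ((hwu x).conj_act he.l0 he.t he.el)
    have h2 : e * w x * e⁻¹ * (e * w x * e⁻¹) = E.z (r * r * q x) := by
      rw [← he.z, ← hq]; group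
    rw [h2] at h1
    exact (E.z_inj h1).symm
  have q2 : ∀ u, q u = q 1 * u := by
    intro u
    rcases eq_or_ne u 0 with rfl | hu
    · rw [mul_zero]
      obtain ⟨c, hc⟩ := (hw 0).ker hd hl1 (hwu 0)
      have := hq 0
      rw [hc, E.z_self, eq_comm] at this
      exact E.z_eq_one this
    · have := q1 u 1 hu
      rwa [mul_one, mul_comm] at this
  refine ⟨⟨zhSub hd, ?_, ?_, ?_, ?_, ?_, q 1, ?_⟩⟩
  · exact fun c => IsW.z c
  · exact fun x hx => hx.yy hd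
  · exact fun x hx h0 => hx.ker hd hl1 h0
  · exact fun u => ⟨w u, hw u, hwu u⟩
  · exact fun x hx y hy => hab x y hx hy
  · exact fun x hx u hu => by rw [hq' x u hx hu, q2]

namespace Seed

variable (S : Seed E)

theorem t_mul {y : X} {u : F} (h : YY E y u) : y ∈ S.Zh ∨ E.t * y ∈ S.Zh := by
  obtain ⟨x, hx, hxu⟩ := S.onto u
  have h1 := hxu.inv.mul h
  rw [add_self] at h1
  obtain ⟨c, hc | hc⟩ := h1.ker
  · left
    have : y = x * E.z c := by rw [← hc]; group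
    rw [this]
    exact S.Zh.mul_mem hx (S.z_mem c)
  · right
    have h2 : y = x * E.t * E.z c := by rw [mul_assoc, ← hc]; group
    have h3 : E.t * y = x * (E.z u * E.z c) := by
      rw [h2, hxu.t]
      calc E.t * (E.t * x * E.z u * E.z c) = (E.t * E.t) * (x * (E.z u * E.z c)) := by group
        _ = _ := by rw [E.t_sq, one_mul]
    rw [h3]
    exact S.Zh.mul_mem hx (S.Zh.mul_mem (S.z_mem _) (S.z_mem _))

theorem t_not_mem : E.t ∉ S.Zh := by
  intro h
  obtain ⟨c, hc⟩ := S.ker _ h YY.of_t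
  exact E.t_not 0 0 c hc.symm

/-- `Zh` is normalised by `t`. -/
theorem t_norm {x : X} (hx : x ∈ S.Zh) : E.t * x * E.t⁻¹ ∈ S.Zh := by
  obtain ⟨u, hu⟩ := S.yy x hx
  have h1 : E.t * x * E.t⁻¹ = x * E.z u := by
    rw [mul_inv_eq_iff_eq_mul, mul_assoc, ← E.t_z_comm, ← mul_assoc, hu.t, mul_assoc, E.z_self,
      mul_one]
  rw [h1]
  exact S.Zh.mul_mem hx (S.z_mem _)

/-- **`Zh` is normalised by `N(J)`.** -/
theorem conj_mem (hF : ∃ μ : F, μ ≠ 0 ∧ μ ≠ 1) {n : X} (hn : Nor E n) {x : X} (hx : x ∈ S.Zh) :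
    n * x * n⁻¹ ∈ S.Zh := by
  by_contra hcon
  obtain ⟨u, hu⟩ := S.yy x hx
  obtain ⟨u', hu'⟩ := hu.conj hn
  have hx' : E.t * (n * x * n⁻¹) ∈ S.Zh := (S.t_mul hu').resolve_left hcon
  have hu0 : u ≠ 0 := by
    rintro rfl
    obtain ⟨c, hc⟩ := S.ker x hx hu
    obtain ⟨c', hc'⟩ := hn.z c
    apply hcon
    rw [hc, hc']
    exact S.z_mem _
  obtain ⟨μ, hμ0, hμ1⟩ := hF
  obtain ⟨y, hy, hyv⟩ := S.onto (μ * u)
  obtain ⟨v', hv'⟩ := hyv.conj hn
  -- an element `s` of `Zh - Z` with `n s n⁻¹ ∈ Zh`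
  obtain ⟨s, v, hs, hsv, hv0, hs'⟩ : ∃ s v, s ∈ S.Zh ∧ YY E s v ∧ v ≠ 0 ∧ n * s * n⁻¹ ∈ S.Zh := by
    rcases S.t_mul hv' with h | h
    · exact ⟨y, _, hy, hyv, mul_ne_zero hμ0 hu0, h⟩
    · refine ⟨x * y, _, S.Zh.mul_mem hx hy, hu.mul hyv, ?_, ?_⟩
      · have : u + μ * u = (1 + μ) * u := by ring
        rw [this]
        refine mul_ne_zero ?_ hu0
        rw [Ne, CharTwo.add_eq_zero]
        exact fun h => hμ1 h.symm
      · have h1 : n * (x * y) * n⁻¹ = (E.t * (n * x * n⁻¹)) * E.z u' * (E.t * (n * y * n⁻¹)) := by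
          have h2 := hu'.t
          calc n * (x * y) * n⁻¹ = (n * x * n⁻¹) * (E.t * E.t) * (n * y * n⁻¹) := by
                rw [E.t_sq]; group
            _ = ((n * x * n⁻¹) * E.t) * (E.t * (n * y * n⁻¹)) := by group
            _ = _ := by rw [h2]
        rw [h1]
        exact S.Zh.mul_mem (S.Zh.mul_mem hx' (S.z_mem _)) h
  obtain ⟨v'', hv''⟩ := hsv.conj hn
  have c1 : (n * s * n⁻¹) * (n * x * n⁻¹) = (n * x * n⁻¹) * (n * s * n⁻¹) := by
    calc (n * s * n⁻¹) * (n * x * n⁻¹) = n * (s * x) * n⁻¹ := by group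
      _ = _ := by rw [S.comm s hs x hx]; group
  have c2 := S.comm _ hs' _ hx'
  have c3 : (n * s * n⁻¹) * E.t = E.t * (n * s * n⁻¹) := by
    have h1 : (n * s * n⁻¹) * E.t * (n * x * n⁻¹) = E.t * (n * s * n⁻¹) * (n * x * n⁻¹) := by
      calc (n * s * n⁻¹) * E.t * (n * x * n⁻¹) = (n * s * n⁻¹) * (E.t * (n * x * n⁻¹)) := by group
        _ = E.t * ((n * x * n⁻¹) * (n * s * n⁻¹)) := by rw [c2]; group
        _ = _ := by rw [← c1]; group
    exact mul_right_cancel h1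
  have h0 := hv''.t_comm c3
  subst h0
  obtain ⟨c, hc⟩ := S.ker _ hs' hv''
  obtain ⟨c', hc'⟩ := hn.inv.z c
  have h2 : s = E.z c' := by
    rw [← hc', ← hc]; group
  rw [h2] at hsv
  exact hv0 (hsv.unique (YY.of_z c'))

/-- elements of odd order of `C(t)` which centralise `Z` and normalise `Zh` centralise `Zh`. -/
theorem centralises {g : X} (hg : ∀ x ∈ S.Zh, g * x * g⁻¹ ∈ S.Zh) (hgt : g * E.t = E.t * g)
    (hgz : ∀ c, g * E.z c = E.z c * g) {k : ℕ} (hk : Odd k) (hgk : g ^ k = 1) {x : X}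
    (hx : x ∈ S.Zh) : g * x = x * g := by
  obtain ⟨u, hu⟩ := S.yy x hx
  obtain ⟨u', hu'⟩ := S.yy _ (hg x hx)
  have hz : ∀ c, g * E.z c * g⁻¹ = E.z c := fun c => by rw [hgz, mul_inv_cancel_right]
  have hgt' : g * E.t * g⁻¹ = E.t := by rw [hgt, mul_inv_cancel_right]
  have huu : u' = u := by
    have h1 : g * (x * E.t) * g⁻¹ = (g * x * g⁻¹) * E.t := by
      calc g * (x * E.t) * g⁻¹ = (g * x * g⁻¹) * (g * E.t * g⁻¹) := by group
        _ = _ := by rw [hgt']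
    have h2 : g * (x * E.t) * g⁻¹ = E.t * (g * x * g⁻¹) * E.z u := by
      calc g * (x * E.t) * g⁻¹ = (g * E.t * g⁻¹) * (g * x * g⁻¹) * (g * E.z u * g⁻¹) := by
            rw [hu.t]; group
        _ = _ := by rw [hgt', hz]
    rw [h1, hu'.t] at h2
    exact E.z_inj (mul_left_cancel h2)
  subst huu
  have h3 := hu.inv.mul hu'
  rw [add_self] at h3
  obtain ⟨c, hc⟩ := S.ker _ (S.Zh.mul_mem (S.Zh.inv_mem hx) (hg x hx)) h3
  have h4 : g * x * g⁻¹ = x * E.z c := by rw [← hc]; group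
  have h5 : ∀ j : ℕ, g ^ j * x * (g ^ j)⁻¹ = x * E.z c ^ j := by
    intro j
    induction j with
    | zero => group
    | succ j ih =>
      have hzj : g * (E.z c) ^ j * g⁻¹ = (E.z c) ^ j := by
        rw [← MulAut.conj_apply, map_pow, MulAut.conj_apply, hz]
      calc g ^ (j + 1) * x * (g ^ (j + 1))⁻¹ = g * (g ^ j * x * (g ^ j)⁻¹) * g⁻¹ := by
            rw [pow_succ']; group
        _ = (g * x * g⁻¹) * (g * (E.z c) ^ j * g⁻¹) := by rw [ih]; group
        _ = _ := by rw [h4, hzj, mul_assoc, ← pow_succ']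
  have h6 := h5 k
  rw [hgk, one_mul, inv_one, mul_one, left_eq_mul] at h6
  obtain ⟨j, rfl⟩ := hk
  rw [pow_succ, pow_mul, pow_two, E.z_self, one_pow, one_mul] at h6
  rw [h6, mul_one, mul_inv_eq_iff_eq_mul] at h4
  exact h4

end Seed

/-- **Part I.** -/
theorem exists_seed_of_mem (hF : ∃ μ : F, μ ≠ 0 ∧ μ ≠ 1) {n : X}
    (hn : n ∈ normalizer (E.J : Set X)) (hnt : n * E.t ≠ E.t * n) : Nonempty (Seed E) :=
  exists_seed hF (fun u => by
    obtain ⟨y, hy, hyt⟩ := exists_centralising hn hnt hF u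
    exact ⟨y, YY.of_conj hy hyt⟩)

end Cfsg.Agent.StdRank2.L3Zh
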