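import Mathlib
import Cfsg.Agent.StdRank2.OutL3Facts
import Cfsg.Agent.StdRank2.FrameL3P
import Cfsg.Agent.StdRank2.L3Zh
import Cfsg.Agent.StdRank2.L3G.Env

/-!
# Type `L₃(q)`, `q ≥ 4` even: the situation in `X = N_G(O) / O`

`XSit A t fr`: `A ≅ L₃(q)` (trivial centre), `t` an involution centralising `A`, `C(t) ≤ N(A)`,
`C(t) ∩ C(A) = {1, t}`, `t` not conjugate into `A`.  We construct the environments `L3Env.Env` (all
`q ≥ 4`) and `L3G.Env` (`q ≥ 8`).
-/

set_option autoImplicit false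
set_option linter.unusedSectionVars false
set_option linter.dupNamespace false

namespace Cfsg.Agent.StdRank2.L3X

open Subgroup Cfsg.Agent.StdRank2.FrameL3

variable {X : Type*} [Group X] [Finite X] {A : Subgroup X} {t : X}
  {F : Type*} [Field F] [Finite F] [CharP F 2]

/-- the situation. -/
structure XSit (A : Subgroup X) (t : X) (fr : FrameL3 A F) : Prop where
  tt : t * t = 1
  t_ne : t ≠ 1
  tA : ∀ a ∈ A, t * a = a * t
  cent : ∀ x, x * t = t * x → (∀ a ∈ A, x * a = a * x) → x = 1 ∨ x = t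
  norm : ∀ x, x * t = t * x → x ∈ normalizer (A : Set X)
  Z : ∀ a ∈ A, (∀ b ∈ A, a * b = b * a) → a = 1
  perf : _root_.commutator ↥A = ⊤
  not_conj : ∀ g, ∀ u ∈ A, g * t * g⁻¹ ≠ u
  four : 4 ≤ Nat.card F

namespace XSit

variable {fr : FrameL3 A F} (h : XSit A t fr)
include h

theorem hZ : Odd (Nat.card (center ↥A)) := by
  have h1 : center ↥A = ⊥ := by
    rw [eq_bot_iff]
    intro a ha
    rw [mem_bot]
    apply Subtype.ext
    exact h.Z a a.2 fun b hb => (congrArg Subtype.val (mem_center_iff.mp ha ⟨b, hb⟩)).symm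
  rw [h1, Nat.card_unique]
  exact odd_one

theorem exists_ne : ∃ l : F, l ≠ 0 ∧ l ≠ 1 := by
  by_contra hcon
  push Not at hcon
  have h1 : ∀ x : F, x ∈ ({0, 1} : Set F) := fun x => by
    by_cases h0 : x = 0
    · exact Or.inl h0
    · exact Or.inr (hcon x h0)
  have h2 : Nat.card F ≤ 2 := by
    rw [← Set.ncard_univ]
    calc (Set.univ : Set F).ncard ≤ ({0, 1} : Set F).ncard :=
          Set.ncard_le_ncard (fun x _ => h1 x) (Set.toFinite _)
      _ ≤ 2 := (Set.ncard_insert_le _ _).trans (by simp)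
  have := h.four
  omega

theorem t_not : t ∉ A := fun ht => h.not_conj 1 t ht (by group)

theorem el_mem (a b c : F) : fr.el a b c ∈ A := fr.el_mem_A a b c

theorem t_el (a b c : F) : t * fr.el a b c = fr.el a b c * t := h.tA _ (h.el_mem a b c)

theorem el_z (c : F) : fr.el 0 0 c = fr.x 0 2 c := by
  rw [el, fr.x_zero h.hZ (by decide), fr.x_zero h.hZ (by decide), one_mul, one_mul]

theorem el_a (a : F) : fr.el a 0 0 = fr.x 0 1 a := by
  rw [el, fr.x_zero h.hZ (by decide), fr.x_zero h.hZ (by decide), mul_one, mul_one]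

theorem el_b (b : F) : fr.el 0 b 0 = fr.x 1 2 b := by
  rw [el, fr.x_zero h.hZ (by decide), fr.x_zero h.hZ (by decide), mul_one, one_mul]

/-- From centralising `A` modulo `v`. -/
theorem of_cent {v x : X} (hv : v ∈ A) (hx : x * t = t * x)
    (h1 : v⁻¹ * x ∈ centralizer (A : Set X)) : x = v ∨ x = t * v := by
  have h2 : v⁻¹ * x * t = t * (v⁻¹ * x) := by
    have h3 := h.tA _ (inv_mem hv)
    calc v⁻¹ * x * t = v⁻¹ * (t * x) := by rw [mul_assoc, hx]
      _ = (t * v⁻¹) * x := by rw [h3]; group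
      _ = _ := by group
  rcases h.cent _ h2 (fun a ha => (mem_centralizer_iff.mp h1 a ha).symm) with h3 | h3
  · left
    rw [inv_mul_eq_one] at h3
    exact h3.symm
  · right
    have h4 : x = v * t := by rw [← h3]; group
    rw [h4, h.tA v hv]

/-- (b) elements of `C(t)` trivial on `U / Z`. -/
theorem cen {c : X} (hc : c * t = t * c)
    (h1 : ∀ a b d, ∃ m, c * fr.el a b d * c⁻¹ = fr.el a b m) :
    ∃ a b m, c = fr.el a b m ∨ c = t * fr.el a b m := by
  obtain ⟨v, hv, hvc⟩ := OutL3Facts.exists_of_trivial fr h.hZ h.perf (h.norm c hc) (by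
    intro r s z
    obtain ⟨m, hm⟩ := h1 r s (z - r * s)
    refine ⟨m + r * s, ?_⟩
    rw [OutL3Rel.u_eq_el, hm, OutL3Rel.u_eq_el, add_sub_cancel_right])
  obtain ⟨a, b, m, rfl⟩ := (fr.mem_U h.hZ).1 hv
  exact ⟨a, b, m, h.of_cent (fr.U_le hv) hc hvc⟩

/-- torus elements. -/
theorem exists_tor {c : Fin 3 → F} (hc : c 0 * c 1 * c 2 = 1) : ∃ d, fr.Tor d c ∧ d * t = t * d := by
  obtain ⟨d, hd⟩ := fr.exists_tor hc
  exact ⟨d, hd, (h.tA d hd.mem).symm⟩

/-- **The environment for part I.** -/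
def env : L3Env.Env X F where
  el := fr.el
  el_mul a b c a' b' c' := fr.el_mul h.hZ a b c a' b' c'
  el_inj := fun hh => fr.el_inj.1 hh
  t := t
  t_sq := h.tt
  t_el a b c := h.t_el a b c
  t_not a b c hh := h.t_not (hh ▸ h.el_mem a b c)
  tor := by
    intro l hl
    obtain ⟨d, hd, hdt⟩ := h.exists_tor (c := ![l, 1, l⁻¹]) (by simp [hl])
    refine ⟨d, hdt, fun a b c => ?_⟩
    rw [hd.conj_el h.hZ]
    congr 1
    · simp
    · simp [mul_comm]
    · simp [mul_comm, mul_left_comm]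
  cen := by
    intro c hc h1 h2
    apply h.cen hc
    intro a b d
    obtain ⟨m, hm⟩ := h1 a b
    have e1 : fr.el a b d = fr.el a b 0 * fr.el 0 0 d := by
      rw [fr.el_mul h.hZ, add_zero, add_zero, zero_mul, add_zero, zero_add]
    refine ⟨m + d, ?_⟩
    have e2 : c * fr.el a b d * c⁻¹ = (c * fr.el a b 0 * c⁻¹) * (c * fr.el 0 0 d * c⁻¹) := by
      rw [e1]; group
    rw [e2, hm, h2, mul_inv_cancel_right, fr.el_mul h.hZ, add_zero, add_zero, zero_mul, add_zero]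
  inv_conj := by
    intro a b c h1 h2
    obtain ⟨y, hy, hyu⟩ := fr.involution_conj h.hZ (h.el_mem a b c) h1 h2
    exact ⟨y, (h.tA y hy).symm, by rw [hyu, h.el_z]⟩
  t_z g := h.not_conj g _ (h.el_mem 0 0 1)

@[simp] theorem env_el (a b c : F) : h.env.el a b c = fr.el a b c := rfl
@[simp] theorem env_t : h.env.t = t := rfl

end XSit

/-! ### the torus -/

/-- `y` acts on the root elements as the diagonal matrix `c`. -/
def IsTor (fr : FrameL3 A F) (y : X) (c : Fin 3 → F) : Prop :=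
  y ∈ A ∧ (∀ i, c i ≠ 0) ∧
    ∀ i j : Fin 3, i ≠ j → ∀ s, y * fr.x i j s * y⁻¹ = fr.x i j (c i * s * (c j)⁻¹)

theorem IsTor.mul {fr : FrameL3 A F} {y y' : X} {c c' : Fin 3 → F}
    (h1 : IsTor fr y c) (h2 : IsTor fr y' c') : IsTor fr (y * y') (fun i => c i * c' i) := by
  refine ⟨mul_mem h1.1 h2.1, fun i => mul_ne_zero (h1.2.1 i) (h2.2.1 i), fun i j hij s => ?_⟩
  calc y * y' * fr.x i j s * (y * y')⁻¹ = y * (y' * fr.x i j s * y'⁻¹) * y⁻¹ := by group
    _ = _ := by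
      rw [h2.2.2 i j hij, h1.2.2 i j hij]
      congr 1
      rw [mul_inv]; ring

theorem IsTor.one (fr : FrameL3 A F) : IsTor fr 1 (fun _ => 1) := by
  refine ⟨one_mem _, fun _ => one_ne_zero, fun i j _ s => ?_⟩
  rw [inv_one, mul_one, one_mul, one_mul, inv_one, mul_one]

theorem IsTor.inv {fr : FrameL3 A F} {y : X} {c : Fin 3 → F}
    (h1 : IsTor fr y c) : IsTor fr y⁻¹ (fun i => (c i)⁻¹) := by
  refine ⟨inv_mem h1.1, fun i => inv_ne_zero (h1.2.1 i), fun i j hij s => ?_⟩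
  have h2 := h1.2.2 i j hij ((c i)⁻¹ * s * (c j)⁻¹⁻¹)
  have h3 : c i * ((c i)⁻¹ * s * (c j)⁻¹⁻¹) * (c j)⁻¹ = s := by
    have := h1.2.1 i
    have := h1.2.1 j
    field_simp
  rw [h3] at h2
  rw [← h2]; group

theorem IsTor.pow {fr : FrameL3 A F} {y : X} {c : Fin 3 → F}
    (h1 : IsTor fr y c) (n : ℕ) : IsTor fr (y ^ n) (fun i => c i ^ n) := by
  induction n with
  | zero => simpa using IsTor.one fr
  | succ n ih => simpa [pow_succ] using ih.mul h1

/-- the torus. -/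
def torus (fr : FrameL3 A F) : Subgroup X where
  carrier := {y | ∃ c, IsTor fr y c}
  mul_mem' := by
    rintro _ _ ⟨c, h1⟩ ⟨c', h2⟩
    exact ⟨_, h1.mul h2⟩
  one_mem' := ⟨_, IsTor.one fr⟩
  inv_mem' := by
    rintro _ ⟨c, h1⟩
    exact ⟨_, h1.inv⟩

theorem mem_torus {fr : FrameL3 A F} {y : X} : y ∈ torus fr ↔ ∃ c, IsTor fr y c := Iff.rfl

theorem IsTor.conj_el {fr : FrameL3 A F} {y : X} {c : Fin 3 → F} (h1 : IsTor fr y c) (a b d : F) :
    y * fr.el a b d * y⁻¹ = fr.el (c 0 * a * (c 1)⁻¹) (c 1 * b * (c 2)⁻¹) (c 0 * d * (c 2)⁻¹) := by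
  unfold el
  rw [← h1.2.2 0 1 (by decide), ← h1.2.2 1 2 (by decide), ← h1.2.2 0 2 (by decide)]
  group

namespace XSit

variable {fr : FrameL3 A F} (h : XSit A t fr)
include h

theorem isTor_of_tor {y : X} {c : Fin 3 → F} (hy : fr.Tor y c) : IsTor fr y c :=
  ⟨hy.mem, hy.ne_zero, fun _ _ hij s => hy.conj h.hZ hij s⟩

theorem bracket : ⁅A, A⁆ = A := by
  have h1 := h.perf
  rw [_root_.commutator_def] at h1
  have h2 := congrArg (Subgroup.map A.subtype) h1
  rw [map_commutator, ← MonoidHom.range_eq_map, range_subtype] at h2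
  exact h2

/-- an element of `A` centralising the root elements is trivial. -/
theorem eq_one {y : X} (hy : y ∈ A) (h1 : ∀ i j : Fin 3, i ≠ j → ∀ s, y * fr.x i j s = fr.x i j s * y) :
    y = 1 := by
  apply h.Z y hy
  intro b hb
  rw [← fr.closure_eq h.hZ h.bracket] at hb
  have h2 : closure {g : X | ∃ (i j : Fin 3) (_ : i ≠ j) (s : F), g = fr.x i j s} ≤
      centralizer ({y} : Set X) := by
    rw [closure_le]
    rintro _ ⟨i, j, hij, s, rfl⟩
    rw [SetLike.mem_coe, mem_centralizer_singleton_iff]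
    exact (h1 i j hij s).symm
  have h3 := h2 hb
  rw [mem_centralizer_singleton_iff] at h3
  exact h3.symm

theorem torus_odd {y : X} (hy : y ∈ torus fr) : ∃ m, Odd m ∧ y ^ m = 1 := by
  obtain ⟨c, hc⟩ := hy
  have : Fintype F := Fintype.ofFinite F
  have hcard : Fintype.card F = Nat.card F := (Nat.card_eq_fintype_card).symm
  refine ⟨Nat.card F - 1, ?_, ?_⟩
  · obtain ⟨n, -, hn⟩ := FiniteField.card F 2
    rw [hcard] at hn
    rw [hn]
    have : 1 ≤ 2 ^ (n : ℕ) := Nat.one_le_two_pow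
    have h2 : Even (2 ^ (n : ℕ)) := by
      rw [Nat.even_pow]
      exact ⟨even_two, n.pos.ne'⟩
    exact Nat.Even.sub_odd this h2 odd_one
  · have h1 := hc.pow (Nat.card F - 1)
    apply h.eq_one h1.1
    intro i j hij s
    have h2 : y ^ (Nat.card F - 1) * fr.x i j s * (y ^ (Nat.card F - 1))⁻¹ =
      fr.x i j (c i ^ (Nat.card F - 1) * s * (c j ^ (Nat.card F - 1))⁻¹) := h1.2.2 i j hij s
    have h3 : ∀ i, c i ^ (Nat.card F - 1) = 1 := by
      intro i
      rw [← hcard]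
      exact FiniteField.pow_card_sub_one_eq_one (c i) (hc.2.1 i)
    rw [h3, h3, one_mul, inv_one, mul_one, mul_inv_eq_iff_eq_mul] at h2
    exact h2

theorem torus_conj {i j : Fin 3} (hij : i ≠ j) {y : X} :
    y ∈ torus fr ↔ fr.w i j 1 * y * (fr.w i j 1)⁻¹ ∈ torus fr := by
  have hinv := fr.w_inv hij 1
  have key : ∀ y ∈ torus fr, fr.w i j 1 * y * (fr.w i j 1)⁻¹ ∈ torus fr := by
    rintro y ⟨c, hc⟩
    refine ⟨fun k => c (Equiv.swap i j k), mul_mem (mul_mem (fr.w_mem hij 1) hc.1)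
      (inv_mem (fr.w_mem hij 1)), fun k => hc.2.1 _, fun k l hkl s => ?_⟩
    have h1 := fr.w_conj_one h.hZ hij hkl s
    have hkl' : Equiv.swap i j k ≠ Equiv.swap i j l := fun hh => hkl ((Equiv.swap i j).injective hh)
    have h2 : (fr.w i j 1)⁻¹ * fr.x k l s * fr.w i j 1 = fr.x (Equiv.swap i j k) (Equiv.swap i j l) s := by
      rw [← h1, hinv]
    have h3 : ∀ s, fr.w i j 1 * fr.x (Equiv.swap i j k) (Equiv.swap i j l) s * (fr.w i j 1)⁻¹ =
        fr.x k l s := by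
      intro s
      rw [fr.w_conj_one h.hZ hij hkl', Equiv.swap_apply_self, Equiv.swap_apply_self]
    calc fr.w i j 1 * y * (fr.w i j 1)⁻¹ * fr.x k l s * (fr.w i j 1 * y * (fr.w i j 1)⁻¹)⁻¹
        = fr.w i j 1 * (y * ((fr.w i j 1)⁻¹ * fr.x k l s * fr.w i j 1) * y⁻¹) * (fr.w i j 1)⁻¹ := by
          group
      _ = _ := by rw [h2, hc.2.2 _ _ hkl', h3]
  refine ⟨key y, fun hy => ?_⟩
  have h1 := key _ hy
  have h2 : fr.w i j 1 * (fr.w i j 1 * y * (fr.w i j 1)⁻¹) * (fr.w i j 1)⁻¹ = y := by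
    have h3 := fr.w_mul_self hij 1
    calc fr.w i j 1 * (fr.w i j 1 * y * (fr.w i j 1)⁻¹) * (fr.w i j 1)⁻¹
        = (fr.w i j 1 * fr.w i j 1) * y * (fr.w i j 1 * fr.w i j 1)⁻¹ := by group
      _ = y := by rw [h3]; group
  rwa [h2] at h1

/-- (c) -/
theorem cent_one {c : X} (hc : c * t = t * c) (ha : ∀ x, c * fr.x 0 1 x = fr.x 0 1 x * c)
    (hz : ∀ x, c * fr.x 0 2 x = fr.x 0 2 x * c) :
    ∃ x z, c = fr.x 0 1 x * fr.x 0 2 z ∨ c = t * (fr.x 0 1 x * fr.x 0 2 z) := by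
  have hu : ∀ r z, OutL3Rel.u fr r 0 z = fr.x 0 1 r * fr.x 0 2 z := by
    intro r z
    rw [OutL3Rel.u_eq_el, mul_zero, sub_zero, el, fr.x_zero h.hZ (by decide), mul_one]
  obtain ⟨r, z, hrz⟩ := OutL3Facts.exists_of_cent_one fr h.perf (h.norm c hc) (by
    intro r z
    rw [hu, ← mul_assoc, ha, mul_assoc (fr.x 0 1 r), hz, ← mul_assoc, mul_inv_cancel_right])
  refine ⟨r, z, ?_⟩
  rw [← hu]
  exact h.of_cent (fr.U_le (OutL3Rel.u_mem fr _ _ _)) hc hrz

/-- (c) -/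
theorem cent_two {c : X} (hc : c * t = t * c) (hb : ∀ x, c * fr.x 1 2 x = fr.x 1 2 x * c)
    (hz : ∀ x, c * fr.x 0 2 x = fr.x 0 2 x * c) :
    ∃ x z, c = fr.x 1 2 x * fr.x 0 2 z ∨ c = t * (fr.x 1 2 x * fr.x 0 2 z) := by
  have hu : ∀ r z, OutL3Rel.u fr 0 r z = fr.x 1 2 r * fr.x 0 2 z := by
    intro r z
    rw [OutL3Rel.u_eq_el, zero_mul, sub_zero, el, fr.x_zero h.hZ (by decide), one_mul]
  obtain ⟨r, z, hrz⟩ := OutL3Facts.exists_of_cent_two fr h.perf (h.norm c hc) (by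
    intro r z
    rw [hu, ← mul_assoc, hb, mul_assoc (fr.x 1 2 r), hz, ← mul_assoc, mul_inv_cancel_right])
  refine ⟨r, z, ?_⟩
  rw [← hu]
  exact h.of_cent (fr.U_le (OutL3Rel.u_mem fr _ _ _)) hc hrz

/-- **The environment for part II** (`q ≥ 8`: `ν ^ 3 ≠ 1`). -/
def envG {ν : F} (hν0 : ν ≠ 0) (hν1 : ν ^ 3 ≠ 1) : L3G.Env F X where
  xa := fr.x 0 1
  xb := fr.x 1 2
  xc := fr.x 0 2
  t := t
  T := torus fr
  na := fr.w 1 2 1
  nb := fr.w 0 1 1
  mu := ν ^ 3
  mu_ne := pow_ne_zero 3 hν0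
  mu_ne' := hν1
  xa_add x y := (fr.add h.hZ (by decide) x y).symm
  xb_add x y := (fr.add h.hZ (by decide) x y).symm
  xc_add x y := (fr.add h.hZ (by decide) x y).symm
  c_a x y := fr.comm h.hZ (by decide) (by decide) (by decide) (by decide) x y
  c_b x y := fr.comm h.hZ (by decide) (by decide) (by decide) (by decide) x y
  a_b x y := by
    rw [← h.el_a, ← h.el_b, ← h.el_z, fr.el_mul h.hZ, fr.el_mul h.hZ, fr.el_mul h.hZ]
    congr 1
    · ring
    · ring
    · have : x * y + x * y = 0 := CharTwo.add_self_eq_zero _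
      simp [this]
  u_inj x y z hh := by
    have h1 : fr.el x y z = fr.el 0 0 0 := by rw [fr.el_zero h.hZ]; exact hh
    exact fr.el_inj.1 h1
  t_sq := h.tt
  t_a x := h.tA _ (fr.mem (by decide) x)
  t_b x := h.tA _ (fr.mem (by decide) x)
  t_c x := h.tA _ (fr.mem (by decide) x)
  t_na := h.tA _ (fr.w_mem (by decide) 1)
  t_nb := h.tA _ (fr.w_mem (by decide) 1)
  t_not x y z hh := h.t_not (hh ▸ h.el_mem x y z)
  T_t g hg := by
    obtain ⟨c, hc⟩ := hg
    exact h.tA g hc.1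
  T_odd g hg := h.torus_odd hg
  T_act g hg := by
    obtain ⟨c, hc⟩ := hg
    refine ⟨c 0 * (c 1)⁻¹, c 1 * (c 2)⁻¹, mul_ne_zero (hc.2.1 0) (inv_ne_zero (hc.2.1 1)),
      mul_ne_zero (hc.2.1 1) (inv_ne_zero (hc.2.1 2)), fun x => ?_, fun x => ?_⟩
    · rw [hc.2.2 0 1 (by decide)]; congr 1; ring
    · rw [hc.2.2 1 2 (by decide)]; congr 1; ring
  T_mu_one := by
    obtain ⟨d, hd, -⟩ := h.exists_tor (c := ![ν ^ 2, ν⁻¹, ν⁻¹]) (by simp; field_simp)
    have hd' := h.isTor_of_tor hd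
    refine ⟨d, ⟨_, hd'⟩, fun x => ?_, fun x => ?_⟩
    · rw [hd'.2.2 0 1 (by decide)]; congr 1; simp; ring
    · rw [hd'.2.2 1 2 (by decide)]; congr 1; simp; field_simp
  T_one_mu := by
    obtain ⟨d, hd, -⟩ := h.exists_tor (c := ![ν, ν, (ν ^ 2)⁻¹]) (by simp; field_simp)
    have hd' := h.isTor_of_tor hd
    refine ⟨d, ⟨_, hd'⟩, fun x => ?_, fun x => ?_⟩
    · rw [hd'.2.2 0 1 (by decide)]; congr 1; simp; field_simp
    · rw [hd'.2.2 1 2 (by decide)]; congr 1; simp; ring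
  na_a x := fr.w_conj_one h.hZ (i := 1) (j := 2) (by decide) (k := 0) (l := 1) (by decide) x
  na_c x := fr.w_conj_one h.hZ (i := 1) (j := 2) (by decide) (k := 0) (l := 2) (by decide) x
  nb_b x := fr.w_conj_one h.hZ (i := 0) (j := 1) (by decide) (k := 1) (l := 2) (by decide) x
  nb_c x := fr.w_conj_one h.hZ (i := 0) (j := 1) (by decide) (k := 0) (l := 2) (by decide) x
  na_T g := h.torus_conj (by decide)
  nb_T g := h.torus_conj (by decide)
  cent_one c h1 h2 h3 := h.cent_one h1 h2 h3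
  cent_two c h1 h2 h3 := h.cent_two h1 h2 h3
  cent_U c h1 h2 h3 := by
    obtain ⟨a, b, m, hc⟩ := h.cen h1 (by
      intro a b d
      obtain ⟨z1, hz1⟩ := h2 a
      obtain ⟨z2, hz2⟩ := h3 b
      have h4 : ∀ z, ∃ z', c * fr.x 0 2 z * c⁻¹ = fr.x 0 2 z' := by
        intro z
        -- `x02 z = [x01 z, x12 1]`
        obtain ⟨w1, hw1⟩ := h2 z
        obtain ⟨w2, hw2⟩ := h3 1
        have e1 : fr.x 0 2 z = fr.el z 0 0 * fr.el 0 1 0 * (fr.el z 0 0)⁻¹ * (fr.el 0 1 0)⁻¹ := by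
          have h5 : fr.el z 0 0 * fr.el 0 1 0 = fr.el 0 0 z * (fr.el 0 1 0 * fr.el z 0 0) := by
            rw [fr.el_mul h.hZ, fr.el_mul h.hZ, fr.el_mul h.hZ]
            congr 1
            · ring
            · ring
            · have : z + z = 0 := CharTwo.add_self_eq_zero _
              simp [this]
          rw [h5, h.el_z]; group
        have e2 : c * fr.x 0 2 z * c⁻¹ = (c * fr.el z 0 0 * c⁻¹) * (c * fr.el 0 1 0 * c⁻¹) *
            (c * fr.el z 0 0 * c⁻¹)⁻¹ * (c * fr.el 0 1 0 * c⁻¹)⁻¹ := by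
          rw [e1]; group
        rw [h.el_a, h.el_b, hw1, hw2] at e2
        rw [e2, ← h.el_a z, ← h.el_b 1, ← h.el_z w1, ← h.el_z w2]
        simp only [fr.el_mul h.hZ, fr.el_inv h.hZ]
        have h6 : ∀ u : F, u + u = 0 := fun u => CharTwo.add_self_eq_zero u
        simp only [add_zero, zero_add, mul_zero, mul_one, h6]
        exact ⟨_, by rw [← h.el_z]⟩
      obtain ⟨z3, hz3⟩ := h4 d
      have e1 : c * fr.el a b d * c⁻¹ = (c * fr.x 0 1 a * c⁻¹) * (c * fr.x 1 2 b * c⁻¹) *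
          (c * fr.x 0 2 d * c⁻¹) := by rw [el]; group
      rw [hz1, hz2, hz3] at e1
      rw [e1, ← h.el_a a, ← h.el_b b, ← h.el_z z1, ← h.el_z z2, ← h.el_z z3]
      simp only [fr.el_mul h.hZ]
      simp only [add_zero, zero_add, mul_zero, zero_mul]
      exact ⟨_, rfl⟩)
    exact ⟨a, b, m, hc⟩

/-- elements of `C(t)` normalising `U` satisfy `Nor`. -/
theorem nor_of_comm {y : X} (hy : y * t = t * y) (hyU : ∀ u ∈ fr.U, y * u * y⁻¹ ∈ fr.U)
    (hyU' : ∀ u ∈ fr.U, y⁻¹ * u * y ∈ fr.U) : L3Norm.Nor h.env y where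
  el a b c := (fr.mem_U h.hZ).1 (hyU _ (fr.el_mem_U a b c))
  el' a b c := (fr.mem_U h.hZ).1 (hyU' _ (fr.el_mem_U a b c))
  t := ⟨0, by
    show y * t * y⁻¹ = t * fr.el 0 0 0
    rw [hy, mul_inv_cancel_right, fr.el_zero h.hZ, mul_one]⟩
  t' := ⟨0, by
    show y⁻¹ * t * y = t * fr.el 0 0 0
    rw [fr.el_zero h.hZ, mul_one, mul_assoc, ← hy, inv_mul_cancel_left]⟩

theorem nor_of_tor {y : X} {c : Fin 3 → F} (hy : IsTor fr y c) : L3Norm.Nor h.env y := by
  apply h.nor_of_comm (h.tA y hy.1).symm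
  · intro u hu
    obtain ⟨a, b, d, rfl⟩ := (fr.mem_U h.hZ).1 hu
    rw [hy.conj_el]
    exact fr.el_mem_U _ _ _
  · intro u hu
    obtain ⟨a, b, d, rfl⟩ := (fr.mem_U h.hZ).1 hu
    have h1 := hy.inv.conj_el a b d
    rw [inv_inv] at h1
    rw [h1]
    exact fr.el_mem_U _ _ _

/-- **The input of part II.** -/
theorem seedG (S : L3Zh.Seed h.env) {ν : F} (hν0 : ν ≠ 0) (hν1 : ν ^ 3 ≠ 1) :
    L3G.Seed (h.envG hν0 hν1) S.Zh where
  mem c := by
    show fr.x 0 2 c ∈ S.Zh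
    rw [← h.el_z]
    exact S.z_mem c
  comm g hg k hk := S.comm g hg k hk
  conj_t g hg := by
    obtain ⟨u, hu⟩ := S.yy g hg
    refine ⟨u, ?_⟩
    show g * t * g⁻¹ = fr.x 0 2 u * t
    have h1 : g * t * g⁻¹ = t * fr.el 0 0 u := hu.t_conj
    rw [h1, h.t_el, h.el_z]
  onto c := by
    obtain ⟨g, hg, hu⟩ := S.onto c
    refine ⟨g, hg, ?_⟩
    show g * t * g⁻¹ = fr.x 0 2 c * t
    have h1 : g * t * g⁻¹ = t * fr.el 0 0 c := hu.t_conj
    rw [h1, h.t_el, h.el_z]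
  cent g hg hgt := by
    obtain ⟨u, hu⟩ := S.yy g hg
    have h1 : u = 0 := hu.t_comm hgt
    subst h1
    obtain ⟨c, hc⟩ := S.ker g hg hu
    refine ⟨c, ?_⟩
    show g = fr.x 0 2 c
    rw [hc, ← h.el_z]
    rfl
  conj_T k hk g hg := by
    obtain ⟨c, hc⟩ := hk
    exact S.conj_mem h.exists_ne (h.nor_of_tor hc) hg
  c_a g hg x := by
    obtain ⟨u, hu⟩ := S.yy g hg
    show g * fr.x 0 1 x = fr.x 0 1 x * g
    rw [← h.el_a]
    exact hu.el x 0 0
  c_b g hg x := by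
    obtain ⟨u, hu⟩ := S.yy g hg
    show g * fr.x 1 2 x = fr.x 1 2 x * g
    rw [← h.el_b]
    exact hu.el 0 x 0

theorem exists_nu (h8 : 8 ≤ Nat.card F) : ∃ ν : F, ν ≠ 0 ∧ ν ^ 3 ≠ 1 := by
  classical
  by_contra hcon
  push Not at hcon
  have : Fintype F := Fintype.ofFinite F
  have h1 : ∀ x : F, x ∈ insert (0 : F) ((Polynomial.nthRoots 3 (1 : F)).toFinset : Set F) := by
    intro x
    by_cases h0 : x = 0
    · exact Or.inl h0
    · right
      rw [Finset.mem_coe, Multiset.mem_toFinset, Polynomial.mem_nthRoots (by norm_num)]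
      exact hcon x h0
  have h2 : Nat.card F ≤ 4 := by
    rw [← Set.ncard_univ]
    calc (Set.univ : Set F).ncard ≤ (insert (0 : F) ((Polynomial.nthRoots 3 (1 : F)).toFinset : Set F)).ncard :=
          Set.ncard_le_ncard (fun x _ => h1 x) (Set.toFinite _)
      _ ≤ ((Polynomial.nthRoots 3 (1 : F)).toFinset : Set F).ncard + 1 := Set.ncard_insert_le _ _
      _ ≤ 3 + 1 := by
        rw [Set.ncard_coe_finset]
        have := Multiset.toFinset_card_le (Polynomial.nthRoots 3 (1 : F))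
        have := Polynomial.card_nthRoots 3 (1 : F)
        omega
  omega

end XSit

end Cfsg.Agent.StdRank2.L3X
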