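import Cfsg.Agent.StdRank2.L3RLift

/-!
# Type `L₃(q)`, wreath case: the two commuting components `A₁`, `A₂ = A₁ᵗ` and their frames

Input: `R : Roots t fr g` in `G` and an idempotent `e` of `Q g` with `tau e = e + 1`.
Output: `Wr0 t fr`.
-/

set_option autoImplicit false
set_option linter.unusedSectionVars false

namespace Cfsg.Agent.StdRank2.L3W0

open Subgroup Cfsg.Agent.StdRank2.FrameL3 Cfsg.Agent.StdRank2.L3G Quad
open Cfsg.Agent.StdRank2.L3Roots
open scoped commutatorElement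

section General

/-- The centre of a perfect central cover. -/
theorem mem_center_iff_of_cover {P Q : Type*} [Group P] [Group Q] (f : P →* Q)
    (hf : Function.Surjective f) (hk : f.ker ≤ center P) (hp : _root_.commutator P = ⊤) (x : P) :
    x ∈ center P ↔ f x ∈ center Q := by
  constructor
  · intro hx
    rw [mem_center_iff] at hx ⊢
    intro q
    obtain ⟨p, rfl⟩ := hf q
    rw [← map_mul, hx, map_mul]
  · intro hx
    have hker : ∀ y, x * y * x⁻¹ * y⁻¹ ∈ center P := by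
      intro y
      apply hk
      rw [MonoidHom.mem_ker, map_mul, map_mul, map_mul, map_inv, map_inv, ← mem_center_iff.mp hx,
        mul_inv_cancel_right, mul_inv_cancel]
    let c : P →* P :=
      { toFun := fun y => x * y * x⁻¹ * y⁻¹
        map_one' := by group
        map_mul' := fun y z => by
          have h1 := mem_center_iff.mp (hker z) y
          calc x * (y * z) * x⁻¹ * (y * z)⁻¹
              = (x * y * x⁻¹ * y⁻¹) * (y * (x * z * x⁻¹ * z⁻¹) * y⁻¹) := by group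
            _ = (x * y * x⁻¹ * y⁻¹) * (x * z * x⁻¹ * z⁻¹) := by rw [h1]; group }
    have h2 : _root_.commutator P ≤ c.ker := by
      rw [_root_.commutator_def, commutator_le]
      intro a _ b _
      rw [MonoidHom.mem_ker, map_commutatorElement]
      have h3 : c a * c b = c b * c a := mem_center_iff.mp (hker b) _
      rw [commutatorElement_eq_one_iff_mul_comm]
      exact h3
    rw [hp] at h2
    rw [mem_center_iff]
    intro y
    have h3 : x * y * x⁻¹ * y⁻¹ = 1 := h2 (mem_top y)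
    calc y * x = (x * y * x⁻¹ * y⁻¹) * (y * x) := by rw [h3, one_mul]
      _ = x * y := by group

/-- The induced isomorphism modulo the centres. -/
theorem exists_equiv_center {P Q : Type*} [Group P] [Group Q] (f : P →* Q)
    (hf : Function.Surjective f) (hk : f.ker ≤ center P) (hp : _root_.commutator P = ⊤) :
    ∃ e : (P ⧸ center P) ≃* (Q ⧸ center Q), ∀ x : P, e (QuotientGroup.mk x) = QuotientGroup.mk (f x) := by
  let φ : P →* Q ⧸ center Q := (QuotientGroup.mk' (center Q)).comp f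
  have hφ : Function.Surjective φ := (QuotientGroup.mk'_surjective _).comp hf
  have hker : center P = φ.ker := by
    ext x
    rw [mem_center_iff_of_cover f hf hk hp x, MonoidHom.mem_ker]
    exact (QuotientGroup.eq_one_iff (f x)).symm
  refine ⟨(QuotientGroup.quotientMulEquivOfEq hker).trans
    (QuotientGroup.quotientKerEquivOfSurjective φ hφ), fun x => rfl⟩

/-- a 2-group acting on a group of even order fixes a non-trivial element -/
theorem exists_fix {G : Type*} [Group G] {T K : Subgroup G} (hT : IsPGroup 2 T) (hfin : Finite K)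
    (hK : 2 ∣ Nat.card K) (hn : ∀ t ∈ T, ∀ k ∈ K, t * k * t⁻¹ ∈ K) :
    ∃ k ∈ K, k ≠ 1 ∧ ∀ t ∈ T, t * k * t⁻¹ = k := by
  have : Fact (Nat.Prime 2) := ⟨Nat.prime_two⟩
  let _ : MulAction T K :=
    { smul := fun t k => ⟨(t : G) * k * (t : G)⁻¹, hn t t.2 k k.2⟩
      one_smul := fun k => Subtype.ext (by
        change ((1 : T) : G) * k * ((1 : T) : G)⁻¹ = k
        simp)
      mul_smul := fun s t k => Subtype.ext (by
        change ((s * t : T) : G) * k * ((s * t : T) : G)⁻¹ = (s : G) * ((t : G) * k * (t : G)⁻¹) * (s : G)⁻¹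
        rw [Subgroup.coe_mul]; group) }
  have hsm : ∀ (t : T) (k : K), ((t • k : K) : G) = (t : G) * k * (t : G)⁻¹ := fun _ _ => rfl
  obtain ⟨k, hk, hk1⟩ := hT.exists_fixed_point_of_prime_dvd_card_of_fixed_point K hK
    (a := (1 : K)) (fun t => Subtype.ext (by rw [hsm]; simp))
  refine ⟨k, k.2, fun h => hk1 (Subtype.ext h.symm), fun t ht => ?_⟩
  have := congrArg Subtype.val (hk ⟨t, ht⟩)
  rw [hsm] at this
  exact this

end General

/-- **The wreath situation**: two commuting subgroups interchanged by `t`, with frames which add up to the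
frame of the diagonal `A`. -/
structure Wr0 {G : Type*} [Group G] {A : Subgroup G} {F : Type*} [Field F] (t : G)
    (fr : FrameL3 A F) where
  A1 : Subgroup G
  A2 : Subgroup G
  fr1 : FrameL3 A1 F
  fr2 : FrameL3 A2 F
  comm : ∀ x ∈ A1, ∀ y ∈ A2, x * y = y * x
  t12 : ∀ x ∈ A1, t * x * t⁻¹ ∈ A2
  t21 : ∀ x ∈ A2, t * x * t⁻¹ ∈ A1
  tx : ∀ {i j : Fin 3}, i ≠ j → ∀ s, t * fr1.x i j s * t⁻¹ = fr2.x i j s
  tx' : ∀ {i j : Fin 3}, i ≠ j → ∀ s, t * fr2.x i j s * t⁻¹ = fr1.x i j s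
  x_eq : ∀ {i j : Fin 3}, i ≠ j → ∀ s, fr.x i j s = fr1.x i j s * fr2.x i j s
  diag : ∀ x ∈ A1, x * (t * x * t⁻¹) ∈ A
  onto : ∀ a ∈ A, ∃ x ∈ A1, a = x * (t * x * t⁻¹)
  onto' : ∀ a ∈ A, ∃ x ∈ A2, a = x * (t * x * t⁻¹)
  perf1 : _root_.commutator ↥A1 = ⊤
  perf2 : _root_.commutator ↥A2 = ⊤
  odd1 : Odd (Nat.card (center ↥A1))
  odd2 : Odd (Nat.card (center ↥A2))
  cent : Odd (Nat.card (centralizer ((A1 ⊔ A2 : Subgroup G) : Set G)))

variable {G : Type*} [Group G] {A : Subgroup G} {t : G} {F : Type*} [Field F]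
  [CharP F 2] {fr : FrameL3 A F} {g : F}

/-- The input in `G`. -/
structure Inp (t : G) (fr : FrameL3 A F) (g : F) where
  R : Roots t fr g
  tt : t * t = 1
  tA : ∀ a ∈ A, t * a = a * t
  hZ : Odd (Nat.card (center ↥A))
  perf : _root_.commutator ↥A = ⊤
  two : ∀ x, x * x = 1 → x * t = t * x → (∀ a ∈ A, x * a = a * x) → x = 1 ∨ x = t
  e : Q g
  ee : e * e = e
  te : tau g e = e + 1

namespace Inp

variable (I : Inp t fr g)

/-- the complementary idempotent -/
def e' : Q g := I.e + 1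

theorem add_self (u : Q g) : u + u = 0 := by
  rw [← two_mul, two_eq_zero, zero_mul]

theorem e_e' : I.e * I.e' = 0 := by
  rw [e', mul_add, I.ee, mul_one, add_self]

theorem e'_e : I.e' * I.e = 0 := by rw [mul_comm, I.e_e']

theorem e'e' : I.e' * I.e' = I.e' := by
  have h1 := I.e_e'
  rw [e'] at *
  rw [add_mul, h1, one_mul, zero_add]

theorem te' : tau g I.e' = I.e := by
  rw [e', map_add, I.te, map_one, add_assoc, add_self, add_zero]

theorem e_ne : I.e ≠ I.e' := by
  intro h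
  have h1 : I.e + I.e' = 0 := by rw [← h, add_self]
  rw [e', ← add_assoc, add_self, zero_add] at h1
  exact one_ne_zero' h1

theorem e_add : I.e + I.e' = 1 := by rw [e', ← add_assoc, add_self, zero_add]

/-- `z1` -/
def z1 (i j : Fin 3) (s : F) : G := I.R.y i j (con s * I.e)
/-- `z2` -/
def z2 (i j : Fin 3) (s : F) : G := I.R.y i j (con s * I.e')

theorem y_zero {i j : Fin 3} (hij : i ≠ j) : I.R.y i j 0 = 1 := by
  have := I.R.add hij 0 0
  rw [add_zero] at this
  exact left_eq_mul.1 this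

theorem y_sq {i j : Fin 3} (hij : i ≠ j) (u : Q g) : I.R.y i j u * I.R.y i j u = 1 := by
  rw [← I.R.add hij, add_self, I.y_zero hij]

theorem z_mul {i j : Fin 3} (hij : i ≠ j) (s : F) : I.z1 i j s * I.z2 i j s = fr.x i j s := by
  rw [z1, z2, ← I.R.add hij, ← mul_add, I.e_add, mul_one, I.R.con hij]

theorem t_z1 {i j : Fin 3} (hij : i ≠ j) (s : F) : t * I.z1 i j s * t⁻¹ = I.z2 i j s := by
  rw [z1, z2, I.R.tau hij, map_mul, tau_con, I.te, e']

theorem t_z2 {i j : Fin 3} (hij : i ≠ j) (s : F) : t * I.z2 i j s * t⁻¹ = I.z1 i j s := by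
  rw [z1, z2, I.R.tau hij, map_mul, tau_con, I.te']

/-- orthogonal root elements commute -/
theorem y_comm {i j k l : Fin 3} (hij : i ≠ j) (hkl : k ≠ l) {u v : Q g} (huv : u * v = 0) :
    I.R.y i j u * I.R.y k l v = I.R.y k l v * I.R.y i j u := by
  have hvu : v * u = 0 := by rw [mul_comm, huv]
  by_cases hjk : j = k
  · subst hjk
    by_cases hil : i = l
    · subst hil
      exact I.R.opp hij u v huv
    · have h1 := I.R.conj hij hkl hil u v
      rw [huv, I.y_zero hil, one_mul] at h1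
      exact mul_inv_eq_iff_eq_mul.1 h1
  · by_cases hil : i = l
    · subst hil
      have h1 := I.R.conj hkl hij (Ne.symm hjk) v u
      rw [hvu, I.y_zero (Ne.symm hjk), one_mul] at h1
      exact (mul_inv_eq_iff_eq_mul.1 h1).symm
    · exact I.R.comm hij hkl hjk hil u v

theorem z_comm {i j k l : Fin 3} (hij : i ≠ j) (hkl : k ≠ l) (s r : F) :
    I.z1 i j s * I.z2 k l r = I.z2 k l r * I.z1 i j s := by
  apply I.y_comm hij hkl
  calc con s * I.e * (con r * I.e') = con s * con r * (I.e * I.e') := by ring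
    _ = 0 := by rw [I.e_e', mul_zero]

/-- the first component -/
def A1 : Subgroup G := closure {x | ∃ i j : Fin 3, i ≠ j ∧ ∃ s, x = I.z1 i j s}
/-- the second component -/
def A2 : Subgroup G := closure {x | ∃ i j : Fin 3, i ≠ j ∧ ∃ s, x = I.z2 i j s}

theorem z1_mem {i j : Fin 3} (hij : i ≠ j) (s : F) : I.z1 i j s ∈ I.A1 :=
  subset_closure ⟨i, j, hij, s, rfl⟩

theorem z2_mem {i j : Fin 3} (hij : i ≠ j) (s : F) : I.z2 i j s ∈ I.A2 :=
  subset_closure ⟨i, j, hij, s, rfl⟩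

theorem comm : ∀ x ∈ I.A1, ∀ y ∈ I.A2, x * y = y * x := by
  have h1 : I.A1 ≤ centralizer (I.A2 : Set G) := by
    rw [A1, closure_le]
    rintro _ ⟨i, j, hij, s, rfl⟩
    rw [SetLike.mem_coe, mem_centralizer_iff]
    intro y hy
    have h2 : I.A2 ≤ centralizer ({I.z1 i j s} : Set G) := by
      rw [A2, closure_le]
      rintro _ ⟨k, l, hkl, r, rfl⟩
      rw [SetLike.mem_coe, mem_centralizer_singleton_iff]
      exact (I.z_comm hij hkl s r).symm
    have h3 := h2 hy
    rwa [mem_centralizer_singleton_iff] at h3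
  intro x hx y hy
  exact (mem_centralizer_iff.mp (h1 hx) y hy).symm

theorem t12 : ∀ x ∈ I.A1, t * x * t⁻¹ ∈ I.A2 := by
  intro x hx
  have h1 : I.A1 ≤ I.A2.comap (MulAut.conj t).toMonoidHom := by
    rw [A1, closure_le]
    rintro _ ⟨i, j, hij, s, rfl⟩
    show t * I.z1 i j s * t⁻¹ ∈ I.A2
    rw [I.t_z1 hij]
    exact I.z2_mem hij s
  exact h1 hx

theorem t21 : ∀ x ∈ I.A2, t * x * t⁻¹ ∈ I.A1 := by
  intro x hx
  have h1 : I.A2 ≤ I.A1.comap (MulAut.conj t).toMonoidHom := by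
    rw [A2, closure_le]
    rintro _ ⟨i, j, hij, s, rfl⟩
    show t * I.z2 i j s * t⁻¹ ∈ I.A1
    rw [I.t_z2 hij]
    exact I.z1_mem hij s
  exact h1 hx

/-- The diagonal map. -/
def dg : ↥I.A1 →* G where
  toFun x := (x : G) * (t * x * t⁻¹)
  map_one' := by simp
  map_mul' x y := by
    have h1 := I.comm y y.2 _ (I.t12 x x.2)
    show (x : G) * y * (t * (x * y) * t⁻¹) = (x : G) * (t * x * t⁻¹) * (y * (t * y * t⁻¹))
    calc (x : G) * y * (t * (x * y) * t⁻¹) = x * (y * (t * x * t⁻¹)) * (t * y * t⁻¹) := by group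
      _ = _ := by rw [h1]; group

theorem dg_z1 {i j : Fin 3} (hij : i ≠ j) (s : F) : I.dg ⟨I.z1 i j s, I.z1_mem hij s⟩ = fr.x i j s := by
  show I.z1 i j s * (t * I.z1 i j s * t⁻¹) = _
  rw [I.t_z1 hij, I.z_mul hij]

include I in
theorem bracket : ⁅A, A⁆ = A := by
  have h1 := congrArg (Subgroup.map A.subtype) I.perf
  rw [_root_.commutator_def, map_commutator, ← MonoidHom.range_eq_map, A.range_subtype] at h1
  exact h1

theorem dg_range : I.dg.range = A := by
  refine Eq.trans ?_ (fr.closure_eq I.hZ I.bracket)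
  apply le_antisymm
  · rintro _ ⟨⟨x, hx⟩, rfl⟩
    have h1 : I.A1 ≤ ((closure {g : G | ∃ (i j : Fin 3) (_ : i ≠ j) (s : F), g = fr.x i j s}).comap I.dg).map
        I.A1.subtype := by
      conv_lhs => rw [A1]
      rw [closure_le]
      rintro _ ⟨i, j, hij, s, rfl⟩
      refine ⟨⟨I.z1 i j s, I.z1_mem hij s⟩, mem_comap.mpr ?_, rfl⟩
      rw [I.dg_z1 hij]
      exact subset_closure ⟨i, j, hij, s, rfl⟩
    obtain ⟨⟨y, hy⟩, h2, h3⟩ := h1 hx
    have h4 : y = x := h3
    subst h4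
    exact h2
  · rw [closure_le]
    rintro _ ⟨i, j, hij, s, rfl⟩
    exact ⟨⟨I.z1 i j s, I.z1_mem hij s⟩, I.dg_z1 hij s⟩

/-- The map onto `A`. -/
def psi : ↥I.A1 →* ↥A := I.dg.codRestrict A (fun x => by
  have h : I.dg x ∈ I.dg.range := ⟨x, rfl⟩
  rw [I.dg_range] at h
  exact h)

theorem coe_psi (x : ↥I.A1) : ((I.psi x : ↥A) : G) = (x : G) * (t * x * t⁻¹) := rfl

theorem psi_surjective : Function.Surjective I.psi := by
  rintro ⟨a, ha⟩
  have ha' : a ∈ I.dg.range := by rw [I.dg_range]; exact ha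
  obtain ⟨x, hx⟩ := ha'
  exact ⟨x, Subtype.ext hx⟩

theorem psi_ker : I.psi.ker ≤ center ↥I.A1 := by
  intro x hx
  have h1 : (x : G) * (t * x * t⁻¹) = 1 := congrArg Subtype.val (MonoidHom.mem_ker.mp hx)
  have h2 : (x : G) ∈ I.A2 := by
    have : (x : G) = (t * x * t⁻¹)⁻¹ := eq_inv_of_mul_eq_one_left h1
    rw [this]
    exact inv_mem (I.t12 x x.2)
  rw [mem_center_iff]
  intro y
  exact Subtype.ext (I.comm y y.2 x h2)

theorem perf1 : _root_.commutator ↥I.A1 = ⊤ := by
  rw [eq_top_iff]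
  have h1 : I.A1 ≤ (_root_.commutator ↥I.A1).map I.A1.subtype := by
    conv_lhs => rw [A1]
    rw [closure_le]
    rintro _ ⟨i, k, hik, s, rfl⟩
    obtain ⟨j, hij, hjk⟩ : ∃ j : Fin 3, i ≠ j ∧ j ≠ k := L3RLift.exists_third i k hik
    have h2 := I.R.conj hij hjk hik (con 1 * I.e) (con s * I.e)
    have h3 : con 1 * I.e * (con s * I.e) = con s * I.e := by
      rw [con_one, one_mul]
      calc I.e * (con s * I.e) = con s * (I.e * I.e) := by ring
        _ = _ := by rw [I.ee]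
    rw [h3] at h2
    refine ⟨⁅⟨I.z1 i j 1, I.z1_mem hij 1⟩, ⟨I.z1 j k s, I.z1_mem hjk s⟩⁆,
      commutator_mem_commutator (mem_top _) (mem_top _), ?_⟩
    show I.z1 i j 1 * I.z1 j k s * (I.z1 i j 1)⁻¹ * (I.z1 j k s)⁻¹ = I.z1 i k s
    rw [z1, z1, z1, h2, mul_inv_cancel_right]
  rintro ⟨x, hx⟩ -
  obtain ⟨y, hy, h2⟩ := h1 hx
  have h3 : y = ⟨x, hx⟩ := Subtype.ext h2
  rw [← h3]
  exact hy

theorem le_sup : A ≤ I.A1 ⊔ I.A2 := by
  intro a ha
  obtain ⟨x, hx⟩ := I.psi_surjective ⟨a, ha⟩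
  have h1 : a = (x : G) * (t * x * t⁻¹) := (congrArg Subtype.val hx).symm
  rw [h1]
  exact mul_mem (mem_sup_left x.2) (mem_sup_right (I.t12 x x.2))

/-- **no involution commuting with `t` centralises `A₁ A₂`.** -/
theorem eq_one {x : G} (hx : x * x = 1) (hxt : x * t = t * x)
    (hc : ∀ a ∈ I.A1 ⊔ I.A2, x * a = a * x) : x = 1 := by
  rcases I.two x hx hxt (fun a ha => hc a (I.le_sup ha)) with h1 | h1
  · exact h1
  · exfalso
    subst h1
    have h2 := hc _ (mem_sup_left (I.z1_mem (i := 0) (j := 1) (by decide) 1))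
    have h3 := I.t_z1 (i := 0) (j := 1) (by decide) 1
    rw [h2, mul_inv_cancel_right] at h3
    have h4 : I.z1 0 1 1 * I.z2 0 1 1 = 1 := by
      rw [← h3]
      exact I.y_sq (by decide) _
    rw [I.z_mul (by decide), ← I.R.con (by decide), con_one] at h4
    exact one_ne_zero' (I.R.inj (by decide) _ h4)

theorem sup_normal (x : G) (hx : x ∈ I.A1 ⊔ I.A2) : t * x * t⁻¹ ∈ I.A1 ⊔ I.A2 := by
  have h1 : I.A1 ⊔ I.A2 ≤ (I.A1 ⊔ I.A2).comap (MulAut.conj t).toMonoidHom := by
    apply sup_le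
    · intro y hy
      exact mem_sup_right (I.t12 y hy)
    · intro y hy
      exact mem_sup_left (I.t21 y hy)
  exact h1 hx

theorem odd_cent [Finite G] : Odd (Nat.card (centralizer ((I.A1 ⊔ I.A2 : Subgroup G) : Set G))) := by
  rw [← Nat.not_even_iff_odd]
  intro hev
  have hev2 := hev.two_dvd
  set C := centralizer ((I.A1 ⊔ I.A2 : Subgroup G) : Set G) with hC
  have htt := I.tt
  have hti : t⁻¹ = t := inv_eq_of_mul_eq_one_right htt
  have hCt : ∀ x ∈ C, t * x * t⁻¹ ∈ C := by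
    intro x hx
    rw [hC, mem_centralizer_iff] at hx ⊢
    intro a ha
    have h1 := hx _ (I.sup_normal a ha)
    have h2 : t * (t * a * t⁻¹) * t⁻¹ = a := by
      calc t * (t * a * t⁻¹) * t⁻¹ = (t * t) * a * (t * t)⁻¹ := by group
        _ = a := by rw [htt]; group
    calc a * (t * x * t⁻¹) = (t * (t * a * t⁻¹) * t⁻¹) * (t * x * t⁻¹) := by rw [h2]
      _ = t * ((t * a * t⁻¹) * x) * t⁻¹ := by group
      _ = t * (x * (t * a * t⁻¹)) * t⁻¹ := by rw [h1]
      _ = (t * x * t⁻¹) * (t * (t * a * t⁻¹) * t⁻¹) := by group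
      _ = _ := by rw [h2]
  -- a Sylow 2-subgroup of `C ⟨t⟩` containing `t`
  have hTp : IsPGroup 2 (zpowers t) := by
    apply IsPGroup.of_card (n := (Nat.card (zpowers t)).factorization 2)
    have h1 : Nat.card (zpowers t) ∣ 2 := by
      rw [Nat.card_zpowers]
      exact orderOf_dvd_of_pow_eq_one (by rw [pow_two, htt])
    rcases (Nat.dvd_prime Nat.prime_two).mp h1 with h2 | h2
    · rw [h2]; simp
    · rw [h2]; simp [Nat.prime_two.factorization]
  obtain ⟨P, hP⟩ := hTp.exists_le_sylow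
  -- conjugate a Sylow 2-subgroup: use `t`-invariant Sylow 2-subgroup of `C`
  have key : ∃ Q : Subgroup G, Q ≤ C ∧ IsPGroup 2 Q ∧ 2 ∣ Nat.card Q ∧ ∀ x ∈ Q, t * x * t⁻¹ ∈ Q := by
    -- Sylow 2-subgroup of `C ⊔ ⟨t⟩` containing `t`
    set M := C ⊔ zpowers t with hM
    have htM : zpowers t ≤ M := le_sup_right
    obtain ⟨S, hS, hTS⟩ := Cfsg.Agent.StdEven.Syl.exists_isSyl hTp htM
    refine ⟨S ⊓ C, inf_le_right, hS.two.to_le inf_le_left, ?_, ?_⟩
    · have hN : M ≤ normalizer (C : Set G) := by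
        apply sup_le le_normalizer
        rw [zpowers_le]
        exact Cfsg.Agent.StdEven.Syl.mem_normalizer_of_conj_le hCt
      have h2 := hS.inf_normal le_sup_left hN
      have h3 := h2.odd_relIndex
      have h4 : (S ⊓ C).relIndex C * Nat.card ↥(S ⊓ C) = Nat.card C := by
        rw [mul_comm]
        have := Subgroup.card_mul_index ((S ⊓ C).subgroupOf C)
        rw [Nat.card_congr (Subgroup.subgroupOfEquivOfLe (inf_le_right : S ⊓ C ≤ C)).toEquiv] at this
        exact this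
      have h5 : 2 ∣ (S ⊓ C).relIndex C * Nat.card ↥(S ⊓ C) := by rw [h4]; exact hev2
      rcases (Nat.Prime.dvd_mul Nat.prime_two).mp h5 with h6 | h6
      · exact absurd (even_iff_two_dvd.mpr h6) (Nat.not_even_iff_odd.mpr h3)
      · exact h6
    · rintro x ⟨hxS, hxC⟩
      have htS : t ∈ S := hTS (mem_zpowers t)
      exact mem_inf.mpr ⟨S.mul_mem (S.mul_mem htS hxS) (S.inv_mem htS), hCt x hxC⟩
  obtain ⟨Q, hQC, hQp, hQ2, hQt⟩ := key
  obtain ⟨k, hk, hk1, hkt⟩ := exists_fix hTp inferInstance hQ2 (by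
    intro s hs k hk
    obtain ⟨n, rfl⟩ := mem_zpowers_iff.mp hs
    have h1 : zpowers t ≤ normalizer (Q : Set G) := by
      rw [zpowers_le]
      exact Cfsg.Agent.StdEven.Syl.mem_normalizer_of_conj_le hQt
    exact Cfsg.Agent.StdEven.Syl.conj_mem_of_mem_normalizer (h1 (zpow_mem (mem_zpowers t) n)) hk)
  have hkt' : k * t = t * k := by
    have := hkt t (mem_zpowers t)
    exact (mul_inv_eq_iff_eq_mul.mp this).symm
  -- an involution in `⟨k⟩`
  obtain ⟨n, hn⟩ := hQp ⟨k, hk⟩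
  have hn' : k ^ 2 ^ n = 1 := congrArg Subtype.val hn
  have hex : ∃ m : ℕ, k ^ 2 ^ m ≠ 1 ∧ k ^ 2 ^ (m + 1) = 1 := by
    by_contra hcon
    push Not at hcon
    have h1 : ∀ m : ℕ, k ^ 2 ^ m ≠ 1 := by
      intro m
      induction m with
      | zero => rw [pow_zero, pow_one]; exact hk1
      | succ m ih => exact hcon m ih
    exact h1 n hn'
  obtain ⟨m, hm1, hm2⟩ := hex
  apply hm1
  apply I.eq_one
  · rw [← pow_two, ← pow_mul, ← pow_succ]
    exact hm2
  · exact (Commute.pow_left (show Commute k t from hkt') _)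
  · intro a ha
    have h1 : Commute k a := ((mem_centralizer_iff.mp (hQC hk)) a ha).symm
    exact h1.pow_left _

/-- the map modulo the centres. -/
noncomputable def eqv : (↥I.A1 ⧸ center ↥I.A1) ≃* (↥A ⧸ center ↥A) :=
  (exists_equiv_center I.psi I.psi_surjective I.psi_ker I.perf1).choose

theorem eqv_mk (x : ↥I.A1) : I.eqv (QuotientGroup.mk x) = QuotientGroup.mk (I.psi x) :=
  (exists_equiv_center I.psi I.psi_surjective I.psi_ker I.perf1).choose_spec x

/-- **The frame of `A₁`.** -/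
noncomputable def fr1 : FrameL3 I.A1 F where
  e := I.eqv.trans fr.e
  x i j s := I.z1 i j s
  mem hij s := I.z1_mem hij s
  map {i j} hij s := by
    rw [← fr.map hij s]
    show fr.e (I.eqv (QuotientGroup.mk _)) = _
    rw [I.eqv_mk]
    congr 2
    exact Subtype.ext (I.dg_z1 hij s)
  two hij s := I.y_sq hij _

theorem odd1 [Finite G] : Odd (Nat.card (center ↥I.A1)) := by
  rw [← Nat.not_even_iff_odd]
  intro hev
  have : Fact (Nat.Prime 2) := ⟨Nat.prime_two⟩
  obtain ⟨z, hz⟩ := exists_prime_orderOf_dvd_card' 2 hev.two_dvd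
  set x : G := ((z : ↥I.A1) : G) with hx
  have hxA : x ∈ I.A1 := (z : ↥I.A1).2
  have hxc : ∀ y ∈ I.A1, y * x = x * y := fun y hy =>
    congrArg Subtype.val (mem_center_iff.mp z.2 ⟨y, hy⟩)
  have hxx : x * x = 1 := by
    have h1 : z * z = 1 := by rw [← pow_two, ← hz, pow_orderOf_eq_one]
    exact congrArg (fun w : center ↥I.A1 => ((w : ↥I.A1) : G)) h1
  have hx1 : x ≠ 1 := by
    intro h1
    have h2 : z = 1 := Subtype.ext (Subtype.ext h1)
    rw [h2, orderOf_one] at hz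
    norm_num at hz
  -- `ψ x = 1`
  have h1 : I.psi z ∈ center ↥A :=
    (mem_center_iff_of_cover I.psi I.psi_surjective I.psi_ker I.perf1 z).mp z.2
  have h2 : I.psi z * I.psi z = 1 := by
    rw [← map_mul]
    have : (z : ↥I.A1) * z = 1 := Subtype.ext hxx
    rw [this, map_one]
  have h3 : I.psi z = 1 := by
    have h4 : (⟨I.psi z, h1⟩ : center ↥A) * ⟨I.psi z, h1⟩ = 1 := Subtype.ext h2
    have h5 : orderOf (⟨I.psi z, h1⟩ : center ↥A) ∣ 2 := orderOf_dvd_of_pow_eq_one (by rw [pow_two, h4])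
    have h6 := orderOf_dvd_natCard (⟨I.psi z, h1⟩ : center ↥A)
    have h7 : orderOf (⟨I.psi z, h1⟩ : center ↥A) = 1 :=
      Nat.eq_one_of_dvd_coprimes (Nat.coprime_two_left.mpr I.hZ) h5 h6
    exact congrArg Subtype.val (orderOf_eq_one_iff.mp h7)
  have h4 : x * (t * x * t⁻¹) = 1 := congrArg Subtype.val h3
  have h5 : t * x * t⁻¹ = x := mul_left_cancel (h4.trans hxx.symm)
  apply hx1
  apply I.eq_one hxx (mul_inv_eq_iff_eq_mul.mp h5).symm
  intro a ha
  have h6 : I.A1 ⊔ I.A2 ≤ centralizer ({x} : Set G) := by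
    apply sup_le
    · intro y hy
      rw [mem_centralizer_singleton_iff]
      exact hxc y hy
    · intro y hy
      rw [mem_centralizer_singleton_iff]
      exact (I.comm x hxA y hy).symm
  have h7 := h6 ha
  rw [mem_centralizer_singleton_iff] at h7
  exact h7.symm

/-- the other idempotent -/
def sw : Inp t fr g where
  R := I.R
  tt := I.tt
  tA := I.tA
  hZ := I.hZ
  perf := I.perf
  two := I.two
  e := I.e'
  ee := I.e'e'
  te := by rw [I.te', e', add_assoc, add_self, add_zero]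

/-- **The wreath situation.** -/
noncomputable def wr0 [Finite G] : Wr0 t fr where
  A1 := I.A1
  A2 := I.A2
  fr1 := I.fr1
  fr2 := I.sw.fr1
  comm := I.comm
  t12 := I.t12
  t21 := I.t21
  tx hij s := I.t_z1 hij s
  tx' hij s := I.t_z2 hij s
  x_eq hij s := (I.z_mul hij s).symm
  diag x hx := (I.psi ⟨x, hx⟩).2
  onto a ha := by
    obtain ⟨x, hx⟩ := I.psi_surjective ⟨a, ha⟩
    exact ⟨x, x.2, (congrArg Subtype.val hx).symm⟩
  onto' a ha := by
    obtain ⟨x, hx⟩ := I.sw.psi_surjective ⟨a, ha⟩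
    exact ⟨x, x.2, (congrArg Subtype.val hx).symm⟩
  perf1 := I.perf1
  perf2 := I.sw.perf1
  odd1 := I.odd1
  odd2 := I.sw.odd1
  cent := I.odd_cent

end Inp

/-- **Type `L₃(q)`, split case, in `G`.** -/
theorem exists_wr0 {G : Type*} [Group G] [Finite G] {L A : Subgroup G} {t : G} {T : Subgroup G}
    {F : Type*} [Field F] [Finite F] [CharP F 2] {fr : FrameL3 A F} (B : L3Inst.Both L A t T fr)
    {Ag Bg Zg : Subgroup (Cfsg.Agent.StdEven.CoreQuot.XQ A t)} (I : Input B.xsit Ag Bg Zg)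
    (hc : ∃ c : F, c * c + c = I.K.g) : Nonempty (Wr0 t fr) := by
  obtain ⟨c, hc⟩ := hc
  refine ⟨Inp.wr0 (g := I.K.g) ⟨L3RLift.roots B I.roots, B.hyp.tt, fun a ha => B.sit.t_comm ha,
    B.hyp.hZ, B.sit.perfect, fun x hx hxt hA => ?_, idem I.K.g c, idem_mul hc, idem_tau⟩⟩
  apply B.hyp.eq_of_two (mem_centralizer_iff.mpr fun a ha => (hA a ha).symm) hxt (k := 1)
  rw [pow_one, pow_two, hx]

end Cfsg.Agent.StdRank2.L3W0
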