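import Cfsg.Agent.StdRank2.L3End
import Cfsg.Agent.StdRank2.L3Four.Input
import Cfsg.Agent.StdRank2.L3Four.Start
import Cfsg.Agent.StdRank2.L3W0
import Cfsg.Agent.StdRank2.L3F.Main

/-!
# S1778, type `L₃(q)`, `q ≥ 4` even: the assembly (frame)

`core_of` : `Core.{u} (fun Q _ => TypeL3 Q)` from
* `StartFour` : the situation `Both` and the seed for `q = 4`;
* `FieldStmt` : the field case (`X² + X + g` irreducible);
* `WreathStmt` : the wreath case.
-/

set_option autoImplicit false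
set_option linter.unusedSectionVars false

namespace Cfsg.Agent.StdRank2.L3Asm

open Cfsg Subgroup Cfsg.Agent.StdEven.Syl Cfsg.Agent.StdL2.Setup Cfsg.Agent.StdEven.Red
open Cfsg.Agent.StdSz.Out Cfsg.Agent.StdRank2.L3G Quad
open Cfsg.Agent.StdL3.Heis
open scoped commutatorElement

universe u

/-- what `L3End.concl` uses of the Sylow 2-subgroup of `L`. -/
structure EndFacts {G : Type*} [Group G] (N : Subgroup G) : Prop where
  nc : ∃ x ∈ N, ∃ y ∈ N, x * y ≠ y * x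
  cl : ∀ x ∈ N, ∀ y ∈ N, ∀ z ∈ N, ⁅x, y⁆ * z = z * ⁅x, y⁆
  big : 16 ≤ Nat.card N

section Facts

variable {G : Type*} [Group G]

/-- the Heisenberg group. -/
theorem endFacts_range {K : Type*} [CommRing K] [Nontrivial K] [Finite K] {i : Heis K →* G}
    (hi : Function.Injective i) (h4 : 4 ≤ Nat.card K) : EndFacts i.range where
  nc := by
    refine ⟨i ⟨1, 0, 0⟩, ⟨_, rfl⟩, i ⟨0, 1, 0⟩, ⟨_, rfl⟩, fun h => ?_⟩
    rw [← map_mul, ← map_mul] at h
    have h1 := (commute_iff _ _).1 (hi h)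
    simp at h1
  cl := by
    rintro _ ⟨x, rfl⟩ _ ⟨y, rfl⟩ _ ⟨z, rfl⟩
    rw [← map_commutatorElement, ← map_mul, ← map_mul]
    congr 1
    rw [commutatorElement_def, comm_eq]
    exact z_comm _ _
  big := by
    have e : Heis K ≃ (K × K) × K :=
      ⟨fun u => ((u.a, u.b), u.c), fun p => ⟨p.1.1, p.1.2, p.2⟩, fun _ => rfl, fun _ => rfl⟩
    have h1 : Nat.card i.range = Nat.card K * Nat.card K * Nat.card K := by
      rw [← Nat.card_congr (MonoidHom.ofInjective hi).toEquiv, Nat.card_congr e, Nat.card_prod, Nat.card_prod]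
    rw [h1]
    calc 16 ≤ 4 * 4 * 4 := by norm_num
      _ ≤ _ := Nat.mul_le_mul (Nat.mul_le_mul h4 h4) h4

/-- product of the unipotent groups of two commuting frames. -/
theorem endFacts_prod {A1 A2 : Subgroup G} {F : Type*} [Field F] [Finite F] [CharP F 2]
    {fr1 : FrameL3 A1 F} {fr2 : FrameL3 A2 F} (h1 : Odd (Nat.card (center ↥A1)))
    (h2 : Odd (Nat.card (center ↥A2))) (hcomm : ∀ x ∈ A1, ∀ y ∈ A2, x * y = y * x)
    (h4 : 4 ≤ Nat.card F) {N : Subgroup G} [Finite N] (hU1 : fr1.U ≤ N)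
    (hN : ∀ x ∈ N, ∃ a ∈ fr1.U, ∃ b ∈ fr2.U, x = a * b) : EndFacts N where
  nc := by
    refine ⟨fr1.x 0 1 1, hU1 (fr1.x_mem_U (by decide) 1), fr1.x 1 2 1, hU1 (fr1.x_mem_U (by decide) 1), fun h => ?_⟩
    have e1 : fr1.el 1 0 0 = fr1.x 0 1 1 := by
      rw [FrameL3.el, fr1.x_zero h1 (by decide), fr1.x_zero h1 (by decide), mul_one, mul_one]
    have e2 : fr1.el 0 1 0 = fr1.x 1 2 1 := by
      rw [FrameL3.el, fr1.x_zero h1 (by decide), fr1.x_zero h1 (by decide), mul_one, one_mul]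
    rw [← e1, ← e2, fr1.el_mul h1, fr1.el_mul h1, fr1.el_inj] at h
    have h3 := h.2.2
    simp at h3
  cl := by
    have key : ∀ {A : Subgroup G} {fr : FrameL3 A F} (hZ : Odd (Nat.card (center ↥A))),
        ∀ x ∈ fr.U, ∀ y ∈ fr.U, ∀ z ∈ fr.U, ⁅x, y⁆ * z = z * ⁅x, y⁆ := by
      intro A fr hZ x hx y hy z hz
      obtain ⟨a, b, c, rfl⟩ := (fr.mem_U hZ).1 hx
      obtain ⟨a', b', c', rfl⟩ := (fr.mem_U hZ).1 hy
      obtain ⟨r, s, m, rfl⟩ := (fr.mem_U hZ).1 hz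
      rw [commutatorElement_def, fr.el_inv hZ, fr.el_inv hZ]
      simp only [fr.el_mul hZ]
      have hc : ∀ u : F, u + u = 0 := fun u => CharTwo.add_self_eq_zero u
      have k1 : a + a' + a + a' = 0 := by linear_combination hc a + hc a'
      have k2 : b + b' + b + b' = 0 := by linear_combination hc b + hc b'
      rw [k1, k2]
      congr 1
      · ring
      · ring
      · ring
    rintro x hx y hy z hz
    obtain ⟨a, ha, b, hb, rfl⟩ := hN x hx
    obtain ⟨a', ha', b', hb', rfl⟩ := hN y hy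
    obtain ⟨r, hr, s, hs, rfl⟩ := hN z hz
    have c1 : ∀ u ∈ fr1.U, ∀ v ∈ fr2.U, u * v = v * u := fun u hu v hv =>
      hcomm u (fr1.U_le hu) v (fr2.U_le hv)
    have e1 : ⁅a * b, a' * b'⁆ = ⁅a, a'⁆ * ⁅b, b'⁆ := by
      rw [commutatorElement_def, commutatorElement_def, commutatorElement_def, mul_inv_rev, mul_inv_rev]
      have m1 := c1 a' ha' b hb
      have m2 := c1 a⁻¹ (inv_mem ha) b' hb'
      have m3 := c1 a⁻¹ (inv_mem ha) b hb
      have m4 := c1 a⁻¹ (inv_mem ha) b⁻¹ (inv_mem hb)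
      have m5 := c1 a'⁻¹ (inv_mem ha') b hb
      have m6 := c1 a'⁻¹ (inv_mem ha') b' hb'
      have m7 := c1 a'⁻¹ (inv_mem ha') b⁻¹ (inv_mem hb)
      have m8 := c1 a'⁻¹ (inv_mem ha') b'⁻¹ (inv_mem hb')
      calc a * b * (a' * b') * (b⁻¹ * a⁻¹) * (b'⁻¹ * a'⁻¹)
          = a * (b * a') * b' * b⁻¹ * a⁻¹ * (b'⁻¹ * a'⁻¹) := by group
        _ = a * a' * (b * b' * b⁻¹) * a⁻¹ * (b'⁻¹ * a'⁻¹) := by rw [← m1]; group
        _ = a * a' * (a⁻¹ * (b * b' * b⁻¹)) * (b'⁻¹ * a'⁻¹) := by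
            rw [c1 a⁻¹ (inv_mem ha) (b * b' * b⁻¹) (mul_mem (mul_mem hb hb') (inv_mem hb))]; group
        _ = a * a' * a⁻¹ * ((b * b' * b⁻¹ * b'⁻¹) * a'⁻¹) := by group
        _ = a * a' * a⁻¹ * (a'⁻¹ * (b * b' * b⁻¹ * b'⁻¹)) := by
            rw [c1 a'⁻¹ (inv_mem ha') (b * b' * b⁻¹ * b'⁻¹)
              (mul_mem (mul_mem (mul_mem hb hb') (inv_mem hb)) (inv_mem hb'))]
        _ = _ := by group
    have ka := key h1 a ha a' ha' r hr
    have kb := key h2 b hb b' hb' s hs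
    have ca : ⁅a, a'⁆ ∈ fr1.U := by
      rw [commutatorElement_def]; exact mul_mem (mul_mem (mul_mem ha ha') (inv_mem ha)) (inv_mem ha')
    have cb : ⁅b, b'⁆ ∈ fr2.U := by
      rw [commutatorElement_def]; exact mul_mem (mul_mem (mul_mem hb hb') (inv_mem hb)) (inv_mem hb')
    rw [e1]
    calc ⁅a, a'⁆ * ⁅b, b'⁆ * (r * s) = ⁅a, a'⁆ * (⁅b, b'⁆ * r) * s := by group
      _ = (⁅a, a'⁆ * r) * (⁅b, b'⁆ * s) := by rw [← c1 r hr _ cb]; group
      _ = r * (⁅a, a'⁆ * s) * ⁅b, b'⁆ := by rw [ka, kb]; group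
      _ = r * s * (⁅a, a'⁆ * ⁅b, b'⁆) := by rw [c1 _ ca s hs]; group
  big := by
    have h3 : Nat.card fr1.U ≤ Nat.card N :=
      Nat.card_le_card_of_injective _ (Subgroup.inclusion_injective hU1)
    rw [fr1.card_U h1] at h3
    refine le_trans ?_ h3
    calc 16 ≤ 4 ^ 3 := by norm_num
      _ ≤ _ := Nat.pow_le_pow_left h4 3

theorem isSyl_of_inf [Finite G] {L N : Subgroup G} (hL : L.Normal) (P : Sylow 2 G)
    (h : (P : Subgroup G) ⊓ L = N) : IsSyl N L := by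
  rw [← h]
  exact (isSyl_top_of_sylow P).inf_normal le_top (by rw [normalizer_eq_top])

end Facts

/-- The conclusion from `P ∩ L = N`. -/
theorem concl_of {G : Type u} [Group G] [Finite G] {L A : Subgroup G} {t : G} (h1170 : S1170Stmt.{u})
    (C : Conf L A t) (hT : TypeL3 (↥A ⧸ center ↥A)) {N : Subgroup G} (htL : t ∉ L)
    (hP : ∃ P : Sylow 2 G, (P : Subgroup G) ⊓ L = N) (hN : EndFacts N) : Concl L t := by
  obtain ⟨P, hP⟩ := hP
  exact L3End.concl h1170 C hT (isSyl_of_inf C.normal P hP) hN.nc hN.cl hN.big htL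

/-- START for `q = 4`. -/
def StartFour : Prop :=
  ∀ (G : Type u) [Group G] [Finite G] (L A : Subgroup G) (t : G) (F : Type) [Field F] [Finite F] [CharP F 2],
    Conf L A t → Odd (Nat.card (center ↥A)) →
    ((↥A ⧸ center ↥A) ≃* Matrix.ProjectiveSpecialLinearGroup (Fin 3) F) → Nat.card F = 4 →
    ∃ (T : Subgroup G) (fr : FrameL3 A F) (B : L3Inst.Both L A t T fr), Nonempty (L3Zh.Seed B.xsit.env)

/-- The field case. -/
def FieldStmt : Prop :=
  ∀ (G : Type u) [Group G] [Finite G] (L A : Subgroup G) (t : G) (F : Type) [Field F] [Finite F] [CharP F 2]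
    (T : Subgroup G) (fr : FrameL3 A F) (B : L3Inst.Both L A t T fr) (Ag Bg Zg : Subgroup _)
    (I : L3Roots.Input B.xsit Ag Bg Zg), Conf L A t → Odd (Nat.card (center ↥A)) →
    (∀ c : F, c * c + c ≠ I.K.g) →
    t ∉ L ∧ ∃ N : Subgroup G, (∃ P : Sylow 2 G, (P : Subgroup G) ⊓ L = N) ∧ EndFacts N

/-- The wreath case. -/
def WreathStmt : Prop :=
  ∀ (G : Type u) [Group G] [Finite G] (L A : Subgroup G) (t : G) (F : Type) [Field F] [Finite F] [CharP F 2]
    (T : Subgroup G) (fr : FrameL3 A F) (B : L3Inst.Both L A t T fr) (Ag Bg Zg : Subgroup _)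
    (I : L3Roots.Input B.xsit Ag Bg Zg), Conf L A t → Odd (Nat.card (center ↥A)) →
    (∃ c : F, c * c + c = I.K.g) →
    t ∉ L ∧ ∃ N : Subgroup G, (∃ P : Sylow 2 G, (P : Subgroup G) ⊓ L = N) ∧ EndFacts N

/-- `Both` and the seed for all `q ≥ 4`. -/
theorem exists_start (h4 : StartFour.{u}) {G : Type u} [Group G] [Finite G] {L A : Subgroup G} {t : G}
    {F : Type} [Field F] [Finite F] [CharP F 2] (C : Conf L A t) (hZ : Odd (Nat.card (center ↥A)))
    (e : (↥A ⧸ center ↥A) ≃* Matrix.ProjectiveSpecialLinearGroup (Fin 3) F)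
    (hF : Nat.card F = 4 ∨ 8 ≤ Nat.card F) :
    ∃ (T : Subgroup G) (fr : FrameL3 A F) (B : L3Inst.Both L A t T fr), Nonempty (L3Zh.Seed B.xsit.env) := by
  rcases hF with hF | hF
  · exact h4 G L A t F C hZ e hF
  · obtain ⟨T, fr, hO, ⟨B⟩⟩ := L3Inst.exists_all C hZ e hF
    exact ⟨T, fr, B, B.exists_seed (L3Inst.sch B.sit.perfect fr.e) hO⟩

/-- **Type `L₃(q)`: the core statement, from START (q = 4), the field case and the wreath case.** -/
theorem core_of (h1170 : S1170Stmt.{u}) (h4 : StartFour.{u}) (hF : FieldStmt.{u}) (hW : WreathStmt.{u}) :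
    Core.{u} (fun Q _ => TypeL3 Q) := by
  intro G _ _ L A t C hZ hT
  obtain ⟨F, i1, i2, a, ha, hc, ⟨e⟩⟩ := hT
  have h2 : (2 : F) = 0 := by
    have h1 : ((Fintype.card F : ℕ) : F) = 0 := by simp
    rw [hc, Nat.cast_pow] at h1
    exact_mod_cast pow_eq_zero_iff (by omega) |>.1 h1
  have : CharP F 2 := CharTwo.of_one_ne_zero_of_two_eq_zero one_ne_zero h2
  have hcard : Nat.card F = 2 ^ a := by rw [Nat.card_eq_fintype_card, hc]
  have hq : Nat.card F = 4 ∨ 8 ≤ Nat.card F := by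
    rw [hcard]
    rcases Nat.lt_or_ge a 3 with h | h
    · left
      obtain rfl : a = 2 := by omega
      norm_num
    · right
      calc 8 = 2 ^ 3 := by norm_num
        _ ≤ 2 ^ a := Nat.pow_le_pow_right (by norm_num) h
  obtain ⟨T, fr, B, ⟨S⟩⟩ := exists_start h4 C hZ e hq
  obtain ⟨Ag, Bg, ⟨I⟩⟩ := L3Four.exists_input_all B.xsit S
  have hT : TypeL3 (↥A ⧸ center ↥A) := ⟨F, i1, i2, a, ha, hc, ⟨e⟩⟩
  by_cases hg : ∃ c : F, c * c + c = I.K.g
  · obtain ⟨htL, N, hP, hN⟩ := hW G L A t F T fr B Ag Bg S.Zh I C hZ hg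
    exact concl_of h1170 C hT htL hP hN
  · push Not at hg
    obtain ⟨htL, N, hP, hN⟩ := hF G L A t F T fr B Ag Bg S.Zh I C hZ hg
    exact concl_of h1170 C hT htL hP hN

theorem startFour : StartFour.{u} := fun _ _ _ _ _ _ _ _ _ _ C hZ e hF => L3Four.Start.exists_start_four C hZ e hF

/-- **Type `L₃(q)`: the core statement, from the field case and the wreath case.** -/
theorem core_of_cases (h1170 : S1170Stmt.{u}) (hF : FieldStmt.{u}) (hW : WreathStmt.{u}) :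
    Core.{u} (fun Q _ => TypeL3 Q) := core_of h1170 startFour hF hW

end Cfsg.Agent.StdRank2.L3Asm
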