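import Mathlib
import Cfsg.Agent.StdRank2.OutL3Facts
import Cfsg.Agent.StdRank2.OutField

/-!
# Involutory outer automorphisms of `A` (type `L₃(F)`) in coordinates
-/

set_option autoImplicit false

namespace Cfsg.Agent.StdRank2.OutL3Inv

open Cfsg.Agent.StdRank2.OutL3Rel Cfsg.Agent.StdRank2.OutField

variable {G : Type*} [Group G] {A : Subgroup G} {F : Type*} [Field F] (fr : FrameL3 A F)

/-- `f` acts on the frame as the field automorphism `σ`. -/
def Fld (f : G) (σ : F ≃+* F) : Prop :=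
  ∀ i j : Fin 3, i ≠ j → ∀ s, f * fr.x i j s * f⁻¹ = fr.x i j (σ s)

/-- `f` acts on the frame as the graph automorphism times the field automorphism `σ`. -/
def Grf (f : G) (σ : F ≃+* F) : Prop :=
  ∀ i j : Fin 3, i ≠ j → ∀ s, f * fr.x i j s * f⁻¹ = fr.x j.rev i.rev (σ s)

theorem conj_mul3 (f a b c : G) : f * (a * b * c) * f⁻¹ = (f * a * f⁻¹) * (f * b * f⁻¹) * (f * c * f⁻¹) := by
  group

variable {fr}

theorem Fld.u {f : G} {σ : F ≃+* F} (h : Fld fr f σ) (r s t : F) :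
    f * u fr r s t * f⁻¹ = u fr (σ r) (σ s) (σ t) := by
  unfold OutL3Rel.u
  rw [conj_mul3, h 0 1 (by decide), h 1 2 (by decide), h 0 2 (by decide), map_sub, map_mul]

section

variable [Finite G] [Finite F] [CharP F 2] (hZ : Odd (Nat.card (Subgroup.center ↥A)))
include hZ

theorem Grf.u {f : G} {σ : F ≃+* F} (h : Grf fr f σ) (r s t : F) :
    f * u fr r s t * f⁻¹ = u fr (σ s) (σ r) (σ (t + r * s)) := by
  have h1 : f * OutL3Rel.u fr r s t * f⁻¹ = fr.x 1 2 (σ r) * fr.x 0 1 (σ s) * fr.x 0 2 (σ (t - r * s)) := by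
    unfold OutL3Rel.u
    rw [conj_mul3, h 0 1 (by decide), h 1 2 (by decide), h 0 2 (by decide)]
    rfl
  rw [h1, ← u_s fr hZ, ← u_r fr hZ, ← u_t fr hZ, u_mul fr hZ, u_mul fr hZ]
  congr 1
  · rw [zero_add, add_zero]
  · rw [add_zero, add_zero]
  · rw [zero_mul, add_zero, zero_add, mul_zero, add_zero, zero_add, sub_eq_add_neg, CharTwo.neg_eq]

end

theorem Fld.mul {f g : G} {σ τ : F ≃+* F} (hf : Fld fr f σ) (hg : Fld fr g τ) : Fld fr (f * g) (σ * τ) := by
  intro i j h s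
  have : f * g * fr.x i j s * (f * g)⁻¹ = f * (g * fr.x i j s * g⁻¹) * f⁻¹ := by group
  rw [this, hg i j h, hf i j h]
  rfl

theorem Grf.mul {f g : G} {σ τ : F ≃+* F} (hf : Grf fr f σ) (hg : Grf fr g τ) : Fld fr (f * g) (σ * τ) := by
  intro i j h s
  have : f * g * fr.x i j s * (f * g)⁻¹ = f * (g * fr.x i j s * g⁻¹) * f⁻¹ := by group
  rw [this, hg i j h, hf _ _ (fun e => h (Fin.rev_injective e).symm)]
  rw [Fin.rev_rev, Fin.rev_rev]
  rfl

theorem Fld.mul_grf {f g : G} {σ τ : F ≃+* F} (hf : Fld fr f σ) (hg : Grf fr g τ) : Grf fr (f * g) (σ * τ) := by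
  intro i j h s
  have : f * g * fr.x i j s * (f * g)⁻¹ = f * (g * fr.x i j s * g⁻¹) * f⁻¹ := by group
  rw [this, hg i j h, hf _ _ (fun e => h (Fin.rev_injective e).symm)]
  rfl

theorem Grf.mul_fld {f g : G} {σ τ : F ≃+* F} (hf : Grf fr f σ) (hg : Fld fr g τ) : Grf fr (f * g) (σ * τ) := by
  intro i j h s
  have : f * g * fr.x i j s * (f * g)⁻¹ = f * (g * fr.x i j s * g⁻¹) * f⁻¹ := by group
  rw [this, hg i j h, hf _ _ h]
  rfl

theorem Fld.inv {f : G} {σ : F ≃+* F} (hf : Fld fr f σ) : Fld fr f⁻¹ σ⁻¹ := by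
  intro i j h s
  have h1 := hf i j h (σ⁻¹ s)
  have h2 : σ (σ⁻¹ s) = s := σ.apply_symm_apply s
  rw [h2] at h1
  rw [← h1]
  group

theorem Grf.inv {f : G} {σ : F ≃+* F} (hf : Grf fr f σ) : Grf fr f⁻¹ σ⁻¹ := by
  intro i j h s
  have h1 := hf j.rev i.rev (fun e => h (Fin.rev_injective e).symm) (σ⁻¹ s)
  have h2 : σ (σ⁻¹ s) = s := σ.apply_symm_apply s
  rw [h2, Fin.rev_rev, Fin.rev_rev] at h1
  rw [← h1]
  group

section

variable [Finite G] [Finite F] [CharP F 2] (hZ : Odd (Nat.card (Subgroup.center ↥A)))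
include hZ

/-- `U` meets the centraliser of `A` trivially. -/
theorem eq_one_of_centralizer {g : G} (hg : g ∈ fr.U) (hc : g ∈ Subgroup.centralizer (A : Set G)) : g = 1 := by
  obtain ⟨r, s, t, rfl⟩ := (mem_U fr hZ).1 hg
  have h1 := Subgroup.mem_centralizer_iff.1 hc _ (fr.U_le (u_mem fr 1 0 0))
  have h2 := Subgroup.mem_centralizer_iff.1 hc _ (fr.U_le (u_mem fr 0 1 0))
  have h3 := (u_comm_iff fr hZ _ _ _ _ _ _).1 h1
  have h4 := (u_comm_iff fr hZ _ _ _ _ _ _).1 h2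
  rw [one_mul, mul_zero] at h3
  rw [zero_mul, mul_one] at h4
  subst h3
  rw [← h4] at *
  -- now `g = x02 t`; use `x 2 0 1`
  have hxA : fr.x 2 0 1 ∈ A := fr.mem (by decide) 1
  have h5 := Subgroup.mem_centralizer_iff.1 hc _ hxA
  have hgA : u fr 0 0 t ∈ A := fr.U_le (u_mem fr 0 0 t)
  have hz : (⟨u fr 0 0 t, hgA⟩ : A) ∈ Subgroup.center ↥A := by
    rw [Subgroup.mem_center_iff]
    rintro ⟨a, ha⟩
    exact Subtype.ext (Subgroup.mem_centralizer_iff.1 hc a ha)
  have h6 : cov fr ⟨u fr 0 0 t, hgA⟩ = 1 := by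
    rw [cov_apply, (QuotientGroup.eq_one_iff _).2 hz, map_one]
  have h7 : cov fr ⟨u fr 0 0 t, hgA⟩ = cov fr ⟨1, fr.U_le (one_mem _)⟩ := by
    rw [h6]
    exact (map_one (cov fr)).symm
  exact eq_of_cov fr hZ (u_mem fr 0 0 t) (one_mem _) h7

omit [Finite F] [CharP F 2] hZ in
theorem sq_eq_one_fld [CharP F 2] {f : G} {σ : F ≃+* F} (hf : Fld fr f σ) (hc : f * f ∈ Subgroup.centralizer (A : Set G)) :
    σ * σ = 1 := by
  ext s
  have h1 := (hf.mul hf) 0 1 (by decide) s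
  rw [← Subgroup.mem_centralizer_iff.1 hc _ (fr.mem (by decide) s), mul_inv_cancel_right] at h1
  have h2 : OutL3.X (i := 0) (j := 1) (by decide) s = OutL3.X (i := 0) (j := 1) (by decide) ((σ * σ) s) := by
    rw [← fr.map_X (i := 0) (j := 1) (by decide), ← fr.map_X (i := 0) (j := 1) (by decide)]
    congr 2
    exact Subtype.ext h1
  exact (FrameL3.X_injective _ h2).symm

omit [Finite F] [CharP F 2] hZ in
theorem sq_eq_one_grf [CharP F 2] {f : G} {σ : F ≃+* F} (hf : Grf fr f σ) (hc : f * f ∈ Subgroup.centralizer (A : Set G)) :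
    σ * σ = 1 := by
  ext s
  have h1 := (hf.mul hf) 0 1 (by decide) s
  rw [← Subgroup.mem_centralizer_iff.1 hc _ (fr.mem (by decide) s), mul_inv_cancel_right] at h1
  have h2 : OutL3.X (i := 0) (j := 1) (by decide) s = OutL3.X (i := 0) (j := 1) (by decide) ((σ * σ) s) := by
    rw [← fr.map_X (i := 0) (j := 1) (by decide), ← fr.map_X (i := 0) (j := 1) (by decide)]
    congr 2
    exact Subtype.ext h1
  exact (FrameL3.X_injective _ h2).symm

omit [Finite G] [Finite F] [CharP F 2] hZ in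
/-- The action of `f` on `A` has order two if `f * f` centralises `A`. -/
theorem conj_inv_eq {f a : G} (hc : f * f ∈ Subgroup.centralizer (A : Set G)) (ha : a ∈ A) :
    f⁻¹ * a * f = f * a * f⁻¹ := by
  have h1 := Subgroup.mem_centralizer_iff.1 hc a ha
  calc f⁻¹ * a * f = f⁻¹ * (a * (f * f)) * f⁻¹ := by group
    _ = f⁻¹ * ((f * f) * a) * f⁻¹ := by rw [h1]
    _ = f * a * f⁻¹ := by group

/-- The cocycle condition. -/
theorem cocycle {f v : G} (hfU : f * v * f⁻¹ ∈ fr.U) (hc : f * f ∈ Subgroup.centralizer (A : Set G))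
    (hv : v ∈ fr.U) (hc' : (f * v) * (f * v) ∈ Subgroup.centralizer (A : Set G)) : (f * v * f⁻¹) * v = 1 := by
  apply eq_one_of_centralizer hZ (mul_mem hfU hv)
  rw [← conj_inv_eq hc (fr.U_le hv)]
  have h1 : f⁻¹ * v * f * v = (f * f)⁻¹ * ((f * v) * (f * v)) := by group
  rw [h1]
  exact mul_mem (inv_mem hc) hc'

omit [Finite G] [Finite F] [CharP F 2] hZ in
theorem conj_eq_of {f v w : G} (hc : f * f ∈ Subgroup.centralizer (A : Set G)) (hw : w ∈ fr.U)
    (h : (f * w * f⁻¹) * w⁻¹ = v) : f * v = w * f * w⁻¹ := by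
  rw [← h, ← conj_inv_eq hc (fr.U_le hw)]
  group

/-- **Field type: all 'involutions' of `f U` are conjugate under `U`.** -/
theorem conj_of_sq_fld {f v : G} {σ : F ≃+* F} (hf : Fld fr f σ) (h1 : σ ≠ 1)
    (hc : f * f ∈ Subgroup.centralizer (A : Set G)) (hv : v ∈ fr.U)
    (hc' : (f * v) * (f * v) ∈ Subgroup.centralizer (A : Set G)) : ∃ w ∈ fr.U, f * v = w * f * w⁻¹ := by
  have h2 := sq_eq_one_fld hf hc
  obtain ⟨a, b, c, rfl⟩ := (mem_U fr hZ).1 hv
  have hco := cocycle hZ (by rw [hf.u]; exact u_mem fr _ _ _) hc hv hc'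
  rw [hf.u, u_mul fr hZ, ← u_zero fr hZ] at hco
  obtain ⟨ea, eb, ec⟩ := u_inj fr hco
  rw [CharTwo.add_eq_zero] at ea eb
  have ec' : σ c = c + a * b := by
    rw [ea, add_assoc, CharTwo.add_eq_zero] at ec
    exact ec
  obtain ⟨r, hr⟩ := exists_trace h2 h1 ea
  obtain ⟨s, hs⟩ := exists_trace h2 h1 eb
  have hσs : σ s = s + b := by rw [← hs, ← add_assoc, CharTwo.add_self_eq_zero, zero_add]
  obtain ⟨t, ht⟩ := exists_trace (a := c + a * s) h2 h1 (by
    rw [map_add, map_mul, ea, ec', hσs, mul_add, add_assoc, add_comm (a * b), add_assoc, CharTwo.add_self_eq_zero,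
      add_zero])
  refine ⟨u fr r s t, u_mem fr r s t, conj_eq_of hc (u_mem fr r s t) ?_⟩
  rw [hf.u, u_inv fr hZ, u_mul fr hZ, add_comm (σ r), add_comm (σ s), hr, hs]
  congr 1
  have h3 : σ t + (t + r * s) + σ r * s = (t + σ t) + (r + σ r) * s := by ring
  rw [h3, ht, hr, add_assoc, CharTwo.add_self_eq_zero, add_zero]

/-- **Graph and graph-field type: all 'involutions' of `f U` are conjugate under `U`.** -/
theorem conj_of_sq_grf {f v : G} {σ : F ≃+* F} (hf : Grf fr f σ)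
    (hc : f * f ∈ Subgroup.centralizer (A : Set G)) (hv : v ∈ fr.U)
    (hc' : (f * v) * (f * v) ∈ Subgroup.centralizer (A : Set G)) : ∃ w ∈ fr.U, f * v = w * f * w⁻¹ := by
  have h2 := sq_eq_one_grf hf hc
  obtain ⟨a, b, c, rfl⟩ := (mem_U fr hZ).1 hv
  have hco := cocycle hZ (by rw [hf.u hZ]; exact u_mem fr _ _ _) hc hv hc'
  rw [hf.u hZ, u_mul fr hZ, ← u_zero fr hZ] at hco
  obtain ⟨ea, eb, ec⟩ := u_inj fr hco
  rw [CharTwo.add_eq_zero] at ea eb
  subst eb
  have ec' : σ c = c := by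
    rw [map_add, map_mul, invol_apply h2] at ec
    have h3 : σ c + σ a * a + c + a * σ a = σ c + c + (a * σ a + a * σ a) := by ring
    rw [h3, CharTwo.add_self_eq_zero, add_zero, CharTwo.add_eq_zero] at ec
    exact ec
  by_cases h1 : σ = 1
  · obtain ⟨s, hs⟩ := exists_sqrt c
    have hσ : ∀ x, σ x = x := fun x => by rw [h1]; rfl
    refine ⟨u fr (a + s) s 0, u_mem fr _ _ _, conj_eq_of hc (u_mem fr _ _ _) ?_⟩
    rw [hf.u hZ, u_inv fr hZ, u_mul fr hZ]
    simp only [hσ]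
    congr 1
    · rw [add_comm a, ← add_assoc, CharTwo.add_self_eq_zero, zero_add]
    · rw [add_assoc, CharTwo.add_self_eq_zero, add_zero]
    · rw [← hs, CharTwo.add_self_eq_zero, zero_add]
  · obtain ⟨t, ht⟩ := exists_trace h2 h1 ec'
    refine ⟨u fr a 0 t, u_mem fr _ _ _, conj_eq_of hc (u_mem fr _ _ _) ?_⟩
    rw [hf.u hZ, u_inv fr hZ, u_mul fr hZ, map_zero, mul_zero, add_zero, mul_zero, add_zero, zero_add, add_zero,
      add_comm (σ t), ht]

/-! ### Fixed points -/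

/-- Fixed points in `U` of an automorphism of field type. -/
theorem comm_iff_fld {f : G} {σ : F ≃+* F} (hf : Fld fr f σ) (r s t : F) :
    f * u fr r s t = u fr r s t * f ↔ σ r = r ∧ σ s = s ∧ σ t = t := by
  rw [← mul_inv_eq_iff_eq_mul, hf.u]
  constructor
  · exact fun h => u_inj fr h
  · rintro ⟨h1, h2, h3⟩
    rw [h1, h2, h3]

/-- Fixed points in `U` of an automorphism of graph or graph-field type. -/
theorem comm_iff_grf {f : G} {σ : F ≃+* F} (hf : Grf fr f σ) (r s t : F) :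
    f * u fr r s t = u fr r s t * f ↔ σ s = r ∧ σ r = s ∧ σ (t + r * s) = t := by
  rw [← mul_inv_eq_iff_eq_mul, hf.u hZ]
  constructor
  · exact fun h => u_inj fr h
  · rintro ⟨h1, h2, h3⟩
    rw [h1, h2, h3]

/-- Fixed points in `U` of an automorphism of pure graph type: the centre of `U`. -/
theorem comm_iff_graph {f : G} (hf : Grf fr f 1) (r s t : F) :
    f * u fr r s t = u fr r s t * f ↔ r = 0 ∧ s = 0 := by
  rw [comm_iff_grf hZ hf]
  constructor
  · rintro ⟨h1, h2, h3⟩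
    have h4 : r = s := h2
    subst h4
    have h5 : t + r * r = t := h3
    have h6 : r = 0 := mul_self_eq_zero.1 (by simpa using h5)
    exact ⟨h6, h6⟩
  · rintro ⟨rfl, rfl⟩
    refine ⟨rfl, rfl, ?_⟩
    show t + 0 * 0 = t
    rw [mul_zero, add_zero]

end

end Cfsg.Agent.StdRank2.OutL3Inv
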