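import Mathlib
import Cfsg.Agent.StdRank2.OutL3Inv

/-!
# Elementary abelian subgroups of maximal order of a 2-group `T ≥ U` normalising `A` (type `L₃(F)`)
-/

set_option autoImplicit false

namespace Cfsg.Agent.StdRank2.OutL3Je

open Cfsg.Agent.StdRank2.OutL3Rel Cfsg.Agent.StdRank2.OutField Cfsg.Agent.StdRank2.OutL3Inv

variable {G : Type*} [Group G] {A : Subgroup G} {F : Type*} [Field F] (fr : FrameL3 A F)

/-- The frame is adapted to `T`: modulo `U` every element of `T` is a graph and/or field automorphism of the frame. -/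
def Adapted (T : Subgroup G) : Prop :=
  ∀ y ∈ T, ∃ u ∈ fr.U, ∃ σ : F ≃+* F, (∃ k, σ ^ 2 ^ k = 1) ∧ (Fld fr (u * y) σ ∨ Grf fr (u * y) σ)

theorem exists_adapted [Finite G] [Finite F] [CharP F 2] (hZ : Odd (Nat.card (Subgroup.center ↥A))) (T : Subgroup G)
    (hT : IsPGroup 2 T) (hTA : T ≤ Subgroup.normalizer (A : Set G))
    (hTU : ∀ y ∈ T, ∀ u ∈ fr.U, y * u * y⁻¹ ∈ fr.U) : ∃ c : Fin 3 → Fˣ, Adapted (fr.rescale c) T := by
  obtain ⟨c, hc⟩ := fr.exists_adapted hZ T hT hTA hTU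
  refine ⟨c, fun y hy => ?_⟩
  obtain ⟨u, hu, σ, hσ, h⟩ := hc y hy
  refine ⟨u, by rw [FrameL3.rescale_U]; exact hu, σ, hσ, h⟩

/-- `y` is of field type `σ` modulo `U`. -/
def FT (y : G) (σ : F ≃+* F) : Prop := ∃ u ∈ fr.U, Fld fr (u * y) σ

/-- `y` is of graph type `σ` modulo `U`. -/
def GT (y : G) (σ : F ≃+* F) : Prop := ∃ u ∈ fr.U, Grf fr (u * y) σ

theorem Adapted.cases {fr : FrameL3 A F} {T : Subgroup G} (h : Adapted fr T) {y : G} (hy : y ∈ T) :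
    (∃ σ, FT fr y σ) ∨ ∃ σ, GT fr y σ := by
  obtain ⟨u, hu, σ, -, h | h⟩ := h y hy
  · exact Or.inl ⟨σ, u, hu, h⟩
  · exact Or.inr ⟨σ, u, hu, h⟩

section

variable [Finite G] [Finite F] [CharP F 2] (hZ : Odd (Nat.card (Subgroup.center ↥A)))
include hZ

theorem conj_U {g : G} (hg : g ∈ fr.U) (r s t : F) : ∃ t', g * u fr r s t * g⁻¹ = u fr r s t' := by
  obtain ⟨a, b, c, rfl⟩ := (mem_U fr hZ).1 hg
  rw [u_inv fr hZ, u_mul fr hZ, u_mul fr hZ]
  refine ⟨c + t + a * s + (c + a * b) + (a + r) * b, ?_⟩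
  congr 1
  · rw [add_comm a r, add_assoc, CharTwo.add_self_eq_zero, add_zero]
  · rw [add_comm b s, add_assoc, CharTwo.add_self_eq_zero, add_zero]

theorem conj_U_zero {g : G} (hg : g ∈ fr.U) (t : F) : g * u fr 0 0 t * g⁻¹ = u fr 0 0 t := by
  obtain ⟨a, b, c, rfl⟩ := (mem_U fr hZ).1 hg
  rw [mul_inv_eq_iff_eq_mul, u_comm_iff fr hZ, mul_zero, zero_mul]

variable {fr}

theorem FT.conj {y : G} {σ : F ≃+* F} (h : FT fr y σ) (r s t : F) :
    ∃ t', y * u fr r s t * y⁻¹ = u fr (σ r) (σ s) t' := by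
  obtain ⟨v, hv, h⟩ := h
  obtain ⟨t', ht'⟩ := conj_U fr hZ (inv_mem hv) (σ r) (σ s) (σ t)
  refine ⟨t', ?_⟩
  rw [← ht', ← h.u]
  group

theorem FT.conj_zero {y : G} {σ : F ≃+* F} (h : FT fr y σ) (t : F) :
    y * u fr 0 0 t * y⁻¹ = u fr 0 0 (σ t) := by
  obtain ⟨v, hv, h⟩ := h
  have h1 := conj_U_zero fr hZ (inv_mem hv) (σ t)
  have h2 := h.u 0 0 t
  rw [map_zero] at h2
  rw [← h1, ← h2]
  group

theorem GT.conj {y : G} {σ : F ≃+* F} (h : GT fr y σ) (r s t : F) :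
    ∃ t', y * u fr r s t * y⁻¹ = u fr (σ s) (σ r) t' := by
  obtain ⟨v, hv, h⟩ := h
  obtain ⟨t', ht'⟩ := conj_U fr hZ (inv_mem hv) (σ s) (σ r) (σ (t + r * s))
  refine ⟨t', ?_⟩
  rw [← ht', ← h.u hZ]
  group

theorem GT.conj_zero {y : G} {σ : F ≃+* F} (h : GT fr y σ) (t : F) :
    y * u fr 0 0 t * y⁻¹ = u fr 0 0 (σ t) := by
  obtain ⟨v, hv, h⟩ := h
  have h1 := conj_U_zero fr hZ (inv_mem hv) (σ t)
  have h2 := h.u hZ 0 0 t
  rw [map_zero, mul_zero, add_zero] at h2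
  rw [← h1, ← h2]
  group

theorem FT.norm {y : G} {σ : F ≃+* F} (h : FT fr y σ) {g : G} (hg : g ∈ fr.U) : y * g * y⁻¹ ∈ fr.U := by
  obtain ⟨r, s, t, rfl⟩ := (mem_U fr hZ).1 hg
  obtain ⟨t', ht'⟩ := h.conj hZ r s t
  rw [ht']
  exact u_mem fr _ _ _

theorem GT.norm {y : G} {σ : F ≃+* F} (h : GT fr y σ) {g : G} (hg : g ∈ fr.U) : y * g * y⁻¹ ∈ fr.U := by
  obtain ⟨r, s, t, rfl⟩ := (mem_U fr hZ).1 hg
  obtain ⟨t', ht'⟩ := h.conj hZ r s t
  rw [ht']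
  exact u_mem fr _ _ _

theorem FT.mul {y z : G} {σ τ : F ≃+* F} (hy : FT fr y σ) (hz : FT fr z τ) : FT fr (y * z) (σ * τ) := by
  obtain ⟨w, hw, h'⟩ := hz
  have hn := hy.norm hZ hw
  obtain ⟨v, hv, h⟩ := hy
  refine ⟨v * (y * w * y⁻¹), mul_mem hv hn, ?_⟩
  have : v * (y * w * y⁻¹) * (y * z) = (v * y) * (w * z) := by group
  rw [this]
  exact h.mul h'

theorem GT.mul {y z : G} {σ τ : F ≃+* F} (hy : GT fr y σ) (hz : GT fr z τ) : FT fr (y * z) (σ * τ) := by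
  obtain ⟨w, hw, h'⟩ := hz
  have hn := hy.norm hZ hw
  obtain ⟨v, hv, h⟩ := hy
  refine ⟨v * (y * w * y⁻¹), mul_mem hv hn, ?_⟩
  have : v * (y * w * y⁻¹) * (y * z) = (v * y) * (w * z) := by group
  rw [this]
  exact h.mul h'

theorem FT.mul_gt {y z : G} {σ τ : F ≃+* F} (hy : FT fr y σ) (hz : GT fr z τ) : GT fr (y * z) (σ * τ) := by
  obtain ⟨w, hw, h'⟩ := hz
  have hn := hy.norm hZ hw
  obtain ⟨v, hv, h⟩ := hy
  refine ⟨v * (y * w * y⁻¹), mul_mem hv hn, ?_⟩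
  have : v * (y * w * y⁻¹) * (y * z) = (v * y) * (w * z) := by group
  rw [this]
  exact h.mul_grf h'

theorem GT.mul_ft {y z : G} {σ τ : F ≃+* F} (hy : GT fr y σ) (hz : FT fr z τ) : GT fr (y * z) (σ * τ) := by
  obtain ⟨w, hw, h'⟩ := hz
  have hn := hy.norm hZ hw
  obtain ⟨v, hv, h⟩ := hy
  refine ⟨v * (y * w * y⁻¹), mul_mem hv hn, ?_⟩
  have : v * (y * w * y⁻¹) * (y * z) = (v * y) * (w * z) := by group
  rw [this]
  exact h.mul_fld h'

omit [Finite G] in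
theorem mem_normal_of_card {σ : F ≃+* F} {y : G} (h : ∀ g ∈ fr.U, y * g * y⁻¹ ∈ fr.U) [Finite G] {g : G}
    (hg : g ∈ fr.U) : y⁻¹ * g * y ∈ fr.U := by
  have h1 : fr.U.map (MulAut.conj y).toMonoidHom ≤ fr.U := by
    rintro _ ⟨a, ha, rfl⟩
    exact h a ha
  have h2 : fr.U.map (MulAut.conj y).toMonoidHom = fr.U := by
    apply Subgroup.eq_of_le_of_card_ge h1
    rw [Subgroup.card_map_of_injective (MulEquiv.injective _)]
  rw [← h2] at hg
  obtain ⟨a, ha, rfl⟩ := hg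
  have : y⁻¹ * (MulAut.conj y).toMonoidHom a * y = a := by
    show y⁻¹ * (y * a * y⁻¹) * y = a
    group
  rw [this]
  exact ha

theorem FT.inv {y : G} {σ : F ≃+* F} (hy : FT fr y σ) : FT fr y⁻¹ σ⁻¹ := by
  have hn : ∀ g ∈ fr.U, y * g * y⁻¹ ∈ fr.U := fun g hg => hy.norm hZ hg
  obtain ⟨v, hv, h⟩ := hy
  refine ⟨y⁻¹ * v⁻¹ * y, mem_normal_of_card hZ (σ := σ) hn (inv_mem hv), ?_⟩
  have : y⁻¹ * v⁻¹ * y * y⁻¹ = (v * y)⁻¹ := by group
  rw [this]
  exact h.inv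

theorem GT.inv {y : G} {σ : F ≃+* F} (hy : GT fr y σ) : GT fr y⁻¹ σ⁻¹ := by
  have hn : ∀ g ∈ fr.U, y * g * y⁻¹ ∈ fr.U := fun g hg => hy.norm hZ hg
  obtain ⟨v, hv, h⟩ := hy
  refine ⟨y⁻¹ * v⁻¹ * y, mem_normal_of_card hZ (σ := σ) hn (inv_mem hv), ?_⟩
  have : y⁻¹ * v⁻¹ * y * y⁻¹ = (v * y)⁻¹ := by group
  rw [this]
  exact h.inv

theorem FT.eq_of {y : G} {σ τ : F ≃+* F} (h : FT fr y σ) (h' : FT fr y τ) : σ = τ := by
  ext r
  obtain ⟨t, ht⟩ := h.conj hZ r 0 0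
  obtain ⟨t', ht'⟩ := h'.conj hZ r 0 0
  rw [ht] at ht'
  exact (u_inj fr ht').1

theorem GT.eq_of {y : G} {σ τ : F ≃+* F} (h : GT fr y σ) (h' : GT fr y τ) : σ = τ := by
  ext r
  obtain ⟨t, ht⟩ := h.conj hZ 0 r 0
  obtain ⟨t', ht'⟩ := h'.conj hZ 0 r 0
  rw [ht] at ht'
  exact (u_inj fr ht').1

/-- The two types exclude each other. -/
theorem FT.not_gt {y : G} {σ τ : F ≃+* F} (h : FT fr y σ) (h' : GT fr y τ) : False := by
  obtain ⟨t, ht⟩ := h.conj hZ 1 0 0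
  obtain ⟨t', ht'⟩ := h'.conj hZ 1 0 0
  have h3 := (u_inj fr (ht.symm.trans ht')).1
  rw [map_one, map_zero] at h3
  exact one_ne_zero h3

omit hZ [Finite G] [Finite F] [CharP F 2] in
theorem FT.one : FT fr 1 1 := ⟨1, one_mem _, by
  intro i j _ s
  rw [one_mul, one_mul, inv_one, mul_one]
  rfl⟩

omit hZ [Finite G] [Finite F] [CharP F 2] in
theorem FT.of_mem_U {v : G} (hv : v ∈ fr.U) : FT fr v 1 := ⟨v⁻¹, inv_mem hv, by
  intro i j _ s
  rw [inv_mul_cancel, one_mul, inv_one, mul_one]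
  rfl⟩

omit hZ [Finite G] [Finite F] [CharP F 2] in
theorem FT.of_centralizer {c : G} (hc : c ∈ Subgroup.centralizer (A : Set G)) : FT fr c 1 := ⟨1, one_mem _, by
  intro i j h s
  rw [one_mul, ← Subgroup.mem_centralizer_iff.1 hc _ (fr.mem h s), mul_inv_cancel_right]
  rfl⟩

/-- **Elements of type `1` lie in `U C(A)`.** -/
theorem FT.exists_of_one (hA : _root_.commutator ↥A = ⊤) {y : G} (hy : y ∈ Subgroup.normalizer (A : Set G))
    (h : FT fr y 1) : ∃ v ∈ fr.U, v⁻¹ * y ∈ Subgroup.centralizer (A : Set G) :=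
  OutL3Facts.exists_of_trivial fr hZ hA hy fun r s t => h.conj hZ r s t

theorem FT.sq_eq_one {y : G} {σ : F ≃+* F} (h : FT fr y σ) (hy : y * y = 1) : σ * σ = 1 := by
  have h1 := h.mul hZ h
  rw [hy] at h1
  exact h1.eq_of hZ FT.one

theorem GT.sq_eq_one {y : G} {σ : F ≃+* F} (h : GT fr y σ) (hy : y * y = 1) : σ * σ = 1 := by
  have h1 := h.mul hZ h
  rw [hy] at h1
  exact h1.eq_of hZ FT.one

/-! ### Involutions -/

omit hZ [Finite G] [Finite F] [CharP F 2] in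
/-- An element acting trivially on the frame centralises `A`. -/
theorem mem_centralizer_of_fld_one [CharP F 2] (hA : _root_.commutator ↥A = ⊤) {f : G}
    (hf : f ∈ Subgroup.normalizer (A : Set G)) (h : Fld fr f 1) : f ∈ Subgroup.centralizer (A : Set G) := by
  have h1 : OutAct.act A fr.e ⟨f, hf⟩ = 1 := by
    apply OutL3.ext_X
    intro i j hij s
    rw [← fr.map_X hij, OutAct.act_mk, MulAut.one_apply]
    congr 2
    exact Subtype.ext (h i j hij s)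
  exact OutAct.mem_centralizer_of_act_eq_one hA fr.e h1

theorem sq_mem_fld (hA : _root_.commutator ↥A = ⊤) {u y : G} {σ : F ≃+* F} (hu : u ∈ fr.U)
    (hy : y ∈ Subgroup.normalizer (A : Set G)) (hc : y * y ∈ Subgroup.centralizer (A : Set G))
    (h : Fld fr (u * y) σ) : (u * y) * (u * y) ∈ Subgroup.centralizer (A : Set G) := by
  have h0 : FT fr y σ := ⟨u, hu, h⟩
  have h1 : σ * σ = 1 := (h0.mul hZ h0).eq_of hZ (FT.of_centralizer hc)
  have h2 := h.mul h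
  rw [h1] at h2
  have h3 : u * y ∈ Subgroup.normalizer (A : Set G) := mul_mem (Subgroup.le_normalizer (fr.U_le hu)) hy
  exact mem_centralizer_of_fld_one hA (mul_mem h3 h3) h2

theorem sq_mem_grf (hA : _root_.commutator ↥A = ⊤) {u y : G} {σ : F ≃+* F} (hu : u ∈ fr.U)
    (hy : y ∈ Subgroup.normalizer (A : Set G)) (hc : y * y ∈ Subgroup.centralizer (A : Set G))
    (h : Grf fr (u * y) σ) : (u * y) * (u * y) ∈ Subgroup.centralizer (A : Set G) := by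
  have h0 : GT fr y σ := ⟨u, hu, h⟩
  have h1 : σ * σ = 1 := (h0.mul hZ h0).eq_of hZ (FT.of_centralizer hc)
  have h2 := h.mul h
  rw [h1] at h2
  have h3 : u * y ∈ Subgroup.normalizer (A : Set G) := mul_mem (Subgroup.le_normalizer (fr.U_le hu)) hy
  exact mem_centralizer_of_fld_one hA (mul_mem h3 h3) h2

/-- **Elements of `T` of order two modulo `C(A)` are, up to conjugation by `U`, in `U C(A)`, or standard field,
graph or graph-field automorphisms of the frame.** -/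
theorem Adapted.invol {T : Subgroup G} (had : Adapted fr T) (hTA : T ≤ Subgroup.normalizer (A : Set G))
    (hA : _root_.commutator ↥A = ⊤) {y : G} (hy : y ∈ T) (hc : y * y ∈ Subgroup.centralizer (A : Set G)) :
    (∃ v ∈ fr.U, v⁻¹ * y ∈ Subgroup.centralizer (A : Set G)) ∨
    ∃ w ∈ fr.U, ∃ σ : F ≃+* F, σ * σ = 1 ∧
      ((σ ≠ 1 ∧ Fld fr (w * y * w⁻¹) σ) ∨ Grf fr (w * y * w⁻¹) σ) := by
  obtain ⟨u, hu, σ, -, h | h⟩ := had y hy
  · by_cases h1 : σ = 1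
    · subst h1
      exact Or.inl (FT.exists_of_one hZ hA (hTA hy) ⟨u, hu, h⟩)
    · right
      have h2 := sq_mem_fld hZ hA hu (hTA hy) hc h
      have h3 : σ * σ = 1 := sq_eq_one_fld h h2
      -- `y = f v`
      have hv : (u * y)⁻¹ * u⁻¹ * (u * y) ∈ fr.U := by
        rw [conj_inv_eq h2 (fr.U_le (inv_mem hu))]
        obtain ⟨a, b, c, hu'⟩ := (mem_U fr hZ).1 (inv_mem hu)
        rw [hu', h.u]
        exact u_mem fr _ _ _
      obtain ⟨w, hw, h4⟩ := conj_of_sq_fld hZ h h1 h2 hv (by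
        have : u * y * ((u * y)⁻¹ * u⁻¹ * (u * y)) = y := by group
        rw [this]
        exact hc)
      refine ⟨w⁻¹, inv_mem hw, σ, h3, Or.inl ⟨h1, ?_⟩⟩
      have h5 : y = w * (u * y) * w⁻¹ := by
        rw [← h4]
        group
      have h6 : w⁻¹ * y * w⁻¹⁻¹ = u * y := by
        conv_lhs => rw [h5]
        group
      rw [h6]
      exact h
  · right
    have h2 := sq_mem_grf hZ hA hu (hTA hy) hc h
    have h3 : σ * σ = 1 := sq_eq_one_grf h h2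
    have hv : (u * y)⁻¹ * u⁻¹ * (u * y) ∈ fr.U := by
      rw [conj_inv_eq h2 (fr.U_le (inv_mem hu))]
      obtain ⟨a, b, c, hu'⟩ := (mem_U fr hZ).1 (inv_mem hu)
      rw [hu', h.u hZ]
      exact u_mem fr _ _ _
    obtain ⟨w, hw, h4⟩ := conj_of_sq_grf hZ h h2 hv (by
      have : u * y * ((u * y)⁻¹ * u⁻¹ * (u * y)) = y := by group
      rw [this]
      exact hc)
    refine ⟨w⁻¹, inv_mem hw, σ, h3, Or.inr ?_⟩
    have h5 : y = w * (u * y) * w⁻¹ := by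
      rw [← h4]
      group
    have h6 : w⁻¹ * y * w⁻¹⁻¹ = u * y := by
      conv_lhs => rw [h5]
      group
    rw [h6]
    exact h

end

end Cfsg.Agent.StdRank2.OutL3Je
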