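import Mathlib
import Cfsg.Agent.StdRank2.OutL3Je

/-!
# The elementary abelian subgroups of order at least `2 q²` of `T` (type `L₃(q)`, `q ≥ 4`)
-/

set_option autoImplicit false

namespace Cfsg.Agent.StdRank2.OutL3JeMain

open Cfsg.Agent.StdRank2.OutL3Rel Cfsg.Agent.StdRank2.OutField Cfsg.Agent.StdRank2.OutL3Inv
open Cfsg.Agent.StdRank2.OutL3Je

theorem ncard_pairs {F : Type*} [Field F] [Finite F] [CharP F 2] (P : Set (F × F)) (F0 : Set F)
    (h1 : ∀ p ∈ P, p.1 ∈ F0) (h2 : ∀ p ∈ P, ∀ p' ∈ P, p.1 = p'.1 → p.2 + p'.2 ∈ F0) :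
    P.ncard ≤ F0.ncard * F0.ncard := by
  classical
  have h3 : ∀ r : F, ∃ s : F, (∃ p ∈ P, p.1 = r) → (r, s) ∈ P := by
    intro r
    by_cases h : ∃ p ∈ P, p.1 = r
    · obtain ⟨p, hp, hr⟩ := h
      refine ⟨p.2, fun _ => ?_⟩
      rw [← hr]
      exact hp
    · exact ⟨0, fun h' => absurd h' h⟩
  choose g hg using h3
  have h4 : P.ncard ≤ (F0 ×ˢ F0).ncard := by
    apply Set.ncard_le_ncard_of_injOn (fun p => (p.1, p.2 + g p.1))
    · intro p hp
      refine ⟨h1 p hp, ?_⟩
      exact h2 p hp _ (hg p.1 ⟨p, hp, rfl⟩) rfl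
    · intro p hp p' hp' h
      have h' : ((p.1, p.2 + g p.1) : F × F) = (p'.1, p'.2 + g p'.1) := h
      have e1 : p.1 = p'.1 := (Prod.mk.inj h').1
      have e2 : p.2 + g p.1 = p'.2 + g p'.1 := (Prod.mk.inj h').2
      rw [e1] at e2
      exact Prod.ext e1 (add_right_cancel e2)
  rwa [Set.ncard_prod] at h4

variable {G : Type*} [Group G] [Finite G] {A : Subgroup G} {F : Type*} [Field F] [Finite F] [CharP F 2]
  {fr : FrameL3 A F} (hZ : Odd (Nat.card (Subgroup.center ↥A)))

/-- The two families of elements. -/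
def S1 (fr : FrameL3 A F) : Set G := {g | ∃ r t, g = u fr r 0 t}
def S2 (fr : FrameL3 A F) : Set G := {g | ∃ s t, g = u fr 0 s t}
def S0 (fr : FrameL3 A F) : Set G := {g | ∃ t, g = u fr 0 0 t}

omit [Finite G] [CharP F 2] in
theorem ncard_S1 : (S1 fr).ncard = Nat.card F ^ 2 := by
  have h1 : S1 fr = (fun p : F × F => u fr p.1 0 p.2) '' Set.univ := by
    ext g
    constructor
    · rintro ⟨r, t, rfl⟩
      exact ⟨(r, t), trivial, rfl⟩
    · rintro ⟨⟨r, t⟩, -, rfl⟩
      exact ⟨r, t, rfl⟩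
  rw [h1, Set.ncard_image_of_injective, Set.ncard_univ, Nat.card_prod, pow_two]
  rintro ⟨r, t⟩ ⟨r', t'⟩ h
  obtain ⟨e1, -, e2⟩ := u_inj fr h
  exact Prod.ext e1 e2

omit [Finite G] [CharP F 2] in
theorem ncard_S2 : (S2 fr).ncard = Nat.card F ^ 2 := by
  have h1 : S2 fr = (fun p : F × F => u fr 0 p.1 p.2) '' Set.univ := by
    ext g
    constructor
    · rintro ⟨r, t, rfl⟩
      exact ⟨(r, t), trivial, rfl⟩
    · rintro ⟨⟨r, t⟩, -, rfl⟩
      exact ⟨r, t, rfl⟩
  rw [h1, Set.ncard_image_of_injective, Set.ncard_univ, Nat.card_prod, pow_two]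
  rintro ⟨r, t⟩ ⟨r', t'⟩ h
  obtain ⟨-, e1, e2⟩ := u_inj fr h
  exact Prod.ext e1 e2

omit [Finite G] [CharP F 2] in
theorem ncard_S0 : (S0 fr).ncard = Nat.card F := by
  have h1 : S0 fr = (fun p : F => u fr 0 0 p) '' Set.univ := by
    ext g
    constructor
    · rintro ⟨t, rfl⟩
      exact ⟨t, trivial, rfl⟩
    · rintro ⟨t, -, rfl⟩
      exact ⟨t, rfl⟩
  rw [h1, Set.ncard_image_of_injective, Set.ncard_univ]
  intro t t' h
  exact (u_inj fr h).2.2

section W

variable {W : Subgroup G} (hWU : W ≤ fr.U) (hWc : ∀ x ∈ W, ∀ y ∈ W, x * y = y * x) (hW2 : ∀ x ∈ W, x * x = 1)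
include hZ hWU hWc hW2

/-- An elementary abelian subgroup of `U` lies in `E₁` or in `E₂`. -/
theorem subset_or : (∀ x ∈ W, ∃ r t, x = u fr r 0 t) ∨ (∀ x ∈ W, ∃ s t, x = u fr 0 s t) := by
  by_contra hcon
  push Not at hcon
  obtain ⟨⟨x, hx, hx'⟩, ⟨y, hy, hy'⟩⟩ := hcon
  obtain ⟨r, s, t, rfl⟩ := (mem_U fr hZ).1 (hWU hx)
  obtain ⟨r', s', t', rfl⟩ := (mem_U fr hZ).1 (hWU hy)
  have h1 : r * s = 0 := by
    have := hW2 _ hx
    rw [u_sq fr hZ, ← u_zero fr hZ] at this
    exact (u_inj fr this).2.2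
  have h2 : r' * s' = 0 := by
    have := hW2 _ hy
    rw [u_sq fr hZ, ← u_zero fr hZ] at this
    exact (u_inj fr this).2.2
  have h3 := (u_comm_iff fr hZ _ _ _ _ _ _).1 (hWc _ hx _ hy)
  have hs : s ≠ 0 := fun h => hx' r t (by rw [h])
  have hr' : r' ≠ 0 := fun h => hy' s' t' (by rw [h])
  have hr : r = 0 := (mul_eq_zero.1 h1).resolve_right hs
  rw [hr, zero_mul] at h3
  exact mul_ne_zero hr' hs h3.symm

/-- The bound in the presence of an element of field type. -/
theorem card_le_of_ft {x : G} {σ : F ≃+* F} (hx : FT fr x σ) (hxW : ∀ w ∈ W, x * w = w * x) :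
    Nat.card W ≤ Nat.card {x : F // σ x = x} * Nat.card {x : F // σ x = x} := by
  have hfix : ∀ r s t, u fr r s t ∈ W → σ r = r ∧ σ s = s := by
    intro r s t h
    obtain ⟨t', ht'⟩ := hx.conj hZ r s t
    rw [hxW _ h, mul_inv_cancel_right] at ht'
    obtain ⟨e1, e2, -⟩ := u_inj fr ht'
    exact ⟨e1.symm, e2.symm⟩
  have hfix0 : ∀ t, u fr 0 0 t ∈ W → σ t = t := by
    intro t h
    have ht' := hx.conj_zero hZ t
    rw [hxW _ h, mul_inv_cancel_right] at ht'
    exact (u_inj fr ht').2.2.symm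
  set F0 : Set F := {x | σ x = x} with hF0
  have hF0' : F0.ncard = Nat.card {x : F // σ x = x} := rfl
  rw [← hF0']
  have hWn : Nat.card W = (W : Set G).ncard := rfl
  rw [hWn]
  rcases subset_or hZ hWU hWc hW2 with h | h
  · have h1 : (W : Set G) = (fun p : F × F => u fr p.1 0 p.2) '' {p | u fr p.1 0 p.2 ∈ W} := by
      ext g
      constructor
      · intro hg
        obtain ⟨r, t, rfl⟩ := h g hg
        exact ⟨(r, t), hg, rfl⟩
      · rintro ⟨p, hp, rfl⟩
        exact hp
    rw [h1, Set.ncard_image_of_injective]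
    · apply ncard_pairs
      · intro p hp
        exact (hfix _ _ _ hp).1
      · intro p hp p' hp' e
        apply hfix0
        have h2 : u fr p.1 0 p.2 * u fr p'.1 0 p'.2 ∈ W := mul_mem (show u fr p.1 0 p.2 ∈ W from hp) (show u fr p'.1 0 p'.2 ∈ W from hp')
        rw [u_mul fr hZ, e, CharTwo.add_self_eq_zero, zero_add, mul_zero, add_zero] at h2
        exact h2
    · rintro ⟨r, t⟩ ⟨r', t'⟩ h
      obtain ⟨e1, -, e2⟩ := u_inj fr h
      exact Prod.ext e1 e2
  · have h1 : (W : Set G) = (fun p : F × F => u fr 0 p.1 p.2) '' {p | u fr 0 p.1 p.2 ∈ W} := by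
      ext g
      constructor
      · intro hg
        obtain ⟨r, t, rfl⟩ := h g hg
        exact ⟨(r, t), hg, rfl⟩
      · rintro ⟨p, hp, rfl⟩
        exact hp
    rw [h1, Set.ncard_image_of_injective]
    · apply ncard_pairs
      · intro p hp
        exact (hfix _ _ _ hp).2
      · intro p hp p' hp' e
        apply hfix0
        have h2 : u fr 0 p.1 p.2 * u fr 0 p'.1 p'.2 ∈ W := mul_mem (show u fr 0 p.1 p.2 ∈ W from hp) (show u fr 0 p'.1 p'.2 ∈ W from hp')
        rw [u_mul fr hZ, e, CharTwo.add_self_eq_zero, CharTwo.add_self_eq_zero, zero_mul, add_zero] at h2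
        exact h2
    · rintro ⟨r, t⟩ ⟨r', t'⟩ h
      obtain ⟨-, e1, e2⟩ := u_inj fr h
      exact Prod.ext e1 e2

/-- An element of graph type centralising `W` forces `W ≤ Z(U)`. -/
theorem subset_of_gt {x : G} {σ : F ≃+* F} (hx : GT fr x σ) (hxW : ∀ w ∈ W, x * w = w * x) :
    (W : Set G) ⊆ S0 fr := by
  intro w hw
  obtain ⟨r, s, t, rfl⟩ := (mem_U fr hZ).1 (hWU hw)
  obtain ⟨t', ht'⟩ := hx.conj hZ r s t
  rw [hxW _ hw, mul_inv_cancel_right] at ht'
  obtain ⟨e1, e2, -⟩ := u_inj fr ht'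
  have h1 : r * s = 0 := by
    have := hW2 _ hw
    rw [u_sq fr hZ, ← u_zero fr hZ] at this
    exact (u_inj fr this).2.2
  rcases mul_eq_zero.1 h1 with h2 | h2
  · subst h2
    rw [map_zero] at e2
    subst e2
    exact ⟨t, rfl⟩
  · subst h2
    rw [map_zero] at e1
    subst e1
    exact ⟨t, rfl⟩

end W

section Main

variable (hA : _root_.commutator ↥A = ⊤) {T : Subgroup G} (hTA : T ≤ Subgroup.normalizer (A : Set G))
  (had : Adapted fr T) (hUT : fr.U ≤ T) {t : G} (htC : t ∈ Subgroup.centralizer (A : Set G)) (ht2 : t * t = 1)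
  (huniq : ∀ x ∈ T, x ∈ Subgroup.centralizer (A : Set G) → x * x = 1 → x = 1 ∨ x = t) (hq : 4 ≤ Nat.card F)
  {E : Subgroup G} (hET : E ≤ T) (hEc : ∀ x ∈ E, ∀ y ∈ E, x * y = y * x) (hE2 : ∀ x ∈ E, x * x = 1)

include hZ hA hTA hUT huniq hET hE2

theorem cases_of_ft_one {y : G} (hy : y ∈ E) (h : FT fr y 1) (htE : t ∈ E) :
    y ∈ (E ⊓ fr.U : Subgroup G) ∨ t⁻¹ * y ∈ (E ⊓ fr.U : Subgroup G) := by
  obtain ⟨v, hv, hc⟩ := FT.exists_of_one hZ hA (hTA (hET hy)) h
  have hcT : v⁻¹ * y ∈ T := mul_mem (inv_mem (hUT hv)) (hET hy)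
  have hcv : v * (v⁻¹ * y) = (v⁻¹ * y) * v := Subgroup.mem_centralizer_iff.1 hc v (fr.U_le hv)
  have h1 : (v⁻¹ * y) * (v⁻¹ * y) = 1 := by
    have h2 : (v⁻¹ * y) * (v⁻¹ * y) = v⁻¹ * v⁻¹ := by
      have h3 : v * v * ((v⁻¹ * y) * (v⁻¹ * y)) = y * y := by
        calc v * v * ((v⁻¹ * y) * (v⁻¹ * y)) = v * (v * (v⁻¹ * y)) * (v⁻¹ * y) := by group
          _ = v * ((v⁻¹ * y) * v) * (v⁻¹ * y) := by rw [hcv]
          _ = y * y := by group
      rw [hE2 y hy] at h3
      rw [eq_inv_of_mul_eq_one_right h3, mul_inv_rev]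
    have h4 : v⁻¹ * v⁻¹ ∈ Subgroup.centralizer (A : Set G) := by
      rw [← h2]
      exact mul_mem hc hc
    rw [h2]
    exact eq_one_of_centralizer hZ (mul_mem (inv_mem hv) (inv_mem hv)) h4
  rcases huniq _ hcT hc h1 with h2 | h2
  · left
    have : y = v := by rw [← mul_left_cancel_iff (a := v⁻¹), h2, inv_mul_cancel]
    exact ⟨hy, by rw [this]; exact hv⟩
  · right
    have h3 : t⁻¹ * y = v := by
      rw [inv_mul_eq_iff_eq_mul, ← h2, ← hcv, mul_inv_cancel_left]
    exact Subgroup.mem_inf.2 ⟨E.mul_mem (E.inv_mem htE) hy, by rw [h3]; exact hv⟩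

include had hq hEc

/-- The version for subgroups containing `t`. -/
theorem je_aux (htE : t ∈ E) (hcard : 2 * Nat.card F ^ 2 ≤ Nat.card E) :
    (∀ x, x ∈ E ↔ ∃ r z, x = u fr r 0 z ∨ x = t * u fr r 0 z) ∨
    (∀ x, x ∈ E ↔ ∃ s z, x = u fr 0 s z ∨ x = t * u fr 0 s z) := by
  classical
  set W : Subgroup G := E ⊓ fr.U with hW
  have hWU : W ≤ fr.U := inf_le_right
  have hWE : W ≤ E := inf_le_left
  have hWc : ∀ x ∈ W, ∀ y ∈ W, x * y = y * x := fun x hx y hy => hEc x (hWE hx) y (hWE hy)
  have hW2 : ∀ x ∈ W, x * x = 1 := fun x hx => hE2 x (hWE hx)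
  have hWn : Nat.card W = (W : Set G).ncard := rfl
  have hEn : Nat.card E = (E : Set G).ncard := rfl
  set E0 : Set G := {y | y ∈ E ∧ FT fr y 1} with hE0
  set Eγ : Set G := {y | y ∈ E ∧ ∃ σ, FT fr y σ} with hEγ
  have hc0 : E0.ncard ≤ 2 * Nat.card W := by
    rw [hWn]
    apply ncard_le_two t
    rintro y ⟨hy, h⟩
    exact cases_of_ft_one hZ hA hTA hUT huniq hET hE2 hy h htE
  set q := Nat.card F with hqd
  by_cases hG : ∃ z ∈ E, ∃ ρ, GT fr z ρ
  · exfalso
    obtain ⟨z, hz, ρ, hzρ⟩ := hG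
    have hc1 : Nat.card E ≤ 2 * Eγ.ncard := by
      rw [hEn]
      apply ncard_le_two z
      intro y hy
      rcases had.cases (hET hy) with ⟨σ, h⟩ | ⟨σ, h⟩
      · exact Or.inl ⟨hy, σ, h⟩
      · exact Or.inr ⟨mul_mem (inv_mem hz) hy, _, (hzρ.inv hZ).mul hZ h⟩
    have hW0 := subset_of_gt hZ hWU hWc hW2 hzρ (fun w hw => hEc z hz w (hWE hw))
    by_cases hF : ∃ x ∈ E, ∃ σ, σ ≠ 1 ∧ FT fr x σ
    · obtain ⟨x, hx, σ, hσ1, hxσ⟩ := hF
      have hσ2 : σ * σ = 1 := hxσ.sq_eq_one hZ (hE2 x hx)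
      have hc2 : Eγ.ncard ≤ 2 * E0.ncard := by
        apply ncard_le_two x
        rintro y ⟨hy, τ, hτ⟩
        by_cases h1 : τ = 1
        · subst h1
          exact Or.inl ⟨hy, hτ⟩
        · right
          have h2 : τ = σ := unique_invol (hτ.sq_eq_one hZ (hE2 y hy)) hσ2 h1 hσ1
          have h3 := (hxσ.inv hZ).mul hZ hτ
          rw [h2, inv_mul_cancel] at h3
          exact ⟨mul_mem (inv_mem hx) hy, h3⟩
      have hc3 : Nat.card W ≤ Nat.card {x : F // σ x = x} := by
        have h1 : (W : Set G) ⊆ (fun p : F => u fr 0 0 p) '' {p | σ p = p} := by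
          intro w hw
          obtain ⟨t', rfl⟩ := hW0 hw
          refine ⟨t', ?_, rfl⟩
          have h2 := hxσ.conj_zero hZ t'
          rw [hEc x hx _ (hWE hw), mul_inv_cancel_right] at h2
          exact (u_inj fr h2).2.2.symm
        have h2 := Set.ncard_le_ncard h1 (Set.toFinite _)
        have h3 := Set.ncard_image_le (f := fun p : F => u fr 0 0 p) (s := {p | σ p = p}) (Set.toFinite _)
        exact (hWn.le.trans h2).trans h3
      have hf := card_fix hσ2 hσ1
      set f := Nat.card {x : F // σ x = x} with hfd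
      have hf2 : 2 ≤ f := by
        by_contra h
        have : f ≤ 1 := by omega
        have : f * f ≤ 1 := Nat.mul_le_mul this this
        omega
      have h5 : 8 * f < 2 * q ^ 2 := by
        have hf' : q = f * f := hf.symm
        rw [hf']
        have e1 : 2 * (f * f) ^ 2 = 2 * (f * f * f) * f := by ring
        rw [e1]
        have e2 : 8 ≤ f * f * f := by
          have : 2 * 2 ≤ f * f := Nat.mul_le_mul hf2 hf2
          have : 4 * 2 ≤ f * f * f := Nat.mul_le_mul this hf2
          omega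
        have e3 : 8 * f < 2 * (f * f * f) * f := by
          apply Nat.mul_lt_mul_of_pos_right _ (by omega)
          omega
        exact e3
      omega
    · push Not at hF
      have hsub : Eγ ⊆ E0 := by
        rintro y ⟨hy, τ, hτ⟩
        have h1 : τ = 1 := by
          by_contra h
          exact hF y hy τ h hτ
        subst h1
        exact ⟨hy, hτ⟩
      have hc2 := Set.ncard_le_ncard hsub (Set.toFinite _)
      have hc3 : Nat.card W ≤ q := by
        rw [hWn, hqd, ← ncard_S0 (fr := fr)]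
        exact Set.ncard_le_ncard hW0 (Set.toFinite _)
      have h5 : 4 * q < 2 * q ^ 2 := by
        have : 2 * q ^ 2 = (2 * q) * q := by ring
        rw [this]
        apply Nat.mul_lt_mul_of_pos_right _ (by omega)
        omega
      omega
  · push Not at hG
    have hEγE : (E : Set G) ⊆ Eγ := by
      intro y hy
      rcases had.cases (hET hy) with ⟨σ, h⟩ | ⟨σ, h⟩
      · exact ⟨hy, σ, h⟩
      · exact absurd h (hG y hy σ)
    by_cases hF : ∃ x ∈ E, ∃ σ, σ ≠ 1 ∧ FT fr x σ
    · exfalso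
      obtain ⟨x, hx, σ, hσ1, hxσ⟩ := hF
      have hσ2 : σ * σ = 1 := hxσ.sq_eq_one hZ (hE2 x hx)
      have hc2 : Eγ.ncard ≤ 2 * E0.ncard := by
        apply ncard_le_two x
        rintro y ⟨hy, τ, hτ⟩
        by_cases h1 : τ = 1
        · subst h1
          exact Or.inl ⟨hy, hτ⟩
        · right
          have h2 : τ = σ := unique_invol (hτ.sq_eq_one hZ (hE2 y hy)) hσ2 h1 hσ1
          have h3 := (hxσ.inv hZ).mul hZ hτ
          rw [h2, inv_mul_cancel] at h3
          exact ⟨mul_mem (inv_mem hx) hy, h3⟩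
      have hc3 := card_le_of_ft hZ hWU hWc hW2 hxσ (fun w hw => hEc x hx w (hWE hw))
      rw [card_fix hσ2 hσ1] at hc3
      have hc1 := Set.ncard_le_ncard hEγE (Set.toFinite _)
      have h5 : 4 * q < 2 * q ^ 2 := by
        have : 2 * q ^ 2 = (2 * q) * q := by ring
        rw [this]
        apply Nat.mul_lt_mul_of_pos_right _ (by omega)
        omega
      omega
    · push Not at hF
      have hE0E : (E : Set G) ⊆ E0 := by
        intro y hy
        obtain ⟨hy', τ, hτ⟩ := hEγE hy
        have h1 : τ = 1 := by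
          by_contra h
          exact hF y hy τ h hτ
        subst h1
        exact ⟨hy, hτ⟩
      have hc1 := Set.ncard_le_ncard hE0E (Set.toFinite _)
      have hWq : q ^ 2 ≤ Nat.card W := by omega
      rcases subset_or hZ hWU hWc hW2 with h | h
      · left
        have h1 : (W : Set G) = S1 fr := by
          apply Set.eq_of_subset_of_ncard_le
          · intro x hx
            obtain ⟨r, z, e⟩ := h x hx
            exact ⟨r, z, e⟩
          · rw [ncard_S1]
            exact hWq
          · exact Set.toFinite _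
        intro x
        constructor
        · intro hx
          rcases cases_of_ft_one hZ hA hTA hUT huniq hET hE2 hx (hE0E hx).2 htE with h2 | h2
          · obtain ⟨r, z, e⟩ := h x h2
            exact ⟨r, z, Or.inl e⟩
          · obtain ⟨r, z, e⟩ := h _ h2
            refine ⟨r, z, Or.inr ?_⟩
            rw [← e, mul_inv_cancel_left]
        · have h3 : ∀ r z, u fr r 0 z ∈ E := by
            intro r z
            have h4 : u fr r 0 z ∈ (W : Set G) := by
              rw [h1]
              exact ⟨r, z, rfl⟩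
            exact hWE h4
          rintro ⟨r, z, rfl | rfl⟩
          · exact h3 r z
          · exact mul_mem htE (h3 r z)
      · right
        have h1 : (W : Set G) = S2 fr := by
          apply Set.eq_of_subset_of_ncard_le
          · intro x hx
            obtain ⟨r, z, e⟩ := h x hx
            exact ⟨r, z, e⟩
          · rw [ncard_S2]
            exact hWq
          · exact Set.toFinite _
        intro x
        constructor
        · intro hx
          rcases cases_of_ft_one hZ hA hTA hUT huniq hET hE2 hx (hE0E hx).2 htE with h2 | h2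
          · obtain ⟨r, z, e⟩ := h x h2
            exact ⟨r, z, Or.inl e⟩
          · obtain ⟨r, z, e⟩ := h _ h2
            refine ⟨r, z, Or.inr ?_⟩
            rw [← e, mul_inv_cancel_left]
        · have h3 : ∀ r z, u fr 0 r z ∈ E := by
            intro r z
            have h4 : u fr 0 r z ∈ (W : Set G) := by
              rw [h1]
              exact ⟨r, z, rfl⟩
            exact hWE h4
          rintro ⟨r, z, rfl | rfl⟩
          · exact h3 r z
          · exact mul_mem htE (h3 r z)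

omit hET hE2 hEc hq in
include htC in
/-- `t` is centralised by `T`. -/
theorem comm_t (htT : t ∈ T) (ht1 : t ≠ 1) (ht2 : t * t = 1) {y : G} (hy : y ∈ T) : y * t = t * y := by
  have h1 : y * t * y⁻¹ ∈ Subgroup.centralizer (A : Set G) := by
    rw [Subgroup.mem_centralizer_iff]
    intro a ha
    have h2 : y⁻¹ * a * y ∈ A := by
      have := (Subgroup.mem_normalizer_iff''.1 (hTA hy) a).1 ha
      exact this
    have h3 := Subgroup.mem_centralizer_iff.1 htC _ h2
    calc a * (y * t * y⁻¹) = y * ((y⁻¹ * a * y) * t) * y⁻¹ := by group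
      _ = y * (t * (y⁻¹ * a * y)) * y⁻¹ := by rw [h3]
      _ = y * t * y⁻¹ * a := by group
  have h4 : y * t * y⁻¹ * (y * t * y⁻¹) = 1 := by
    have : y * t * y⁻¹ * (y * t * y⁻¹) = y * (t * t) * y⁻¹ := by group
    rw [this, ht2, mul_one, mul_inv_cancel]
  rcases huniq _ (mul_mem (mul_mem hy htT) (inv_mem hy)) h1 h4 with h | h
  · exfalso
    apply ht1
    rw [mul_inv_eq_one] at h
    exact mul_eq_left.1 h
  · rw [mul_inv_eq_iff_eq_mul] at h
    exact h

omit hET hE2 hEc in
include htC in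
/-- **`J_e(T) = ⟨t⟩ U`: the elementary abelian subgroups of `T` of order at least `2 q²` are `⟨t⟩ E₁` and `⟨t⟩ E₂`.** -/
theorem je (htT : t ∈ T) (ht1 : t ≠ 1) (ht2 : t * t = 1) {E : Subgroup G} (hET : E ≤ T)
    (hEc : ∀ x ∈ E, ∀ y ∈ E, x * y = y * x) (hE2 : ∀ x ∈ E, x * x = 1) (hcard : 2 * Nat.card F ^ 2 ≤ Nat.card E) :
    (∀ x, x ∈ E ↔ ∃ r z, x = u fr r 0 z ∨ x = t * u fr r 0 z) ∨
    (∀ x, x ∈ E ↔ ∃ s z, x = u fr 0 s z ∨ x = t * u fr 0 s z) := by
  classical
  have hty : ∀ y ∈ T, y * t = t * y := fun y hy => comm_t hZ hA hTA had hUT htC huniq htT ht1 ht2 hy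
  let E' : Subgroup G :=
    { carrier := {x | x ∈ E ∨ t * x ∈ E}
      mul_mem' := by
        rintro x y (hx | hx) (hy | hy)
        · exact Or.inl (mul_mem hx hy)
        · right
          have : t * (x * y) = x * (t * y) := by rw [← mul_assoc, ← hty x (hET hx), mul_assoc]
          rw [this]
          exact mul_mem hx hy
        · right
          rw [← mul_assoc]
          exact mul_mem hx hy
        · left
          have hxT : x ∈ T := by
            have := mul_mem (inv_mem htT) (hET hx)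
            rwa [inv_mul_cancel_left] at this
          have : x * y = (t * x) * (t * y) := by
            calc x * y = x * (t * t) * y := by rw [ht2, mul_one]
              _ = (x * t) * (t * y) := by group
              _ = (t * x) * (t * y) := by rw [hty x hxT]
          rw [this]
          exact mul_mem hx hy
      one_mem' := Or.inl (one_mem _)
      inv_mem' := by
        rintro x (hx | hx)
        · exact Or.inl (inv_mem hx)
        · right
          have hxT : x ∈ T := by
            have := mul_mem (inv_mem htT) (hET hx)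
            rwa [inv_mul_cancel_left] at this
          have h1 := inv_mem hx
          have ht' : t⁻¹ = t := inv_eq_of_mul_eq_one_left ht2
          rw [mul_inv_rev, ht', hty _ (inv_mem hxT)] at h1
          exact h1 }
  have hmem : ∀ x, x ∈ E' ↔ x ∈ E ∨ t * x ∈ E := fun x => Iff.rfl
  have hE'T : E' ≤ T := by
    rintro x (hx | hx)
    · exact hET hx
    · have := mul_mem (inv_mem htT) (hET hx)
      rwa [inv_mul_cancel_left] at this
  have hEE' : E ≤ E' := fun x hx => Or.inl hx
  have htE' : t ∈ E' := Or.inr (by rw [ht2]; exact one_mem _)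
  have hE'c : ∀ x ∈ E', ∀ y ∈ E', x * y = y * x := by
    rintro x hx y hy
    have hxT := hE'T hx
    have hyT := hE'T hy
    rcases hx with hx | hx <;> rcases hy with hy | hy
    · exact hEc x hx y hy
    · have h1 := hEc x hx _ hy
      rw [← mul_assoc, hty x hxT, mul_assoc, mul_assoc] at h1
      exact mul_left_cancel h1
    · have h1 := hEc _ hx y hy
      rw [← mul_assoc y, hty y hyT, mul_assoc, mul_assoc] at h1
      exact mul_left_cancel h1
    · have h1 := hEc _ hx _ hy
      rw [← hty x hxT, ← hty y hyT, mul_assoc, mul_assoc y] at h1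
      have e1 : ∀ z, t * (z * t) = t * (t * z) → True := fun _ _ => trivial
      have h2 : x * (t * (y * t)) = x * y := by
        rw [hty y hyT, ← mul_assoc t t, ht2, one_mul]
      have h3 : y * (t * (x * t)) = y * x := by
        rw [hty x hxT, ← mul_assoc t t, ht2, one_mul]
      rw [h2, h3] at h1
      exact h1
  have hE'2 : ∀ x ∈ E', x * x = 1 := by
    rintro x hx
    have hxT := hE'T hx
    rcases hx with hx | hx
    · exact hE2 x hx
    · have h1 := hE2 _ hx
      have h2 : t * x * (t * x) = x * x := by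
        rw [← hty x hxT]
        calc x * t * (x * t) = x * (t * x) * t := by group
          _ = x * (x * t) * t := by rw [hty x hxT]
          _ = x * x * (t * t) := by group
          _ = x * x := by rw [ht2, mul_one]
      rw [h2] at h1
      exact h1
  have hc1 : Nat.card E ≤ Nat.card E' := Subgroup.card_le_of_le hEE'
  have hkey : ∀ S : Set G, S.ncard = Nat.card F ^ 2 → (∀ x, x ∈ E' ↔ x ∈ S ∨ t⁻¹ * x ∈ S) → E = E' := by
    intro S hS hE'S
    apply Subgroup.eq_of_le_of_card_ge hEE'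
    have h1 : (E' : Set G).ncard ≤ 2 * S.ncard := ncard_le_two t (fun y hy => (hE'S y).1 hy)
    have h2 : Nat.card E' = (E' : Set G).ncard := rfl
    omega
  have ht' : t⁻¹ = t := inv_eq_of_mul_eq_one_left ht2
  rcases je_aux hZ hA hTA had hUT huniq hq hE'T hE'c hE'2 htE' (hcard.trans hc1) with h | h
  · left
    have h1 : E = E' := by
      apply hkey (S1 fr) ncard_S1
      intro x
      rw [h x]
      constructor
      · rintro ⟨r, z, e | e⟩
        · exact Or.inl ⟨r, z, e⟩
        · exact Or.inr ⟨r, z, by rw [e, inv_mul_cancel_left]⟩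
      · rintro (⟨r, z, e⟩ | ⟨r, z, e⟩)
        · exact ⟨r, z, Or.inl e⟩
        · exact ⟨r, z, Or.inr (by rw [← e, mul_inv_cancel_left])⟩
    intro x
    rw [← h x, ← h1]
  · right
    have h1 : E = E' := by
      apply hkey (S2 fr) ncard_S2
      intro x
      rw [h x]
      constructor
      · rintro ⟨r, z, e | e⟩
        · exact Or.inl ⟨r, z, e⟩
        · exact Or.inr ⟨r, z, by rw [e, inv_mul_cancel_left]⟩
      · rintro (⟨r, z, e⟩ | ⟨r, z, e⟩)
        · exact ⟨r, z, Or.inl e⟩
        · exact ⟨r, z, Or.inr (by rw [← e, mul_inv_cancel_left])⟩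
    intro x
    rw [← h x, ← h1]

end Main

end Cfsg.Agent.StdRank2.OutL3JeMain
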