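import Mathlib
import Cfsg.Agent.StdEven.StepFour
import Cfsg.Agent.StdEven.CoreQuot
import Cfsg.Agent.StdRank2.OutL3JeMain
import Cfsg.Agent.StdRank2.FrameL3P

/-!
# Type `L₃(q)`, `q ≥ 4` even: the common data of `StdEven.StepFour` for `J = ⟨t⟩ U`

`Sit L A t T fr`: the reduced configuration, an adapted frame `fr` with `T ⊓ A = fr.U`.
`Sit.data : StepFour.Data A t T (J fr t) (W fr)`.
-/

set_option autoImplicit false
set_option linter.unusedSectionVars false
set_option linter.dupNamespace false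

namespace Cfsg.Agent.StdRank2.L3Data

open Subgroup Cfsg.Agent.SignalizersComponents Cfsg.Agent.StdEven.Syl Cfsg.Agent.StdEven.Loc
open Cfsg.Agent.StdEven.StepFour Cfsg.Agent.StdL2.Setup
open Cfsg.Agent.StdRank2.FrameL3

variable {G : Type*} [Group G] [Finite G] {L A : Subgroup G} {t : G} {T : Subgroup G}
  {F : Type*} [Field F] [Finite F] [CharP F 2]

/-- the situation. -/
structure Sit (L A : Subgroup G) (t : G) (T : Subgroup G) (fr : FrameL3 A F) : Prop where
  conf : Conf L A t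
  hZ : Odd (Nat.card (center ↥A))
  isT : IsT A t T
  UT : T ⊓ A = fr.U
  had : OutL3Je.Adapted fr T
  four : 4 ≤ Nat.card F

omit [Finite F] [CharP F 2] in
theorem _root_.Cfsg.Agent.StdRank2.L3Data.isT_conj (C : Conf L A t) (hT : IsT A t T) {a : G} (ha : a ∈ A) :
    IsT A t (T.map (MulAut.conj a).toMonoidHom) := by
  have hat : a * t = t * a := (comm_of_centralizer C.htA ha).symm
  have hat' : a⁻¹ * t * a = t := by rw [mul_assoc, ← hat, inv_mul_cancel_left]
  have haN : a ∈ normalizer (A : Set G) := le_normalizer ha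
  refine ⟨hT.syl.conj (le_normalizer haN), ?_, ?_, ?_⟩
  · rw [mem_map_conj, hat']; exact hT.mem
  · intro x hx
    rw [mem_map_conj] at hx
    have h1 := hT.cent _ hx
    calc x * t = a * ((a⁻¹ * x * a) * (a⁻¹ * t * a)) * a⁻¹ := by group
      _ = a * ((a⁻¹ * t * a) * (a⁻¹ * x * a)) * a⁻¹ := by rw [hat', h1]
      _ = t * x := by group
  · intro r hr hrK hrr
    have h1 : a⁻¹ * r * a = r := by
      rw [mul_assoc, comm_of_centralizer hrK ha, inv_mul_cancel_left]
    rw [mem_map_conj, h1] at hr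
    exact hT.uniq r hr hrK hrr

/-- `U` is Sylow in `A`. -/
theorem isSyl_U (hZ : Odd (Nat.card (center ↥A))) (fr : FrameL3 A F) : IsSyl fr.U A := by
  obtain ⟨S, hS⟩ := fr.exists_sylow_U hZ
  refine ⟨fr.U_le, fr.isPGroup_U hZ, fun X hX hXA hle => ?_⟩
  have h1 : (S : Subgroup ↥A) ≤ X.subgroupOf A := by
    rw [hS]
    intro x hx
    exact mem_subgroupOf.mpr (hle (mem_subgroupOf.mp hx))
  have h2 := S.is_maximal' hX.comap_subtype h1
  apply le_antisymm _ hle
  intro x hx
  have h3 : (⟨x, hXA hx⟩ : A) ∈ X.subgroupOf A := mem_subgroupOf.mpr hx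
  have h4 : (⟨x, hXA hx⟩ : A) ∈ (S : Subgroup ↥A) := h2 ▸ h3
  rw [hS] at h4
  exact mem_subgroupOf.mp h4

theorem exists_sit (C : Conf L A t) (hZ : Odd (Nat.card (center ↥A)))
    (e : (↥A ⧸ center ↥A) ≃* Matrix.ProjectiveSpecialLinearGroup (Fin 3) F) (four : 4 ≤ Nat.card F) :
    ∃ (T : Subgroup G) (fr : FrameL3 A F), Sit L A t T fr := by
  obtain ⟨fr, -⟩ := FrameL3.exists_frame hZ e
  obtain ⟨T0, hT0⟩ := exists_isT C.std C.ht C.htA C.cyc
  have hU := isSyl_U hZ fr
  obtain ⟨a, ha, hc⟩ := hT0.sylA.exists_conj hU.two hU.le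
  set T := T0.map (MulAut.conj a⁻¹).toMonoidHom with hTdef
  have hT : IsT A t T := isT_conj C hT0 (inv_mem ha)
  have hUT : fr.U ≤ T := by
    intro u hu
    rw [hTdef, mem_map_conj, inv_inv]
    exact (hc u hu).1
  have hUT' : T ⊓ A = fr.U :=
    hU.max _ (hT.syl.two.to_le inf_le_left) inf_le_right (le_inf hUT hU.le)
  obtain ⟨c, hc⟩ := OutL3Je.exists_adapted fr hZ T hT.syl.two hT.syl.le (by
    intro y hy u hu
    rw [← hUT'] at hu ⊢
    exact mem_inf.mpr ⟨mul_mem (mul_mem hy hu.1) (inv_mem hy),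
      conj_mem_of_mem_normalizer (hT.syl.le hy) hu.2⟩)
  exact ⟨T, fr.rescale c, C, hZ, hT, by rw [hUT', FrameL3.rescale_U], hc, four⟩

/-! ### `H⟨t⟩` -/

section SupT

omit [Finite G]

variable {H : Subgroup G} (htt : t * t = 1) (hc : ∀ x ∈ H, t * x = x * t)
include htt hc

theorem mem_sup_t {x : G} : x ∈ H ⊔ zpowers t ↔ x ∈ H ∨ t * x ∈ H := by
  constructor
  · intro hx
    let K : Subgroup G :=
      { carrier := {x | x ∈ H ∨ t * x ∈ H}
        mul_mem' := by
          rintro x y (hx | hx) (hy | hy)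
          · exact Or.inl (mul_mem hx hy)
          · right
            have h1 : t * (x * y) = x * (t * y) := by rw [← mul_assoc, hc x hx, mul_assoc]
            rw [h1]
            exact mul_mem hx hy
          · right
            rw [← mul_assoc]
            exact mul_mem hx hy
          · left
            have h1 : x * y = (t * x) * (t * y) := by
              have h2 := hc _ hx
              calc x * y = x * (t * t) * y := by rw [htt, mul_one]
                _ = (t * t) * (x * (t * t) * y) := by rw [htt, one_mul]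
                _ = t * ((t * x) * t) * (t * y) := by group
                _ = t * (t * (t * x)) * (t * y) := by rw [← h2]
                _ = (t * t) * ((t * x) * (t * y)) := by group
                _ = _ := by rw [htt, one_mul]
            rw [h1]
            exact mul_mem hx hy
        one_mem' := Or.inl (one_mem _)
        inv_mem' := by
          rintro x (hx | hx)
          · exact Or.inl (inv_mem hx)
          · right
            have h2 := hc _ (inv_mem hx)
            have h1 : t * x⁻¹ = (t * x)⁻¹ := by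
              calc t * x⁻¹ = (t * (t * x)⁻¹) * t := by group
                _ = (t * x)⁻¹ * (t * t) := by rw [h2]; group
                _ = _ := by rw [htt, mul_one]
            rw [h1]
            exact inv_mem hx }
    have h1 : H ⊔ zpowers t ≤ K := by
      rw [sup_le_iff, zpowers_le]
      exact ⟨fun x hx => Or.inl hx, Or.inr (by rw [htt]; exact one_mem _)⟩
    exact h1 hx
  · rintro (hx | hx)
    · exact mem_sup_left hx
    · have h1 : x = t * (t * x) := by rw [← mul_assoc, htt, one_mul]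
      rw [h1]
      exact mul_mem (mem_sup_right (mem_zpowers t)) (mem_sup_left hx)

theorem two_mul_card_le [Finite G] (ht : t ∉ H) : 2 * Nat.card H ≤ Nat.card (H ⊔ zpowers t : Subgroup G) := by
  have h1 : Nat.card (Bool × H) = 2 * Nat.card H := by
    rw [Nat.card_prod, Nat.card_eq_fintype_card, Fintype.card_bool]
  rw [← h1]
  apply Nat.card_le_card_of_injective (fun p : Bool × H => (⟨if p.1 then t * p.2 else p.2, by
    rw [mem_sup_t htt hc]
    split
    · right
      rw [← mul_assoc, htt, one_mul]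
      exact p.2.2
    · exact Or.inl p.2.2⟩ : (H ⊔ zpowers t : Subgroup G)))
  rintro ⟨a, x⟩ ⟨b, y⟩ hxy
  have h2 := congrArg Subtype.val hxy
  simp only at h2
  cases a <;> cases b
  · simp only [Bool.false_eq_true, if_false] at h2
    rw [Subtype.ext h2]
  · exfalso
    simp only [Bool.false_eq_true, if_false, if_true] at h2
    apply ht
    have : t = x * (y : G)⁻¹ := by rw [h2]; group
    rw [this]
    exact mul_mem x.2 (inv_mem y.2)
  · exfalso
    simp only [Bool.false_eq_true, if_false, if_true] at h2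
    apply ht
    have : t = y * (x : G)⁻¹ := by rw [← h2]; group
    rw [this]
    exact mul_mem y.2 (inv_mem x.2)
  · simp only [if_true] at h2
    rw [Subtype.ext (mul_left_cancel h2)]

end SupT

/-- `W = Z(U)`. -/
def W (fr : FrameL3 A F) : Subgroup G := fr.U ⊓ centralizer (fr.U : Set G)

/-- `J = U⟨t⟩`. -/
def J (fr : FrameL3 A F) (t : G) : Subgroup G := fr.U ⊔ zpowers t

namespace Sit

variable {fr : FrameL3 A F} (h : Sit L A t T fr)
include h

theorem tt : t * t = 1 := Cfsg.Agent.StdEven.Loc.tt h.conf.ht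

theorem t_ne : t ≠ 1 := Cfsg.Agent.StdEven.Loc.t_ne h.conf.ht

theorem t_comm {a : G} (ha : a ∈ A) : t * a = a * t := comm_of_centralizer h.conf.htA ha

theorem t_not : t ∉ A := fun ht =>
  h.t_ne (h.isT.eq_one_of_mem h.hZ h.isT.mem ht h.conf.htA)

theorem perfect : _root_.commutator ↥A = ⊤ := h.conf.std.1.1.commutator_eq_top

theorem U_le : fr.U ≤ T := by rw [← h.UT]; exact inf_le_left

theorem mem_J {x : G} : x ∈ J fr t ↔ x ∈ fr.U ∨ t * x ∈ fr.U :=
  mem_sup_t h.tt fun _ hx => h.t_comm (fr.U_le hx)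

theorem mem_W {x : G} : x ∈ W fr ↔ ∃ c, x = fr.x 0 2 c := by
  constructor
  · rintro ⟨h1, h2⟩
    exact fr.mem_center_U h.hZ h1 fun v hv => comm_of_centralizer h2 hv
  · rintro ⟨c, rfl⟩
    refine mem_inf.mpr ⟨fr.x_mem_U (by decide) c, ?_⟩
    rw [mem_centralizer_iff]
    intro v hv
    obtain ⟨a, b, d, rfl⟩ := (fr.mem_U h.hZ).1 hv
    have e1 : fr.x 0 2 c = fr.el 0 0 c := by
      rw [el, fr.x_zero h.hZ (by decide), fr.x_zero h.hZ (by decide), one_mul, one_mul]
    rw [e1, fr.el_mul h.hZ, fr.el_mul h.hZ]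
    congr 1
    · rw [add_comm]
    · rw [add_comm]
    · ring

theorem x02_eq (c : F) : fr.x 0 2 c = fr.el 0 0 c := by
  rw [el, fr.x_zero h.hZ (by decide), fr.x_zero h.hZ (by decide), one_mul, one_mul]

theorem x02_mem_W (c : F) : fr.x 0 2 c ∈ W fr := h.mem_W.mpr ⟨c, rfl⟩

theorem x02_ne_one {c : F} (hc : c ≠ 0) : fr.x 0 2 c ≠ 1 := fun h1 =>
  hc ((fr.x_eq_one h.hZ (by decide)).1 h1)

theorem U_mem_J {x : G} (hx : x ∈ fr.U) : x ∈ J fr t := mem_sup_left hx

theorem t_mem_J : t ∈ J fr t := mem_sup_right (mem_zpowers t)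

theorem J_le : J fr t ≤ T := by
  rw [J, sup_le_iff, zpowers_le]
  exact ⟨h.U_le, h.isT.mem⟩

theorem W_le_A : W fr ≤ A := fun _ hx => fr.U_le hx.1

/-- conjugation of `J` determined on `⟨t⟩E₁` and `⟨t⟩E₂`. -/
theorem weak {g : G} (hg : ∀ j ∈ J fr t, g * j * g⁻¹ ∈ T) {j : G} (hj : j ∈ J fr t) :
    g * j * g⁻¹ ∈ J fr t := by
  -- the two elementary abelian subgroups
  have key : ∀ E : Subgroup G, E ≤ fr.U → (∀ x ∈ E, x * x = 1) → Nat.card E = Nat.card F ^ 2 →
      ∀ x ∈ E ⊔ zpowers t, g * x * g⁻¹ ∈ J fr t := by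
    intro E hEU hE2 hEc x hx
    have hEt : ∀ x ∈ E, t * x = x * t := fun x hx => h.t_comm (fr.U_le (hEU hx))
    have htE : t ∉ E := fun h1 => h.t_not (fr.U_le (hEU h1))
    have hcomm : ∀ x ∈ E, ∀ y ∈ E, x * y = y * x := fun x hx y hy =>
      FrameL3.comm_of_sq hE2 hx hy
    have hle : E ⊔ zpowers t ≤ J fr t := sup_le_sup_right hEU _
    have hsq : ∀ x ∈ E ⊔ zpowers t, x * x = 1 := by
      intro x hx
      rcases (mem_sup_t h.tt hEt).mp hx with h1 | h1
      · exact hE2 x h1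
      · have h2 := hE2 _ h1
        have h3 := hEt _ h1
        calc x * x = (t * t) * x * (t * t) * x := by rw [h.tt]; group
          _ = t * ((t * x) * t) * (t * x) := by group
          _ = (t * t) * ((t * x) * (t * x)) := by rw [← h3]; group
          _ = 1 := by rw [h.tt, h2, one_mul]
    set E' := (E ⊔ zpowers t).map (MulAut.conj g).toMonoidHom with hE'
    have hE'T : E' ≤ T := by
      rintro _ ⟨y, hy, rfl⟩
      exact hg y (hle hy)
    have hE'2 : ∀ y ∈ E', y * y = 1 := by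
      rintro _ ⟨y, hy, rfl⟩
      show g * y * g⁻¹ * (g * y * g⁻¹) = 1
      calc g * y * g⁻¹ * (g * y * g⁻¹) = g * (y * y) * g⁻¹ := by group
        _ = 1 := by rw [hsq y hy]; group
    have hE'c : 2 * Nat.card F ^ 2 ≤ Nat.card E' := by
      rw [← hEc]
      refine (two_mul_card_le h.tt hEt htE).trans (le_of_eq ?_)
      exact Nat.card_congr ((E ⊔ zpowers t).equivMapOfInjective (MulAut.conj g).toMonoidHom
        (MulAut.conj g).injective).toEquiv
    have hmem : g * x * g⁻¹ ∈ E' := conj_mem_map g hx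
    rcases OutL3JeMain.je h.hZ h.perfect h.isT.syl.le h.had h.U_le h.conf.htA h.isT.uniq h.four
        h.isT.mem h.t_ne h.tt hE'T (fun x hx y hy => FrameL3.comm_of_sq hE'2 hx hy) hE'2 hE'c
      with h1 | h1
    · obtain ⟨r, z, h2 | h2⟩ := (h1 _).1 hmem
      · rw [h2]; exact h.U_mem_J (OutL3Rel.u_mem fr _ _ _)
      · rw [h2]; exact mul_mem h.t_mem_J (h.U_mem_J (OutL3Rel.u_mem fr _ _ _))
    · obtain ⟨r, z, h2 | h2⟩ := (h1 _).1 hmem
      · rw [h2]; exact h.U_mem_J (OutL3Rel.u_mem fr _ _ _)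
      · rw [h2]; exact mul_mem h.t_mem_J (h.U_mem_J (OutL3Rel.u_mem fr _ _ _))
  have k1 := key (fr.Row 0) fr.Row_zero_le_U (fun x hx => fr.Row_sq h.hZ hx) (fr.card_Row h.hZ 0)
  have k2 := key (fr.Col 2) fr.Col_two_le_U (fun x hx => fr.Col_sq h.hZ hx) (fr.card_Col h.hZ 2)
  have kU : ∀ u ∈ fr.U, g * u * g⁻¹ ∈ J fr t := by
    intro u hu
    obtain ⟨a, b, c, rfl⟩ := (fr.mem_U h.hZ).1 hu
    have e1 : fr.el a b c = fr.el a 0 0 * fr.el 0 b c := by
      rw [fr.el_mul h.hZ, add_zero, zero_add, zero_mul, add_zero, zero_add]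
    have e2 : g * fr.el a b c * g⁻¹ = (g * fr.el a 0 0 * g⁻¹) * (g * fr.el 0 b c * g⁻¹) := by
      rw [e1]; group
    rw [e2]
    exact mul_mem (k1 _ (mem_sup_left ((fr.mem_Row_zero h.hZ).2 ⟨_, _, rfl⟩)))
      (k2 _ (mem_sup_left ((fr.mem_Col_two h.hZ).2 ⟨_, _, rfl⟩)))
  rcases h.mem_J.mp hj with h1 | h1
  · exact kU _ h1
  · have h2 := kU _ h1
    have h3 := k1 t (mem_sup_right (mem_zpowers t))
    have e1 : g * j * g⁻¹ = (g * t * g⁻¹) * (g * (t * j) * g⁻¹) := by
      calc g * j * g⁻¹ = g * ((t * t) * j) * g⁻¹ := by rw [h.tt, one_mul]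
        _ = _ := by group
    rw [e1]
    exact mul_mem h3 h2

theorem exists_ne : ∃ l : F, l ≠ 0 ∧ l ≠ 1 := by
  by_contra hcon
  push Not at hcon
  have h1 : ∀ x : F, x ∈ ({0, 1} : Set F) := fun x => by
    by_cases h0 : x = 0
    · exact Or.inl h0
    · exact Or.inr (hcon x h0)
  have h2 : Nat.card F ≤ 2 := by
    rw [← Set.ncard_univ]
    calc (Set.univ : Set F).ncard ≤ ({0, 1} : Set F).ncard :=
          Set.ncard_le_ncard (fun x _ => h1 x) (Set.toFinite _)
      _ ≤ 2 := (Set.ncard_insert_le _ _).trans (by simp)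
  have := h.four
  omega

/-- commutators of elements of `J` lie in `U`. -/
theorem comm_mem {x y : G} (hx : x ∈ J fr t) (hy : y ∈ J fr t) : x * y * x⁻¹ * y⁻¹ ∈ fr.U := by
  have ht' : t⁻¹ = t := inv_eq_of_mul_eq_one_left h.tt
  have key : ∀ z ∈ J fr t, ∃ u ∈ fr.U, z = u ∨ z = t * u := by
    intro z hz
    rcases h.mem_J.mp hz with h1 | h1
    · exact ⟨z, h1, Or.inl rfl⟩
    · exact ⟨t * z, h1, Or.inr (by rw [← mul_assoc, h.tt, one_mul])⟩
  have hU : ∀ u ∈ fr.U, t * u = u * t := fun u hu => h.t_comm (fr.U_le hu)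
  have conj_t : ∀ u ∈ fr.U, t * u * t⁻¹ = u := fun u hu => by rw [hU u hu, mul_inv_cancel_right]
  obtain ⟨u, hu, hxu⟩ := key x hx
  obtain ⟨v, hv, hyv⟩ := key y hy
  have e1 : x * y * x⁻¹ * y⁻¹ = u * v * u⁻¹ * v⁻¹ := by
    have c1 : Commute t u := hU u hu
    have c2 : Commute t v := hU v hv
    have c3 : ∀ a : G, (t * a) = t * a := fun _ => rfl
    rcases hxu with rfl | rfl <;> rcases hyv with rfl | rfl
    · rfl
    · calc x * (t * v) * x⁻¹ * (t * v)⁻¹ = (x * t) * v * x⁻¹ * v⁻¹ * t⁻¹ := by group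
        _ = t * (x * v * x⁻¹ * v⁻¹) * t⁻¹ := by rw [← hU x hu]; group
        _ = _ := conj_t _ (mul_mem (mul_mem (mul_mem hu hv) (inv_mem hu)) (inv_mem hv))
    · calc t * u * y * (t * u)⁻¹ * y⁻¹ = t * (u * y * u⁻¹) * t⁻¹ * y⁻¹ := by group
        _ = _ := by rw [conj_t _ (mul_mem (mul_mem hu hv) (inv_mem hu))]
    · calc t * u * (t * v) * (t * u)⁻¹ * (t * v)⁻¹
          = t * (u * (t * v * t⁻¹ * (t * (u⁻¹) * t⁻¹)) * (v⁻¹)) * t⁻¹ := by
            have h2 := hU _ (inv_mem hu)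
            rw [conj_t v hv, conj_t _ (inv_mem hu)]
            calc t * u * (t * v) * (t * u)⁻¹ * (t * v)⁻¹
                = t * u * (t * v * u⁻¹) * t⁻¹ * v⁻¹ * t⁻¹ := by group
              _ = t * u * (t * (v * u⁻¹) * t⁻¹) * v⁻¹ * t⁻¹ := by group
              _ = t * u * (v * u⁻¹) * v⁻¹ * t⁻¹ := by
                rw [conj_t _ (mul_mem hv (inv_mem hu))]
              _ = _ := by group
        _ = _ := by
          rw [conj_t v hv, conj_t _ (inv_mem hu)]
          have := conj_t _ (mul_mem (mul_mem hu (mul_mem hv (inv_mem hu))) (inv_mem hv))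
          rw [this]; group
  rw [e1]
  exact mul_mem (mul_mem (mul_mem hu hv) (inv_mem hu)) (inv_mem hv)

theorem excl {g : G} (hg : g ∈ normalizer (J fr t : Set G)) : g * t * g⁻¹ ∉ W fr := by
  intro hw
  obtain ⟨c, hc⟩ := h.mem_W.mp hw
  have e1 : fr.x 0 2 c = fr.el c 0 0 * fr.el 0 1 0 * (fr.el c 0 0)⁻¹ * (fr.el 0 1 0)⁻¹ := by
    have h1 : fr.el c 0 0 * fr.el 0 1 0 = fr.el 0 0 c * (fr.el 0 1 0 * fr.el c 0 0) := by
      rw [fr.el_mul h.hZ, fr.el_mul h.hZ, fr.el_mul h.hZ]
      congr 1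
      · ring
      · ring
      · have : (c : F) + c = 0 := CharTwo.add_self_eq_zero c
        simp [this]
    rw [h1, h.x02_eq]; group
  have h2 := h.comm_mem (conj_inv_mem_of_mem_normalizer hg (h.U_mem_J (fr.el_mem_U c 0 0)))
    (conj_inv_mem_of_mem_normalizer hg (h.U_mem_J (fr.el_mem_U 0 1 0)))
  apply h.t_not
  have e2 : t = g⁻¹ * fr.el c 0 0 * g * (g⁻¹ * fr.el 0 1 0 * g) * (g⁻¹ * fr.el c 0 0 * g)⁻¹ *
      (g⁻¹ * fr.el 0 1 0 * g)⁻¹ := by
    have h3 : t = g⁻¹ * (g * t * g⁻¹) * g := by group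
    rw [hc, e1] at h3
    rw [h3]; group
  rw [e2]
  exact fr.U_le h2

/-- a torus element `diag (l, 1, l⁻¹)` of `A`. -/
theorem exists_tor {l : F} (hl : l ≠ 0) : ∃ d ∈ A, d ∈ normalizer (J fr t : Set G) ∧
    ∀ a b c, d * fr.el a b c * d⁻¹ = fr.el (l * a) (l * b) (l * l * c) := by
  obtain ⟨d, hd⟩ := fr.exists_tor (c := ![l, 1, l⁻¹]) (by simp [hl])
  have h1 : ∀ a b c, d * fr.el a b c * d⁻¹ = fr.el (l * a) (l * b) (l * l * c) := by
    intro a b c
    rw [hd.conj_el h.hZ]
    congr 1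
    · simp
    · simp [mul_comm]
    · simp [mul_comm, mul_left_comm]
  refine ⟨d, hd.mem, mem_normalizer_of_conj_le fun j hj => ?_, h1⟩
  rcases h.mem_J.mp hj with h2 | h2
  · obtain ⟨a, b, c, rfl⟩ := (fr.mem_U h.hZ).1 h2
    rw [h1]
    exact h.U_mem_J (fr.el_mem_U _ _ _)
  · obtain ⟨a, b, c, h3⟩ := (fr.mem_U h.hZ).1 h2
    rw [h.mem_J]
    right
    have h4 : t * (d * j * d⁻¹) = d * (t * j) * d⁻¹ := by
      have := h.t_comm hd.mem
      calc t * (d * j * d⁻¹) = (t * d) * j * d⁻¹ := by group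
        _ = _ := by rw [this]; group
    rw [h4, h3, h1]
    exact fr.el_mem_U _ _ _

/-- **The common data.** -/
theorem data : Data A t T (J fr t) (W fr) where
  isT := h.isT
  J_le := h.J_le
  t_J := h.t_mem_J
  W_J := fun _ hx => h.U_mem_J hx.1
  W_A := h.W_le_A
  W_two := by
    intro w hw
    obtain ⟨c, rfl⟩ := h.mem_W.mp hw
    exact fr.two (by decide) c
  W_cent := by
    intro w hw j hj
    rcases h.mem_J.mp hj with h1 | h1
    · exact comm_of_centralizer hw.2 h1
    · have h2 : w * (t * j) = t * j * w := comm_of_centralizer hw.2 h1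
      have h3 := h.t_comm (h.W_le_A hw)
      have h4 : t * (w * j) = t * (j * w) := by
        calc t * (w * j) = (t * w) * j := by group
          _ = w * (t * j) := by rw [h3]; group
          _ = _ := by rw [h2]; group
      exact mul_left_cancel h4
  omega := by
    intro x hx _ hc
    have hxU : ∀ v ∈ fr.U, x * v = v * x := fun v hv => hc v (h.U_mem_J hv)
    rcases h.mem_J.mp hx with h1 | h1
    · left
      rw [h.mem_W]
      exact fr.mem_center_U h.hZ h1 hxU
    · right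
      rw [h.mem_W]
      refine fr.mem_center_U h.hZ h1 fun v hv => ?_
      have h2 := h.t_comm (fr.U_le hv)
      calc t * x * v = t * (v * x) := by rw [mul_assoc, hxU v hv]
        _ = (t * v) * x := by group
        _ = v * (t * x) := by rw [h2]; group
  weak := fun g hg j hj => h.weak hg hj
  into := by
    intro u _ huA huu
    by_cases h1 : u = 1
    · exact ⟨1, one_mem _, by rw [h1, mul_one, inv_one, mul_one]; exact one_mem _⟩
    · obtain ⟨y, hy, hyu⟩ := fr.involution_conj h.hZ huA huu h1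
      exact ⟨y, hy, by rw [hyu]; exact h.x02_mem_W 1⟩
  excl := fun g hg => h.excl hg
  fix := by
    intro w hw hfix
    obtain ⟨c, rfl⟩ := h.mem_W.mp hw
    obtain ⟨l, hl0, hl1⟩ := h.exists_ne
    obtain ⟨d, hdA, hdJ, hd⟩ := h.exists_tor hl0
    have h1 := hfix d hdA hdJ
    have h2 := hd 0 0 c
    rw [h.x02_eq] at h1 ⊢
    rw [h1, mul_inv_cancel_right, fr.el_inj] at h2
    have h3 := h2.2.2
    have h4 : c = 0 := by
      by_contra hc0
      have h5 : l * l = 1 := by
        have : (l * l) * c = 1 * c := by rw [one_mul]; exact h3.symm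
        exact mul_right_cancel₀ hc0 this
      rcases mul_self_eq_one_iff.mp h5 with h6 | h6
      · exact hl1 h6
      · rw [CharTwo.neg_eq] at h6
        exact hl1 h6
    rw [h4, fr.el_zero h.hZ]

/-- `t` is not conjugate in `G` to an involution of `A`. -/
theorem not_conj {u : G} (hu : u ∈ A) (g : G) : g * t * g⁻¹ ≠ u := by
  intro hgu
  have huu : u * u = 1 := by
    rw [← hgu]
    calc g * t * g⁻¹ * (g * t * g⁻¹) = g * (t * t) * g⁻¹ := by group
      _ = 1 := by rw [h.tt]; group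
  have hu1 : u ≠ 1 := by
    rintro rfl
    apply h.t_ne
    have : t = g⁻¹ * (g * t * g⁻¹) * g := by group
    rw [this, hgu]; group
  -- an involution of `W` central in `T`
  obtain ⟨c, hc0, hcT⟩ : ∃ c : F, c ≠ 0 ∧ ∀ x ∈ T, x * fr.x 0 2 c = fr.x 0 2 c * x := by
    have : Fact (Nat.Prime 2) := ⟨Nat.prime_two⟩
    -- `T` acts on `W`
    have hWn : ∀ x ∈ T, ∀ w ∈ W fr, x * w * x⁻¹ ∈ W fr := by
      intro x hx w hw
      have hxJ := h.J_le
      have hUx : ∀ y ∈ T, ∀ u ∈ fr.U, y * u * y⁻¹ ∈ fr.U := by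
        intro y hy u hu
        rw [← h.UT] at hu ⊢
        exact mem_inf.mpr ⟨mul_mem (mul_mem hy hu.1) (inv_mem hy),
          conj_mem_of_mem_normalizer (h.isT.syl.le hy) hu.2⟩
      refine mem_inf.mpr ⟨hUx x hx w hw.1, ?_⟩
      rw [mem_centralizer_iff]
      intro v hv
      have h1 := hUx x⁻¹ (inv_mem hx) v hv
      rw [inv_inv] at h1
      have h2 := comm_of_centralizer hw.2 h1
      calc v * (x * w * x⁻¹) = x * ((x⁻¹ * v * x) * w) * x⁻¹ := by group
        _ = x * (w * (x⁻¹ * v * x)) * x⁻¹ := by rw [h2]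
        _ = _ := by group
    have hone : (0 : F) ≠ 1 := zero_ne_one
    let act : MulAction T (W fr) :=
      { smul := fun x w => ⟨x * w * (x : G)⁻¹, hWn x x.2 w w.2⟩
        one_smul := fun w => Subtype.ext (by show (1 : G) * w * (1 : G)⁻¹ = w; group)
        mul_smul := fun x y w => Subtype.ext (by
          show (x * y : G) * w * (x * y : G)⁻¹ = x * (y * w * (y : G)⁻¹) * (x : G)⁻¹
          group) }
    have hdvd : 2 ∣ Nat.card (W fr) := by
      have h1 : orderOf (⟨fr.x 0 2 1, h.x02_mem_W 1⟩ : W fr) = 2 := by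
        apply orderOf_eq_prime
        · apply Subtype.ext
          show (fr.x 0 2 1) ^ 2 = 1
          rw [pow_two, fr.two (by decide)]
        · intro h2
          exact h.x02_ne_one one_ne_zero (congrArg Subtype.val h2)
      rw [← h1]
      exact orderOf_dvd_natCard _
    have h1 := h.isT.syl.two.card_modEq_card_fixedPoints (W fr)
    have h2 : 2 ∣ Nat.card (MulAction.fixedPoints T (W fr)) := by
      have := (Nat.ModEq.dvd_iff h1 (dvd_refl 2)).mp hdvd
      exact this
    have h3 : (1 : W fr) ∈ MulAction.fixedPoints T (W fr) := by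
      intro x
      apply Subtype.ext
      show (x : G) * 1 * (x : G)⁻¹ = 1
      group
    have h4 : 1 < Nat.card (MulAction.fixedPoints T (W fr)) := by
      have : 0 < Nat.card (MulAction.fixedPoints T (W fr)) := by
        have : Nonempty (MulAction.fixedPoints T (W fr)) := ⟨⟨1, h3⟩⟩
        exact Nat.card_pos
      have := Nat.le_of_dvd this h2
      omega
    rw [Finite.one_lt_card_iff_nontrivial] at h4
    obtain ⟨w, hw⟩ := _root_.exists_ne (⟨1, h3⟩ : MulAction.fixedPoints T (W fr))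
    obtain ⟨c, hc⟩ := h.mem_W.mp w.1.2
    refine ⟨c, ?_, ?_⟩
    · rintro rfl
      apply hw
      apply Subtype.ext
      apply Subtype.ext
      rw [hc, fr.x_zero h.hZ (by decide)]
      rfl
    · intro x hx
      have h5 := congrArg Subtype.val (w.2 ⟨x, hx⟩)
      have h6 : x * (w.1 : G) * x⁻¹ = w.1 := h5
      rw [hc, mul_inv_eq_iff_eq_mul] at h6
      exact h6
  -- `t` is conjugate to `w := x 0 2 c`
  obtain ⟨y, hy, hyu⟩ := fr.involution_conj h.hZ hu huu hu1
  obtain ⟨y', hy', hyu'⟩ := fr.involution_conj h.hZ (fr.U_le (fr.x_mem_U (by decide) c))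
    (fr.two (by decide) c) (h.x02_ne_one hc0)
  set w := fr.x 0 2 c with hwdef
  set k := y'⁻¹ * y * g with hk
  have hkt : k * t * k⁻¹ = w := by
    have e1 : k * t * k⁻¹ = y'⁻¹ * (y * (g * t * g⁻¹) * y⁻¹) * y' := by rw [hk]; group
    rw [e1, hgu, hyu, ← hyu']; group
  -- `T` and `T ^ k` are Sylow in `C(w)`
  have hTc := h.isT.syl_cent h.conf.std h.conf.ht h.conf.htA
  have h1 : ∀ x ∈ T, k⁻¹ * x * k ∈ centralizer ({t} : Set G) := by
    intro x hx
    rw [mem_centralizer_singleton_iff]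
    have h2 := hcT x hx
    rw [← hkt] at h2
    calc k⁻¹ * x * k * t = k⁻¹ * (x * (k * t * k⁻¹)) * k := by group
      _ = k⁻¹ * (k * t * k⁻¹ * x) * k := by rw [h2]
      _ = _ := by group
  obtain ⟨c', hc', hcT'⟩ := hTc.exists_conj (X := T.map (MulAut.conj k⁻¹).toMonoidHom)
    (isPGroup_map h.isT.syl.two k⁻¹) (by
      rintro _ ⟨x, hx, rfl⟩
      show k⁻¹ * x * k⁻¹⁻¹ ∈ _
      rw [inv_inv]
      exact h1 x hx)
  rw [mem_centralizer_singleton_iff] at hc'
  have hn : c' * k⁻¹ ∈ normalizer (T : Set G) := by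
    apply mem_normalizer_of_conj_le
    intro x hx
    have h2 := hcT' _ (conj_mem_map k⁻¹ hx)
    have h3 : c' * k⁻¹ * x * (c' * k⁻¹)⁻¹ = c' * (k⁻¹ * x * k⁻¹⁻¹) * c'⁻¹ := by group
    rw [h3]; exact h2
  apply h.excl (h.data.normalizer_T_le (inv_mem hn))
  have h4 : (c' * k⁻¹)⁻¹ * t * (c' * k⁻¹)⁻¹⁻¹ = k * (c'⁻¹ * (t * c')) * k⁻¹ := by group
  rw [h4, ← hc', inv_mul_cancel_left, hkt]
  exact h.x02_mem_W c

/-- `|R| = 2`. -/
theorem hyp (hS : Cfsg.Agent.Schreier.Basic.Sch ↥A) (hO : Outer A t T) :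
    Cfsg.Agent.StdEven.CoreQuot.Hyp A t T where
  std := h.conf.std
  ht := h.conf.ht
  htA := h.conf.htA
  hZ := h.hZ
  isT := h.isT
  R := by
    intro r hr hrK
    have hu := fr.U_le (fr.x_mem_U (i := 0) (j := 2) (by decide) 1)
    refine h.data.R_eq h.conf h.hZ hS hO (u := fr.x 0 2 1) hu (h.x02_ne_one one_ne_zero)
      (fr.two (by decide) 1) (X := T ⊓ centralizer (J fr t : Set G)) ?_ ?_ ?_ hr hrK
    · intro r hr hrK
      refine mem_inf.mpr ⟨hr, ?_⟩
      rw [mem_centralizer_iff]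
      intro j hj
      rcases h.mem_J.mp hj with h1 | h1
      · exact (comm_of_centralizer hrK (fr.U_le h1)).symm
      · have h2 := comm_of_centralizer hrK (fr.U_le h1)
        have h3 := h.isT.cent r hr
        have h4 : t * (j * r) = t * (r * j) := by
          calc t * (j * r) = r * (t * j) := by rw [h2]; group
            _ = (r * t) * j := by group
            _ = t * (r * j) := by rw [h3]; group
        exact mul_left_cancel h4
    · intro x hx
      have hxU : ∀ v ∈ fr.U, x * v = v * x := fun v hv => comm_of_centralizer hx.2 (h.U_mem_J hv)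
      obtain ⟨v, hv, hvx⟩ := OutL3Facts.exists_of_trivial fr h.hZ h.perfect (h.isT.syl.le hx.1)
        (fun r s z => ⟨z, by rw [hxU _ (OutL3Rel.u_mem fr _ _ _), mul_inv_cancel_right]⟩)
      have hvW : v ∈ W fr := by
        refine mem_inf.mpr ⟨hv, ?_⟩
        rw [mem_centralizer_iff]
        intro y hy
        have h1 := comm_of_centralizer hvx (fr.U_le hy)
        have h2 := hxU y hy
        calc y * v = x * (x⁻¹ * (y * x)) * x⁻¹ * v := by group
          _ = x * y * (v⁻¹ * x)⁻¹ := by rw [← h2]; group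
          _ = v * ((v⁻¹ * x) * y) * (v⁻¹ * x)⁻¹ := by group
          _ = v * y := by rw [h1]; group
      obtain ⟨c, rfl⟩ := h.mem_W.mp hvW
      refine ⟨_, fr.U_le hv, fr.two (by decide) c, (fr.x 0 2 c)⁻¹ * x,
        mul_mem (inv_mem (h.U_le hv)) hx.1, hvx, by group⟩
    · intro g hg x hx
      have hgJ := h.data.normalizer_T_le hg
      exact mem_inf.mpr ⟨conj_mem_of_mem_normalizer hg hx.1,
        conj_mem_of_mem_normalizer (normalizer_le_normalizer_centralizer _ hgJ) hx.2⟩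

/-- The 2-element `n` with `t ^ n = t z`. -/
theorem exists_n (hS : Cfsg.Agent.Schreier.Basic.Sch ↥A) (hO : Outer A t T) :
    ∃ g ∈ normalizer (T : Set G), (∃ k : ℕ, g ^ 2 ^ k = 1) ∧ ∃ c : F, c ≠ 0 ∧
      (∀ x ∈ T, x * fr.x 0 2 c = fr.x 0 2 c * x) ∧ g * t * g⁻¹ = t * fr.x 0 2 c := by
  have hu := fr.U_le (fr.x_mem_U (i := 0) (j := 2) (by decide) 1)
  have h1 := h.data.not_syl h.conf h.hZ hS hO (u := fr.x 0 2 1) hu (h.x02_ne_one one_ne_zero)
      (fr.two (by decide) 1)
  obtain ⟨g, hg, hk, v, hv, hv1, hvT, hgt⟩ := h.data.exists_normalizer h.conf h1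
  obtain ⟨c, rfl⟩ := h.mem_W.mp hv
  refine ⟨g, hg, hk, c, ?_, hvT, hgt⟩
  rintro rfl
  exact hv1 (fr.x_zero h.hZ (by decide))

end Sit

end Cfsg.Agent.StdRank2.L3Data
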