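import Cfsg.Agent.StdRank2.L3W0
import Cfsg.Agent.StdRank2.L3W.Defs

/-!
# Type `L₃(q)`, wreath case: the output `Wr0` in the form `L3W.Wz`
-/

set_option autoImplicit false
set_option linter.unusedSectionVars false

namespace Cfsg.Agent.StdRank2.L3W0z

open Subgroup Cfsg.Agent.StdRank2.L3G Cfsg.Agent.StdRank2.L3Roots Cfsg.Agent.StdRank2.L3W0

variable {G : Type*} [Group G] {A : Subgroup G} {t : G} {F : Type*} [Field F] {fr : FrameL3 A F}

theorem wz (W : Wr0 t fr) : L3W.Wz W.fr1 W.fr2 A t where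
  oddZ := W.odd1
  perf1 := W.perf1
  t_G1 := W.t12
  t_G2 := W.t21
  frame _ _ hij s := (W.tx hij s).symm
  comm := W.comm
  diag a := ⟨fun ha => W.onto a ha, by rintro ⟨x, hx, rfl⟩; exact W.diag x hx⟩

theorem exists_wz [Finite G] {L : Subgroup G} {T : Subgroup G} [Finite F] [CharP F 2]
    (B : L3Inst.Both L A t T fr)
    {Ag Bg Zg : Subgroup (Cfsg.Agent.StdEven.CoreQuot.XQ A t)} (I : Input B.xsit Ag Bg Zg)
    (hc : ∃ c : F, c * c + c = I.K.g) : ∃ (G1 G2 : Subgroup G) (fr1 : FrameL3 G1 F) (fr2 : FrameL3 G2 F),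
      L3W.Wz fr1 fr2 A t := by
  obtain ⟨W⟩ := exists_wr0 B I hc
  exact ⟨W.A1, W.A2, W.fr1, W.fr2, wz W⟩

end Cfsg.Agent.StdRank2.L3W0z
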