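import Mathlib
import Cfsg.Agent.SylowL.SylowPSL

/-!
# Recognition of the upper unitriangular group of degree four by root group coordinates

`Coord S R`: six homomorphisms `a1 b a2 c1 c2 z : R → S` satisfying the commutator relations of the positive root groups
of type `A3` in characteristic two.  If they generate `S` and `|S| = |R| ^ 6`, then `S` is isomorphic to `UT 4 R`, hence to
the Sylow 2-subgroups of `PSL(4, R)`.
-/

set_option autoImplicit false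

namespace Cfsg.Agent.StdRank2.UTFour

open Cfsg.Agent.SylowL.Lev Cfsg.Agent.SylowL.UT

/-- Root group coordinates of type `A3`: `a1 = 12`, `b = 23`, `a2 = 34`, `c1 = 13`, `c2 = 24`, `z = 14`. -/
structure Coord (S : Type*) [Group S] (R : Type*) [Field R] where
  a1 : R → S
  b : R → S
  a2 : R → S
  c1 : R → S
  c2 : R → S
  z : R → S
  a1_add : ∀ r s, a1 (r + s) = a1 r * a1 s
  b_add : ∀ r s, b (r + s) = b r * b s
  a2_add : ∀ r s, a2 (r + s) = a2 r * a2 s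
  c1_add : ∀ r s, c1 (r + s) = c1 r * c1 s
  c2_add : ∀ r s, c2 (r + s) = c2 r * c2 s
  z_add : ∀ r s, z (r + s) = z r * z s
  a1_b : ∀ r s, a1 r * b s = c1 (r * s) * b s * a1 r
  b_a2 : ∀ r s, b r * a2 s = c2 (r * s) * a2 s * b r
  a1_c2 : ∀ r s, a1 r * c2 s = z (r * s) * c2 s * a1 r
  c1_a2 : ∀ r s, c1 r * a2 s = z (r * s) * a2 s * c1 r
  a1_a2 : ∀ r s, a1 r * a2 s = a2 s * a1 r
  a1_c1 : ∀ r s, a1 r * c1 s = c1 s * a1 r
  b_c1 : ∀ r s, b r * c1 s = c1 s * b r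
  b_c2 : ∀ r s, b r * c2 s = c2 s * b r
  a2_c2 : ∀ r s, a2 r * c2 s = c2 s * a2 r
  c1_c2 : ∀ r s, c1 r * c2 s = c2 s * c1 r
  a1_z : ∀ r s, a1 r * z s = z s * a1 r
  b_z : ∀ r s, b r * z s = z s * b r
  a2_z : ∀ r s, a2 r * z s = z s * a2 r
  c1_z : ∀ r s, c1 r * z s = z s * c1 r
  c2_z : ∀ r s, c2 r * z s = z s * c2 r

variable {S : Type*} [Group S] {R : Type*} [Field R]

namespace Coord

variable (C : Coord S R)

/-- The normal form. -/
def nf (t0 t1 t2 t3 t4 t5 : R) : S := C.z t0 * (C.c2 t1 * (C.a2 t2 * (C.c1 t3 * (C.b t4 * C.a1 t5))))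

theorem a1_mul (r t0 t1 t2 t3 t4 t5 : R) :
    C.a1 r * C.nf t0 t1 t2 t3 t4 t5 = C.nf (t0 + r * t1) t1 t2 (t3 + r * t4) t4 (r + t5) := by
  have h1 : ∀ x : S, C.a1 r * (C.z t0 * x) = C.z t0 * (C.a1 r * x) := fun x => by
    rw [← mul_assoc, C.a1_z, mul_assoc]
  have h2 : ∀ x : S, C.a1 r * (C.c2 t1 * x) = C.z (r * t1) * (C.c2 t1 * (C.a1 r * x)) := fun x => by
    rw [← mul_assoc, C.a1_c2, mul_assoc, mul_assoc]
  have h3 : ∀ x : S, C.a1 r * (C.a2 t2 * x) = C.a2 t2 * (C.a1 r * x) := fun x => by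
    rw [← mul_assoc, C.a1_a2, mul_assoc]
  have h4 : ∀ x : S, C.a1 r * (C.c1 t3 * x) = C.c1 t3 * (C.a1 r * x) := fun x => by
    rw [← mul_assoc, C.a1_c1, mul_assoc]
  have h5 : ∀ x : S, C.a1 r * (C.b t4 * x) = C.c1 (r * t4) * (C.b t4 * (C.a1 r * x)) := fun x => by
    rw [← mul_assoc, C.a1_b, mul_assoc, mul_assoc]
  simp only [nf]
  rw [h1, h2, h3, h4, h5, C.z_add, C.c1_add, C.a1_add]
  simp only [mul_assoc]

theorem b_mul (r t0 t1 t2 t3 t4 t5 : R) :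
    C.b r * C.nf t0 t1 t2 t3 t4 t5 = C.nf t0 (t1 + r * t2) t2 t3 (r + t4) t5 := by
  have h1 : ∀ x : S, C.b r * (C.z t0 * x) = C.z t0 * (C.b r * x) := fun x => by
    rw [← mul_assoc, C.b_z, mul_assoc]
  have h2 : ∀ x : S, C.b r * (C.c2 t1 * x) = C.c2 t1 * (C.b r * x) := fun x => by
    rw [← mul_assoc, C.b_c2, mul_assoc]
  have h3 : ∀ x : S, C.b r * (C.a2 t2 * x) = C.c2 (r * t2) * (C.a2 t2 * (C.b r * x)) := fun x => by
    rw [← mul_assoc, C.b_a2, mul_assoc, mul_assoc]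
  have h4 : ∀ x : S, C.b r * (C.c1 t3 * x) = C.c1 t3 * (C.b r * x) := fun x => by
    rw [← mul_assoc, C.b_c1, mul_assoc]
  simp only [nf]
  rw [h1, h2, h3, h4, C.c2_add, C.b_add]
  simp only [mul_assoc]

theorem c1_mul (r t0 t1 t2 t3 t4 t5 : R) :
    C.c1 r * C.nf t0 t1 t2 t3 t4 t5 = C.nf (t0 + r * t2) t1 t2 (r + t3) t4 t5 := by
  have h1 : ∀ x : S, C.c1 r * (C.z t0 * x) = C.z t0 * (C.c1 r * x) := fun x => by
    rw [← mul_assoc, C.c1_z, mul_assoc]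
  have h2 : ∀ x : S, C.c1 r * (C.c2 t1 * x) = C.c2 t1 * (C.c1 r * x) := fun x => by
    rw [← mul_assoc, C.c1_c2, mul_assoc]
  have h3 : ∀ x : S, C.c1 r * (C.a2 t2 * x) = C.z (r * t2) * (C.a2 t2 * (C.c1 r * x)) := fun x => by
    rw [← mul_assoc, C.c1_a2, mul_assoc, mul_assoc]
  have h4 : ∀ x : S, C.c2 t1 * (C.z (r * t2) * x) = C.z (r * t2) * (C.c2 t1 * x) := fun x => by
    rw [← mul_assoc, C.c2_z, mul_assoc]
  simp only [nf]
  rw [h1, h2, h3, h4, C.z_add, C.c1_add]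
  simp only [mul_assoc]

theorem a2_mul (r t0 t1 t2 t3 t4 t5 : R) :
    C.a2 r * C.nf t0 t1 t2 t3 t4 t5 = C.nf t0 t1 (r + t2) t3 t4 t5 := by
  have h1 : ∀ x : S, C.a2 r * (C.z t0 * x) = C.z t0 * (C.a2 r * x) := fun x => by
    rw [← mul_assoc, C.a2_z, mul_assoc]
  have h2 : ∀ x : S, C.a2 r * (C.c2 t1 * x) = C.c2 t1 * (C.a2 r * x) := fun x => by
    rw [← mul_assoc, C.a2_c2, mul_assoc]
  simp only [nf]
  rw [h1, h2, C.a2_add]
  simp only [mul_assoc]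

theorem c2_mul (r t0 t1 t2 t3 t4 t5 : R) :
    C.c2 r * C.nf t0 t1 t2 t3 t4 t5 = C.nf t0 (r + t1) t2 t3 t4 t5 := by
  have h1 : ∀ x : S, C.c2 r * (C.z t0 * x) = C.z t0 * (C.c2 r * x) := fun x => by
    rw [← mul_assoc, C.c2_z, mul_assoc]
  simp only [nf]
  rw [h1, C.c2_add]
  simp only [mul_assoc]

theorem z_mul (r t0 t1 t2 t3 t4 t5 : R) :
    C.z r * C.nf t0 t1 t2 t3 t4 t5 = C.nf (r + t0) t1 t2 t3 t4 t5 := by
  simp only [nf]
  rw [C.z_add]
  simp only [mul_assoc]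

theorem nf_mul (t0 t1 t2 t3 t4 t5 s0 s1 s2 s3 s4 s5 : R) :
    C.nf t0 t1 t2 t3 t4 t5 * C.nf s0 s1 s2 s3 s4 s5 =
      C.nf (t0 + (s0 + t5 * s1 + t3 * s2)) (t1 + (s1 + t4 * s2)) (t2 + s2) (t3 + (s3 + t5 * s4)) (t4 + s4)
        (t5 + s5) := by
  have e : C.nf t0 t1 t2 t3 t4 t5 * C.nf s0 s1 s2 s3 s4 s5 =
      C.z t0 * (C.c2 t1 * (C.a2 t2 * (C.c1 t3 * (C.b t4 * (C.a1 t5 * C.nf s0 s1 s2 s3 s4 s5))))) := by
    conv_lhs => rw [nf]
    simp only [mul_assoc]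
  rw [e, C.a1_mul, C.b_mul, C.c1_mul, C.a2_mul, C.c2_mul, C.z_mul]

theorem map_zero_of_add {f : R → S} (h : ∀ r s, f (r + s) = f r * f s) : f 0 = 1 := by
  have h1 := h 0 0
  rw [add_zero] at h1
  exact left_eq_mul.mp h1

theorem nf_zero : C.nf 0 0 0 0 0 0 = 1 := by
  have h1 := map_zero_of_add C.z_add
  have h2 := map_zero_of_add C.c2_add
  have h3 := map_zero_of_add C.a2_add
  have h4 := map_zero_of_add C.c1_add
  have h5 := map_zero_of_add C.b_add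
  have h6 := map_zero_of_add C.a1_add
  simp only [nf, h1, h2, h3, h4, h5, h6, mul_one]

/-- The homomorphism from the unitriangular group. -/
def hom : UT 4 R →* S where
  toFun g := C.nf (N g 0 3) (N g 1 3) (N g 2 3) (N g 0 2) (N g 1 2) (N g 0 1)
  map_one' := by
    rw [N_one]
    simp only [Matrix.zero_apply]
    exact C.nf_zero
  map_mul' g h := by
    have hz : ∀ (a : UT 4 R) (i j : Fin 4), (j : ℕ) < i + 1 → N a i j = 0 := fun a i j hij =>
      Cfsg.Agent.SylowL.Lev.apply_eq_zero (N_mem a) hij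
    rw [C.nf_mul, N_mul]
    simp only [Matrix.add_apply, Matrix.mul_apply, Fin.sum_univ_four]
    rw [hz g 0 0 (by decide), hz g 1 0 (by decide), hz g 1 1 (by decide), hz g 2 0 (by decide), hz g 2 1 (by decide),
      hz g 2 2 (by decide), hz h 1 1 (by decide), hz h 2 1 (by decide), hz h 3 1 (by decide), hz h 2 2 (by decide),
      hz h 3 2 (by decide), hz h 3 3 (by decide)]
    congr 1 <;> ring

/-- The strictly upper triangular matrix with the given entries. -/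
def mat (t0 t1 t2 t3 t4 t5 : R) : Matrix (Fin 4) (Fin 4) R :=
  !![0, t5, t3, t0; 0, 0, t4, t1; 0, 0, 0, t2; 0, 0, 0, 0]

omit [Group S] in
theorem mat_mem (t0 t1 t2 t3 t4 t5 : R) : mat t0 t1 t2 t3 t4 t5 ∈ lev 4 R 1 := by
  rw [mem_lev']
  intro i j hij
  fin_cases i <;> fin_cases j <;> first | rfl | (exfalso; revert hij; decide)

theorem hom_mat (t0 t1 t2 t3 t4 t5 : R) :
    C.hom (Cfsg.Agent.SylowL.UT.mk _ (mat_mem t0 t1 t2 t3 t4 t5)) = C.nf t0 t1 t2 t3 t4 t5 := by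
  show C.nf _ _ _ _ _ _ = _
  rw [N_mk]
  rfl

theorem nf_mem_range (t0 t1 t2 t3 t4 t5 : R) : C.nf t0 t1 t2 t3 t4 t5 ∈ C.hom.range :=
  ⟨_, C.hom_mat t0 t1 t2 t3 t4 t5⟩

theorem range_eq_top
    (hgen : ∀ K : Subgroup S, (∀ r, C.a1 r ∈ K) → (∀ r, C.b r ∈ K) → (∀ r, C.a2 r ∈ K) → K = ⊤) :
    C.hom.range = ⊤ := by
  have h1 := map_zero_of_add C.z_add
  have h2 := map_zero_of_add C.c2_add
  have h3 := map_zero_of_add C.a2_add
  have h4 := map_zero_of_add C.c1_add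
  have h5 := map_zero_of_add C.b_add
  have h6 := map_zero_of_add C.a1_add
  apply hgen
  · intro r
    have h := C.nf_mem_range 0 0 0 0 0 r
    simpa only [nf, h1, h2, h3, h4, h5, one_mul] using h
  · intro r
    have h := C.nf_mem_range 0 0 0 0 r 0
    simpa only [nf, h1, h2, h3, h4, h6, one_mul, mul_one] using h
  · intro r
    have h := C.nf_mem_range 0 0 r 0 0 0
    simpa only [nf, h1, h2, h4, h5, h6, one_mul, mul_one] using h

open Cfsg.Agent.ClassicalGeometry.AutPSL.SylowU in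
theorem card_UT [Fintype R] : Nat.card (UT 4 R) = Fintype.card R ^ 6 := by
  rw [← card_upper (F := R) 4, ← Cfsg.Agent.SylowL.SylowPSL.range_toSL]
  exact Nat.card_congr (Equiv.ofInjective _ Cfsg.Agent.SylowL.SylowPSL.toSL_injective)

/-- The isomorphism with the unitriangular group. -/
theorem exists_equiv [Fintype R] [Finite S] (hcard : Nat.card S = Fintype.card R ^ 6)
    (hgen : ∀ K : Subgroup S, (∀ r, C.a1 r ∈ K) → (∀ r, C.b r ∈ K) → (∀ r, C.a2 r ∈ K) → K = ⊤) :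
    Nonempty (S ≃* UT 4 R) := by
  have hsurj : Function.Surjective C.hom := MonoidHom.range_eq_top.mp (C.range_eq_top hgen)
  have hbij : Function.Bijective C.hom := by
    refine (Nat.bijective_iff_surjective_and_card C.hom).mpr ⟨hsurj, ?_⟩
    rw [card_UT, hcard]
  exact ⟨(MulEquiv.ofBijective C.hom hbij).symm⟩

/-- The isomorphism with a Sylow 2-subgroup of `PSL(4, R)`. -/
theorem exists_equiv_sylow [Fintype R] [CharP R 2] [Finite S] (hcard : Nat.card S = Fintype.card R ^ 6)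
    (hgen : ∀ K : Subgroup S, (∀ r, C.a1 r ∈ K) → (∀ r, C.b r ∈ K) → (∀ r, C.a2 r ∈ K) → K = ⊤)
    (P : Sylow 2 (Matrix.ProjectiveSpecialLinearGroup (Fin 4) R)) :
    Nonempty (S ≃* ↥(P : Subgroup (Matrix.ProjectiveSpecialLinearGroup (Fin 4) R))) := by
  obtain ⟨e⟩ := C.exists_equiv hcard hgen
  obtain ⟨e'⟩ := Cfsg.Agent.SylowL.SylowPSL.sylow_equiv 2 P
  exact ⟨e.trans e'.symm⟩

end Coord

end Cfsg.Agent.StdRank2.UTFour
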