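import Mathlib
import Cfsg.Agent.SylowL.SylowPSL

/-!
# Recognition of the upper unitriangular group of any degree by root group coordinates

`Coord n S R`: homomorphisms `x i j : R → S` (`i < j` in `Fin n`) satisfying the commutator relations of the elementary
matrices `1 + r E_ij`.  If they generate `S` and `|S| = |UT n R|`, then `S` is isomorphic to `UT n R`, hence to
the Sylow `p`-subgroups of `PSL(n, R)`.
-/

set_option autoImplicit false

namespace Cfsg.Agent.StdRank2.UTn

open Cfsg.Agent.SylowL.Lev Cfsg.Agent.SylowL.UT

/-- Root group coordinates of type `A_{n-1}`. -/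
structure Coord (n : ℕ) (S : Type*) [Group S] (R : Type*) [Field R] where
  x : Fin n → Fin n → R → S
  add : ∀ {i j}, i < j → ∀ r s, x i j (r + s) = x i j r * x i j s
  comm : ∀ {i j k}, i < j → j < k → ∀ r s, x i j r * x j k s = x i k (r * s) * (x j k s * x i j r)
  swap : ∀ {i j k l}, i < j → k < l → j ≠ k → i ≠ l → ∀ r s, x i j r * x k l s = x k l s * x i j r

variable {n : ℕ} {S : Type*} [Group S] {R : Type*} [Field R]

namespace Coord

variable (C : Coord n S R)

/-- the factor at `i` of a column -/
def fac (k : Fin n) (v : Fin n → R) (i : Fin n) : S := if i < k then C.x i k (v i) else 1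

/-- part of a column -/
def colL (l : List (Fin n)) (k : Fin n) (v : Fin n → R) : S := (l.map (C.fac k v)).prod

theorem x_zero {i j : Fin n} (h : i < j) : C.x i j 0 = 1 := by
  have h1 := C.add h 0 0
  rw [add_zero] at h1
  exact left_eq_mul.mp h1

theorem commute_fac {i k : Fin n} (h : i < k) (r : R) (v : Fin n → R) (a : Fin n) :
    C.x i k r * C.fac k v a = C.fac k v a * C.x i k r := by
  unfold fac
  split_ifs with h1
  · exact C.swap h h1 (ne_of_gt h1) (ne_of_lt h) _ _
  · rw [mul_one, one_mul]

theorem commute_colL {i k : Fin n} (h : i < k) (r : R) (v : Fin n → R) (l : List (Fin n)) :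
    C.x i k r * C.colL l k v = C.colL l k v * C.x i k r := by
  induction l with
  | nil => simp [colL]
  | cons a l ih =>
    have e : C.colL (a :: l) k v = C.fac k v a * C.colL l k v := by simp [colL]
    rw [e, ← mul_assoc, C.commute_fac h, mul_assoc, ih, mul_assoc]

theorem colL_congr {l : List (Fin n)} {k : Fin n} {v w : Fin n → R} (h : ∀ a ∈ l, v a = w a) :
    C.colL l k v = C.colL l k w := by
  unfold colL
  congr 1
  apply List.map_congr_left
  intro a ha
  unfold fac
  rw [h a ha]

theorem colL_add {i k : Fin n} (h : i < k) (r : R) (v : Fin n → R) {l : List (Fin n)} (hl : l.Nodup) (hi : i ∈ l) :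
    C.x i k r * C.colL l k v = C.colL l k (Function.update v i (r + v i)) := by
  induction l with
  | nil => simp at hi
  | cons a l ih =>
    have e : ∀ w, C.colL (a :: l) k w = C.fac k w a * C.colL l k w := fun w => by simp [colL]
    rw [List.nodup_cons] at hl
    rw [e, e]
    by_cases hai : a = i
    · subst hai
      have e1 : C.fac k (Function.update v a (r + v a)) a = C.x a k r * C.fac k v a := by
        unfold fac
        rw [if_pos h, if_pos h, Function.update_self, C.add h]
      have e2 : C.colL l k (Function.update v a (r + v a)) = C.colL l k v := by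
        apply C.colL_congr
        intro b hb
        have : b ≠ a := fun hba => hl.1 (hba ▸ hb)
        rw [Function.update_of_ne this]
      rw [e1, e2, mul_assoc]
    · have hi' : i ∈ l := by
        rcases List.mem_cons.mp hi with h1 | h1
        · exact absurd h1.symm hai
        · exact h1
      have e1 : C.fac k (Function.update v i (r + v i)) a = C.fac k v a := by
        unfold fac
        rw [Function.update_of_ne hai]
      rw [e1, ← ih hl.2 hi', ← mul_assoc, C.commute_fac h, mul_assoc]

theorem colL_pass {i j k : Fin n} (hij : i < j) (hjk : j < k) (r : R) (v : Fin n → R) {l : List (Fin n)}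
    (hl : l.Nodup) :
    C.x i j r * C.colL l k v = (if j ∈ l then C.x i k (r * v j) else 1) * (C.colL l k v * C.x i j r) := by
  induction l with
  | nil => simp [colL]
  | cons a l ih =>
    have e : ∀ w, C.colL (a :: l) k w = C.fac k w a * C.colL l k w := fun w => by simp [colL]
    rw [List.nodup_cons] at hl
    rw [e]
    have hik : i < k := hij.trans hjk
    by_cases haj : a = j
    · subst haj
      have e1 : C.fac k v a = C.x a k (v a) := by unfold fac; rw [if_pos hjk]
      have ih' := ih hl.2
      rw [if_neg hl.1, one_mul] at ih'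
      rw [if_pos List.mem_cons_self, e1, ← mul_assoc, C.comm hij hjk]
      simp only [mul_assoc]
      rw [ih']
    · have e1 : C.x i j r * C.fac k v a = C.fac k v a * C.x i j r := by
        unfold fac
        split_ifs with h1
        · exact C.swap hij h1 (Ne.symm haj) (ne_of_lt hik) _ _
        · rw [mul_one, one_mul]
      have e2 : (j ∈ a :: l) ↔ j ∈ l := by
        rw [List.mem_cons]
        constructor
        · rintro (h | h)
          · exact absurd h.symm haj
          · exact h
        · exact Or.inr
      rw [← mul_assoc, e1, mul_assoc, ih hl.2]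
      simp only [e2]
      split_ifs with h2
      · rw [← mul_assoc, ← C.commute_fac hik]
        simp only [mul_assoc]
      · simp only [one_mul, mul_assoc]

/-- a column -/
def col (k : Fin n) (v : Fin n → R) : S := C.colL (List.finRange n) k v

theorem col_add {i k : Fin n} (h : i < k) (r : R) (v : Fin n → R) :
    C.x i k r * C.col k v = C.col k (Function.update v i (r + v i)) :=
  C.colL_add h r v (List.nodup_finRange n) (List.mem_finRange i)

theorem col_pass {i j k : Fin n} (hij : i < j) (hjk : j < k) (r : R) (v : Fin n → R) :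
    C.x i j r * C.col k v = C.col k (Function.update v i (r * v j + v i)) * C.x i j r := by
  have h := C.colL_pass hij hjk r v (List.nodup_finRange n)
  rw [if_pos (List.mem_finRange j), ← mul_assoc] at h
  have h2 := C.col_add (hij.trans hjk) (r * v j) v
  unfold col at h2 ⊢
  rw [h, h2]

theorem col_congr {k : Fin n} {v w : Fin n → R} (h : ∀ a < k, v a = w a) : C.col k v = C.col k w := by
  unfold col colL
  congr 1
  apply List.map_congr_left
  intro a _
  unfold fac
  split_ifs with h1
  · rw [h a h1]
  · rfl

theorem col_zero (k : Fin n) {v : Fin n → R} (h : ∀ a < k, v a = 0) : C.col k v = 1 := by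
  unfold col colL
  apply List.prod_eq_one
  intro y hy
  rw [List.mem_map] at hy
  obtain ⟨a, _, rfl⟩ := hy
  unfold fac
  split_ifs with h1
  · rw [h a h1, C.x_zero h1]
  · rfl

/-- product of columns -/
def nfL (L : List (Fin n)) (A : Matrix (Fin n) (Fin n) R) : S := (L.map fun k => C.col k fun i => A i k).prod

theorem nfL_cons (k : Fin n) (L : List (Fin n)) (A : Matrix (Fin n) (Fin n) R) :
    C.nfL (k :: L) A = C.col k (fun i => A i k) * C.nfL L A := by simp [nfL]

theorem x_mul_nfL {i j : Fin n} (hij : i < j) (r : R) {A B : Matrix (Fin n) (Fin n) R} (h1 : A j j = 1)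
    (h0 : ∀ k, k < j → A j k = 0) (hB : ∀ k, B i k = r * A j k + A i k) (hB' : ∀ a, a ≠ i → ∀ k, B a k = A a k)
    {L : List (Fin n)} (hL : L.Pairwise (· > ·)) (hj : j ∈ L) :
    C.x i j r * C.nfL L A = C.nfL L B := by
  induction L with
  | nil => simp at hj
  | cons k L ih =>
    rw [List.pairwise_cons] at hL
    rw [nfL_cons, nfL_cons]
    have eB : ∀ k, (fun a => B a k) = Function.update (fun a => A a k) i (r * A j k + A i k) := by
      intro k
      funext a
      by_cases ha : a = i
      · subst ha; rw [Function.update_self, hB]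
      · rw [Function.update_of_ne ha, hB' a ha]
    rcases List.mem_cons.mp hj with hjk | hjL
    · subst hjk
      have e : C.nfL L A = C.nfL L B := by
        unfold nfL
        congr 1
        apply List.map_congr_left
        intro k hk
        apply C.col_congr
        intro a _
        have hkj : k < j := hL.1 k hk
        by_cases ha : a = i
        · subst ha; rw [hB, h0 k hkj, mul_zero, zero_add]
        · rw [hB' a ha]
      rw [← mul_assoc, C.col_add hij, ← e, eB j, h1, mul_one]
    · have hjk : j < k := hL.1 j hjL
      rw [← mul_assoc, C.col_pass hij hjk, mul_assoc, ih hL.2 hjL, eB k]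

/-- the normal form -/
def nf (A : Matrix (Fin n) (Fin n) R) : S := C.nfL (List.finRange n).reverse A

theorem pairwise_rev : ((List.finRange n).reverse).Pairwise (· > ·) := by
  rw [List.pairwise_reverse]
  exact List.pairwise_lt_finRange n

theorem x_mul_nf {i j : Fin n} (hij : i < j) (r : R) {A B : Matrix (Fin n) (Fin n) R} (h1 : A j j = 1)
    (h0 : ∀ k, k < j → A j k = 0) (hB : ∀ k, B i k = r * A j k + A i k) (hB' : ∀ a, a ≠ i → ∀ k, B a k = A a k) :
    C.x i j r * C.nf A = C.nf B :=
  C.x_mul_nfL hij r h1 h0 hB hB' pairwise_rev (by rw [List.mem_reverse]; exact List.mem_finRange j)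

theorem nf_one' {A : Matrix (Fin n) (Fin n) R} (h : ∀ i k, i < k → A i k = 0) : C.nf A = 1 := by
  unfold nf nfL
  apply List.prod_eq_one
  intro y hy
  rw [List.mem_map] at hy
  obtain ⟨k, _, rfl⟩ := hy
  exact C.col_zero k fun a ha => h a k ha

end Coord

/-! ### The standard coordinates of `UT n R` -/

theorem single_mem {i j : Fin n} (h : i < j) (r : R) : Matrix.single i j r ∈ lev n R 1 := by
  rw [mem_lev']
  intro a b hab
  rw [Matrix.single_apply]
  split_ifs with h1
  · obtain ⟨rfl, rfl⟩ := h1
    exfalso
    have := Fin.lt_def.mp h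
    omega
  · rfl

open Classical in
/-- elementary element -/
noncomputable def el (i j : Fin n) (r : R) : UT n R := if h : i < j then mk (Matrix.single i j r) (single_mem h r) else 1

theorem N_el {i j : Fin n} (h : i < j) (r : R) : N (el i j r) = Matrix.single i j r := by
  unfold el
  rw [dif_pos h, N_mk]

/-- The standard coordinates. -/
noncomputable def std (n : ℕ) (R : Type*) [Field R] : Coord n (UT n R) R where
  x := el
  add {i j} h r s := by
    apply N_injective
    rw [N_mul, N_el h, N_el h, N_el h, Matrix.single_mul_single_of_ne _ _ _ _ (ne_of_gt h), add_zero,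
      Matrix.single_add]
  comm {i j k} hij hjk r s := by
    apply N_injective
    have hik := hij.trans hjk
    simp only [N_mul]
    rw [N_el hij, N_el hjk, N_el hik]
    rw [Matrix.single_mul_single_same, Matrix.single_mul_single_of_ne _ _ _ _ (ne_of_gt hik)]
    simp only [mul_add, add_zero]
    rw [Matrix.single_mul_single_of_ne _ _ _ _ (ne_of_gt hjk), Matrix.single_mul_single_of_ne _ _ _ _ (ne_of_gt hik)]
    abel
  swap {i j k l} hij hkl hjk hil r s := by
    apply N_injective
    simp only [N_mul]
    rw [N_el hij, N_el hkl, Matrix.single_mul_single_of_ne _ _ _ _ hjk,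
      Matrix.single_mul_single_of_ne _ _ _ _ (Ne.symm hil)]
    abel

theorem std_x {i j : Fin n} (r : R) : (std n R).x i j r = el i j r := rfl

theorem N_fac (k : Fin n) (v : Fin n → R) (i : Fin n) :
    N ((std n R).fac k v i) = if i < k then Matrix.single i k (v i) else 0 := by
  unfold Coord.fac
  split_ifs with h
  · rw [std_x, N_el h]
  · rw [N_one]

theorem N_colL (k : Fin n) (v : Fin n → R) {l : List (Fin n)} (hl : l.Nodup) (a b : Fin n) :
    N ((std n R).colL l k v) a b = if b = k ∧ a < k ∧ a ∈ l then v a else 0 := by
  induction l generalizing a b with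
  | nil => simp [Coord.colL]
  | cons i l ih =>
    rw [List.nodup_cons] at hl
    have e : (std n R).colL (i :: l) k v = (std n R).fac k v i * (std n R).colL l k v := by simp [Coord.colL]
    rw [e, N_mul, N_fac]
    by_cases hik : i < k
    · rw [if_pos hik]
      have hz : Matrix.single i k (v i) * N ((std n R).colL l k v) = 0 := by
        ext c d
        rw [Matrix.mul_apply, Matrix.zero_apply]
        apply Finset.sum_eq_zero
        intro m _
        rw [Matrix.single_apply]
        split_ifs with h1
        · obtain ⟨rfl, rfl⟩ := h1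
          rw [ih hl.2, if_neg (fun h => lt_irrefl _ h.2.1), mul_zero]
        · rw [zero_mul]
      rw [hz, add_zero, Matrix.add_apply, ih hl.2, Matrix.single_apply]
      by_cases hb : b = k
      · subst hb
        by_cases hai : a = i
        · subst hai
          simp [hik, hl.1]
        · by_cases hal : a < b ∧ a ∈ l
          · simp [hal.1, hal.2, Ne.symm hai]
          · have : ¬ (a < b ∧ (a = i ∨ a ∈ l)) := by
              rintro ⟨h1, h2 | h2⟩
              · exact hai h2
              · exact hal ⟨h1, h2⟩
            simp [Ne.symm hai, hal, this, List.mem_cons]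
      · simp [hb, Ne.symm hb]
    · rw [if_neg hik, zero_mul, add_zero, zero_add, ih hl.2]
      by_cases hai : a = i
      · subst hai; simp [hik]
      · simp [hai]

theorem N_col (k : Fin n) (v : Fin n → R) (a b : Fin n) :
    N ((std n R).col k v) a b = if b = k ∧ a < k then v a else 0 := by
  unfold Coord.col
  rw [N_colL k v (List.nodup_finRange n)]
  simp

theorem N_nfL (A : Matrix (Fin n) (Fin n) R) {L : List (Fin n)} (hL : L.Pairwise (· > ·)) (a b : Fin n) :
    N ((std n R).nfL L A) a b = if a < b ∧ b ∈ L then A a b else 0 := by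
  induction L generalizing a b with
  | nil => simp [Coord.nfL]
  | cons k L ih =>
    rw [List.pairwise_cons] at hL
    rw [Coord.nfL_cons, N_mul]
    have hz : N ((std n R).col k fun i => A i k) * N ((std n R).nfL L A) = 0 := by
      ext c d
      rw [Matrix.mul_apply, Matrix.zero_apply]
      apply Finset.sum_eq_zero
      intro m _
      rw [N_col, ih hL.2]
      by_cases h1 : m = k
      · subst h1
        rw [if_neg (c := m < d ∧ d ∈ L), mul_zero]
        rintro ⟨h2, h3⟩
        exact lt_asymm h2 (hL.1 d h3)
      · rw [if_neg (fun h => h1 h.1), zero_mul]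
    rw [hz, add_zero, Matrix.add_apply, ih hL.2, N_col]
    have hk : k ∉ L := fun h => lt_irrefl _ (hL.1 k h)
    by_cases hb : b = k
    · subst hb
      by_cases hab : a < b
      · simp [hab, hk]
      · simp [hab]
    · by_cases hab : a < b ∧ b ∈ L
      · simp [hb, hab.1, hab.2]
      · have : ¬ (a < b ∧ (b = k ∨ b ∈ L)) := by
          rintro ⟨h1, h2 | h2⟩
          · exact hb h2
          · exact hab ⟨h1, h2⟩
        simp [hb, hab, List.mem_cons]

theorem nf_std (g : UT n R) : (std n R).nf ((g : (Matrix (Fin n) (Fin n) R)ˣ) : Matrix (Fin n) (Fin n) R) = g := by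
  apply N_injective
  ext a b
  unfold Coord.nf
  rw [N_nfL _ Coord.pairwise_rev, val_eq]
  have hb : b ∈ (List.finRange n).reverse := by rw [List.mem_reverse]; exact List.mem_finRange b
  by_cases hab : a < b
  · rw [if_pos ⟨hab, hb⟩, Matrix.add_apply, Matrix.one_apply_ne (ne_of_lt hab), zero_add]
  · rw [if_neg (fun h => hab h.1)]
    symm
    apply Cfsg.Agent.SylowL.Lev.apply_eq_zero (N_mem g)
    have := Fin.le_def.mp (not_lt.mp hab)
    omega

namespace Coord

variable (C : Coord n S R)

/-- The map from the unitriangular group. -/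
def fn (g : UT n R) : S := C.nf ((g : (Matrix (Fin n) (Fin n) R)ˣ) : Matrix (Fin n) (Fin n) R)

theorem fn_el_mul {i j : Fin n} (hij : i < j) (r : R) (g : UT n R) : C.fn (el i j r * g) = C.x i j r * C.fn g := by
  symm
  unfold fn
  have hz : ∀ (a : UT n R) (i j : Fin n), (j : ℕ) < i + 1 → N a i j = 0 := fun a i j hij =>
    Cfsg.Agent.SylowL.Lev.apply_eq_zero (N_mem a) hij
  have e : (((el i j r * g : UT n R) : (Matrix (Fin n) (Fin n) R)ˣ) : Matrix (Fin n) (Fin n) R) =
      ((g : (Matrix (Fin n) (Fin n) R)ˣ) : Matrix (Fin n) (Fin n) R) +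
        Matrix.single i j r * ((g : (Matrix (Fin n) (Fin n) R)ˣ) : Matrix (Fin n) (Fin n) R) := by
    rw [Subgroup.coe_mul, Units.val_mul, val_eq (el i j r), N_el hij, add_mul, one_mul]
  apply C.x_mul_nf hij
  · rw [val_eq, Matrix.add_apply, Matrix.one_apply_eq, hz g j j (by omega), add_zero]
  · intro k hk
    have := Fin.lt_def.mp hk
    rw [val_eq, Matrix.add_apply, Matrix.one_apply_ne (ne_of_gt hk), hz g j k (by omega), add_zero]
  · intro k
    rw [e, Matrix.add_apply, Matrix.single_mul_apply_same, add_comm]
  · intro a ha k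
    rw [e, Matrix.add_apply, Matrix.single_mul_apply_of_ne _ _ _ _ _ ha, add_zero]

theorem fn_one : C.fn 1 = 1 := by
  apply C.nf_one'
  intro i k hik
  rw [Subgroup.coe_one, Units.val_one, Matrix.one_apply_ne (ne_of_lt hik)]

theorem fn_el {i j : Fin n} (hij : i < j) (r : R) : C.fn (el i j r) = C.x i j r := by
  have h := C.fn_el_mul hij r 1
  rwa [mul_one, C.fn_one, mul_one] at h

/-- the elements on which `fn` is multiplicative -/
def good : Submonoid (UT n R) where
  carrier := {g | ∀ h, C.fn (g * h) = C.fn g * C.fn h}
  one_mem' h := by rw [C.fn_one, one_mul, one_mul]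
  mul_mem' {a b} ha hb h := by rw [mul_assoc, ha, hb, ha b, mul_assoc]

theorem mem_good (g : UT n R) : g ∈ C.good := by
  rw [← nf_std g]
  unfold nf nfL
  apply Submonoid.list_prod_mem
  intro y hy
  rw [List.mem_map] at hy
  obtain ⟨k, _, rfl⟩ := hy
  unfold col colL
  apply Submonoid.list_prod_mem
  intro y hy
  rw [List.mem_map] at hy
  obtain ⟨i, _, rfl⟩ := hy
  unfold fac
  split_ifs with h
  · intro g'
    rw [std_x, C.fn_el_mul h, C.fn_el h]
  · exact Submonoid.one_mem _

/-- The homomorphism from the unitriangular group. -/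
def hom : UT n R →* S where
  toFun := C.fn
  map_one' := C.fn_one
  map_mul' g h := C.mem_good g h

theorem hom_el {i j : Fin n} (hij : i < j) (r : R) : C.hom (el i j r) = C.x i j r := C.fn_el hij r

theorem surjective_hom (hgen : ∀ K : Subgroup S, (∀ i j, i < j → ∀ r, C.x i j r ∈ K) → K = ⊤) :
    Function.Surjective C.hom :=
  MonoidHom.range_eq_top.mp (hgen _ fun i j hij r => ⟨el i j r, C.hom_el hij r⟩)

open Cfsg.Agent.ClassicalGeometry.AutPSL.SylowU in
theorem card_UT (n : ℕ) (R : Type*) [Field R] [Fintype R] : Nat.card (UT n R) = Fintype.card R ^ (n * (n - 1) / 2) := by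
  rw [← card_upper (F := R) n, ← Cfsg.Agent.SylowL.SylowPSL.range_toSL]
  exact Nat.card_congr (Equiv.ofInjective _ Cfsg.Agent.SylowL.SylowPSL.toSL_injective)

/-- The isomorphism with the unitriangular group. -/
theorem exists_equiv [Finite R] (hcard : Nat.card S = Nat.card (UT n R))
    (hgen : ∀ K : Subgroup S, (∀ i j, i < j → ∀ r, C.x i j r ∈ K) → K = ⊤) : Nonempty (S ≃* UT n R) := by
  haveI : Finite (UT n R) := Finite.of_injective _ N_injective
  have hbij : Function.Bijective C.hom :=
    (Nat.bijective_iff_surjective_and_card C.hom).mpr ⟨C.surjective_hom hgen, hcard.symm⟩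
  exact ⟨(MulEquiv.ofBijective C.hom hbij).symm⟩

/-- The isomorphism with a Sylow `p`-subgroup of `PSL(n, R)`. -/
theorem exists_equiv_sylow [Fintype R] (p : ℕ) [Fact p.Prime] [CharP R p]
    (hcard : Nat.card S = Nat.card (UT n R))
    (hgen : ∀ K : Subgroup S, (∀ i j, i < j → ∀ r, C.x i j r ∈ K) → K = ⊤)
    (P : Sylow p (Matrix.ProjectiveSpecialLinearGroup (Fin n) R)) :
    Nonempty (S ≃* ↥(P : Subgroup (Matrix.ProjectiveSpecialLinearGroup (Fin n) R))) := by
  obtain ⟨e⟩ := C.exists_equiv hcard hgen
  obtain ⟨e'⟩ := Cfsg.Agent.SylowL.SylowPSL.sylow_equiv p P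
  exact ⟨e.trans e'.symm⟩

end Coord

end Cfsg.Agent.StdRank2.UTn
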