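import Cfsg.Agent.StdRank2.B2Torus

/-!
# Coordinates in the positive part of a `B₂` package, and the action of the torus

`TAct m g l μ ν`: the action of `g` on the eight families is that of the torus element `e₁ ↦ l e₁`, `e₂ ↦ μ e₂`
(`ν` on `V`).  `exists_tact`: true for all elements of the torus.  `PX u a`, `PZ u q`: the first and the last
coordinate of `u ∈ U`.  `Lam D lam`: parameters for the two special torus elements `hJ` (trivial on `z₂`, `z₂'`) and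
`hK` (trivial on `x`, `x'`).
-/

set_option autoImplicit false
set_option linter.unusedSectionVars false

namespace Cfsg.Agent.StdRank2.B2Act

open Subgroup
open Cfsg.Agent.TitsThree.B2Pkg Cfsg.Agent.TitsThree.RankTwoIdentB2
  Cfsg.Agent.TitsThree.CoreB2 Cfsg.Agent.TitsThree.RankTwoIdx Cfsg.Agent.TitsThree.RankTwoRGD
  Cfsg.Agent.TitsThree.StdData
open Cfsg.Agent.StdRank2.OddLift Cfsg.Agent.StdRank2.B2Lift Cfsg.Agent.StdRank2.B2Std
  Cfsg.Agent.StdRank2.B2Torus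
open scoped commutatorElement Pointwise

universe u

variable {F : Type*} [Field F] {V : Type*} [AddCommGroup V] [Module F V] {D : PQDatum F V}
variable {A : Type u} [Group A]

theorem congrF {g : A} {f : F → A} {α α' : F} (h : ActF g f α) (e : α = α') : ActF g f α' := e ▸ h

theorem congrT {g : A} {f : D.T → A} {β γ β' γ' : F} (h : ActT g f β γ) (e : β = β')
    (e' : γ = γ') : ActT g f β' γ' := e ▸ e' ▸ h

/-- `g` acts on the eight families like the torus element `(l, μ, ν)`. -/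
structure TAct (m : B2Maps D A) (g : A) (l μ ν : F) : Prop where
  l0 : l ≠ 0
  μ0 : μ ≠ 0
  ν0 : ν ≠ 0
  x : ActF g m.x (l * μ⁻¹)
  x' : ActF g m.x' (l⁻¹ * μ)
  y : ActF g m.y (l * D.σ μ)
  y' : ActF g m.y' (μ⁻¹ * (D.σ l)⁻¹)
  z₁ : ActT g m.z₁ (D.σ l * ν) (l * D.σ l)
  z₂ : ActT g m.z₂ (D.σ μ * ν) (μ * D.σ μ)
  z₁' : ActT g m.z₁' (l⁻¹ * ν) (l⁻¹ * (D.σ l)⁻¹)
  z₂' : ActT g m.z₂' (μ⁻¹ * ν) (μ⁻¹ * (D.σ μ)⁻¹)

variable {m : B2Maps D A}

theorem TAct.one : TAct m 1 1 1 1 where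
  l0 := one_ne_zero
  μ0 := one_ne_zero
  ν0 := one_ne_zero
  x := congrF ActF.one (by simp)
  x' := congrF ActF.one (by simp)
  y := congrF ActF.one (by simp)
  y' := congrF ActF.one (by simp)
  z₁ := congrT ActT.one (by simp) (by simp)
  z₂ := congrT ActT.one (by simp) (by simp)
  z₁' := congrT ActT.one (by simp) (by simp)
  z₂' := congrT ActT.one (by simp) (by simp)

theorem TAct.mul {g k : A} {l μ ν l' μ' ν' : F} (h : TAct m g l μ ν) (h' : TAct m k l' μ' ν') :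
    TAct m (g * k) (l * l') (μ * μ') (ν * ν') where
  l0 := mul_ne_zero h.l0 h'.l0
  μ0 := mul_ne_zero h.μ0 h'.μ0
  ν0 := mul_ne_zero h.ν0 h'.ν0
  x := congrF (h.x.mul h'.x) (by rw [mul_inv]; ring)
  x' := congrF (h.x'.mul h'.x') (by rw [mul_inv]; ring)
  y := congrF (h.y.mul h'.y) (by rw [map_mul]; ring)
  y' := congrF (h.y'.mul h'.y') (by rw [map_mul, mul_inv, mul_inv]; ring)
  z₁ := congrT (h.z₁.mul h'.z₁) (by rw [map_mul]; ring) (by rw [map_mul]; ring)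
  z₂ := congrT (h.z₂.mul h'.z₂) (by rw [map_mul]; ring) (by rw [map_mul]; ring)
  z₁' := congrT (h.z₁'.mul h'.z₁') (by rw [mul_inv]; ring) (by rw [map_mul, mul_inv, mul_inv]; ring)
  z₂' := congrT (h.z₂'.mul h'.z₂') (by rw [mul_inv]; ring) (by rw [map_mul, mul_inv, mul_inv]; ring)

theorem TAct.inv [Finite D.T] {g : A} {l μ ν : F} (h : TAct m g l μ ν) :
    TAct m g⁻¹ l⁻¹ μ⁻¹ ν⁻¹ := by
  have hl := h.l0
  have hμ := h.μ0
  have hν := h.ν0
  have hσl := D.σ_ne hl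
  have hσμ := D.σ_ne hμ
  exact
  { l0 := inv_ne_zero hl
    μ0 := inv_ne_zero hμ
    ν0 := inv_ne_zero hν
    x := congrF (h.x.inv (mul_ne_zero hl (inv_ne_zero hμ))) (by rw [mul_inv])
    x' := congrF (h.x'.inv (mul_ne_zero (inv_ne_zero hl) hμ)) (by rw [mul_inv])
    y := congrF (h.y.inv (mul_ne_zero hl hσμ)) (by rw [mul_inv, map_inv₀])
    y' := congrF (h.y'.inv (mul_ne_zero (inv_ne_zero hμ) (inv_ne_zero hσl))) (by rw [mul_inv, map_inv₀])
    z₁ := congrT (h.z₁.inv (mul_ne_zero hσl hν) (mul_ne_zero hl hσl))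
      (by rw [mul_inv, map_inv₀]) (by rw [mul_inv, map_inv₀])
    z₂ := congrT (h.z₂.inv (mul_ne_zero hσμ hν) (mul_ne_zero hμ hσμ))
      (by rw [mul_inv, map_inv₀]) (by rw [mul_inv, map_inv₀])
    z₁' := congrT (h.z₁'.inv (mul_ne_zero (inv_ne_zero hl) hν)
      (mul_ne_zero (inv_ne_zero hl) (inv_ne_zero hσl))) (by rw [mul_inv]) (by rw [mul_inv, map_inv₀])
    z₂' := congrT (h.z₂'.inv (mul_ne_zero (inv_ne_zero hμ) hν)
      (mul_ne_zero (inv_ne_zero hμ) (inv_ne_zero hσμ))) (by rw [mul_inv]) (by rw [mul_inv, map_inv₀]) }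

section basic

variable (h : B2Rel m) {p₀ : D.T} (hp₀ : p₀.c ≠ 0)
include h hp₀

theorem tact_hI {s : F} (hs : s ≠ 0) : TAct m (hI m s) s s⁻¹ 1 where
  l0 := hs
  μ0 := inv_ne_zero hs
  ν0 := one_ne_zero
  x := congrF (fun a => hI_x h hp₀ hs a) (by rw [inv_inv])
  x' := congrF (fun a => hI_x' h hp₀ hs a) rfl
  y := congrF (fun a => hI_y h hs a) (by rw [map_inv₀])
  y' := congrF (fun a => hI_y' h hp₀ hs a) (by rw [inv_inv])
  z₁ := congrT (actT_sc (hI_z₁ h hs)) (by rw [mul_one]) rfl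
  z₂ := congrT (actT_sc (hI_z₂ h hs)) (by rw [mul_one]) rfl
  z₁' := congrT (actT_sc (hI_z₁' h hp₀ hs)) (by rw [map_inv₀, D.σσ, mul_one])
    (by rw [map_inv₀, D.σσ]; ring)
  z₂' := congrT (actT_sc (hI_z₂' h hp₀ hs)) (by rw [D.σσ, mul_one, inv_inv])
    (by rw [D.σσ, inv_inv, map_inv₀, inv_inv]; ring)

omit hp₀ in
theorem tact_hII {p q : D.T} (hp : p.c ≠ 0) (hq : q.c ≠ 0) {ν μ : F} (hν0 : ν ≠ 0) (hμ0 : μ ≠ 0)
    (hν : ∀ w : V, w + (p.c⁻¹ * D.h w p.w) • p.w = ν • w)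
    (hμ : ∀ w : V, w + ((q⁻¹).c⁻¹ * D.h w (q⁻¹).w) • (q⁻¹).w = μ • w) :
    TAct m (hII m p q) 1 (p.c * q.c⁻¹) (ν * μ) := by
  have hσp := D.σ_ne hp
  have hσq := D.σ_ne hq
  exact
  { l0 := one_ne_zero
    μ0 := mul_ne_zero hp (inv_ne_zero hq)
    ν0 := mul_ne_zero hν0 hμ0
    x := congrF (fun a => hII_x h hp hq a) (by rw [mul_inv, inv_inv, one_mul])
    x' := congrF (fun a => hII_x' h hp hq a) (by rw [inv_one, one_mul])
    y := congrF (fun a => hII_y h hp hq a) (by rw [map_mul, map_inv₀, one_mul])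
    y' := congrF (fun a => hII_y' h hp hq a)
      (by rw [map_one, inv_one, mul_one, mul_inv, inv_inv])
    z₁ := congrT (actT_sc_refl (a := 1) hν hμ (fun r => by rw [D.sc_one]; exact hII_z₁ h hp hq r))
      rfl rfl
    z₂ := actT_sc_refl hν hμ (hII_z₂ h hp hq)
    z₁' := congrT (actT_sc_refl (a := 1) hν hμ (fun r => by rw [D.sc_one]; exact hII_z₁' h hp hq r))
      (by rw [map_one, inv_one]) (by rw [map_one, inv_one])
    z₂' := congrT (actT_sc_refl hν hμ (hII_z₂' h hp hq))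
      (by rw [map_mul, map_inv₀, D.σσ, D.σσ, mul_inv, inv_inv])
      (by rw [map_mul, map_inv₀, D.σσ, D.σσ, map_mul, map_inv₀, mul_inv, mul_inv, inv_inv, inv_inv]; ring) }

theorem exists_tact [Finite D.T] (hD : Scal D) {g : A} (hg : g ∈ Hg m) : ∃ l μ ν, TAct m g l μ ν := by
  refine Subgroup.closure_induction (p := fun g _ => ∃ l μ ν, TAct m g l μ ν) ?_ ?_ ?_ ?_ hg
  · rintro g (⟨s, t, hs, ht, rfl⟩ | ⟨p, q, hp, hq, rfl⟩)
    · have e : nt m s * (nt m t)⁻¹ = hI m s * (hI m t)⁻¹ := by unfold hI; group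
      rw [e]
      exact ⟨_, _, _, (tact_hI h hp₀ hs).mul (tact_hI h hp₀ ht).inv⟩
    · obtain ⟨ν, hν, hν'⟩ := hD p hp
      obtain ⟨μ, hμ, hμ'⟩ := hD q⁻¹ (D.inv_c_ne hq)
      exact ⟨_, _, _, tact_hII h hp hq hν hμ hν' hμ'⟩
  · exact ⟨1, 1, 1, TAct.one⟩
  · rintro g k _ _ ⟨l, μ, ν, h1⟩ ⟨l', μ', ν', h2⟩
    exact ⟨_, _, _, h1.mul h2⟩
  · rintro g _ ⟨l, μ, ν, h1⟩
    exact ⟨_, _, _, h1.inv⟩

end basic

/-- the central elements of the parameter group -/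
theorem comm_of_w {p : D.T} (hp : p.w = 0) (q : D.T) : p * q = q * p := by
  ext
  · simp [hp]
  · simp only [PQDatum.T.mul_c, hp, D.zero_left, D.zero_right]; ring

namespace Std

variable (S : B2Std.Std D A)

/-- the first coordinate -/
def PX (g : A) (a : F) : Prop := ∃ p b q, g = nf S.m a p b q

/-- the last coordinate -/
def PZ (g : A) (q : D.T) : Prop := ∃ a p b, g = nf S.m a p b q

variable {S}

theorem PX.mem {g : A} {a : F} (h : PX S g a) : g ∈ S.U := by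
  obtain ⟨p, b, q, rfl⟩ := h
  exact nf_mem _ _ _ _

theorem PZ.mem {g : A} {q : D.T} (h : PZ S g q) : g ∈ S.U := by
  obtain ⟨p, b, q, rfl⟩ := h
  exact nf_mem _ _ _ _

theorem exists_PX {g : A} (h : g ∈ S.U) : ∃ a, PX S g a := by
  obtain ⟨a, p, b, q, rfl⟩ := exists_nf S.rel h
  exact ⟨a, p, b, q, rfl⟩

theorem exists_PZ {g : A} (h : g ∈ S.U) : ∃ q, PZ S g q := by
  obtain ⟨a, p, b, q, rfl⟩ := exists_nf S.rel h
  exact ⟨q, a, p, b, rfl⟩

theorem PX.mul {g g' : A} {a a' : F} (h : PX S g a) (h' : PX S g' a') : PX S (g * g') (a + a') := by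
  obtain ⟨p, b, q, rfl⟩ := h
  obtain ⟨p', b', q', rfl⟩ := h'
  exact ⟨_, _, _, mul_nf S.rel _ _ _ _ _ _ _ _⟩

theorem PZ.mul {g g' : A} {q q' : D.T} (h : PZ S g q) (h' : PZ S g' q') : PZ S (g * g') (q * q') := by
  obtain ⟨p, b, q, rfl⟩ := h
  obtain ⟨p', b', q', rfl⟩ := h'
  exact ⟨_, _, _, mul_nf S.rel _ _ _ _ _ _ _ _⟩

theorem PX.x (a : F) : PX S (S.m.x a) a := ⟨_, _, _, x_eq_nf S.rel a⟩
theorem PX.z₁ (p : D.T) : PX S (S.m.z₁ p) 0 := ⟨_, _, _, z₁_eq_nf S.rel p⟩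
theorem PX.y (b : F) : PX S (S.m.y b) 0 := ⟨_, _, _, y_eq_nf S.rel b⟩
theorem PX.z₂ (p : D.T) : PX S (S.m.z₂ p) 0 := ⟨_, _, _, z₂_eq_nf S.rel p⟩
theorem PZ.x (a : F) : PZ S (S.m.x a) 1 := ⟨_, _, _, x_eq_nf S.rel a⟩
theorem PZ.z₁ (p : D.T) : PZ S (S.m.z₁ p) 1 := ⟨_, _, _, z₁_eq_nf S.rel p⟩
theorem PZ.y (b : F) : PZ S (S.m.y b) 1 := ⟨_, _, _, y_eq_nf S.rel b⟩
theorem PZ.z₂ (p : D.T) : PZ S (S.m.z₂ p) p := ⟨_, _, _, z₂_eq_nf S.rel p⟩
theorem PX.one : PX S 1 0 := ⟨_, _, _, (nf_one S.rel).symm⟩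
theorem PZ.one : PZ S 1 1 := ⟨_, _, _, (nf_one S.rel).symm⟩

variable [Finite F] [CharP F 2]

theorem PX.uniq {g : A} {a a' : F} (h : PX S g a) (h' : PX S g a') : a = a' := by
  obtain ⟨p, b, q, rfl⟩ := h
  obtain ⟨p', b', q', e⟩ := h'
  exact (S.nf_inj e).1

theorem PZ.uniq {g : A} {q q' : D.T} (h : PZ S g q) (h' : PZ S g q') : q = q' := by
  obtain ⟨p, b, q, rfl⟩ := h
  obtain ⟨p', b', q', e⟩ := h'
  exact (S.nf_inj e).2.2.2

theorem PX.inv {g : A} {a : F} (h : PX S g a) : PX S g⁻¹ (-a) := by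
  obtain ⟨a', h'⟩ := exists_PX (inv_mem h.mem)
  have h1 := h.mul h'
  rw [mul_inv_cancel] at h1
  have h2 := PX.uniq h1 PX.one
  rwa [← eq_neg_of_add_eq_zero_right h2]

theorem PZ.inv {g : A} {q : D.T} (h : PZ S g q) : PZ S g⁻¹ q⁻¹ := by
  obtain ⟨a', h'⟩ := exists_PZ (inv_mem h.mem)
  have h1 := h.mul h'
  rw [mul_inv_cancel] at h1
  have h2 := PZ.uniq h1 PZ.one
  rwa [← eq_inv_of_mul_eq_one_right h2]

/-- conjugation by an element of `U` does not change the first coordinate -/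
theorem PX.conj {g u : A} {a : F} (h : PX S g a) (hu : u ∈ S.U) : PX S (u * g * u⁻¹) a := by
  obtain ⟨c, hc⟩ := exists_PX hu
  have h1 := (hc.mul h).mul hc.inv
  have e : c + a + -c = a := by ring
  rwa [e] at h1

theorem PZ.conj {g u : A} {q r : D.T} (h : PZ S g q) (hu : PZ S u r) : PZ S (u * g * u⁻¹) (r * q * r⁻¹) :=
  (hu.mul h).mul hu.inv

/-- the commutator of elements of the parameter group has `w = 0` -/
theorem conj_w (r q : D.T) : (r * q * r⁻¹).w = q.w := by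
  simp

theorem mem_VI_iff {g : A} : g ∈ S.VI ↔ PX S g 0 := by
  constructor
  · intro hg
    obtain ⟨a, p, b, q, rfl⟩ := exists_nf S.rel (S.VI_le hg)
    have h1 : S.m.x a ∈ S.VI := by
      have h2 : S.m.x a = nf S.m a p b q * (S.m.z₁ p * S.m.y b * S.m.z₂ q)⁻¹ := by
        unfold B2Std.nf; group
      rw [h2]
      exact mul_mem hg (inv_mem (mul_mem (mul_mem (S.z₁_mem_VI p) (S.y_mem_VI b)) (S.z₂_mem_VI q)))
    rw [S.x_mem_VI_iff] at h1
    subst h1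
    exact ⟨p, b, q, rfl⟩
  · rintro ⟨p, b, q, rfl⟩
    unfold B2Std.nf
    have h0 : S.m.x 0 = 1 := add_zero' S.rel.x_add
    rw [h0, one_mul]
    exact mul_mem (mul_mem (S.z₁_mem_VI p) (S.y_mem_VI b)) (S.z₂_mem_VI q)

theorem mem_VJ_iff {g : A} : g ∈ S.VJ ↔ PZ S g 1 := by
  constructor
  · intro hg
    obtain ⟨a, p, b, q, rfl⟩ := exists_nf S.rel (S.VJ_le hg)
    have h1 : S.m.z₂ q ∈ S.VJ := by
      have h2 : S.m.z₂ q = (S.m.x a * S.m.z₁ p * S.m.y b)⁻¹ * nf S.m a p b q := by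
        unfold B2Std.nf; group
      rw [h2]
      exact mul_mem (inv_mem (mul_mem (mul_mem (S.x_mem_VJ a) (S.z₁_mem_VJ p)) (S.y_mem_VJ b))) hg
    rw [S.z₂_mem_VJ_iff] at h1
    subst h1
    exact ⟨a, p, b, rfl⟩
  · rintro ⟨a, p, b, rfl⟩
    unfold B2Std.nf
    have h0 : S.m.z₂ 1 = 1 := mul_one' S.rel.z₂_mul
    rw [h0, mul_one]
    exact mul_mem (mul_mem (S.x_mem_VJ a) (S.z₁_mem_VJ p)) (S.y_mem_VJ b)

/-- the action on normal forms -/
theorem conj_nf {g : A} {l μ ν : F} (h : TAct S.m g l μ ν) (a : F) (p : D.T) (b : F) (q : D.T) :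
    ∃ p' q' : D.T, (p'.w = (D.σ l * ν) • p.w ∧ p'.c = l * D.σ l * p.c) ∧
      (q'.w = (D.σ μ * ν) • q.w ∧ q'.c = μ * D.σ μ * q.c) ∧
      g * nf S.m a p b q * g⁻¹ = nf S.m (l * μ⁻¹ * a) p' (l * D.σ μ * b) q' := by
  obtain ⟨p', h1, h2, h3⟩ := h.z₁ p
  obtain ⟨q', h4, h5, h6⟩ := h.z₂ q
  refine ⟨p', q', ⟨h1, h2⟩, ⟨h4, h5⟩, ?_⟩
  unfold B2Std.nf
  rw [← h3, ← h6, ← h.x, ← h.y]
  group

theorem PX.tact {g u : A} {a l μ ν : F} (h : TAct S.m g l μ ν) (hu : PX S u a) :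
    PX S (g * u * g⁻¹) (l * μ⁻¹ * a) := by
  obtain ⟨p, b, q, rfl⟩ := hu
  obtain ⟨p', q', -, -, e⟩ := conj_nf h a p b q
  exact ⟨_, _, _, e⟩

theorem PZ.tact {g u : A} {q : D.T} {l μ ν : F} (h : TAct S.m g l μ ν) (hu : PZ S u q) :
    ∃ q' : D.T, q'.w = (D.σ μ * ν) • q.w ∧ q'.c = μ * D.σ μ * q.c ∧ PZ S (g * u * g⁻¹) q' := by
  obtain ⟨a, p, b, rfl⟩ := hu
  obtain ⟨p', q', -, ⟨h1, h2⟩, e⟩ := conj_nf h a p b q
  exact ⟨q', h1, h2, _, _, _, e⟩

end Std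

/-! ### Special elements -/

/-- Parameters `lam` fixed by `σ` with `(0, lam)`, `(0, 1)` in the parameter group. -/
structure Lam (D : PQDatum F V) (lam : F) : Prop where
  ne0 : lam ≠ 0
  ne1 : lam ≠ 1
  σ : D.σ lam = lam
  ok : D.ok 0 lam
  ok1 : D.ok 0 1

theorem Lam.sq_ne [CharP F 2] {lam : F} (L : Lam D lam) : lam * lam ≠ 1 := by
  intro h
  have h2 : (1 : F) + 1 = 0 := CharTwo.add_self_eq_zero 1
  have h3 : (lam + 1) * (lam + 1) = 0 := by linear_combination h + (lam + 1) * h2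
  have h4 := mul_self_eq_zero.1 h3
  exact L.ne1 (by linear_combination h4 - h2)

/-- the torus element `(1, κ, 1)` -/
def e2 (m : B2Maps D A) {κ : F} (hκ : D.ok 0 κ) (h1 : D.ok 0 1) : A :=
  hII m ⟨0, κ, hκ⟩ ⟨0, 1, h1⟩

theorem e2_mem {κ : F} (hκ : D.ok 0 κ) (h1 : D.ok 0 1) (h0 : κ ≠ 0) : e2 m hκ h1 ∈ Hg m :=
  hII_mem_H h0 one_ne_zero

theorem tact_e2 (h : B2Rel m) {κ : F} (hκ : D.ok 0 κ) (h1 : D.ok 0 1) (h0 : κ ≠ 0) :
    TAct m (e2 m hκ h1) 1 κ 1 := by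
  have := tact_hII (m := m) h (p := ⟨0, κ, hκ⟩) (q := ⟨0, 1, h1⟩) h0 one_ne_zero (ν := 1) (μ := 1)
    one_ne_zero one_ne_zero (fun w => by simp) (fun w => by simp)
  have e : κ * (1 : F)⁻¹ = κ := by rw [inv_one, mul_one]
  change TAct m _ 1 (κ * (1 : F)⁻¹) (1 * 1) at this
  rw [e, one_mul] at this
  exact this

/-- the element `(κ, 1, 1)` -/
theorem exists_hJ (h : B2Rel m) {p₀ : D.T} (hp₀ : p₀.c ≠ 0) {κ : F} (hκ : D.ok 0 κ) (h1 : D.ok 0 1)
    (h0 : κ ≠ 0) : ∃ g ∈ Hg m, TAct m g κ 1 1 := by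
  refine ⟨hI m κ * e2 m hκ h1, mul_mem (hI_mem_H h0) (e2_mem hκ h1 h0), ?_⟩
  have := (tact_hI h hp₀ h0).mul (tact_e2 h hκ h1 h0)
  rwa [mul_one, inv_mul_cancel₀ h0, mul_one] at this

/-- the element `(κ, κ, 1)` -/
theorem exists_hK (h : B2Rel m) {p₀ : D.T} (hp₀ : p₀.c ≠ 0) {κ : F} (hκ : D.ok 0 κ) (h1 : D.ok 0 1)
    (h0 : κ ≠ 0) : ∃ g ∈ Hg m, TAct m g κ κ 1 := by
  obtain ⟨g, hg, hg'⟩ := exists_hJ h hp₀ hκ h1 h0
  refine ⟨g * e2 m hκ h1, mul_mem hg (e2_mem hκ h1 h0), ?_⟩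
  have := hg'.mul (tact_e2 h hκ h1 h0)
  rwa [mul_one, one_mul, mul_one] at this

theorem commute_of_conj {g x : A} (h : g * x * g⁻¹ = x) : Commute g x := mul_inv_eq_iff_eq_mul.1 h

theorem TAct.comm_x {g : A} {l ν : F} (h : TAct m g l l ν) (a : F) : Commute g (m.x a) := by
  have h1 := h.x a
  rw [mul_inv_cancel₀ h.l0, one_mul] at h1
  exact commute_of_conj h1

theorem TAct.comm_x' {g : A} {l ν : F} (h : TAct m g l l ν) (a : F) : Commute g (m.x' a) := by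
  have h1 := h.x' a
  rw [inv_mul_cancel₀ h.l0, one_mul] at h1
  exact commute_of_conj h1

theorem TAct.comm_nt {g : A} {l ν : F} (h : TAct m g l l ν) (s : F) : Commute g (nt m s) :=
  ((h.comm_x _).mul_right (h.comm_x' _)).mul_right (h.comm_x _)

theorem TAct.comm_nI {g : A} {l ν : F} (h : TAct m g l l ν) : Commute g m.nI :=
  ((h.comm_x _).mul_right (h.comm_x' _)).mul_right (h.comm_x _)

/-- `w` and `c` fixed: the element is fixed -/
theorem ActT.fix {g : A} {f : D.T → A} {β γ : F} (h : ActT g f β γ) {p : D.T} (hw : β • p.w = p.w)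
    (hγ : γ = 1) : Commute g (f p) := by
  obtain ⟨q, h1, h2, h3⟩ := h p
  have : q = p := by
    ext
    · rw [h1, hw]
    · rw [h2, hγ, one_mul]
  rw [this] at h3
  exact commute_of_conj h3

theorem TAct.comm_z₂ {g : A} {l : F} (h : TAct m g l 1 1) (p : D.T) : Commute g (m.z₂ p) :=
  ActT.fix h.z₂ (by simp) (by simp)

theorem TAct.comm_z₂' {g : A} {l : F} (h : TAct m g l 1 1) (p : D.T) : Commute g (m.z₂' p) :=
  ActT.fix h.z₂' (by simp) (by simp)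

theorem TAct.comm_nII {g : A} {l : F} (h : TAct m g l 1 1) (p : D.T) : Commute g (m.nII p) :=
  ((h.comm_z₂' _).mul_right (h.comm_z₂ _)).mul_right (h.comm_z₂' _)

namespace Std

variable {S : B2Std.Std D A}

theorem center_of_tact {g : A} {l ν : F} (h : TAct S.m g l l ν)
    (h2 : ∀ q : D.T, (D.σ l * ν) • q.w = q.w) (h3 : l * D.σ l = 1) : g ∈ Subgroup.center A := by
  have hl := h.l0
  have hσ := D.σ_ne hl
  have e : l⁻¹ = D.σ l := by
    rw [inv_eq_iff_eq_inv]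
    exact eq_inv_of_mul_eq_one_left h3
  refine B2Torus.Std.mem_center S (fun a => ?_) (fun a => ?_) (fun q => ?_) (fun q => ?_)
  · exact mul_inv_eq_iff_eq_mul.2 (h.comm_x a).eq
  · exact mul_inv_eq_iff_eq_mul.2 (h.comm_x' a).eq
  · exact mul_inv_eq_iff_eq_mul.2 (ActT.fix h.z₂ (h2 q) h3).eq
  · refine mul_inv_eq_iff_eq_mul.2 (ActT.fix h.z₂' ?_ ?_).eq
    · rw [e]; exact h2 q
    · rw [← mul_inv, h3, inv_one]

theorem H_comm [Finite D.T] (hD : Scal D) (hZ : Subgroup.center A = ⊥) {g k : A} (hg : g ∈ S.H)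
    (hk : k ∈ S.H) : g * k = k * g := by
  obtain ⟨l, μ, ν, h1⟩ := exists_tact S.rel S.hp₀ hD hg
  obtain ⟨l', μ', ν', h2⟩ := exists_tact S.rel S.hp₀ hD hk
  have h3 := (h1.mul h2).mul (h1.inv.mul h2.inv)
  have e1 : l * l' * (l⁻¹ * l'⁻¹) = 1 := by
    have := h1.l0
    have := h2.l0
    field_simp
  have e2 : μ * μ' * (μ⁻¹ * μ'⁻¹) = 1 := by
    have := h1.μ0
    have := h2.μ0
    field_simp
  have e3 : ν * ν' * (ν⁻¹ * ν'⁻¹) = 1 := by
    have := h1.ν0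
    have := h2.ν0
    field_simp
  rw [e1, e2, e3] at h3
  have h4 := center_of_tact h3 (fun q => by simp) (by simp)
  rw [hZ, mem_bot] at h4
  calc g * k = (g * k * (g⁻¹ * k⁻¹)) * (k * g) := by group
    _ = k * g := by rw [h4, one_mul]

variable [Finite F] [CharP F 2]

/-- the fixed points of `(lam, lam, 1)` in `U` -/
theorem eq_x_of_comm {lam : F} (L : Lam D lam) {g u : A} (h : TAct S.m g lam lam 1)
    (hu : u ∈ S.U) (hc : g * u = u * g) : ∃ a, u = S.m.x a := by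
  obtain ⟨a, p, b, q, rfl⟩ := exists_nf S.rel hu
  obtain ⟨p', q', ⟨h1, h2⟩, ⟨h3, h4⟩, h5⟩ := conj_nf h a p b q
  rw [hc, mul_inv_cancel_right] at h5
  obtain ⟨-, e2, e3, e4⟩ := S.nf_inj h5
  subst e2 e4
  rw [L.σ, mul_one] at h1 h3
  rw [L.σ] at h2 h4 e3
  have hs := L.sq_ne
  have hlam : lam - 1 ≠ 0 := sub_ne_zero.2 L.ne1
  have hs' : lam * lam - 1 ≠ 0 := sub_ne_zero.2 hs
  have key : ∀ r : D.T, r.c = lam * lam * r.c → r = 1 := by
    intro r hr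
    apply PQDatum.T.c_eq_zero_iff.1
    have : (lam * lam - 1) * r.c = 0 := by linear_combination -hr
    exact (mul_eq_zero.1 this).resolve_left hs'
  have hb : b = 0 := by
    have : (lam * lam - 1) * b = 0 := by linear_combination -e3
    exact (mul_eq_zero.1 this).resolve_left hs'
  rw [key p h2, key q h4, hb]
  exact ⟨a, (x_eq_nf S.rel a).symm⟩

/-- the fixed points of `(lam, 1, 1)` in `U` -/
theorem eq_z₂_of_comm {lam : F} (L : Lam D lam) {g u : A} (h : TAct S.m g lam 1 1)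
    (hu : u ∈ S.U) (hc : g * u = u * g) : ∃ q, u = S.m.z₂ q := by
  obtain ⟨a, p, b, q, rfl⟩ := exists_nf S.rel hu
  obtain ⟨p', q', ⟨h1, h2⟩, ⟨h3, h4⟩, h5⟩ := conj_nf h a p b q
  rw [hc, mul_inv_cancel_right] at h5
  obtain ⟨e1, e2, e3, -⟩ := S.nf_inj h5
  subst e2
  rw [L.σ] at h2
  rw [map_one, mul_one] at e3
  rw [inv_one, mul_one] at e1
  have hs := L.sq_ne
  have hlam : lam - 1 ≠ 0 := sub_ne_zero.2 L.ne1
  have hs' : lam * lam - 1 ≠ 0 := sub_ne_zero.2 hs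
  have hp : p = 1 := by
    apply PQDatum.T.c_eq_zero_iff.1
    have : (lam * lam - 1) * p.c = 0 := by linear_combination -h2
    exact (mul_eq_zero.1 this).resolve_left hs'
  have hb : b = 0 := by
    have : (lam - 1) * b = 0 := by linear_combination -e3
    exact (mul_eq_zero.1 this).resolve_left hlam
  have ha : a = 0 := by
    have : (lam - 1) * a = 0 := by linear_combination -e1
    exact (mul_eq_zero.1 this).resolve_left hlam
  rw [hp, ha, hb]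
  exact ⟨q, (z₂_eq_nf S.rel q).symm⟩

theorem x_eq_z₂ {a : F} {q : D.T} (h : S.m.x a = S.m.z₂ q) : S.m.x a = 1 := by
  have h1 : PX S (S.m.x a) a := PX.x a
  rw [h] at h1
  have h2 := h1.uniq (PX.z₂ q)
  rw [h2]
  exact add_zero' S.rel.x_add

/-- `U` is generated by `x(F)`, `z₂(T)` -/
theorem U_le {lam : F} (L : Lam D lam) {P : Subgroup A} (h1 : ∀ a, S.m.x a ∈ P)
    (h2 : ∀ q, S.m.z₂ q ∈ P) : S.U ≤ P := by
  have hc : ∀ a q, S.m.z₁ (D.sc a q) * S.m.y (-(D.ε * a * D.σ q.c)) ∈ P := by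
    intro a q
    rw [← S.rel.x_z₂, commutatorElement_def]
    exact mul_mem (mul_mem (mul_mem (h1 a) (h2 q)) (inv_mem (h1 a))) (inv_mem (h2 q))
  have hy : ∀ b, S.m.y b ∈ P := by
    intro b
    -- compare `(a, q)` and `(lam a, sc lam⁻¹ q)`, `q = (0, 1)`
    let q : D.T := ⟨0, 1, L.ok1⟩
    have h3 : ∀ a, S.m.y (-(D.ε * a * (1 - lam⁻¹))) ∈ P := by
      intro a
      have i1 := hc a q
      have i2 := hc (lam * a) (D.sc lam⁻¹ q)
      have e2 : D.sc (lam * a) (D.sc lam⁻¹ q) = D.sc a q := by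
        rw [D.sc_sc]
        congr 1
        have := L.ne0
        field_simp
      have e3 : D.σ q.c = 1 := map_one _
      have e4 : D.σ (D.sc lam⁻¹ q).c = lam⁻¹ * lam⁻¹ := by
        change D.σ (lam⁻¹ * D.σ lam⁻¹ * 1) = _
        rw [mul_one, map_mul, D.σσ, map_inv₀, L.σ]
      rw [e2, e4] at i2
      rw [e3] at i1
      have i3 := mul_mem (inv_mem i2) i1
      have e5 : (S.m.z₁ (D.sc a q) * S.m.y (-(D.ε * (lam * a) * (lam⁻¹ * lam⁻¹))))⁻¹ *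
          (S.m.z₁ (D.sc a q) * S.m.y (-(D.ε * a * 1))) =
          S.m.y (-(D.ε * a * (1 - lam⁻¹))) := by
        have e6 : -(D.ε * a * (1 - lam⁻¹)) = -(-(D.ε * (lam * a) * (lam⁻¹ * lam⁻¹))) + -(D.ε * a * 1) := by
          have := L.ne0
          field_simp
          ring
        rw [e6, S.rel.y_add, add_neg' S.rel.y_add]
        group
      rwa [e5] at i3
    have hne : 1 - lam⁻¹ ≠ 0 := by
      intro h0
      have : lam⁻¹ = 1 := by linear_combination -h0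
      exact L.ne1 (inv_eq_one.1 this)
    have hε := D.ε_ne
    have := h3 (-(D.ε⁻¹ * b * (1 - lam⁻¹)⁻¹))
    have e : -(D.ε * -(D.ε⁻¹ * b * (1 - lam⁻¹)⁻¹) * (1 - lam⁻¹)) = b := by
      have hn := mul_inv_cancel₀ hne
      have hε' := mul_inv_cancel₀ hε
      linear_combination (b * ((1 - lam⁻¹) * (1 - lam⁻¹)⁻¹)) * hε' + b * hn
    rwa [e] at this
  have hz : ∀ p, S.m.z₁ p ∈ P := by
    intro p
    have i1 := mul_mem (hc 1 p) (inv_mem (hy (-(D.ε * 1 * D.σ p.c))))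
    rwa [mul_inv_cancel_right, D.sc_one] at i1
  unfold B2Std.Std.U UU
  rw [Subgroup.closure_le]
  rintro g (⟨a, rfl | rfl⟩ | ⟨p, rfl | rfl⟩)
  · exact h1 a
  · exact hy a
  · exact hz p
  · exact h2 p

end Std

end Cfsg.Agent.StdRank2.B2Act
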