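import Cfsg.Agent.StdRank2.B2Self

/-!
# Self-centralising facts in an ambient group with an involution `t`

`inner_of_VJ'`, `inner_of_VI'`: automorphisms of `A` trivial on `V_J/Z` and `Z` (on `V_I/W` and `W`,
`W = z₁(0,·) y(F) z₂(0,·)`) are conjugations by elements of `V_J` (`V_I`).

`Amb A t`: `t` is an involution centralising `A ≤ G`, `C_G(t)` normalises `A`, `C_G(t) ∩ C_G(A) = {1, t}`.
`Amb.of_triv`, `Amb.of_VI`, `Amb.of_VJ`, `Amb.of_VI'`, `Amb.of_VJ'`: the corresponding statements for elements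
of `C_G(t)`.
-/

set_option autoImplicit false
set_option linter.unusedSectionVars false

namespace Cfsg.Agent.StdRank2.B2Amb

open Subgroup
open Cfsg.Agent.TitsThree.B2Pkg Cfsg.Agent.TitsThree.RankTwoIdentB2
  Cfsg.Agent.TitsThree.CoreB2 Cfsg.Agent.TitsThree.RankTwoIdx Cfsg.Agent.TitsThree.RankTwoRGD
  Cfsg.Agent.TitsThree.StdData
open Cfsg.Agent.StdRank2.OddLift Cfsg.Agent.StdRank2.B2Lift Cfsg.Agent.StdRank2.B2Std
  Cfsg.Agent.StdRank2.B2Torus Cfsg.Agent.StdRank2.B2Act Cfsg.Agent.StdRank2.B2Act.Std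
  Cfsg.Agent.StdRank2.B2Par Cfsg.Agent.StdRank2.B2Par.Std Cfsg.Agent.StdRank2.B2Self
open scoped commutatorElement Pointwise

universe u

variable {F : Type*} [Field F] {V : Type*} [AddCommGroup V] [Module F V] {D : PQDatum F V}

section inner

variable {A : Type u} [Group A] {S : B2Std.Std D A} {φ : MulAut A}
variable [Finite F] [CharP F 2] [Finite D.T] [Finite A]

/-- automorphisms trivial on `V_J/Z` and on `Z` -/
theorem inner_of_VJ' {lam : F} (L : Lam D lam) (hD : Scal D)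
    (hT : ∃ g ∈ S.H, ∃ β : F, β ≠ 1 ∧ ActT g S.m.z₂ β 1)
    (hZ : Subgroup.center A = ⊥)
    (hx : ∀ a, ∃ r : D.T, r.w = 0 ∧ φ (S.m.x a) = S.m.x a * S.m.z₁ r)
    (hy : ∀ b, ∃ r : D.T, r.w = 0 ∧ φ (S.m.y b) = S.m.y b * S.m.z₁ r)
    (hz : ∀ p, ∃ r : D.T, r.w = 0 ∧ φ (S.m.z₁ p) = S.m.z₁ p * S.m.z₁ r)
    (hz0 : ∀ p : D.T, p.w = 0 → φ (S.m.z₁ p) = S.m.z₁ p) :
    ∃ u ∈ S.VJ, φ = MulAut.conj u := by
  have hV : ∀ v ∈ S.VJ, ∃ r : D.T, r.w = 0 ∧ φ v = v * S.m.z₁ r := by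
    intro v hv
    obtain ⟨a, p, b, rfl⟩ := mem_VJ_iff.1 hv
    obtain ⟨r1, h1, e1⟩ := hx a
    obtain ⟨r2, h2, e2⟩ := hz p
    obtain ⟨r3, h3, e3⟩ := hy b
    refine ⟨r1 * r2 * r3, by simp [h1, h2, h3], ?_⟩
    unfold B2Std.nf
    rw [show S.m.z₂ 1 = 1 from mul_one' S.rel.z₂_mul, mul_one, map_mul, map_mul, e1, e2, e3,
      S.rel.z₁_mul, S.rel.z₁_mul]
    have c1 := z₁_comm_U (S := S) h1 (z₁_mem p)
    have c2 := z₁_comm_U (S := S) h1 (y_mem b)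
    have c3 := z₁_comm_U (S := S) h2 (y_mem b)
    calc S.m.x a * S.m.z₁ r1 * (S.m.z₁ p * S.m.z₁ r2) * (S.m.y b * S.m.z₁ r3)
        = S.m.x a * (S.m.z₁ r1 * S.m.z₁ p) * (S.m.z₁ r2 * S.m.y b) * S.m.z₁ r3 := by group
      _ = S.m.x a * S.m.z₁ p * (S.m.z₁ r1 * S.m.y b) * S.m.z₁ r2 * S.m.z₁ r3 := by
          rw [c1, c3]; group
      _ = _ := by rw [c2]; group
  have h1 : Triv S φ := by
    have key : ∀ q, PZ S (φ (S.m.z₂ q)) q := by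
      intro q
      have hk : ∀ v ∈ S.VJ, ∃ r : D.T, r.w = 0 ∧
          φ (S.m.z₂ q) * (S.m.z₂ q)⁻¹ * v * (φ (S.m.z₂ q) * (S.m.z₂ q)⁻¹)⁻¹ = v * S.m.z₁ r := by
        intro v hv
        have h0 := S.UVJ _ (inv_mem (z₂_mem q)) v hv
        rw [inv_inv] at h0
        obtain ⟨r, hr, e⟩ := hV _ h0
        obtain ⟨r', hr', e'⟩ := hV v hv
        refine ⟨r' * r⁻¹, by simp [hr, hr'], ?_⟩
        have e1 : (S.m.z₂ q)⁻¹ * v * S.m.z₂ q =
            φ ((S.m.z₂ q)⁻¹ * v * S.m.z₂ q * (S.m.z₁ r)⁻¹) := by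
          rw [map_mul, e, map_inv, hz0 r hr]; group
        have c1 := z₁_comm_U (S := S) hr (z₂_mem q)
        calc φ (S.m.z₂ q) * (S.m.z₂ q)⁻¹ * v * (φ (S.m.z₂ q) * (S.m.z₂ q)⁻¹)⁻¹
            = φ (S.m.z₂ q) * ((S.m.z₂ q)⁻¹ * v * S.m.z₂ q) * (φ (S.m.z₂ q))⁻¹ := by group
          _ = φ (S.m.z₂ q) * φ ((S.m.z₂ q)⁻¹ * v * S.m.z₂ q * (S.m.z₁ r)⁻¹) * (φ (S.m.z₂ q))⁻¹ := by
              rw [← e1]
          _ = φ (S.m.z₂ q * ((S.m.z₂ q)⁻¹ * v * S.m.z₂ q * (S.m.z₁ r)⁻¹) * (S.m.z₂ q)⁻¹) := by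
              simp only [map_mul, map_inv]
          _ = φ (v * (S.m.z₂ q * (S.m.z₁ r)⁻¹ * (S.m.z₂ q)⁻¹)) := by congr 1; group
          _ = φ (v * (S.m.z₁ r)⁻¹) := by
              have c2 : S.m.z₂ q * (S.m.z₁ r)⁻¹ * (S.m.z₂ q)⁻¹ = (S.m.z₁ r)⁻¹ := by
                have c3 : Commute (S.m.z₂ q) (S.m.z₁ r) := c1.symm
                rw [c3.inv_right.eq, mul_inv_cancel_right]
              rw [c2]
          _ = v * S.m.z₁ r' * (S.m.z₁ r)⁻¹ := by rw [map_mul, map_inv, hz0 r hr, e']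
          _ = v * S.m.z₁ (r' * r⁻¹) := by rw [S.rel.z₁_mul, mul_inv' S.rel.z₁_mul, mul_assoc]
      have h2 : φ (S.m.z₂ q) * (S.m.z₂ q)⁻¹ ∈ S.VJ := by
        apply mem_VJ_of_cent hD hZ
        · intro v hv
          obtain ⟨r, -, e⟩ := hk v hv
          rw [e]; exact mul_mem hv (S.z₁_mem_VJ r)
        · intro a
          obtain ⟨r, -, e⟩ := hk _ (S.x_mem_VJ a)
          exact ⟨r, e⟩
        · intro a
          obtain ⟨r, -, e⟩ := hk _ (S.y_mem_VJ a)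
          exact ⟨r, e⟩
        · intro p
          obtain ⟨r, hr, e⟩ := hk _ (S.z₁_mem_VJ p)
          exact ⟨p * r, by simp [hr], by rw [e, S.rel.z₁_mul]⟩
      have h3 := (mem_VJ_iff.1 h2).mul (PZ.z₂ (S := S) q)
      rwa [one_mul, inv_mul_cancel_right] at h3
    refine ⟨fun a => ?_, fun q => ⟨1, rfl, by rw [mul_one]; exact key q⟩, fun q _ => key q⟩
    obtain ⟨r, -, e⟩ := hx a
    have h3 := (PX.x (S := S) a).mul (PX.z₁ r)
    rwa [add_zero, ← e] at h3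
  obtain ⟨u, hu, rfl⟩ := inner_of_triv L hD hT hZ h1
  refine ⟨u, ?_, rfl⟩
  apply mem_VJ_of_cent hD hZ
  · intro v hv
    obtain ⟨r, -, e⟩ := hV v hv
    change u * v * u⁻¹ = _ at e
    rw [e]; exact mul_mem hv (S.z₁_mem_VJ r)
  · intro a
    obtain ⟨r, -, e⟩ := hx a
    exact ⟨r, e⟩
  · intro a
    obtain ⟨r, -, e⟩ := hy a
    exact ⟨r, e⟩
  · intro p
    obtain ⟨r, hr, e⟩ := hz p
    exact ⟨p * r, by simp [hr], by rw [S.rel.z₁_mul]; exact e⟩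

/-- the elements of `W = z₁(0,·) y(F) z₂(0,·)` -/
def IsW' (S : B2Std.Std D A) (v : A) : Prop :=
  ∃ (r : D.T) (b : F) (s : D.T), r.w = 0 ∧ s.w = 0 ∧ v = S.m.z₁ r * S.m.y b * S.m.z₂ s

omit [Finite D.T] [Finite A] in
theorem IsW'.mem_VI {v : A} (h : IsW' S v) : v ∈ S.VI := by
  obtain ⟨r, b, s, -, -, rfl⟩ := h
  exact mul_mem (mul_mem (S.z₁_mem_VI r) (S.y_mem_VI b)) (S.z₂_mem_VI s)

omit [Finite D.T] [Finite A] in
theorem IsW'.comm {v w : A} (h : IsW' S v) (hw : w ∈ S.VI) : v * w = w * v := by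
  obtain ⟨r, b, s, hr, hs, rfl⟩ := h
  have c1 : Commute (S.m.z₁ r) w := z₁_comm_U hr (S.VI_le hw)
  have c2 : Commute (S.m.y b) w := y_comm_VI b hw
  have c3 : Commute (S.m.z₂ s) w := z₂_comm_VI hs hw
  exact ((c1.mul_left c2).mul_left c3).eq

omit [Finite D.T] [Finite A] in
theorem IsW'.mul {v w : A} (h : IsW' S v) (hw : IsW' S w) : IsW' S (v * w) := by
  obtain ⟨r, b, s, hr, hs, rfl⟩ := h
  obtain ⟨r', b', s', hr', hs', rfl⟩ := hw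
  refine ⟨r * r', b + b', s * s', by simp [hr, hr'], by simp [hs, hs'], ?_⟩
  rw [S.rel.z₁_mul, S.rel.y_add, S.rel.z₂_mul]
  have c1 : S.m.z₂ s * (S.m.z₁ r' * S.m.y b') = S.m.z₁ r' * S.m.y b' * S.m.z₂ s :=
    z₂_comm_VI hs (mul_mem (S.z₁_mem_VI r') (S.y_mem_VI b'))
  have c2 : S.m.y b * S.m.z₁ r' = S.m.z₁ r' * S.m.y b := (S.rel.y_z₁ b r').eq
  calc S.m.z₁ r * S.m.y b * S.m.z₂ s * (S.m.z₁ r' * S.m.y b' * S.m.z₂ s')
      = S.m.z₁ r * S.m.y b * (S.m.z₂ s * (S.m.z₁ r' * S.m.y b')) * S.m.z₂ s' := by group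
    _ = S.m.z₁ r * (S.m.y b * S.m.z₁ r') * S.m.y b' * S.m.z₂ s * S.m.z₂ s' := by rw [c1]; group
    _ = _ := by rw [c2]; group

omit [Finite D.T] [Finite A] in
theorem IsW'.inv {v : A} (h : IsW' S v) : IsW' S v⁻¹ := by
  obtain ⟨r, b, s, hr, hs, rfl⟩ := h
  refine ⟨r⁻¹, -b, s⁻¹, by simp [hr], by simp [hs], ?_⟩
  rw [mul_inv' S.rel.z₁_mul, add_neg' S.rel.y_add, mul_inv' S.rel.z₂_mul]
  have c1 : S.m.z₂ s * (S.m.z₁ r * S.m.y b) = S.m.z₁ r * S.m.y b * S.m.z₂ s :=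
    z₂_comm_VI hs (mul_mem (S.z₁_mem_VI r) (S.y_mem_VI b))
  have c2 : S.m.y b * S.m.z₁ r = S.m.z₁ r * S.m.y b := (S.rel.y_z₁ b r).eq
  rw [← c1, ← c2]
  group

omit [Finite D.T] [Finite A] in
theorem IsW'.conj {v : A} (h : IsW' S v) {u : A} (hu : u ∈ S.U) : IsW' S (u * v * u⁻¹) := by
  obtain ⟨a, ha⟩ := exists_PX hu
  obtain ⟨w, hw, rfl⟩ := PX.decomp ha
  have h1 : S.m.x a * w * v * (S.m.x a * w)⁻¹ = S.m.x a * v * (S.m.x a)⁻¹ := by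
    have : w * v * w⁻¹ = v := by rw [← h.comm hw, mul_inv_cancel_right]
    calc S.m.x a * w * v * (S.m.x a * w)⁻¹ = S.m.x a * (w * v * w⁻¹) * (S.m.x a)⁻¹ := by group
      _ = _ := by rw [this]
  rw [h1]
  obtain ⟨r, b, s, hr, hs, rfl⟩ := h
  have e1 : S.m.x a * S.m.z₁ r * (S.m.x a)⁻¹ = S.m.z₁ r := by
    rw [(S.rel.x_z₁ a r).eq, mul_inv_cancel_right]
  have e2 : S.m.x a * S.m.y b * (S.m.x a)⁻¹ = S.m.z₁ (D.tr a b) * S.m.y b := by
    rw [← S.rel.x_y, commutatorElement_def]; group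
  have e3 : S.m.x a * S.m.z₂ s * (S.m.x a)⁻¹ =
      S.m.z₁ (D.sc a s) * S.m.y (-(D.ε * a * D.σ s.c)) * S.m.z₂ s := by
    rw [← S.rel.x_z₂, commutatorElement_def]; group
  have e4 : S.m.x a * (S.m.z₁ r * S.m.y b * S.m.z₂ s) * (S.m.x a)⁻¹ =
      (S.m.z₁ r) * (S.m.z₁ (D.tr a b) * S.m.y b) *
        (S.m.z₁ (D.sc a s) * S.m.y (-(D.ε * a * D.σ s.c)) * S.m.z₂ s) := by
    rw [← e3, ← e2]
    nth_rw 2 [← e1]
    group
  rw [e4]
  have h0 : S.m.y 0 = 1 := add_zero' S.rel.y_add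
  have h1 : S.m.z₁ 1 = 1 := mul_one' S.rel.z₁_mul
  have h2 : S.m.z₂ 1 = 1 := mul_one' S.rel.z₂_mul
  refine (IsW'.mul ⟨r, 0, 1, hr, rfl, by rw [h0, h2]; group⟩
    ⟨D.tr a b, b, 1, rfl, rfl, by rw [h2]; group⟩).mul
    ⟨D.sc a s, _, s, ?_, hs, rfl⟩
  rw [D.sc_w, hs, smul_zero]

/-- automorphisms trivial on `V_I/W` and on `W` -/
theorem inner_of_VI' {lam : F} (L : Lam D lam) (hD : Scal D)
    (hT : ∃ g ∈ S.H, ∃ β : F, β ≠ 1 ∧ ActT g S.m.z₂ β 1)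
    (hZ : Subgroup.center A = ⊥) (hy : ∀ b, φ (S.m.y b) = S.m.y b)
    (h1 : ∀ p : D.T, p.w = 0 → φ (S.m.z₁ p) = S.m.z₁ p)
    (h2 : ∀ p : D.T, p.w = 0 → φ (S.m.z₂ p) = S.m.z₂ p)
    (hz1 : ∀ p, ∃ w, IsW' S w ∧ φ (S.m.z₁ p) = S.m.z₁ p * w)
    (hz2 : ∀ p, ∃ w, IsW' S w ∧ φ (S.m.z₂ p) = S.m.z₂ p * w) :
    ∃ u ∈ S.VI, φ = MulAut.conj u := by
  have hW : ∀ w, IsW' S w → φ w = w := by
    rintro w ⟨r, b, s, hr, hs, rfl⟩
    rw [map_mul, map_mul, h1 r hr, hy, h2 s hs]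
  have hV : ∀ v ∈ S.VI, ∃ w, IsW' S w ∧ φ v = v * w := by
    intro v hv
    obtain ⟨p, b, q, rfl⟩ := mem_VI_iff.1 hv
    obtain ⟨w1, i1, e1⟩ := hz1 p
    obtain ⟨w2, i2, e2⟩ := hz2 q
    refine ⟨w1 * w2, i1.mul i2, ?_⟩
    unfold B2Std.nf
    rw [show S.m.x 0 = 1 from add_zero' S.rel.x_add, one_mul, map_mul, map_mul, e1, e2, hy]
    have c1 := i1.comm (mul_mem (S.y_mem_VI b) (S.z₂_mem_VI q))
    calc S.m.z₁ p * w1 * S.m.y b * (S.m.z₂ q * w2)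
        = S.m.z₁ p * (w1 * (S.m.y b * S.m.z₂ q)) * w2 := by group
      _ = _ := by rw [c1]; group
  have h3 : Triv S φ := by
    refine ⟨fun a => ?_, fun q => ?_, fun q hq => ?_⟩
    · have hk : ∀ v ∈ S.VI, ∃ w, IsW' S w ∧ (IsW' S v → w = 1) ∧
          (S.m.x a)⁻¹ * φ (S.m.x a) * v * ((S.m.x a)⁻¹ * φ (S.m.x a))⁻¹ = v * w := by
        intro v hv
        obtain ⟨w, hw, e⟩ := hV v hv
        have hv' := S.UVI _ (x_mem a) v hv
        obtain ⟨w', hw', e'⟩ := hV _ hv'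
        refine ⟨(S.m.x a)⁻¹ * (w' * (S.m.x a * w * (S.m.x a)⁻¹)⁻¹) * (S.m.x a)⁻¹⁻¹,
          IsW'.conj (hw'.mul (hw.conj (x_mem a)).inv) (inv_mem (x_mem a)), ?_, ?_⟩
        · intro hWv
          have j1 : w = 1 := by
            rw [hW v hWv] at e
            exact (left_eq_mul.1 e)
          have j2 : w' = 1 := by
            rw [hW _ (hWv.conj (x_mem a))] at e'
            exact (left_eq_mul.1 e')
          rw [j1, j2]; group
        · have e1 : v = φ (v * w⁻¹) := by rw [map_mul, map_inv, hW w hw, e]; group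
          have hw2 := hw.conj (x_mem (m := S.m) a)
          calc (S.m.x a)⁻¹ * φ (S.m.x a) * v * ((S.m.x a)⁻¹ * φ (S.m.x a))⁻¹
              = (S.m.x a)⁻¹ * (φ (S.m.x a) * v * (φ (S.m.x a))⁻¹) * S.m.x a := by group
            _ = (S.m.x a)⁻¹ * (φ (S.m.x a) * φ (v * w⁻¹) * (φ (S.m.x a))⁻¹) * S.m.x a := by
                rw [← e1]
            _ = (S.m.x a)⁻¹ * φ ((S.m.x a * v * (S.m.x a)⁻¹) * (S.m.x a * w * (S.m.x a)⁻¹)⁻¹) *
                S.m.x a := by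
                rw [← map_inv, ← map_mul, ← map_mul]; congr 3; group
            _ = (S.m.x a)⁻¹ * ((S.m.x a * v * (S.m.x a)⁻¹) * w' * (S.m.x a * w * (S.m.x a)⁻¹)⁻¹) *
                S.m.x a := by rw [map_mul, e', map_inv, hW _ hw2]
            _ = _ := by group
      have h2' : (S.m.x a)⁻¹ * φ (S.m.x a) ∈ S.VI := by
        apply mem_VI_of_cent hD L hZ
        · intro v hv
          obtain ⟨w, hw, -, e⟩ := hk v hv
          rw [e]; exact mul_mem hv hw.mem_VI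
        · intro b
          obtain ⟨w, -, hw, e⟩ := hk _ (S.y_mem_VI b)
          rw [e, hw ⟨1, b, 1, rfl, rfl, by
            rw [mul_one' S.rel.z₁_mul, mul_one' S.rel.z₂_mul]; group⟩, mul_one]
        · intro p hp
          obtain ⟨w, -, hw, e⟩ := hk _ (S.z₁_mem_VI p)
          rw [e, hw ⟨p, 0, 1, hp, rfl, by
            rw [add_zero' S.rel.y_add, mul_one' S.rel.z₂_mul]; group⟩, mul_one]
        · intro p hp
          obtain ⟨w, -, hw, e⟩ := hk _ (S.z₂_mem_VI p)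
          rw [e, hw ⟨1, 0, p, rfl, hp, by
            rw [add_zero' S.rel.y_add, mul_one' S.rel.z₁_mul]; group⟩, mul_one]
        · intro p
          obtain ⟨w, ⟨r, b, s, hr, hs, rfl⟩, -, e⟩ := hk _ (S.z₂_mem_VI p)
          refine ⟨p * s, by simp [hs], ?_⟩
          rw [e]
          have := (PZ.z₂ (S := S) p).mul (((PZ.z₁ (S := S) r).mul (PZ.y b)).mul (PZ.z₂ s))
          rwa [one_mul, one_mul] at this
      have h3 := (PX.x (S := S) a).mul (mem_VI_iff.1 h2')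
      rwa [add_zero, mul_inv_cancel_left] at h3
    · obtain ⟨w, ⟨r, b, s, hr, hs, rfl⟩, e⟩ := hz2 q
      refine ⟨s, hs, ?_⟩
      rw [e]
      have := (PZ.z₂ (S := S) q).mul (((PZ.z₁ (S := S) r).mul (PZ.y b)).mul (PZ.z₂ s))
      rwa [one_mul, one_mul] at this
    · rw [h2 q hq]; exact PZ.z₂ q
  obtain ⟨u, hu, rfl⟩ := inner_of_triv L hD hT hZ h3
  refine ⟨u, ?_, rfl⟩
  apply mem_VI_of_cent hD L hZ
  · intro v hv
    obtain ⟨w, hw, e⟩ := hV v hv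
    change u * v * u⁻¹ = _ at e
    rw [e]; exact mul_mem hv hw.mem_VI
  · exact hy
  · exact h1
  · exact h2
  · intro p
    obtain ⟨w, ⟨r, b, s, hr, hs, rfl⟩, e⟩ := hz2 p
    change u * S.m.z₂ p * u⁻¹ = _ at e
    refine ⟨p * s, by simp [hs], ?_⟩
    rw [e]
    have := (PZ.z₂ (S := S) p).mul (((PZ.z₁ (S := S) r).mul (PZ.y b)).mul (PZ.z₂ s))
    rwa [one_mul, one_mul] at this

end inner

/-! ### The ambient group -/

/-- `t` is an involution centralising `A`, `C(t) ≤ N(A)` and `C(t) ∩ C(A) = {1, t}`. -/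
structure Amb {G : Type*} [Group G] (A : Subgroup G) (t : G) : Prop where
  tt : t * t = 1
  ne : t ≠ 1
  comm : ∀ a ∈ A, t * a = a * t
  nor : ∀ g, g * t = t * g → ∀ a ∈ A, g * a * g⁻¹ ∈ A
  cen : ∀ g, g * t = t * g → (∀ a ∈ A, g * a = a * g) → g = 1 ∨ g = t

section amb

variable {G : Type u} [Group G] {A : Subgroup G} {t : G}

theorem Amb.not_mem (h : Amb A t) (hZ : Subgroup.center ↥A = ⊥) : t ∉ A := by
  intro ht
  have h1 : (⟨t, ht⟩ : ↥A) ∈ Subgroup.center ↥A := by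
    rw [mem_center_iff]
    intro a
    exact Subtype.ext (h.comm a a.2).symm
  rw [hZ, mem_bot] at h1
  exact h.ne (congrArg Subtype.val h1)

/-- the automorphism of `A` induced by `g` -/
theorem exists_cj [Finite A] {g : G} (hg : ∀ a ∈ A, g * a * g⁻¹ ∈ A) :
    ∃ φ : MulAut ↥A, ∀ a : ↥A, ((φ a : ↥A) : G) = g * a * g⁻¹ := by
  have h1 : g ∈ Subgroup.normalizer (A : Set G) := mem_normalizer_of_conj hg
  exact ⟨A.normalizerMonoidHom ⟨g, h1⟩, fun a => rfl⟩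

theorem Amb.exists_cj [Finite A] (h : Amb A t) {g : G} (hg : g * t = t * g) :
    ∃ φ : MulAut ↥A, ∀ a : ↥A, ((φ a : ↥A) : G) = g * a * g⁻¹ :=
  B2Amb.exists_cj (h.nor g hg)

theorem Amb.eq_of (h : Amb A t) {g : G} (hg : g * t = t * g) {φ : MulAut ↥A}
    (hφ : ∀ a : ↥A, ((φ a : ↥A) : G) = g * a * g⁻¹) {u : ↥A} (hu : φ = MulAut.conj u) :
    g = u ∨ g = t * u := by
  have ht : (u : G)⁻¹ * g * t = t * ((u : G)⁻¹ * g) := by
    have h1 : t * (u : G)⁻¹ = (u : G)⁻¹ * t := h.comm _ (inv_mem u.2)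
    calc (u : G)⁻¹ * g * t = (u : G)⁻¹ * (g * t) := by group
      _ = (u : G)⁻¹ * t * g := by rw [hg]; group
      _ = _ := by rw [← h1]; group
  have hc : ∀ a ∈ A, (u : G)⁻¹ * g * a = a * ((u : G)⁻¹ * g) := by
    intro a ha
    have h1 := hφ ⟨a, ha⟩
    rw [hu] at h1
    have h2 : (u : G) * a * (u : G)⁻¹ = g * a * g⁻¹ := h1
    calc (u : G)⁻¹ * g * a = (u : G)⁻¹ * (g * a * g⁻¹) * g := by group
      _ = _ := by rw [← h2]; group
  rcases h.cen _ ht hc with h1 | h1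
  · left; exact (inv_mul_eq_one.1 h1).symm
  · right
    rw [inv_mul_eq_iff_eq_mul] at h1
    rw [h1, h.comm _ u.2]

end amb

end Cfsg.Agent.StdRank2.B2Amb
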