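import Cfsg.Agent.StdRank2.B2CentZ
import Cfsg.Agent.StdRank2.UFour.MoverG
import Cfsg.Agent.Schreier.Basic

/-!
# The centraliser of one element `z₁(0, κ)` in `A`; perfect subgroups of `C(t)`

`cent_one`: `g ∈ A` commuting with `z₁(p)`, `p.w = 0`, `p.c ≠ 0` centralises all `z₁(0,·)`.
`mem_PP_one`: hence is in `⟨U, n_b U n_b⁻¹, C_T(Z)⟩`.
`perf_le`: perfect subgroups of `C(t)` lie in `A` (Schreier property of `A`).
-/

set_option autoImplicit false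
set_option linter.unusedSectionVars false

namespace Cfsg.Agent.StdRank2.B2CentOne

open Subgroup
open Cfsg.Agent.TitsThree.B2Pkg Cfsg.Agent.TitsThree.RankTwoIdentB2
  Cfsg.Agent.TitsThree.CoreB2 Cfsg.Agent.TitsThree.RankTwoIdx Cfsg.Agent.TitsThree.RankTwoRGD
  Cfsg.Agent.TitsThree.StdData
open Cfsg.Agent.StdRank2.OddLift Cfsg.Agent.StdRank2.B2Lift Cfsg.Agent.StdRank2.B2Std
  Cfsg.Agent.StdRank2.B2Torus Cfsg.Agent.StdRank2.B2Act Cfsg.Agent.StdRank2.B2Act.Std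
  Cfsg.Agent.StdRank2.B2Par Cfsg.Agent.StdRank2.B2Par.Std Cfsg.Agent.StdRank2.B2Self
  Cfsg.Agent.StdRank2.B2Amb Cfsg.Agent.StdRank2.B2Rel2 Cfsg.Agent.StdRank2.UFour
  Cfsg.Agent.StdRank2.UEnvW Cfsg.Agent.StdRank2.B2CentZ
open Cfsg.Agent.Schreier.Basic
open scoped commutatorElement Pointwise

universe u

section core

variable {Y : Type u} [Group Y] {m : ℕ} (c : Core m Y)

theorem opp_le {S : Subgroup Y} (hUS : c.U ≤ S) {k : ℕ} (hk : k < m) {h w : Y} (hh : h ∈ c.H)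
    (hw : w ∈ S) (e : w = alt c.nJ c.nI (k + 1) * h) : c.nJ ∈ S := by
  apply c.sJ.mem_of_le (c.sJ.A_le.trans hUS)
  intro a ha
  have h2 : h⁻¹ * ((alt c.nI c.nJ k)⁻¹ * (c.nJ⁻¹ * a * c.nJ) * alt c.nI c.nJ k) * h ∈ S :=
    hUS (c.conj_U hh (c.posJ k hk _ (c.sJ.nA'_inv a ha)))
  rw [alt_succ] at e
  have h3 := S.mul_mem (S.mul_mem hw h2) (S.inv_mem hw)
  have e2 : w * (h⁻¹ * ((alt c.nI c.nJ k)⁻¹ * (c.nJ⁻¹ * a * c.nJ) * alt c.nI c.nJ k) * h) * w⁻¹ = a := by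
    rw [e]; group
  rwa [e2] at h3

/-- a subgroup containing `U` but not `nI` is contained in `U H U ∪ U nJ H U` -/
theorem weyl_or (hm : 1 ≤ m) {S : Subgroup Y} (hSG : S ≤ c.G) (hUS : c.U ≤ S)
    (hI : c.nI ∉ S) {g : Y} (hg : g ∈ S) :
    ∃ u ∈ c.U, ∃ w ∈ S, ∃ u' ∈ c.U, g = u * w * u' ∧ (w ∈ c.H ∨ ∃ h ∈ c.H, w = c.nJ * h) := by
  obtain ⟨b, hb, w, hw, b', hb', e⟩ := c.bruhat hm (hSG hg)
  obtain ⟨u, hu, h1, hh1, rfl⟩ := c.mem_D.1 hb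
  obtain ⟨u2, hu2, h2, hh2, rfl⟩ := c.mem_D.1 hb'
  have hu2' : h2⁻¹ * u2 * h2 ∈ c.U := c.conj_U hh2 hu2
  have e1 : g = u * (h1 * w * h2) * (h2⁻¹ * u2 * h2) := by rw [e]; group
  have hwS : h1 * w * h2 ∈ S := by
    have h3 := S.mul_mem (S.mul_mem (S.inv_mem (hUS hu)) hg) (S.inv_mem (hUS hu2'))
    have e2 : u⁻¹ * g * (h2⁻¹ * u2 * h2)⁻¹ = h1 * w * h2 := by rw [e1]; group
    rwa [e2] at h3
  refine ⟨u, hu, _, hwS, _, hu2', e1, ?_⟩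
  -- the Weyl part
  have key : ∃ k ≤ m, ∃ h ∈ c.H, h1 * w * h2 = alt c.nI c.nJ k * h ∨ h1 * w * h2 = alt c.nJ c.nI k * h := by
    obtain ⟨k, hk, h, hh, e3⟩ := hw
    rcases e3 with rfl | rfl
    · refine ⟨k, hk, (alt c.nI c.nJ k)⁻¹ * h1 * alt c.nI c.nJ k * h * h2,
        mul_mem (mul_mem ((c.alt_H k).1 h1 hh1) hh) hh2, Or.inl ?_⟩
      group
    · refine ⟨k, hk, (alt c.nJ c.nI k)⁻¹ * h1 * alt c.nJ c.nI k * h * h2,
        mul_mem (mul_mem ((c.alt_H k).2 h1 hh1) hh) hh2, Or.inr ?_⟩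
      group
  obtain ⟨k, hk, h, hh, e3⟩ := key
  rcases Nat.eq_zero_or_pos k with rfl | hk0
  · left
    rcases e3 with e3 | e3 <;> rw [e3, alt_zero, one_mul] <;> exact hh
  obtain ⟨k, rfl⟩ := Nat.exists_eq_add_of_le' hk0
  rcases e3 with e3 | e3
  · exact absurd (opp_le c.symm (S := S) hUS (by omega) hh hwS e3) hI
  · have hJ := opp_le c hUS (by omega) hh hwS e3
    rcases Nat.eq_zero_or_pos k with rfl | hk1
    · right
      refine ⟨h, hh, ?_⟩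
      rw [e3]; simp [alt]
    · exfalso
      obtain ⟨k, rfl⟩ := Nat.exists_eq_add_of_le' hk1
      have h3 : c.nJ⁻¹ * (h1 * w * h2) ∈ S := S.mul_mem (S.inv_mem hJ) hwS
      refine hI (opp_le c.symm (S := S) hUS (k := k) (by omega) hh h3 ?_)
      rw [e3, alt_succ c.nJ c.nI (k + 1)]
      change _ = alt c.nI c.nJ (k + 1) * h
      group

end core

section inA

variable {F : Type*} [Field F] {V : Type*} [AddCommGroup V] [Module F V] {D : PQDatum F V}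
variable {A : Type u} [Group A] (S : B2Std.Std D A)
variable [Finite F] [CharP F 2] [Finite D.T] [Finite A]

/-- `g` acts on `z₁(0,·)` as a scalar. -/
def Sc (g : A) (κ : F) : Prop :=
  ∀ p : D.T, p.w = 0 → ∃ q : D.T, q.w = 0 ∧ q.c = κ * p.c ∧ g * S.m.z₁ p * g⁻¹ = S.m.z₁ q

variable {S}

theorem Sc.mul {g g' : A} {κ κ' : F} (h : Sc S g κ) (h' : Sc S g' κ') : Sc S (g * g') (κ * κ') := by
  intro p hp
  obtain ⟨q, hq, hc, e⟩ := h' p hp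
  obtain ⟨r, hr, hc', e'⟩ := h q hq
  refine ⟨r, hr, by rw [hc', hc]; ring, ?_⟩
  rw [← e', ← e]; group

theorem Sc.of_U {u : A} (hu : u ∈ S.U) : Sc S u 1 := fun p hp =>
  ⟨p, hp, (one_mul _).symm, by rw [← z₁_comm_U hp hu, mul_inv_cancel_right]⟩

theorem Sc.of_H (hD : Scal D) {k : A} (hk : k ∈ S.H) : ∃ κ, Sc S k κ := by
  obtain ⟨l, μ, ν, ht⟩ := exists_tact S.rel S.hp₀ hD hk
  refine ⟨l * D.σ l, fun p hp => ?_⟩
  obtain ⟨q, i1, i2, i3⟩ := ht.z₁ p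
  exact ⟨q, by rw [i1, hp, smul_zero], i2, i3⟩

theorem Sc.of_nb (h1 : D.ok 0 1) : Sc S (B2Rel2.nb S h1) 1 := fun p hp =>
  ⟨p, hp, (one_mul _).symm, B2Rel2.nb_z₁ S h1 p⟩

theorem Sc.of_nJ (hD : Scal D) (h1 : D.ok 0 1) : ∃ κ, Sc S (S.m.nII S.p₀) κ := by
  have h5 : S.m.nII S.p₀ * (S.m.nII (o1 h1))⁻¹ ∈ S.H := hII_mem S.hp₀ (o1_ne h1)
  obtain ⟨κ, hκ⟩ := Sc.of_H hD h5
  refine ⟨κ * 1, ?_⟩
  have e : S.m.nII S.p₀ = S.m.nII S.p₀ * (S.m.nII (o1 h1))⁻¹ * B2Rel2.nb S h1 := by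
    change _ = S.m.nII S.p₀ * (S.m.nII (o1 h1))⁻¹ * S.m.nII (o1 h1)
    rw [inv_mul_cancel_right]
  rw [e]
  exact hκ.mul (Sc.of_nb h1)

/-- **An element of `A` commuting with one element of `z₁(0,·)` commutes with all.** -/
theorem cent_one (hD : Scal D) (h1 : D.ok 0 1) {g : A} {p₀ : D.T} (hp₀ : p₀.w = 0) (hc₀ : p₀.c ≠ 0)
    (hg : g * S.m.z₁ p₀ = S.m.z₁ p₀ * g) (p : D.T) (hp : p.w = 0) : g * S.m.z₁ p * g⁻¹ = S.m.z₁ p := by
  let C : Subgroup A := centralizer {S.m.z₁ p₀}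
  have hC : ∀ x, x ∈ C ↔ x * S.m.z₁ p₀ = S.m.z₁ p₀ * x := fun x => mem_centralizer_singleton_iff
  have hUC : S.U ≤ C := fun u hu => (hC u).2 (z₁_comm_U hp₀ hu).symm
  have hI : S.r2.core.nI ∉ C := by
    rw [core_nI]
    intro hn
    have h3 := (hC _).1 hn
    have h4 : S.m.nI * S.m.z₁ p₀ * S.m.nI⁻¹ = S.m.z₁ p₀ := mul_inv_eq_iff_eq_mul.2 h3
    have h5 : S.m.nI * S.m.z₁ p₀ * S.m.nI⁻¹ ∈ S.VJ := by rw [h4]; exact S.z₁_mem_VJ _
    rw [S.rel.nI_z₁, S.z₂_mem_VJ_iff] at h5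
    have h6 := congrArg PQDatum.T.c h5
    rw [D.sc_c, PQDatum.T.one_c, map_neg, map_one] at h6
    exact hc₀ (by linear_combination h6)
  have hU : S.r2.core.U = S.U := S.r2_U
  obtain ⟨u, hu, w, hwC, u', hu', e, hw⟩ := weyl_or S.r2.core (by norm_num) (S := C)
    (by rw [S.core_G]; exact le_top) (by rw [hU]; exact hUC) hI ((hC g).2 hg)
  rw [hU] at hu hu'
  obtain ⟨κ, hκ⟩ : ∃ κ, Sc S w κ := by
    rcases hw with hw | ⟨h, hh, rfl⟩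
    · exact Sc.of_H hD hw
    · obtain ⟨κ, hκ⟩ := Sc.of_H hD (S := S) (k := h) hh
      obtain ⟨κ', hκ'⟩ := Sc.of_nJ (S := S) hD h1
      rw [core_nJ]
      exact ⟨_, hκ'.mul hκ⟩
  have hgκ : Sc S g κ := by
    rw [e]
    have := ((Sc.of_U hu).mul hκ).mul (Sc.of_U hu')
    rwa [one_mul, mul_one] at this
  have hκ1 : κ = 1 := by
    obtain ⟨q, hq, hc, e2⟩ := hgκ p₀ hp₀
    rw [hg, mul_inv_cancel_right] at e2
    have h3 : S.m.z₁ p₀ = S.m.z₁ q → p₀ = q := fun h => S.z₁_injective h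
    rw [← h3 e2] at hc
    exact mul_right_cancel₀ hc₀ (by rw [← hc, one_mul])
  obtain ⟨q, hq, hc, e2⟩ := hgκ p hp
  rw [e2]
  congr 1
  ext
  · rw [hq, hp]
  · rw [hc, hκ1, one_mul]

end inA

section ambient

variable {G : Type u} [Group G] {A : Subgroup G}

/-- **Perfect subgroups of `C(t)` lie in `A`.** -/
theorem perf_le {t : G} (h : Amb A t) (hS : Sch ↥A) {R : Subgroup G} (hR : ⁅R, R⁆ = R)
    (hRt : ∀ g ∈ R, g * t = t * g) : R ≤ A := by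
  have hRN : R ≤ normalizer (A : Set G) := by
    intro x hx
    rw [mem_normalizer_iff]
    intro a
    refine ⟨h.nor x (hRt x hx) a, fun ha => ?_⟩
    have h3 := h.nor x⁻¹ (hRt _ (inv_mem hx)) _ ha
    have e : x⁻¹ * (x * a * x⁻¹) * x⁻¹⁻¹ = a := by group
    rwa [e] at h3
  have hinner : ∀ x ∈ R, ∃ a ∈ A, a⁻¹ * x = 1 ∨ a⁻¹ * x = t := by
    let f : ↥(normalizer (A : Set G)) →* MulAut ↥A := A.normalizerMonoidHom
    have h1 : ⁅(R.subgroupOf (normalizer (A : Set G))).map f, (R.subgroupOf (normalizer (A : Set G))).map f⁆ =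
        (R.subgroupOf (normalizer (A : Set G))).map f := by
      apply map_perfect
      apply Subgroup.map_injective (normalizer (A : Set G)).subtype_injective
      rw [Subgroup.map_commutator, subgroupOf_map_subtype, inf_eq_left.mpr hRN, hR]
    have h2 := hS _ h1
    intro x hx
    obtain ⟨a, ha⟩ := h2 ⟨⟨x, hRN hx⟩, mem_subgroupOf.mpr hx, rfl⟩
    refine ⟨a, a.2, h.cen _ ?_ ?_⟩
    · have h3 : (a : G)⁻¹ * t = t * (a : G)⁻¹ := (h.comm _ (inv_mem a.2)).symm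
      rw [mul_assoc, hRt x hx, ← mul_assoc, h3, mul_assoc]
    intro b hb
    have h3 := congrArg (fun φ : MulAut ↥A => ((φ ⟨b, hb⟩ : A) : G)) ha
    have h4 : (a : G) * b * (a : G)⁻¹ = x * b * x⁻¹ := h3
    calc (a : G)⁻¹ * x * b = (a : G)⁻¹ * (x * b * x⁻¹) * x := by group
      _ = (a : G)⁻¹ * (a * b * (a : G)⁻¹) * x := by rw [h4]
      _ = b * ((a : G)⁻¹ * x) := by group
  rw [← hR, commutator_le]
  intro x hx y hy
  obtain ⟨a, ha, h1⟩ := hinner x hx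
  obtain ⟨b, hb, h2⟩ := hinner y hy
  have hta := h.comm
  have key : ∀ x a : G, a⁻¹ * x = 1 ∨ a⁻¹ * x = t → x = a ∨ x = a * t := by
    rintro x a (h | h)
    · left; rw [← mul_one a, ← h, mul_inv_cancel_left]
    · right; rw [← h, mul_inv_cancel_left]
  have hti : t⁻¹ = t := inv_eq_of_mul_eq_one_left h.tt
  have hb' : t * b * t⁻¹ = b := by rw [hta b hb, mul_inv_cancel_right]
  have ha' : t * a⁻¹ * t⁻¹ = a⁻¹ := by rw [hta _ (inv_mem ha), mul_inv_cancel_right]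
  have hab : ⁅x, y⁆ = ⁅a, b⁆ := by
    rw [commutatorElement_def, commutatorElement_def]
    rcases key x a h1 with e1 | e1 <;> rcases key y b h2 with e2 | e2 <;> rw [e1, e2]
    · calc a * (b * t) * a⁻¹ * (b * t)⁻¹ = a * b * (t * a⁻¹ * t⁻¹) * b⁻¹ := by group
        _ = _ := by rw [ha']
    · calc a * t * b * (a * t)⁻¹ * b⁻¹ = a * (t * b * t⁻¹) * a⁻¹ * b⁻¹ := by group
        _ = _ := by rw [hb']
    · calc a * t * (b * t) * (a * t)⁻¹ * (b * t)⁻¹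
          = a * (t * b * t⁻¹) * (t * a⁻¹ * t⁻¹) * b⁻¹ := by group
        _ = _ := by rw [ha', hb']
  rw [hab, commutatorElement_def]
  exact mul_mem (mul_mem (mul_mem ha hb) (inv_mem ha)) (inv_mem hb)

variable {F : Type*} [Field F] {V : Type*} [AddCommGroup V] [Module F V] {D : PQDatum F V}
variable [Finite F] [CharP F 2] [Finite D.T]
variable [Finite A] {S : B2Std.Std D ↥A} {B : Bar F}
variable {t : G} (h : Hyp S B t) {lam : B.K} (h0 : lam ≠ 0) (h1 : lam ≠ 1)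

/-- **`C_A(x_z(c)) ≤ ⟨U, n_b U n_b⁻¹, C_T(Z)⟩`, `c ≠ 0`.** -/
theorem mem_PP_one {g : G} (hg : g ∈ A) {c : B.K} (hc : c ≠ 0)
    (hz : g * (wenv S h h0 h1).xz c = (wenv S h h0 h1).xz c * g) :
    g ∈ PP (wenv S h h0 h1) ((B2Rel2.nb S (h.hB.ok0 1) : ↥A) : G) := by
  apply mem_PP_of h h0 h1 (g := ⟨g, hg⟩)
  intro x
  have h2 : (⟨g, hg⟩ : ↥A) * S.m.z₁ (tk h.hB c) = S.m.z₁ (tk h.hB c) * ⟨g, hg⟩ := Subtype.ext hz
  have h3 := cent_one h.hD (h.hB.ok0 1) (tk_w h.hB c) (fun e => hc (Subtype.ext e)) h2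
    (tk h.hB x) (tk_w h.hB x)
  have h4 := congrArg Subtype.val h3
  exact mul_inv_eq_iff_eq_mul.1 h4

end ambient

end Cfsg.Agent.StdRank2.B2CentOne
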