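import Cfsg.Agent.StdRank2.UEnvW

/-!
# The environment `UFour.Env` for `U₄(q)`, `q ≥ 4` even, from the `B₂` package

`env4`: from `S : Std (stdU0 F B.s B.invol) A`, `Z(A) = 1`, `Amb A t`, and a parameter `lam ∈ K`, `lam ≠ 0, 1`.
-/

set_option autoImplicit false
set_option linter.unusedSectionVars false
set_option linter.unusedSimpArgs false

namespace Cfsg.Agent.StdRank2.UEnv4

open Subgroup
open Cfsg.Agent.TitsThree.B2Pkg Cfsg.Agent.TitsThree.RankTwoIdentB2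
  Cfsg.Agent.TitsThree.CoreB2 Cfsg.Agent.TitsThree.RankTwoIdx Cfsg.Agent.TitsThree.RankTwoRGD
  Cfsg.Agent.TitsThree.StdData
open Cfsg.Agent.StdRank2.OddLift Cfsg.Agent.StdRank2.B2Lift Cfsg.Agent.StdRank2.B2Std
  Cfsg.Agent.StdRank2.B2Torus Cfsg.Agent.StdRank2.B2Act Cfsg.Agent.StdRank2.B2Act.Std
  Cfsg.Agent.StdRank2.B2Par Cfsg.Agent.StdRank2.B2Par.Std Cfsg.Agent.StdRank2.B2Self
  Cfsg.Agent.StdRank2.B2Amb Cfsg.Agent.StdRank2.UFour Cfsg.Agent.StdRank2.UEnvW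
open scoped commutatorElement Pointwise

universe u

variable {F : Type*} [Field F]

theorem ud_U0 [CharP F 2] (B : Bar F) : UD B (stdU0 F B.s B.invol) where
  σ _ := rfl
  ε := rfl
  ok0 k := by
    change (k : F) + B.s k = 0
    rw [B.s_K]; exact CharTwo.add_self_eq_zero _
  nondeg _ _ := rfl

instance [Finite F] (σ : F ≃+* F) (hσ : ∀ x, σ (σ x) = x) : Finite (stdU0 F σ hσ).T :=
  Finite.of_injective (fun p => p.c) (fun p q h => by
    ext
    exact h)

theorem hT_U0 {A : Type*} [Group A] {σ : F ≃+* F} {hσ : ∀ x, σ (σ x) = x} (S : Std (stdU0 F σ hσ) A) :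
    ∃ g ∈ S.H, ∃ β : F, β ≠ 1 ∧ ActT g S.m.z₂ β 1 :=
  ⟨1, one_mem _, 0, zero_ne_one, fun p => ⟨p, rfl, by rw [one_mul], by simp⟩⟩

variable [Finite F] [CharP F 2] {B : Bar F}
variable {G : Type u} [Group G] {A : Subgroup G} [Finite A] (S : Std (stdU0 F B.s B.invol) ↥A)

theorem hyp_U0 (hZ : Subgroup.center ↥A = ⊥) {t : G} (h : Amb A t) : Hyp S B t where
  hB := ud_U0 B
  hD := scal_U0 _ _
  hZ := hZ
  amb := h
  hT := hT_U0 S

/-- **The environment of type `U₄`.** -/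
noncomputable def env4 {t : G} (h : Hyp S B t) {lam : B.K} (h0 : lam ≠ 0) (h1 : lam ≠ 1) :
    Env B G where
  toWEnv := wenv S h h0 h1
  nb := (S.m.nII (tk h.hB 1) : G)
  t_nb := h.amb.comm _ (S.m.nII _).2
  nb_a x := by
    have := S.rel.nII_x (tk h.hB 1) (one_tk h.hB) x
    have e : (stdU0 F B.s B.invol).ε * (stdU0 F B.s B.invol).σ (tk h.hB 1).c * x = x := by
      change (1 : F) * B.s 1 * x = x
      rw [map_one, one_mul, one_mul]
    rw [e] at this
    exact congrArg A.subtype this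
  nb_c x := by
    have := S.rel.nII_y (tk h.hB 1) (one_tk h.hB) x
    have e : (tk h.hB 1).c⁻¹ * x = x := by
      change (1 : F)⁻¹ * x = x
      rw [inv_one, one_mul]
    rw [e] at this
    exact congrArg A.subtype this
  nb_z x := congrArg A.subtype (S.rel.nII_z₁ (tk h.hB 1) (one_tk h.hB) (tk h.hB x))
  nb_sq := congrArg A.subtype (UEnvW.nb_sq S h.hB h.hZ)
  nb_T g := conj_mem_map_iff (nII_H S (one_tk h.hB)) g
  Q_le := by
    rintro _ ⟨v, hv, rfl⟩
    obtain ⟨p, b, q, rfl⟩ := mem_VI_iff.1 hv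
    obtain ⟨k, rfl⟩ := exists_tk h.hB (p := p) rfl
    obtain ⟨l, rfl⟩ := exists_tk h.hB (p := q) rfl
    refine ⟨k, b, l, ?_⟩
    have e : B2Std.nf S.m 0 (tk h.hB k) b (tk h.hB l) =
        S.m.z₁ (tk h.hB k) * S.m.y b * S.m.z₂ (tk h.hB l) := by
      unfold B2Std.nf
      rw [show S.m.x 0 = 1 from add_zero' S.rel.x_add, one_mul]
    exact congrArg A.subtype e
  cent_Q c hc hz ha hcc := by
    obtain ⟨φ, hφ⟩ := h.amb.exists_cj hc
    have kz : ∀ p : (stdU0 F B.s B.invol).T, φ (S.m.z₁ p) = S.m.z₁ p := by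
      intro p
      obtain ⟨k, rfl⟩ := exists_tk h.hB (p := p) rfl
      apply Subtype.ext
      rw [hφ]
      exact mul_inv_eq_iff_eq_mul.2 (hz k)
    obtain ⟨u, hu, rfl⟩ := inner_of_VJ' (lam_U h.hB h0 h1) h.hD h.hT h.hZ (φ := φ)
      (fun a => by
        obtain ⟨z, hz'⟩ := ha a
        refine ⟨tk h.hB z, rfl, Subtype.ext ?_⟩
        rw [hφ]
        exact hz'.trans (congrArg A.subtype (S.rel.x_z₁ a (tk h.hB z)).symm.eq))
      (fun a => by
        obtain ⟨z, hz'⟩ := hcc a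
        refine ⟨tk h.hB z, rfl, Subtype.ext ?_⟩
        rw [hφ]
        exact hz'.trans (congrArg A.subtype (S.rel.y_z₁ a (tk h.hB z)).symm.eq))
      (fun p => ⟨1, rfl, by rw [kz, mul_one' S.rel.z₁_mul, mul_one]⟩)
      (fun p _ => kz p)
    obtain ⟨a, p, b, rfl⟩ := mem_VJ_iff.1 hu
    obtain ⟨k, hk⟩ := exists_tk h.hB (p := p * (stdU0 F B.s B.invol).tr a b) rfl
    have e : B2Std.nf S.m a p b 1 = S.m.z₁ (tk h.hB k) * S.m.y b * S.m.x a := by
      rw [← hk, S.rel.z₁_mul, ← S.rel.x_y, commutatorElement_def]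
      unfold B2Std.nf
      rw [mul_one' S.rel.z₂_mul, mul_one, (S.rel.x_z₁ a p).eq]
      group
    refine ⟨k, b, a, ?_⟩
    rcases h.amb.eq_of hc hφ rfl with h2 | h2
    · left; rw [h2]; exact congrArg A.subtype e
    · right; rw [h2]; exact congrArg (fun v : ↥A => t * (v : G)) e
  cent_U c hc hz hcc ha hb := by
    obtain ⟨φ, hφ⟩ := h.amb.exists_cj hc
    have k2 : ∀ q, PZ S (φ (S.m.z₂ q)) q := by
      intro q
      obtain ⟨k, rfl⟩ := exists_tk h.hB (p := q) rfl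
      obtain ⟨y, z, e⟩ := hb k
      have e' : φ (S.m.z₂ (tk h.hB k)) = S.m.z₁ (tk h.hB z) * S.m.y y * S.m.z₂ (tk h.hB k) :=
        Subtype.ext ((hφ _).trans e)
      rw [e']
      have := ((PZ.z₁ (S := S) (tk h.hB z)).mul (PZ.y y)).mul (PZ.z₂ (tk h.hB k))
      rwa [one_mul, one_mul] at this
    have h3 : Triv S φ := by
      refine ⟨fun a => ?_, fun q => ⟨1, rfl, by rw [mul_one]; exact k2 q⟩, fun q _ => k2 q⟩
      obtain ⟨y, z, e⟩ := ha a
      have e' : φ (S.m.x a) = S.m.z₁ (tk h.hB z) * S.m.y y * S.m.x a :=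
        Subtype.ext ((hφ _).trans e)
      rw [e']
      have := ((PX.z₁ (S := S) (tk h.hB z)).mul (PX.y y)).mul (PX.x a)
      rwa [add_zero, zero_add] at this
    obtain ⟨u, hu, rfl⟩ := inner_of_triv (lam_U h.hB h0 h1) h.hD h.hT h.hZ h3
    obtain ⟨a, hu'⟩ := exists_PX hu
    obtain ⟨v, hv, rfl⟩ := PX.decomp hu'
    have hv' := S.UVI _ (x_mem a) v hv
    obtain ⟨p, b, q, hpq⟩ := mem_VI_iff.1 hv'
    obtain ⟨k, rfl⟩ := exists_tk h.hB (p := p) rfl
    obtain ⟨l, rfl⟩ := exists_tk h.hB (p := q) rfl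
    have e : S.m.x a * v = S.m.z₁ (tk h.hB k) * S.m.y b * S.m.z₂ (tk h.hB l) * S.m.x a := by
      have e1 : S.m.x a * v = (S.m.x a * v * (S.m.x a)⁻¹) * S.m.x a := by group
      rw [e1, hpq]
      unfold B2Std.nf
      rw [show S.m.x 0 = 1 from add_zero' S.rel.x_add, one_mul]
    refine ⟨k, b, l, a, ?_⟩
    rcases h.amb.eq_of hc hφ rfl with h2 | h2
    · left; rw [h2]; exact congrArg A.subtype e
    · right; rw [h2]; exact congrArg (fun v : ↥A => t * (v : G)) e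

end Cfsg.Agent.StdRank2.UEnv4
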