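import Cfsg.Agent.StdRank2.B2Self

/-!
# Relations between the Weyl elements of a `B₂` package, `ε = 1`, characteristic two, `Z(A) = 1`

`nb := n_II(0,1)`: `nI² = nb² = 1`, `(nI x(1))³ = 1`, `(nb z₂(0,1))³ = 1`, `nI nb nI nb = nb nI nb nI`, and the
conjugates of torus elements.
-/

set_option autoImplicit false
set_option linter.unusedSectionVars false
set_option linter.unusedSimpArgs false

namespace Cfsg.Agent.StdRank2.B2Rel2

open Subgroup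
open Cfsg.Agent.TitsThree.B2Pkg Cfsg.Agent.TitsThree.RankTwoIdentB2
  Cfsg.Agent.TitsThree.CoreB2 Cfsg.Agent.TitsThree.RankTwoIdx Cfsg.Agent.TitsThree.RankTwoRGD
  Cfsg.Agent.TitsThree.StdData
open Cfsg.Agent.StdRank2.OddLift Cfsg.Agent.StdRank2.B2Lift Cfsg.Agent.StdRank2.B2Std
  Cfsg.Agent.StdRank2.B2Torus Cfsg.Agent.StdRank2.B2Act Cfsg.Agent.StdRank2.B2Act.Std
  Cfsg.Agent.StdRank2.B2Par Cfsg.Agent.StdRank2.B2Par.Std Cfsg.Agent.StdRank2.B2Self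
open scoped commutatorElement Pointwise

universe u

variable {F : Type*} [Field F] {V : Type*} [AddCommGroup V] [Module F V] {D : PQDatum F V}
variable {A : Type u} [Group A] (S : B2Std.Std D A)

/-- Two elements with the same action on the simple root elements are equal when `Z(A) = 1`. -/
theorem eq_of_act (hZ : Subgroup.center A = ⊥) {g k : A}
    (h1 : ∀ a, g * S.m.x a * g⁻¹ = k * S.m.x a * k⁻¹)
    (h2 : ∀ a, g * S.m.x' a * g⁻¹ = k * S.m.x' a * k⁻¹)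
    (h3 : ∀ p, g * S.m.z₂ p * g⁻¹ = k * S.m.z₂ p * k⁻¹)
    (h4 : ∀ p, g * S.m.z₂' p * g⁻¹ = k * S.m.z₂' p * k⁻¹) : g = k := by
  have key : ∀ y : A, g * y * g⁻¹ = k * y * k⁻¹ → (k⁻¹ * g) * y * (k⁻¹ * g)⁻¹ = y := by
    intro y hy
    have : (k⁻¹ * g) * y * (k⁻¹ * g)⁻¹ = k⁻¹ * (g * y * g⁻¹) * k := by group
    rw [this, hy]; group
  have h5 : k⁻¹ * g ∈ Subgroup.center A :=
    B2Torus.Std.mem_center S (fun a => key _ (h1 a)) (fun a => key _ (h2 a))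
      (fun p => key _ (h3 p)) (fun p => key _ (h4 p))
  rw [hZ, mem_bot, inv_mul_eq_one] at h5
  exact h5.symm

theorem cube {u v n : A} (hn : n * n = 1) (h1 : n * u * n⁻¹ = v) (h2 : n * v * n⁻¹ = u)
    (h3 : n = v * u * v) : n * u * n * u * n * u = 1 := by
  have hi : n⁻¹ = n := inv_eq_of_mul_eq_one_right hn
  have h4 : n = u * v * u := by
    calc n = n * n * n⁻¹ := by group
      _ = n * (v * u * v) * n⁻¹ := by rw [← h3]
      _ = (n * v * n⁻¹) * (n * u * n⁻¹) * (n * v * n⁻¹) := by group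
      _ = _ := by rw [h1, h2]
  rw [hi] at h1
  calc n * u * n * u * n * u = (n * u * n) * u * n * u := by group
    _ = v * u * n * u := by rw [h1]
    _ = v * u * (v * u * v) * u := by rw [← h3]
    _ = (v * u * v) * (u * v * u) := by group
    _ = n * n := by rw [← h3, ← h4]
    _ = 1 := hn

variable [CharP F 2]

theorem neg_one_eq : (-1 : F) = 1 := CharTwo.neg_eq 1

section nI

theorem nI_x (a : F) : S.m.nI * S.m.x a * S.m.nI⁻¹ = S.m.x' a := by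
  rw [S.rel.nI_x, CharTwo.neg_eq]

theorem nI_x' (a : F) : S.m.nI * S.m.x' a * S.m.nI⁻¹ = S.m.x a := by
  rw [S.rel.nI_x', CharTwo.neg_eq]

theorem nI_z₁ (p : D.T) : S.m.nI * S.m.z₁ p * S.m.nI⁻¹ = S.m.z₂ p := by
  rw [S.rel.nI_z₁, neg_one_eq, D.sc_one]

theorem nI_z₁' (p : D.T) : S.m.nI * S.m.z₁' p * S.m.nI⁻¹ = S.m.z₂' p := by
  rw [S.rel.nI_z₁', neg_one_eq, D.sc_one]

theorem nI_sq (hZ : Subgroup.center A = ⊥) : S.m.nI * S.m.nI = 1 := by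
  have key : ∀ {a b c : A}, S.m.nI * a * S.m.nI⁻¹ = b → S.m.nI * b * S.m.nI⁻¹ = c →
      (S.m.nI * S.m.nI) * a * (S.m.nI * S.m.nI)⁻¹ = c := by
    intro a b c h1 h2
    rw [← h2, ← h1]; group
  have h := B2Torus.Std.mem_center S (g := S.m.nI * S.m.nI)
    (fun a => key (nI_x S a) (nI_x' S _)) (fun a => key (nI_x' S a) (nI_x S _))
    (fun p => key (S.rel.nI_z₂ p) (nI_z₁ S _)) (fun p => key (S.rel.nI_z₂' p) (nI_z₁' S _))
  rwa [hZ, mem_bot] at h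

theorem nI_cube (hZ : Subgroup.center A = ⊥) :
    S.m.nI * S.m.x 1 * S.m.nI * S.m.x 1 * S.m.nI * S.m.x 1 = 1 := by
  have h3 : S.m.nI = S.m.x' 1 * S.m.x 1 * S.m.x' 1 := by
    calc S.m.nI = S.m.nI * S.m.nI * S.m.nI⁻¹ := by group
      _ = S.m.nI * (S.m.x 1 * S.m.x' (-1) * S.m.x 1) * S.m.nI⁻¹ := rfl
      _ = (S.m.nI * S.m.x 1 * S.m.nI⁻¹) * (S.m.nI * S.m.x' (-1) * S.m.nI⁻¹) *
          (S.m.nI * S.m.x 1 * S.m.nI⁻¹) := by group
      _ = _ := by rw [nI_x, nI_x', neg_one_eq]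
  exact cube (nI_sq S hZ) (nI_x S 1) (nI_x' S 1) h3

/-- conjugation of a torus element by `n_I` -/
theorem conj_nI (hε : D.ε = 1) {g : A} {l μ ν : F} (h : TAct S.m g l μ ν) :
    TAct S.m (S.m.nI * g * S.m.nI⁻¹) μ l ν := by
  have hσ' : ∀ x, D.σ (D.σ x) = x := D.σσ
  have key : ∀ {a b c d : A}, S.m.nI * b * S.m.nI⁻¹ = a → g * b * g⁻¹ = c → S.m.nI * c * S.m.nI⁻¹ = d →
      (S.m.nI * g * S.m.nI⁻¹) * a * (S.m.nI * g * S.m.nI⁻¹)⁻¹ = d := by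
    intro a b c d h1 h2 h3
    rw [← h1, ← h3, ← h2]; group
  have ky : ∀ b, S.m.nI * S.m.y (D.σ b) * S.m.nI⁻¹ = S.m.y b := by
    intro b
    rw [S.rel.nI_y, hε, one_mul, D.σσ]
  have ky' : ∀ b, S.m.nI * S.m.y' (D.σ b) * S.m.nI⁻¹ = S.m.y' b := by
    intro b
    rw [S.rel.nI_y', hε, inv_one, one_mul, D.σσ]
  exact
  { l0 := h.μ0
    μ0 := h.l0
    ν0 := h.ν0
    x := congrF (fun a => key (nI_x' S a) (h.x' a) (nI_x' S _)) (by ring)
    x' := congrF (fun a => key (nI_x S a) (h.x a) (nI_x S _)) (by ring)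
    y := congrF (α := μ * D.σ l) (fun a => by
      have := key (ky a) (h.y (D.σ a)) (d := S.m.y (μ * D.σ l * a)) (by
        rw [S.rel.nI_y, hε, one_mul, map_mul, map_mul, D.σσ, D.σσ]; congr 1; ring)
      exact this) rfl
    y' := congrF (α := l⁻¹ * (D.σ μ)⁻¹) (fun a => by
      have := key (ky' a) (h.y' (D.σ a)) (d := S.m.y' (l⁻¹ * (D.σ μ)⁻¹ * a)) (by
        rw [S.rel.nI_y', hε, inv_one, one_mul, map_mul, map_mul, map_inv₀, map_inv₀, D.σσ, D.σσ]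
        congr 1; ring)
      exact this) rfl
    z₁ := fun p => by
      obtain ⟨q, h1, h2, h3⟩ := h.z₂ p
      exact ⟨q, h1, h2, key (S.rel.nI_z₂ p) h3 (S.rel.nI_z₂ q)⟩
    z₂ := fun p => by
      obtain ⟨q, h1, h2, h3⟩ := h.z₁ p
      exact ⟨q, h1, h2, key (nI_z₁ S p) h3 (nI_z₁ S q)⟩
    z₁' := fun p => by
      obtain ⟨q, h1, h2, h3⟩ := h.z₂' p
      exact ⟨q, h1, h2, key (S.rel.nI_z₂' p) h3 (S.rel.nI_z₂' q)⟩
    z₂' := fun p => by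
      obtain ⟨q, h1, h2, h3⟩ := h.z₁' p
      exact ⟨q, h1, h2, key (nI_z₁' S p) h3 (nI_z₁' S q)⟩ }

end nI

section nb

variable (hε : D.ε = 1) (h1 : D.ok 0 1)

/-- the parameter `(0, 1)` -/
def o1 (h1 : D.ok 0 1) : D.T := ⟨0, 1, h1⟩

/-- the Weyl element `n_II(0, 1)` -/
def nb (h1 : D.ok 0 1) : A := S.m.nII (o1 h1)

omit [CharP F 2] in
theorem o1_ne : (o1 h1).c ≠ 0 := one_ne_zero

omit [CharP F 2] in
theorem refl_o1 (q : D.T) : D.refl (o1 h1) (o1_ne h1) q = q := by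
  ext
  · rw [D.refl_w]
    change q.w + _ • (0 : V) = _
    rw [smul_zero, add_zero]
  · rfl

theorem nb_def : nb S h1 = S.m.z₂' (o1 h1) * S.m.z₂ (o1 h1) * S.m.z₂' (o1 h1) := by
  unfold nb B2Maps.nII
  have e1 : -(D.σ (o1 h1).c)⁻¹ = 1 := by
    change -(D.σ 1)⁻¹ = 1
    rw [map_one, inv_one, neg_one_eq]
  have e2 : -(D.ε * (o1 h1).c⁻¹) = 1 ∨ True := Or.inr trivial
  have e3 : D.sc (-(D.ε * (o1 h1).c⁻¹)) (o1 h1) = o1 h1 := by
    ext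
    · rw [D.sc_w]
      change _ • (0 : V) = 0
      rw [smul_zero]
    · rw [D.sc_c]
      change -(D.ε * 1⁻¹) * D.σ (-(D.ε * 1⁻¹)) * 1 = 1
      rw [map_neg, inv_one, mul_one, mul_one, neg_mul_neg, D.ε_mul]
  rw [e1, e3, D.sc_one]

include hε

theorem nb_x (a : F) : nb S h1 * S.m.x a * (nb S h1)⁻¹ = S.m.y a := by
  have := S.rel.nII_x (o1 h1) (o1_ne h1) a
  have e : D.ε * D.σ (o1 h1).c * a = a := by
    change D.ε * D.σ 1 * a = a
    rw [hε, map_one, one_mul, one_mul]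
  rw [e] at this
  exact this

omit hε in
theorem nb_y (a : F) : nb S h1 * S.m.y a * (nb S h1)⁻¹ = S.m.x a := by
  have := S.rel.nII_y (o1 h1) (o1_ne h1) a
  have e : (o1 h1).c⁻¹ * a = a := by
    change (1 : F)⁻¹ * a = a
    rw [inv_one, one_mul]
  rw [e] at this
  exact this

omit hε in
theorem nb_x' (a : F) : nb S h1 * S.m.x' a * (nb S h1)⁻¹ = S.m.y' (D.σ a) := by
  have := S.rel.nII_x' (o1 h1) (o1_ne h1) a
  have e : -((o1 h1).c⁻¹ * D.σ a) = D.σ a := by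
    change -((1 : F)⁻¹ * D.σ a) = D.σ a
    rw [inv_one, one_mul, CharTwo.neg_eq]
  rw [e] at this
  exact this

theorem nb_y' (a : F) : nb S h1 * S.m.y' a * (nb S h1)⁻¹ = S.m.x' (D.σ a) := by
  have := S.rel.nII_y' (o1 h1) (o1_ne h1) a
  have e : -(D.ε⁻¹ * (o1 h1).c * D.σ a) = D.σ a := by
    change -(D.ε⁻¹ * 1 * D.σ a) = D.σ a
    rw [hε, inv_one, one_mul, one_mul, CharTwo.neg_eq]
  rw [e] at this
  exact this

omit hε [CharP F 2] in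
theorem nb_z₁ (q : D.T) : nb S h1 * S.m.z₁ q * (nb S h1)⁻¹ = S.m.z₁ q := by
  have := S.rel.nII_z₁ (o1 h1) (o1_ne h1) q
  rwa [refl_o1] at this

omit hε [CharP F 2] in
theorem nb_z₁' (q : D.T) : nb S h1 * S.m.z₁' q * (nb S h1)⁻¹ = S.m.z₁' q := by
  have := S.rel.nII_z₁' (o1 h1) (o1_ne h1) q
  rwa [refl_o1] at this

omit hε [CharP F 2] in
theorem nb_z₂ (q : D.T) : nb S h1 * S.m.z₂ q * (nb S h1)⁻¹ = S.m.z₂' q := by
  have := S.rel.nII_z₂ (o1 h1) (o1_ne h1) q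
  have e : (D.σ (o1 h1).c)⁻¹ = 1 := by
    change (D.σ 1)⁻¹ = 1
    rw [map_one, inv_one]
  rw [refl_o1, e, D.sc_one] at this
  exact this

omit [CharP F 2] in
theorem nb_z₂' (q : D.T) : nb S h1 * S.m.z₂' q * (nb S h1)⁻¹ = S.m.z₂ q := by
  have := S.rel.nII_z₂' (o1 h1) (o1_ne h1) q
  have e : D.ε⁻¹ * (o1 h1).c = 1 := by
    change D.ε⁻¹ * 1 = 1
    rw [hε, inv_one, mul_one]
  rw [refl_o1, e, D.sc_one] at this
  exact this

theorem nb_sq (hZ : Subgroup.center A = ⊥) : nb S h1 * nb S h1 = 1 := by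
  have key : ∀ {a b c : A}, nb S h1 * a * (nb S h1)⁻¹ = b → nb S h1 * b * (nb S h1)⁻¹ = c →
      (nb S h1 * nb S h1) * a * (nb S h1 * nb S h1)⁻¹ = c := by
    intro a b c h1 h2
    rw [← h2, ← h1]; group
  have h := B2Torus.Std.mem_center S (g := nb S h1 * nb S h1)
    (fun a => key (nb_x S hε h1 a) (nb_y S h1 _))
    (fun a => (key (nb_x' S h1 a) (nb_y' S hε h1 _)).trans (by rw [D.σσ]))
    (fun p => key (nb_z₂ S h1 p) (nb_z₂' S hε h1 _))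
    (fun p => key (nb_z₂' S hε h1 p) (nb_z₂ S h1 _))
  rwa [hZ, mem_bot] at h

theorem nb_cube (hZ : Subgroup.center A = ⊥) :
    nb S h1 * S.m.z₂ (o1 h1) * nb S h1 * S.m.z₂ (o1 h1) * nb S h1 * S.m.z₂ (o1 h1) = 1 :=
  cube (nb_sq S hε h1 hZ) (nb_z₂ S h1 _) (nb_z₂' S hε h1 _) (nb_def S h1)

theorem braid (hZ : Subgroup.center A = ⊥) :
    S.m.nI * nb S h1 * S.m.nI * nb S h1 = nb S h1 * S.m.nI * nb S h1 * S.m.nI := by
  have key : ∀ {n1 n2 n3 n4 a b c d e : A}, n4 * a * n4⁻¹ = b → n3 * b * n3⁻¹ = c →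
      n2 * c * n2⁻¹ = d → n1 * d * n1⁻¹ = e →
      (n1 * n2 * n3 * n4) * a * (n1 * n2 * n3 * n4)⁻¹ = e := by
    intro n1 n2 n3 n4 a b c d e i1 i2 i3 i4
    rw [← i4, ← i3, ← i2, ← i1]; group
  have ky : ∀ b, S.m.nI * S.m.y b * S.m.nI⁻¹ = S.m.y (D.σ b) := by
    intro b
    rw [S.rel.nI_y, hε, one_mul]
  have ky' : ∀ b, S.m.nI * S.m.y' b * S.m.nI⁻¹ = S.m.y' (D.σ b) := by
    intro b
    rw [S.rel.nI_y', hε, inv_one, one_mul]
  apply eq_of_act S hZ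
  · intro a
    rw [key (nb_x S hε h1 a) (ky _) (nb_y S h1 _) (nI_x S _),
      key (nI_x S a) (nb_x' S h1 _) (ky' _) (nb_y' S hε h1 _), D.σσ]
  · intro a
    rw [key (nb_x' S h1 a) (ky' _) (nb_y' S hε h1 _) (nI_x' S _),
      key (nI_x' S a) (nb_x S hε h1 _) (ky _) (nb_y S h1 _), D.σσ]
  · intro p
    rw [key (nb_z₂ S h1 p) (S.rel.nI_z₂' _) (nb_z₁' S h1 _) (nI_z₁' S _),
      key (S.rel.nI_z₂ p) (nb_z₁ S h1 _) (nI_z₁ S _) (nb_z₂ S h1 _)]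
  · intro p
    rw [key (nb_z₂' S hε h1 p) (S.rel.nI_z₂ _) (nb_z₁ S h1 _) (nI_z₁ S _),
      key (S.rel.nI_z₂' p) (nb_z₁' S h1 _) (nI_z₁' S _) (nb_z₂' S hε h1 _)]

/-- conjugation of a torus element by `nb` -/
theorem conj_nb {g : A} {l μ ν : F} (h : TAct S.m g l μ ν) :
    TAct S.m (nb S h1 * g * (nb S h1)⁻¹) l (D.σ μ)⁻¹ ν := by
  have hμ := h.μ0
  have hσμ := D.σ_ne hμ
  have key : ∀ {a b c d : A}, nb S h1 * b * (nb S h1)⁻¹ = a → g * b * g⁻¹ = c →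
      nb S h1 * c * (nb S h1)⁻¹ = d →
      (nb S h1 * g * (nb S h1)⁻¹) * a * (nb S h1 * g * (nb S h1)⁻¹)⁻¹ = d := by
    intro a b c d h1 h2 h3
    rw [← h1, ← h3, ← h2]; group
  have kx : ∀ b, nb S h1 * S.m.y' (D.σ b) * (nb S h1)⁻¹ = S.m.x' b := by
    intro b
    rw [nb_y' S hε, D.σσ]
  have ky : ∀ b, nb S h1 * S.m.x' (D.σ b) * (nb S h1)⁻¹ = S.m.y' b := by
    intro b
    rw [nb_x' S, D.σσ]
  exact
  { l0 := h.l0
    μ0 := inv_ne_zero hσμ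
    ν0 := h.ν0
    x := congrF (fun a => key (nb_y S h1 a) (h.y a) (nb_y S h1 _)) (by rw [inv_inv])
    x' := congrF (α := l⁻¹ * (D.σ μ)⁻¹) (fun a => by
      have := key (kx a) (h.y' (D.σ a)) (d := S.m.x' (l⁻¹ * (D.σ μ)⁻¹ * a)) (by
        rw [← kx, map_mul, map_mul, map_inv₀, map_inv₀, D.σσ]; congr 3; ring)
      exact this) rfl
    y := congrF (fun a => key (nb_x S hε h1 a) (h.x a) (nb_x S hε h1 _)) (by
      rw [map_inv₀, D.σσ])
    y' := congrF (α := D.σ μ * (D.σ l)⁻¹) (fun a => by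
      have := key (ky a) (h.x' (D.σ a)) (d := S.m.y' (D.σ μ * (D.σ l)⁻¹ * a)) (by
        rw [← ky, map_mul, map_mul, map_inv₀, D.σσ, D.σσ]; congr 3; ring)
      exact this) (by rw [inv_inv])
    z₁ := fun p => by
      obtain ⟨q, h2, h3, h4⟩ := h.z₁ p
      exact ⟨q, h2, h3, key (nb_z₁ S h1 p) h4 (nb_z₁ S h1 q)⟩
    z₂ := fun p => by
      obtain ⟨q, h2, h3, h4⟩ := h.z₂' p
      refine ⟨q, ?_, ?_, key (nb_z₂' S hε h1 p) h4 (nb_z₂' S hε h1 q)⟩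
      · rw [h2, map_inv₀, D.σσ]
      · rw [h3, map_inv₀, D.σσ]; ring
    z₁' := fun p => by
      obtain ⟨q, h2, h3, h4⟩ := h.z₁' p
      exact ⟨q, h2, h3, key (nb_z₁' S h1 p) h4 (nb_z₁' S h1 q)⟩
    z₂' := fun p => by
      obtain ⟨q, h2, h3, h4⟩ := h.z₂ p
      refine ⟨q, ?_, ?_, key (nb_z₂ S h1 p) h4 (nb_z₂ S h1 q)⟩
      · rw [h2, inv_inv]
      · rw [h3, map_inv₀, D.σσ, inv_inv, inv_inv]; ring }

end nb

/-- torus elements with the same weights are equal -/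
theorem tact_uniq [Finite F] [Finite D.T] (hZ : Subgroup.center A = ⊥) {g k : A} {l μ ν : F}
    (h : TAct S.m g l μ ν) (h' : TAct S.m k l μ ν) : g = k := by
  have h1 := h.inv.mul h'
  rw [inv_mul_cancel₀ h.l0, inv_mul_cancel₀ h.μ0, inv_mul_cancel₀ h.ν0] at h1
  have h2 := H_eq_one (S := S) hZ h1 rfl (fun q => by simp) (by simp)
  exact inv_mul_eq_one.1 h2

end Cfsg.Agent.StdRank2.B2Rel2
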