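import Cfsg.Agent.StdRank2.UEnvW
import Cfsg.Agent.StdRank2.B2Rel2
import Cfsg.Agent.StdRank2.UFive.Env

/-!
# The environment `UFive.Env` for `U₅(q)`, `q ≥ 4` even, from the `B₂` package

`env5`: from `S : Std (stdU1 F B.s B.invol) A`, `Z(A) = 1`, `Amb A t`, a parameter `lam ∈ K`, `lam ≠ 0, 1`, and an
element `c₀` of norm `1` with `c₀³ ≠ 1`.
-/

set_option autoImplicit false
set_option linter.unusedSectionVars false
set_option linter.unusedSimpArgs false

namespace Cfsg.Agent.StdRank2.UEnv5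

open Subgroup
open Cfsg.Agent.TitsThree.B2Pkg Cfsg.Agent.TitsThree.RankTwoIdentB2
  Cfsg.Agent.TitsThree.CoreB2 Cfsg.Agent.TitsThree.RankTwoIdx Cfsg.Agent.TitsThree.RankTwoRGD
  Cfsg.Agent.TitsThree.StdData
open Cfsg.Agent.StdRank2.OddLift Cfsg.Agent.StdRank2.B2Lift Cfsg.Agent.StdRank2.B2Std
  Cfsg.Agent.StdRank2.B2Torus Cfsg.Agent.StdRank2.B2Act Cfsg.Agent.StdRank2.B2Act.Std
  Cfsg.Agent.StdRank2.B2Par Cfsg.Agent.StdRank2.B2Par.Std Cfsg.Agent.StdRank2.B2Self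
  Cfsg.Agent.StdRank2.B2Amb Cfsg.Agent.StdRank2.UFour Cfsg.Agent.StdRank2.UEnvW
  Cfsg.Agent.StdRank2.UFive Cfsg.Agent.StdRank2.B2Rel2
open scoped commutatorElement Pointwise

universe u

variable {F : Type*} [Field F]

theorem ud_U1 [CharP F 2] (B : Bar F) : UD B (stdU1 F B.s B.invol) where
  σ _ := rfl
  ε := rfl
  ok0 k := by
    change (k : F) + B.s k = -(0 * B.s 0)
    rw [B.s_K, zero_mul, neg_zero]; exact CharTwo.add_self_eq_zero _
  nondeg p hp := by
    have h1 : p.w * B.s p.w = 0 := hp p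
    exact B.nm_eq_zero.1 (Subtype.ext h1)

instance [Finite F] (σ : F ≃+* F) (hσ : ∀ x, σ (σ x) = x) : Finite (stdU1 F σ hσ).T :=
  Finite.of_injective (fun p => (p.w, p.c)) (fun p q h => by
    ext
    · exact congrArg Prod.fst h
    · exact congrArg Prod.snd h)

theorem one_ok [CharP F 2] {B : Bar F} {V : Type*} [AddCommGroup V] [Module F V] {D : PQDatum F V}
    (hB : UD B D) : D.ok 0 1 := by simpa using hB.ok0 1

section conv

variable [CharP F 2] {B : Bar F}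

/-- the two descriptions of the parameter group -/
def cv (q : Tp B) : (stdU1 F B.s B.invol).T := ⟨q.w, q.c, by
  change q.c + B.s q.c = -(q.w * B.s q.w)
  rw [q.ok, CharTwo.neg_eq]⟩

def vc (q : (stdU1 F B.s B.invol).T) : Tp B := ⟨q.w, q.c, by
  have h1 : q.c + B.s q.c = -(q.w * B.s q.w) := q.ok
  rw [h1, CharTwo.neg_eq]⟩

theorem cv_vc (q : (stdU1 F B.s B.invol).T) : cv (vc q) = q := rfl
theorem vc_cv (q : Tp B) : vc (cv q) = q := rfl

theorem cv_mul (p q : Tp B) : cv (p * q) = cv p * cv q := by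
  ext
  · rfl
  · change p.c + q.c + q.w * B.s p.w = p.c + q.c - q.w * B.s p.w
    rw [sub_eq_add_neg, CharTwo.neg_eq]

theorem cv_one : cv (1 : Tp B) = 1 := rfl

theorem cv_sm (ω : F) (q : Tp B) : cv (Tp.sm (B.s ω) q) = (stdU1 F B.s B.invol).sc ω (cv q) := by
  ext
  · rfl
  · change B.s ω * B.s (B.s ω) * q.c = ω * B.s ω * q.c
    rw [B.invol]; ring

end conv

section inA

variable [Finite F] [CharP F 2] {B : Bar F} {A : Type u} [Group A] (S : Std (stdU1 F B.s B.invol) A)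

/-- the reflection on `V` is multiplication by `c̄/c` -/
theorem scal_val (p : (stdU1 F B.s B.invol).T) (hp : p.c ≠ 0) (w : F) :
    w + (p.c⁻¹ * (stdU1 F B.s B.invol).h w p.w) • p.w = (B.s p.c * p.c⁻¹) • w := by
  have h1 : p.c + B.s p.c = -(p.w * B.s p.w) := p.ok
  change w + (p.c⁻¹ * (w * B.s p.w)) * p.w = (B.s p.c * p.c⁻¹) * w
  have h2 : p.w * B.s p.w = p.c + B.s p.c := by
    rw [h1, CharTwo.neg_eq]
  have e : w + (p.c⁻¹ * (w * B.s p.w)) * p.w = w * (1 + p.c⁻¹ * (p.w * B.s p.w)) := by ring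
  have h3 : (2 : F) = 0 := by exact_mod_cast CharP.cast_eq_zero F 2
  rw [e, h2]
  field_simp
  linear_combination w * p.c * h3

/-- every `c` is the second coordinate of a parameter -/
theorem exists_T (c : F) : ∃ p : (stdU1 F B.s B.invol).T, p.c = c := by
  obtain ⟨s, hs⟩ := exists_rt (c + B.s c)
  have hσ : B.s s = s := by
    apply eq_of_sq
    rw [← map_mul, hs, map_add, B.invol, add_comm]
  refine ⟨⟨s, c, ?_⟩, rfl⟩
  change c + B.s c = -(s * B.s s)
  rw [hσ, hs, CharTwo.neg_eq]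

/-- the torus elements `h(α, β)` -/
theorem exists_hh (α β : Fˣ) : ∃ g ∈ S.H,
    TAct S.m g (α : F) (β : F) (B.s α * B.s β * (α : F)⁻¹ * (β : F)⁻¹) := by
  have hα := α.ne_zero
  have hβ := β.ne_zero
  obtain ⟨p, hp⟩ := exists_T (B := B) ((α : F) * β)
  have hpc : p.c ≠ 0 := by rw [hp]; exact mul_ne_zero hα hβ
  have hσp : B.s p.c ≠ 0 := (map_ne_zero_iff B.s B.s.injective).2 hpc
  have hB := ud_U1 (F := F) B
  have t1 := tact_hI S.rel S.hp₀ hα
  have t2 := tact_hII (m := S.m) S.rel (p := p) (q := tk hB 1) hpc (one_tk hB)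
    (ν := B.s p.c * p.c⁻¹) (μ := 1) (mul_ne_zero hσp (inv_ne_zero hpc)) one_ne_zero
    (fun w => scal_val p hpc w) (fun w => by
      change w + _ • (-(0 : F)) = (1 : F) • w
      rw [neg_zero, smul_zero, add_zero, one_smul])
  have t3 := t1.mul t2
  refine ⟨_, mul_mem (hI_mem_H hα) (hII_mem_H hpc (one_tk hB)), ?_⟩
  have e1 : (tk hB 1).c = 1 := rfl
  rw [e1, hp, map_mul, inv_one, mul_one, mul_one, mul_one, one_mul, mul_inv] at t3
  have e2 : (α : F)⁻¹ * ((α : F) * β) = β := by field_simp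
  have e3 : B.s (α : F) * B.s β * ((α : F)⁻¹ * (β : F)⁻¹) = B.s α * B.s β * (α : F)⁻¹ * (β : F)⁻¹ := by
    ring
  rw [e2, e3] at t3
  exact t3

/-- the norm of `ν` is one -/
theorem norm_ν {g : A} {l μ ν : F} (h : TAct S.m g l μ ν) : ν * B.s ν = 1 := by
  obtain ⟨c, hc⟩ := B.tr_surj 1
  have hc' : c + B.s c = 1 := congrArg Subtype.val hc
  let q : (stdU1 F B.s B.invol).T := ⟨1, c, by
    change c + B.s c = -(1 * B.s 1)
    rw [map_one, mul_one, CharTwo.neg_eq, hc']⟩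
  obtain ⟨q', h1, h2, -⟩ := h.z₁ q
  have h3 : q'.c + B.s q'.c = -(q'.w * B.s q'.w) := q'.ok
  have h1' : q'.w = (B.s l * ν) * 1 := h1
  have h2' : q'.c = l * B.s l * c := h2
  rw [h1', h2', CharTwo.neg_eq] at h3
  simp only [map_mul, B.invol, map_one, mul_one] at h3
  have hl := h.l0
  have hσl : B.s l ≠ 0 := (map_ne_zero_iff B.s B.s.injective).2 hl
  have h4 : (l * B.s l) * (ν * B.s ν - 1) = 0 := by
    linear_combination -h3 + l * B.s l * hc'
  rcases mul_eq_zero.1 h4 with h5 | h5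
  · exact absurd h5 (mul_ne_zero hl hσl)
  · linear_combination h5

theorem hT_U1 {c₀ : F} (h0 : c₀ * B.s c₀ = 1) (h1 : c₀ * c₀ * c₀ ≠ 1) :
    ∃ g ∈ S.H, ∃ β : F, β ≠ 1 ∧ ActT g S.m.z₂ β 1 := by
  have hc : c₀ ≠ 0 := by
    rintro rfl
    rw [zero_mul] at h0
    exact zero_ne_one h0
  have hσ : B.s c₀ = c₀⁻¹ := eq_inv_of_mul_eq_one_right h0
  obtain ⟨g, hg, ht⟩ := exists_hh S 1 (Units.mk0 c₀ hc)
  refine ⟨g, hg, _, ?_, congrT ht.z₂ rfl ?_⟩
  · change B.s c₀ * (B.s 1 * B.s c₀ * (1 : F)⁻¹ * c₀⁻¹) ≠ 1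
    rw [map_one, hσ, inv_one, one_mul, mul_one]
    intro h2
    apply h1
    have h3 : (c₀ * c₀ * c₀)⁻¹ = 1 := by
      rw [mul_inv, mul_inv, mul_assoc]; exact h2
    rw [inv_eq_one] at h3
    exact h3
  · change c₀ * B.s c₀ = 1
    exact h0

end inA

variable [Finite F] [CharP F 2] {B : Bar F}
variable {G : Type u} [Group G] {A : Subgroup G} [Finite A] (S : Std (stdU1 F B.s B.invol) ↥A)

theorem hyp_U1 (hZ : Subgroup.center ↥A = ⊥) {t : G} (h : Amb A t) {c₀ : F} (h0 : c₀ * B.s c₀ = 1)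
    (h1 : c₀ * c₀ * c₀ ≠ 1) : Hyp S B t where
  hB := ud_U1 B
  hD := scal_U1 _ _
  hZ := hZ
  amb := h
  hT := hT_U1 S h0 h1

/-- the torus element -/
noncomputable def hh (α β : Fˣ) : ↥A := (exists_hh S α β).choose

theorem hh_mem (α β : Fˣ) : hh S α β ∈ S.H := (exists_hh S α β).choose_spec.1

theorem hh_tact (α β : Fˣ) :
    TAct S.m (hh S α β) (α : F) (β : F) (B.s α * B.s β * (α : F)⁻¹ * (β : F)⁻¹) :=
  (exists_hh S α β).choose_spec.2

/-- **The environment of type `U₅`.** -/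
noncomputable def env5 {t : G} (h : Hyp S B t) {lam : B.K} (h0 : lam ≠ 0) (h1 : lam ≠ 1) :
    UFive.Env B G where
  toWEnv := wenv S h h0 h1
  p1 q := (S.m.z₁ (cv q) : G)
  p2 q := (S.m.z₂ (cv q) : G)
  nb := ((B2Rel2.nb S (one_ok h.hB) : ↥A) : G)
  hh α β := (hh S α β : G)
  p1_mul p q := by
    rw [cv_mul]; exact congrArg A.subtype (S.rel.z₁_mul _ _)
  p2_mul p q := by
    rw [cv_mul]; exact congrArg A.subtype (S.rel.z₂_mul _ _)
  p1_K _ := rfl
  p2_K _ := rfl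
  a_1 s q := congrArg A.subtype (S.rel.x_z₁ s (cv q)).eq
  a_2 s q := by
    have h2 : S.m.x s * S.m.z₂ (cv q) * (S.m.x s)⁻¹ =
        S.m.z₁ ((stdU1 F B.s B.invol).sc s (cv q)) *
          S.m.y (-((stdU1 F B.s B.invol).ε * s * (stdU1 F B.s B.invol).σ (cv q).c)) *
          S.m.z₂ (cv q) := by
      rw [← S.rel.x_z₂, commutatorElement_def]; group
    have e2 : -((stdU1 F B.s B.invol).ε * s * (stdU1 F B.s B.invol).σ (cv q).c) = s * B.s q.c := by
      change -(1 * s * B.s q.c) = _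
      rw [CharTwo.neg_eq, one_mul]
    rw [← cv_sm, e2] at h2
    exact congrArg A.subtype h2
  one_two q r := by
    have h2 : S.m.z₁ (cv q) * S.m.z₂ (cv r) * (S.m.z₁ (cv q))⁻¹ =
        S.m.y (-(stdU1 F B.s B.invol).h (cv r).w (cv q).w) * S.m.z₂ (cv r) := by
      rw [← S.rel.z₁_z₂, commutatorElement_def]; group
    have e2 : -(stdU1 F B.s B.invol).h (cv r).w (cv q).w = r.w * B.s q.w := by
      change -(r.w * B.s q.w) = _
      rw [CharTwo.neg_eq]
    rw [e2] at h2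
    exact congrArg A.subtype h2
  mem_Q g := by
    constructor
    · rintro ⟨v, hv, rfl⟩
      obtain ⟨p, b, q, rfl⟩ := mem_VI_iff.1 hv
      refine ⟨vc p, b, vc q, ?_⟩
      have e : B2Std.nf S.m 0 p b q = S.m.z₁ p * S.m.y b * S.m.z₂ q := by
        unfold B2Std.nf
        rw [show S.m.x 0 = 1 from add_zero' S.rel.x_add, one_mul]
      exact congrArg A.subtype e
    · rintro ⟨q, s, r, rfl⟩
      exact ⟨_, mul_mem (mul_mem (S.z₁_mem_VI (cv q)) (S.y_mem_VI s)) (S.z₂_mem_VI (cv r)), rfl⟩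
  u_inj q s r x hh := by
    have h2 : S.m.z₁ (cv q) * S.m.y s * S.m.z₂ (cv r) * S.m.x x = 1 := A.subtype_injective hh
    have h3 : PX S (S.m.z₁ (cv q) * S.m.y s * S.m.z₂ (cv r) * S.m.x x) (0 + 0 + 0 + x) :=
      (((PX.z₁ _).mul (PX.y _)).mul (PX.z₂ _)).mul (PX.x _)
    rw [h2] at h3
    have h4 := PX.one.uniq h3
    have hx : x = 0 := by rw [zero_add, zero_add, zero_add] at h4; exact h4.symm
    subst hx
    rw [show S.m.x 0 = 1 from add_zero' S.rel.x_add, mul_one] at h2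
    have h5 : B2Std.nf S.m 0 (cv q) s (cv r) = 1 := by
      unfold B2Std.nf
      rw [show S.m.x 0 = 1 from add_zero' S.rel.x_add, one_mul, h2]
    obtain ⟨-, i1, i2, i3⟩ := S.nf_eq_one h5
    exact ⟨congrArg vc i1, i2, congrArg vc i3, rfl⟩
  na_a := congrArg A.subtype (nI_cube S h.hZ)
  na_1 q := congrArg A.subtype (B2Rel2.nI_z₁ S (cv q))
  na_2 q := congrArg A.subtype (S.rel.nI_z₂ (cv q))
  nb_sq := congrArg A.subtype (B2Rel2.nb_sq S h.hB.ε _ h.hZ)
  nb_b := congrArg A.subtype (nb_cube S h.hB.ε (one_ok h.hB) h.hZ)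
  t_nb := h.amb.comm _ (B2Rel2.nb S _).2
  nb_a x := congrArg A.subtype (nb_x S h.hB.ε _ x)
  nb_c x := congrArg A.subtype (nb_y S _ x)
  nb_1 q := congrArg A.subtype (B2Rel2.nb_z₁ S _ (cv q))
  nb_T g := conj_mem_map_iff (nII_H S (o1_ne _)) g
  braid := congrArg A.subtype (B2Rel2.braid S h.hB.ε _ h.hZ)
  hh_mem α β := ⟨_, hh_mem S α β, rfl⟩
  hh_a α β x := congrArg A.subtype ((hh_tact S α β).x x)
  hh_c α β x := congrArg A.subtype ((hh_tact S α β).y x)
  hh_z α β x := by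
    obtain ⟨q, i1, i2, i3⟩ := (hh_tact S α β).z₁ (tk h.hB x)
    have e3 : q = tk h.hB (B.nm α * x) := by
      apply tk_eq
      · rw [i1, tk_w, smul_zero]
      · rw [i2, tk_c]; rfl
    rw [e3] at i3
    exact congrArg A.subtype i3
  hh_b α β x := by
    obtain ⟨q, i1, i2, i3⟩ := (hh_tact S α β).z₂ (tk h.hB x)
    have e3 : q = tk h.hB (B.nm β * x) := by
      apply tk_eq
      · rw [i1, tk_w, smul_zero]
      · rw [i2, tk_c]; rfl
    rw [e3] at i3
    exact congrArg A.subtype i3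
  hh_1 α β q := by
    obtain ⟨q', i1, i2, i3⟩ := (hh_tact S α β).z₁ (cv q)
    have hα := α.ne_zero
    have hβ := β.ne_zero
    have hσα : B.s (α : F) ≠ 0 := (map_ne_zero_iff B.s B.s.injective).2 hα
    have hσβ : B.s (β : F) ≠ 0 := (map_ne_zero_iff B.s B.s.injective).2 hβ
    have e3 : q' = cv (Tp.sm (B.s α * B.s α * B.s β * (α : F)⁻¹ * (β : F)⁻¹) q) := by
      ext
      · rw [i1]
        change B.s α * (B.s α * B.s β * (α : F)⁻¹ * (β : F)⁻¹) * q.w =
          (B.s α * B.s α * B.s β * (α : F)⁻¹ * (β : F)⁻¹) * q.w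
        ring
      · rw [i2]
        change (α : F) * B.s α * q.c = (B.s α * B.s α * B.s β * (α : F)⁻¹ * (β : F)⁻¹) *
          B.s (B.s α * B.s α * B.s β * (α : F)⁻¹ * (β : F)⁻¹) * q.c
        simp only [map_mul, map_inv₀, B.invol]
        field_simp
    rw [e3] at i3
    exact congrArg A.subtype i3
  hh_2 α β q := by
    obtain ⟨q', i1, i2, i3⟩ := (hh_tact S α β).z₂ (cv q)
    have hα := α.ne_zero
    have hβ := β.ne_zero
    have hσα : B.s (α : F) ≠ 0 := (map_ne_zero_iff B.s B.s.injective).2 hα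
    have hσβ : B.s (β : F) ≠ 0 := (map_ne_zero_iff B.s B.s.injective).2 hβ
    have e3 : q' = cv (Tp.sm (B.s β * B.s β * B.s α * (α : F)⁻¹ * (β : F)⁻¹) q) := by
      ext
      · rw [i1]
        change B.s β * (B.s α * B.s β * (α : F)⁻¹ * (β : F)⁻¹) * q.w =
          (B.s β * B.s β * B.s α * (α : F)⁻¹ * (β : F)⁻¹) * q.w
        ring
      · rw [i2]
        change (β : F) * B.s β * q.c = (B.s β * B.s β * B.s α * (α : F)⁻¹ * (β : F)⁻¹) *
          B.s (B.s β * B.s β * B.s α * (α : F)⁻¹ * (β : F)⁻¹) * q.c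
        simp only [map_mul, map_inv₀, B.invol]
        field_simp
    rw [e3] at i3
    exact congrArg A.subtype i3
  na_hh α β := by
    have t1 := conj_nI S h.hB.ε (hh_tact S α β)
    have t2 := hh_tact S β α
    have e : B.s (α : F) * B.s β * (α : F)⁻¹ * (β : F)⁻¹ =
        B.s β * B.s α * (β : F)⁻¹ * (α : F)⁻¹ := by ring
    rw [e] at t1
    exact congrArg A.subtype (tact_uniq S h.hZ t1 t2)
  nb_hh α β γ hγ := by
    have t1 := conj_nb S h.hB.ε (one_ok h.hB) (hh_tact S α β)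
    have t2 := hh_tact S α γ
    have hβ := β.ne_zero
    have hσβ : B.s (β : F) ≠ 0 := (map_ne_zero_iff B.s B.s.injective).2 hβ
    have e1 : (γ : F) = (B.s (β : F))⁻¹ := eq_inv_of_mul_eq_one_left hγ
    have e2 : B.s (γ : F) = (β : F)⁻¹ := by rw [e1, map_inv₀, B.invol]
    rw [e2, e1, inv_inv] at t2
    have e3 : B.s (α : F) * (β : F)⁻¹ * (α : F)⁻¹ * B.s β = B.s α * B.s β * (α : F)⁻¹ * (β : F)⁻¹ := by
      ring
    rw [e3] at t2
    exact congrArg A.subtype (tact_uniq S h.hZ t1 t2)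
  hh_mul α β α' β' := by
    have t1 := (hh_tact S α β).mul (hh_tact S α' β')
    have t2 := hh_tact S (α * α') (β * β')
    simp only [Units.val_mul, map_mul, mul_inv] at t2
    have e : B.s (α : F) * B.s β * (α : F)⁻¹ * (β : F)⁻¹ *
        (B.s (α' : F) * B.s β' * (α' : F)⁻¹ * (β' : F)⁻¹) =
        B.s (α : F) * B.s α' * (B.s β * B.s β') * ((α : F)⁻¹ * (α' : F)⁻¹) *
          ((β : F)⁻¹ * (β' : F)⁻¹) := by ring
    rw [e] at t1
    exact congrArg A.subtype (tact_uniq S h.hZ t2 t1)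
  T_act' := by
    rintro _ ⟨g, hg, rfl⟩
    obtain ⟨l, μ, ν, ht⟩ := exists_tact S.rel S.hp₀ h.hD hg
    have hN := norm_ν S ht
    have hσl : B.s l ≠ 0 := (map_ne_zero_iff B.s B.s.injective).2 ht.l0
    have hσμ : B.s μ ≠ 0 := (map_ne_zero_iff B.s B.s.injective).2 ht.μ0
    refine ⟨Units.mk0 (B.s l * ν) (mul_ne_zero hσl ht.ν0), Units.mk0 (B.s μ * ν) (mul_ne_zero hσμ ht.ν0),
      ?_, ?_⟩
    · intro q
      obtain ⟨q', i1, i2, i3⟩ := ht.z₁ (cv q)
      have e3 : q' = cv (Tp.sm (B.s l * ν) q) := by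
        ext
        · rw [i1]; rfl
        · rw [i2]
          change l * B.s l * q.c = (B.s l * ν) * B.s (B.s l * ν) * q.c
          rw [map_mul, B.invol]
          linear_combination -l * B.s l * q.c * hN
      rw [e3] at i3
      exact congrArg A.subtype i3
    · intro q
      obtain ⟨q', i1, i2, i3⟩ := ht.z₂ (cv q)
      have e3 : q' = cv (Tp.sm (B.s μ * ν) q) := by
        ext
        · rw [i1]; rfl
        · rw [i2]
          change μ * B.s μ * q.c = (B.s μ * ν) * B.s (B.s μ * ν) * q.c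
          rw [map_mul, B.invol]
          linear_combination -μ * B.s μ * q.c * hN
      rw [e3] at i3
      exact congrArg A.subtype i3
  cent_Q2 c hc hz hcc hb hq1 hq2 := by
    obtain ⟨φ, hφ⟩ := h.amb.exists_cj hc
    have key : ∀ v : ↥A, c * (v : G) = v * c → φ v = v := by
      intro v hv
      apply Subtype.ext
      rw [hφ, hv, mul_inv_cancel_right]
    have hWg : ∀ (p : ↥A) (x : B.K) (y : F) (z : B.K), p ∈ S.VI →
        c * (p : G) * c⁻¹ = (S.m.z₁ (tk h.hB x) : G) * (S.m.y y : G) * (S.m.z₂ (tk h.hB z) : G) * p →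
        ∃ w, IsW' S w ∧ φ p = p * w := by
      intro p x y z hp e
      have hw : IsW' S (S.m.z₁ (tk h.hB x) * S.m.y y * S.m.z₂ (tk h.hB z)) :=
        ⟨_, _, _, rfl, rfl, rfl⟩
      refine ⟨_, hw, ?_⟩
      rw [← hw.comm hp]
      exact Subtype.ext ((hφ _).trans e)
    obtain ⟨u, hu, rfl⟩ := inner_of_VI' (lam_U h.hB h0 h1) h.hD h.hT h.hZ (φ := φ)
      (fun b => key _ (hcc b))
      (fun p hp => by
        obtain ⟨k, rfl⟩ := exists_tk h.hB hp
        exact key _ (hz k))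
      (fun p hp => by
        obtain ⟨k, rfl⟩ := exists_tk h.hB hp
        exact key _ (hb k))
      (fun p => by
        obtain ⟨x, y, z, e⟩ := hq1 (vc p)
        exact hWg _ x y z (S.z₁_mem_VI p) e)
      (fun p => by
        obtain ⟨x, y, z, e⟩ := hq2 (vc p)
        exact hWg _ x y z (S.z₂_mem_VI p) e)
    refine ⟨(u : G), ⟨u, hu, rfl⟩, ?_⟩
    exact h.amb.eq_of hc hφ rfl
  cent_Q1 c hc hz ha hcc hq1 := by
    obtain ⟨φ, hφ⟩ := h.amb.exists_cj hc
    have kz : ∀ p : (stdU1 F B.s B.invol).T, p.w = 0 → φ (S.m.z₁ p) = S.m.z₁ p := by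
      intro p hp
      obtain ⟨k, rfl⟩ := exists_tk h.hB hp
      apply Subtype.ext
      rw [hφ]
      exact mul_inv_eq_iff_eq_mul.2 (hz k)
    obtain ⟨u, hu, rfl⟩ := inner_of_VJ' (lam_U h.hB h0 h1) h.hD h.hT h.hZ (φ := φ)
      (fun a => by
        obtain ⟨z, hz'⟩ := ha a
        refine ⟨tk h.hB z, rfl, Subtype.ext ?_⟩
        rw [hφ]
        exact hz'.trans (congrArg A.subtype (S.rel.x_z₁ a (tk h.hB z)).symm.eq))
      (fun a => by
        obtain ⟨z, hz'⟩ := hcc a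
        refine ⟨tk h.hB z, rfl, Subtype.ext ?_⟩
        rw [hφ]
        exact hz'.trans (congrArg A.subtype (S.rel.y_z₁ a (tk h.hB z)).symm.eq))
      (fun p => by
        obtain ⟨z, hz'⟩ := hq1 (vc p)
        refine ⟨tk h.hB z, rfl, Subtype.ext ?_⟩
        rw [hφ]
        exact hz'.trans (congrArg A.subtype (z₁_comm_U (S := S) (tk_w h.hB z) (z₁_mem p))))
      kz
    obtain ⟨a, p, b, rfl⟩ := mem_VJ_iff.1 hu
    have e : B2Std.nf S.m a p b 1 =
        S.m.z₁ (p * (stdU1 F B.s B.invol).tr a b) * S.m.y b * S.m.x a := by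
      rw [S.rel.z₁_mul, ← S.rel.x_y, commutatorElement_def]
      unfold B2Std.nf
      rw [mul_one' S.rel.z₂_mul, mul_one, (S.rel.x_z₁ a p).eq]
      group
    refine ⟨vc (p * (stdU1 F B.s B.invol).tr a b), b, a, ?_⟩
    rcases h.amb.eq_of hc hφ rfl with h2 | h2
    · left; rw [h2]; exact congrArg A.subtype e
    · right; rw [h2]; exact congrArg (fun v : ↥A => t * (v : G)) e

end Cfsg.Agent.StdRank2.UEnv5
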