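import Cfsg.Agent.StdEven.CoreQuot
import Cfsg.Agent.StdRank2.SpSelf
import Cfsg.Agent.StdRank2.UEnv4
import Cfsg.Agent.StdRank2.UEnv5
import Cfsg.Agent.StdRank2.B2Inst
import Cfsg.Agent.StdSpFour.Weyl

/-!
# S1778, types `Sp₄`, `U₄`, `U₅`: from `A ≤ G` to the frames in `X = N_G(O)/O`

`Std.push`: image of a package under a map with central kernel of odd order.
For `h : CoreQuot.Hyp A t T` and a package `S` of `A`: `imS h S`, the package of the image of `A` in
`X`, `amb h : Amb (im A t A) tX`, `center_im`.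
`exists_Sp`, `exists_U4`, `exists_U5`: packages of `A` when `A/Z(A)` is `PSp₄`, `PSU₄`, `PSU₅`.
`exists_lam`, `exists_c₀`: the parameters.  `base`, `env4`, `env5`: the environments in `X`.
-/

set_option autoImplicit false
set_option linter.unusedSectionVars false

namespace Cfsg.Agent.StdRank2.B2Conn

open Subgroup
open Cfsg.Agent.TitsThree.B2Pkg Cfsg.Agent.TitsThree.RankTwoIdentB2
  Cfsg.Agent.TitsThree.CoreB2 Cfsg.Agent.TitsThree.RankTwoIdx Cfsg.Agent.TitsThree.RankTwoRGD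
  Cfsg.Agent.TitsThree.StdData
open Cfsg.Agent.StdRank2.OddLift Cfsg.Agent.StdRank2.B2Lift Cfsg.Agent.StdRank2.B2Std
  Cfsg.Agent.StdRank2.B2Amb Cfsg.Agent.StdRank2.UFour
open Cfsg.Agent.StdEven.CoreQuot Cfsg.Agent.StdEven.Loc
open scoped commutatorElement

universe u

section push

variable {F : Type*} [Field F] [CharP F 2] {V : Type*} [AddCommGroup V] [Module F V] {D : PQDatum F V}

theorem map_UU {Y Z : Type*} [Group Y] [Group Z] (m : B2Maps D Y) (f : Y →* Z) :
    UU (m.map f) = (UU m).map f := by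
  unfold UU
  rw [MonoidHom.map_closure]
  congr 1
  ext z
  constructor
  · rintro (⟨a, rfl | rfl⟩ | ⟨p, rfl | rfl⟩)
    · exact ⟨m.x a, Or.inl ⟨a, Or.inl rfl⟩, rfl⟩
    · exact ⟨m.y a, Or.inl ⟨a, Or.inr rfl⟩, rfl⟩
    · exact ⟨m.z₁ p, Or.inr ⟨p, Or.inl rfl⟩, rfl⟩
    · exact ⟨m.z₂ p, Or.inr ⟨p, Or.inr rfl⟩, rfl⟩
  · rintro ⟨y, (⟨a, rfl | rfl⟩ | ⟨p, rfl | rfl⟩), rfl⟩
    · exact Or.inl ⟨a, Or.inl rfl⟩
    · exact Or.inl ⟨a, Or.inr rfl⟩
    · exact Or.inr ⟨p, Or.inl rfl⟩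
    · exact Or.inr ⟨p, Or.inr rfl⟩

/-- The image of a package under a map onto, with central kernel of odd order. -/
noncomputable def push {A : Type u} {K : Type*} [Group A] [Group K] [Finite A] {f : A →* K}
    (c : Cov f) (S : Std D A) : Std D K where
  m := S.m.map f
  rel := S.rel.map f
  p₀ := S.p₀
  hp₀ := S.hp₀
  gen := by
    have h1 : genSet (S.m.map f) = f '' genSet S.m := by
      ext z
      constructor
      · rintro (⟨a, rfl | rfl⟩ | ⟨p, rfl | rfl⟩)
        · exact ⟨S.m.x a, Or.inl ⟨a, Or.inl rfl⟩, rfl⟩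
        · exact ⟨S.m.x' a, Or.inl ⟨a, Or.inr rfl⟩, rfl⟩
        · exact ⟨S.m.z₂ p, Or.inr ⟨p, Or.inl rfl⟩, rfl⟩
        · exact ⟨S.m.z₂' p, Or.inr ⟨p, Or.inr rfl⟩, rfl⟩
      · rintro ⟨y, (⟨a, rfl | rfl⟩ | ⟨p, rfl | rfl⟩), rfl⟩
        · exact Or.inl ⟨a, Or.inl rfl⟩
        · exact Or.inl ⟨a, Or.inr rfl⟩
        · exact Or.inr ⟨p, Or.inl rfl⟩
        · exact Or.inr ⟨p, Or.inr rfl⟩
    rw [h1, ← MonoidHom.map_closure, S.gen, ← MonoidHom.range_eq_map]
    exact MonoidHom.range_eq_top.2 c.surj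
  ndI := by
    obtain ⟨a, ha⟩ := S.ndI
    refine ⟨a, fun h => ha ?_⟩
    rw [map_UU] at h
    obtain ⟨v, hv, e⟩ := h
    have h2 := OddLift.inj c (isTwo_of_mem_UU S.rel hv) ((isTwo_all S.rel).2.1 a) e
    rw [← h2]; exact hv
  ndJ := by
    obtain ⟨a, ha⟩ := S.ndJ
    refine ⟨a, fun h => ha ?_⟩
    rw [map_UU] at h
    obtain ⟨v, hv, e⟩ := h
    have h2 := OddLift.inj c (isTwo_of_mem_UU S.rel hv) ((isTwo_all S.rel).2.2.2.2.2.2.2 a) e
    rw [← h2]; exact hv

theorem push_m {A : Type u} {K : Type*} [Group A] [Group K] [Finite A] {f : A →* K}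
    (c : Cov f) (S : Std D A) : (push c S).m = S.m.map f := rfl

theorem push_U {A : Type u} {K : Type*} [Group A] [Group K] [Finite A] {f : A →* K}
    (c : Cov f) (S : Std D A) : (push c S).U = S.U.map f := map_UU _ _

theorem cov_of_equiv {A K : Type*} [Group A] [Group K] (e : A ≃* K) : Cov e.toMonoidHom := by
  have hk : e.toMonoidHom.ker = ⊥ := by
    rw [MonoidHom.ker_eq_bot_iff]; exact e.injective
  refine ⟨e.surjective, by rw [hk]; exact bot_le, ?_⟩
  rw [hk, Subgroup.card_bot]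
  exact odd_one

end push

/-! ### The image of `A` in `X` -/

section im

variable {G : Type u} [Group G] [Finite G] {A : Subgroup G} {t : G} {T : Subgroup G}

/-- The map `A → im A`. -/
def toIm (h : Hyp A t T) : ↥A →* ↥(im A t A) where
  toFun a := ⟨pr A t ⟨a, h.A_le a.2⟩, pr_mem_im a.2⟩
  map_one' := Subtype.ext (map_one (pr A t))
  map_mul' a b := Subtype.ext (map_mul (pr A t) ⟨a, h.A_le a.2⟩ ⟨b, h.A_le b.2⟩)

theorem toIm_val (h : Hyp A t T) (a : ↥A) : (toIm h a : XQ A t) = pr A t ⟨a, h.A_le a.2⟩ := rfl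

theorem toIm_ker (h : Hyp A t T) : (toIm h).ker = center ↥A := by
  ext a
  rw [MonoidHom.mem_ker, ← h.mem_core_iff_center a.2, Subtype.ext_iff]
  exact pr_eq_one

theorem cov_im (h : Hyp A t T) : Cov (toIm h) := by
  refine ⟨?_, (toIm_ker h).le, by rw [toIm_ker]; exact h.hZ⟩
  rintro ⟨x, hx⟩
  obtain ⟨n, hn, rfl⟩ := mem_im.mp hx
  exact ⟨⟨n, hn⟩, rfl⟩

/-- `im A` is simple. -/
theorem simple_im (h : Hyp A t T) : IsSimpleGroup ↥(im A t A) := by
  obtain ⟨e⟩ := h.nonempty_equiv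
  have := h.std.1.2
  exact e.isSimpleGroup

theorem comm_im (h : Hyp A t T) : _root_.commutator ↥(im A t A) = ⊤ := by
  have h1 : _root_.commutator ↥A = ⊤ := by
    rw [commutator_def]; exact h.perfect
  have h2 : (_root_.commutator ↥A).map (toIm h) ≤ _root_.commutator ↥(im A t A) := by
    rw [commutator_def, commutator_def, map_commutator]
    exact commutator_mono le_top le_top
  rw [h1, ← MonoidHom.range_eq_map, MonoidHom.range_eq_top.2 (cov_im h).surj] at h2
  exact top_le_iff.1 h2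

/-- `Z(im A) = 1`. -/
theorem center_im (h : Hyp A t T) : center ↥(im A t A) = ⊥ := by
  have hs := simple_im h
  rcases (inferInstance : (center ↥(im A t A)).Normal).eq_bot_or_eq_top with h1 | h1
  · exact h1
  · exfalso
    have h2 : _root_.commutator ↥(im A t A) = ⊥ := by
      rw [commutator_def, eq_bot_iff, commutator_le]
      intro x _ y _
      have h3 : x ∈ center ↥(im A t A) := by rw [h1]; exact mem_top _
      rw [mem_bot, commutatorElement_eq_one_iff_mul_comm]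
      exact (mem_center_iff.mp h3 y).symm
    rw [comm_im h] at h2
    have h4 := IsSimpleGroup.toNontrivial (G := ↥(im A t A))
    exact (bot_ne_top (α := Subgroup ↥(im A t A))) h2.symm

theorem amb (h : Hyp A t T) : Amb (im A t A) h.tX where
  tt := h.tX_sq
  ne := h.tX_ne
  comm a ha := (h.im_A_comm ha).symm
  nor g hg a ha := h.conj_mem_im hg ha
  cen g hg hA := h.eq_of_cent hg hA

theorem tX_mem_centralizer (h : Hyp A t T) : h.tX ∈ centralizer (im A t A : Set (XQ A t)) :=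
  mem_centralizer_iff.mpr fun _ ha => h.im_A_comm ha

theorem tX_not_mem (h : Hyp A t T) : h.tX ∉ im A t A := by
  intro h1
  have h2 : (⟨h.tX, h1⟩ : ↥(im A t A)) ∈ center ↥(im A t A) := by
    rw [mem_center_iff]
    intro g
    exact Subtype.ext (h.im_A_comm g.2)
  rw [center_im h, mem_bot] at h2
  exact h.tX_ne (congrArg Subtype.val h2)

variable {F : Type*} [Field F] [CharP F 2] {V : Type*} [AddCommGroup V] [Module F V] {D : PQDatum F V}

/-- The package of the image of `A`. -/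
noncomputable def imS (h : Hyp A t T) (S : Std D ↥A) : Std D ↥(im A t A) := push (cov_im h) S

theorem imS_m (h : Hyp A t T) (S : Std D ↥A) : (imS h S).m = S.m.map (toIm h) := rfl

/-- A subgroup of `A` and its image. -/
theorem im_map (h : Hyp A t T) (Y : Subgroup ↥A) :
    im A t (Y.map A.subtype) = (Y.map (toIm h)).map (im A t A).subtype := by
  ext x
  constructor
  · intro hx
    obtain ⟨n, ⟨a, ha, e⟩, rfl⟩ := mem_im.mp hx
    refine ⟨toIm h a, ⟨a, ha, rfl⟩, ?_⟩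
    change pr A t ⟨a, _⟩ = _
    congr 1
    exact Subtype.ext e
  · rintro ⟨_, ⟨a, ha, rfl⟩, rfl⟩
    exact mem_im.mpr ⟨⟨(a : G), h.A_le a.2⟩, ⟨a, ha, rfl⟩, rfl⟩

/-- The positive part and its image. -/
theorem im_U (h : Hyp A t T) (S : Std D ↥A) :
    im A t (S.U.map A.subtype) = (imS h S).U.map (im A t A).subtype := by
  rw [im_map h]
  unfold imS
  rw [push_U]

end im

/-! ### Existence of the packages -/

section exist

variable {A : Type u} [Group A] [Finite A]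

theorem exists_Sp {F : Type*} [Field F] [Finite F] [CharP F 2] (hF : 3 ≤ Nat.card F)
    (hA : _root_.commutator A = ⊤) (hZ : Odd (Nat.card (center A)))
    (e : A ⧸ center A ≃* Cfsg.PSp 2 F) : Nonempty (Std (stdSp F) A) := by
  obtain ⟨S⟩ := B2Inst.exists_std_Sp hF
  obtain ⟨S', -⟩ := B2Inst.exists_frame hA hZ e S
  exact ⟨S'⟩

/-- The bar map `x ↦ x ^ q`. -/
noncomputable def bar {F : Type*} [Field F] [Fintype F] {q : ℕ} (hF : Fintype.card F = q ^ 2) : Bar F where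
  s := Cfsg.Agent.LieClassical.HermBasic.conj hF
  invol := B2Inst.cc hF
  ne := Cfsg.Agent.LieClassical.HermBasic.exists_not_fixed hF

theorem bar_s {F : Type*} [Field F] [Fintype F] {q : ℕ} (hF : Fintype.card F = q ^ 2) (x : F) :
    (bar hF).s x = x ^ q := rfl

theorem exists_U4 {F : Type*} [Field F] [Fintype F] [CharP F 2] {q : ℕ} (hF : Fintype.card F = q ^ 2)
    (hA : _root_.commutator A = ⊤) (hZ : Odd (Nat.card (center A)))
    (e : A ⧸ center A ≃* Cfsg.PSU 4 F q) : Nonempty (Std (stdU0 F (bar hF).s (bar hF).invol) A) := by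
  obtain ⟨S⟩ := B2Inst.exists_std_U4 hF
  obtain ⟨S', -⟩ := B2Inst.exists_frame hA hZ e S
  exact ⟨S'⟩

theorem exists_U5 {F : Type*} [Field F] [Fintype F] [CharP F 2] {q : ℕ} (hF : Fintype.card F = q ^ 2)
    (hA : _root_.commutator A = ⊤) (hZ : Odd (Nat.card (center A)))
    (e : A ⧸ center A ≃* Cfsg.PSU 5 F q) : Nonempty (Std (stdU1 F (bar hF).s (bar hF).invol) A) := by
  obtain ⟨S⟩ := B2Inst.exists_std_U5 hF
  obtain ⟨S', -⟩ := B2Inst.exists_frame hA hZ e S
  exact ⟨S'⟩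

end exist

/-! ### The parameters -/

section param

variable {F : Type*} [Field F] [Fintype F]

/-- an element with `x ^ n ≠ 1` -/
theorem exists_pow_ne {n : ℕ} (hn : 0 < n) (hc : n + 1 < Fintype.card F) : ∃ x : F, x ≠ 0 ∧ x ^ n ≠ 1 := by
  classical
  by_contra hcon
  push Not at hcon
  have h1 : (Finset.univ : Finset F) ⊆ insert 0 (Polynomial.nthRoots n (1 : F)).toFinset := by
    intro x _
    by_cases hx : x = 0
    · simp [hx]
    · rw [Finset.mem_insert]
      right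
      rw [Multiset.mem_toFinset, Polynomial.mem_nthRoots hn]
      exact hcon x hx
  have h2 := Finset.card_le_card h1
  have h3 := Finset.card_insert_le (0 : F) (Polynomial.nthRoots n (1 : F)).toFinset
  have h4 := Multiset.toFinset_card_le (Polynomial.nthRoots n (1 : F))
  have h5 := Polynomial.card_nthRoots n (1 : F)
  rw [Finset.card_univ] at h2
  omega

variable {q : ℕ} (hF : Fintype.card F = q ^ 2)

theorem exists_lam (hq : 3 ≤ q) : ∃ lam : (bar hF).K, lam ≠ 0 ∧ lam ≠ 1 := by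
  obtain ⟨x, hx, hx1⟩ := exists_pow_ne (F := F) (n := q + 1) (by omega) (by rw [hF]; nlinarith)
  refine ⟨(bar hF).nm x, ?_, ?_⟩
  · intro h
    have h1 := congrArg Subtype.val h
    change x * x ^ q = 0 at h1
    rw [← pow_succ'] at h1
    exact hx (pow_eq_zero_iff (by omega) |>.1 h1)
  · intro h
    have h1 := congrArg Subtype.val h
    change x * x ^ q = 1 at h1
    rw [← pow_succ'] at h1
    exact hx1 h1

theorem exists_c₀ (hq : 3 ≤ q) : ∃ c : F, c * (bar hF).s c = 1 ∧ c * c * c ≠ 1 := by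
  obtain ⟨x, hx, hx1⟩ := exists_pow_ne (F := F) (n := 3 * (q - 1)) (by omega) (by
    rw [hF]
    obtain ⟨r, rfl⟩ : ∃ r, q = r + 3 := ⟨q - 3, by omega⟩
    have : 3 * (r + 3 - 1) + 1 < (r + 3) ^ 2 := by
      have : r + 3 - 1 = r + 2 := by omega
      rw [this]; nlinarith
    exact this)
  refine ⟨x ^ (q - 1), ?_, ?_⟩
  · rw [bar_s, ← pow_mul, ← pow_add]
    have h1 : x ^ (Fintype.card F - 1) = 1 := FiniteField.pow_card_sub_one_eq_one x hx
    rw [hF] at h1
    have h2 : q - 1 + (q - 1) * q = q ^ 2 - 1 := by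
      obtain ⟨r, rfl⟩ : ∃ r, q = r + 1 := ⟨q - 1, by omega⟩
      have : (r + 1) ^ 2 = r + r * (r + 1) + 1 := by ring
      rw [this]
      simp
    rw [h2, h1]
  · intro h
    apply hx1
    rw [mul_comm 3, pow_mul]
    rw [← h]; ring

end param

/-! ### The environments in `X` -/

section env

variable {G : Type u} [Group G] [Finite G] {A : Subgroup G} {t : G} {T : Subgroup G}

section Sp

variable {F : Type*} [Field F] [Finite F] [CharP F 2]

/-- The environment of type `Sp₄` in `X`. -/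
noncomputable def base (h : Hyp A t T) (S : Std (stdSp F) ↥A) : Cfsg.Agent.StdSpFour.Base F (XQ A t) :=
  SpFrame.base (imS h S) (center_im h) h.tX_sq (tX_mem_centralizer h) (tX_not_mem h)

theorem base_self (h : Hyp A t T) (S : Std (stdSp F) ↥A) (hF : 3 ≤ Nat.card F) : (base h S).Self :=
  SpSelf.base_self (imS h S) hF (center_im h) (amb h) h.tX_sq (tX_mem_centralizer h) (tX_not_mem h)

theorem base_weyl (h : Hyp A t T) (S : Std (stdSp F) ↥A) : Cfsg.Agent.StdSpFour.Weyl (base h S) :=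
  Cfsg.Agent.StdSpFour.Weyl.base (imS h S) (center_im h) h.tX_sq (tX_mem_centralizer h) (tX_not_mem h)

theorem base_t (h : Hyp A t T) (S : Std (stdSp F) ↥A) : (base h S).t = h.tX := rfl

theorem base_xa (h : Hyp A t T) (S : Std (stdSp F) ↥A) (a : F) :
    (base h S).xa a = pr A t ⟨S.m.x a, h.A_le (S.m.x a).2⟩ := rfl

theorem base_xb (h : Hyp A t T) (S : Std (stdSp F) ↥A) (a : F) :
    (base h S).xb a = pr A t ⟨S.m.z₂ (SpFrame.tt a), h.A_le (S.m.z₂ (SpFrame.tt a)).2⟩ := rfl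

theorem base_zs (h : Hyp A t T) (S : Std (stdSp F) ↥A) (a : F) :
    (base h S).zs a = pr A t ⟨S.m.y a, h.A_le (S.m.y a).2⟩ := rfl

theorem base_zl (h : Hyp A t T) (S : Std (stdSp F) ↥A) (a : F) :
    (base h S).zl a = pr A t ⟨S.m.z₁ (SpFrame.tt a), h.A_le (S.m.z₁ (SpFrame.tt a)).2⟩ := rfl

end Sp

section U

variable {F : Type*} [Field F] [Finite F] [CharP F 2] {B : Bar F}

theorem hyp4 (h : Hyp A t T) (S : Std (stdU0 F B.s B.invol) ↥A) : UEnvW.Hyp (imS h S) B h.tX :=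
  UEnv4.hyp_U0 (imS h S) (center_im h) (amb h)

/-- The environment of type `U₄` in `X`. -/
noncomputable def env4 (h : Hyp A t T) (S : Std (stdU0 F B.s B.invol) ↥A) {lam : B.K} (h0 : lam ≠ 0)
    (h1 : lam ≠ 1) : UFour.Env B (XQ A t) := UEnv4.env4 (imS h S) (hyp4 h S) h0 h1

theorem env4_t (h : Hyp A t T) (S : Std (stdU0 F B.s B.invol) ↥A) {lam : B.K} (h0 : lam ≠ 0)
    (h1 : lam ≠ 1) : (env4 h S h0 h1).t = h.tX := rfl

theorem hyp5 (h : Hyp A t T) (S : Std (stdU1 F B.s B.invol) ↥A) {c₀ : F} (hc : c₀ * B.s c₀ = 1)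
    (hc1 : c₀ * c₀ * c₀ ≠ 1) : UEnvW.Hyp (imS h S) B h.tX :=
  UEnv5.hyp_U1 (imS h S) (center_im h) (amb h) hc hc1

/-- The environment of type `U₅` in `X`. -/
noncomputable def env5 (h : Hyp A t T) (S : Std (stdU1 F B.s B.invol) ↥A) {c₀ : F} (hc : c₀ * B.s c₀ = 1)
    (hc1 : c₀ * c₀ * c₀ ≠ 1) {lam : B.K} (h0 : lam ≠ 0) (h1 : lam ≠ 1) : UFive.Env B (XQ A t) :=
  UEnv5.env5 (imS h S) (hyp5 h S hc hc1) h0 h1

theorem env5_t (h : Hyp A t T) (S : Std (stdU1 F B.s B.invol) ↥A) {c₀ : F} (hc : c₀ * B.s c₀ = 1)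
    (hc1 : c₀ * c₀ * c₀ ≠ 1) {lam : B.K} (h0 : lam ≠ 0) (h1 : lam ≠ 1) :
    (env5 h S hc hc1 h0 h1).t = h.tX := rfl

end U

end env

/-! ### The Weyl relations of `UEnv4.env4` -/

/-- The relations between `na`, `nb` in the environment of type `U₄`. -/
structure Weyl4 {F : Type*} [Field F] [CharP F 2] {B : Bar F} {G : Type*} [Group G] (E : UFour.Env B G) :
    Prop where
  na_a : E.na * E.xa 1 * E.na * E.xa 1 * E.na * E.xa 1 = 1
  nb_b : E.nb * E.xb 1 * E.nb * E.xb 1 * E.nb * E.xb 1 = 1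
  braid : E.na * E.nb * E.na * E.nb = E.nb * E.na * E.nb * E.na

theorem weyl4 {F : Type*} [Field F] [Finite F] [CharP F 2] {B : Bar F} {G : Type u} [Group G]
    {A : Subgroup G} [Finite A] (S : Std (stdU0 F B.s B.invol) ↥A) {t : G} (h : UEnvW.Hyp S B t)
    {lam : B.K} (h0 : lam ≠ 0) (h1 : lam ≠ 1) : Weyl4 (UEnv4.env4 S h h0 h1) where
  na_a := congrArg A.subtype (B2Rel2.nI_cube S h.hZ)
  nb_b := congrArg A.subtype (B2Rel2.nb_cube S h.hB.ε (h.hB.ok0 1) h.hZ)
  braid := congrArg A.subtype (B2Rel2.braid S h.hB.ε (h.hB.ok0 1) h.hZ)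

end Cfsg.Agent.StdRank2.B2Conn
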