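import Cfsg.Agent.StdRank2.UEnv4
import Cfsg.Agent.StdRank2.UEnv5
import Cfsg.Agent.StdRank2.UFour.SeedU4
import Cfsg.Agent.StdRank2.B2Conn

/-!
# The centraliser of `Z = z₁(0,·)` in `A`

`cent_z₁`: `C_A(Z) = U C_H(Z) ∪ U C_H(Z) n_b z₂(T)`.  Hence `C_A(Z) = ⟨U, n_b U n_b⁻¹, C_H(Z)⟩` is normalised by
`C_X(t) ∩ C_X(Z)`: `conj_PP` (for `UFour`, `UFive`), `hP4` (the form of `SeedU4.exists_seed`), `braid4`.
-/

set_option autoImplicit false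
set_option linter.unusedSectionVars false

namespace Cfsg.Agent.StdRank2.B2CentZ

open Subgroup
open Cfsg.Agent.TitsThree.B2Pkg Cfsg.Agent.TitsThree.RankTwoIdentB2
  Cfsg.Agent.TitsThree.CoreB2 Cfsg.Agent.TitsThree.RankTwoIdx Cfsg.Agent.TitsThree.RankTwoRGD
  Cfsg.Agent.TitsThree.StdData
open Cfsg.Agent.StdRank2.OddLift Cfsg.Agent.StdRank2.B2Lift Cfsg.Agent.StdRank2.B2Std
  Cfsg.Agent.StdRank2.B2Torus Cfsg.Agent.StdRank2.B2Act Cfsg.Agent.StdRank2.B2Act.Std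
  Cfsg.Agent.StdRank2.B2Par Cfsg.Agent.StdRank2.B2Par.Std Cfsg.Agent.StdRank2.B2Self
  Cfsg.Agent.StdRank2.B2Amb Cfsg.Agent.StdRank2.B2Rel2 Cfsg.Agent.StdRank2.UFour
  Cfsg.Agent.StdRank2.UEnvW
open scoped commutatorElement Pointwise

universe u

section inA

variable {F : Type*} [Field F] {V : Type*} [AddCommGroup V] [Module F V] {D : PQDatum F V}
variable {A : Type u} [Group A] (S : B2Std.Std D A)

/-- the subgroup `z₁(0,·)` -/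
def Z0 : Subgroup A where
  carrier := {g | ∃ p : D.T, p.w = 0 ∧ g = S.m.z₁ p}
  mul_mem' := by
    rintro _ _ ⟨p, hp, rfl⟩ ⟨q, hq, rfl⟩
    exact ⟨p * q, by simp [hp, hq], (S.rel.z₁_mul p q).symm⟩
  one_mem' := ⟨1, rfl, (mul_one' S.rel.z₁_mul).symm⟩
  inv_mem' := by
    rintro _ ⟨p, hp, rfl⟩
    exact ⟨p⁻¹, by simp [hp], (mul_inv' S.rel.z₁_mul p).symm⟩

theorem mem_Z0 {g : A} : g ∈ Z0 S ↔ ∃ p : D.T, p.w = 0 ∧ g = S.m.z₁ p := Iff.rfl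

variable [Finite F] [CharP F 2] [Finite D.T] [Finite A]

/-- **`C_A(Z)`** -/
theorem cent_z₁ (hD : Scal D) (h1 : D.ok 0 1) {g : A}
    (hg : ∀ p : D.T, p.w = 0 → g * S.m.z₁ p * g⁻¹ = S.m.z₁ p) :
    ∃ u ∈ S.U, ∃ h ∈ S.H, (∀ p : D.T, p.w = 0 → h * S.m.z₁ p * h⁻¹ = S.m.z₁ p) ∧
      (g = u * h ∨ ∃ q, g = u * h * B2Rel2.nb S h1 * S.m.z₂ q) := by
  have hUc : ∀ {u : A}, u ∈ S.U → ∀ p : D.T, p.w = 0 → u * S.m.z₁ p * u⁻¹ = S.m.z₁ p := by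
    intro u hu p hp
    rw [← z₁_comm_U hp hu, mul_inv_cancel_right]
  have hle : S.U ⊔ S.H ≤ Subgroup.normalizer (Z0 S : Set A) := by
    apply B_le_of_conj
    · rintro u hu _ ⟨p, hp, rfl⟩
      rw [hUc hu p hp]
      exact ⟨p, hp, rfl⟩
    · rintro k hk _ ⟨p, hp, rfl⟩
      obtain ⟨l, μ, ν, ht⟩ := exists_tact S.rel S.hp₀ hD hk
      obtain ⟨q, i1, i2, i3⟩ := ht.z₁ p
      exact ⟨q, by rw [i1, hp, smul_zero], i3⟩
  have hgn : g ∈ Subgroup.normalizer (Z0 S : Set A) := by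
    apply mem_normalizer_of_conj
    rintro _ ⟨p, hp, rfl⟩
    rw [hg p hp]
    exact ⟨p, hp, rfl⟩
  have h2 := mem_or S.r2.core.symm (by norm_num) (S := Subgroup.normalizer (Z0 S : Set A))
    (by
      have : S.r2.core.symm.G = ⊤ := by
        rw [eq_top_iff, ← S.core_G]
        unfold Core.G
        refine sup_le le_sup_left (sup_le ?_ ?_)
        · exact le_trans (le_sup_right (a := S.r2.core.AJ')) le_sup_right
        · exact le_trans (le_sup_left (b := S.r2.core.AI')) le_sup_right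
      rw [this]; exact le_top)
    (by
      have : S.r2.core.symm.D = S.r2.core.D := rfl
      rw [this, core_D]; exact hle) ?_ hgn
  · have e1 : S.r2.core.symm.D = S.U ⊔ S.H := core_D
    rw [e1] at h2
    rcases h2 with h2 | ⟨b, hb, a, ha, e⟩
    · obtain ⟨u, hu, k, hk, rfl⟩ := mem_B.1 h2
      refine ⟨u, hu, k, hk, fun p hp => ?_, Or.inl rfl⟩
      have h3 := hg p hp
      have h4 := hUc (inv_mem hu) p hp
      calc k * S.m.z₁ p * k⁻¹ = u⁻¹ * (u * k * S.m.z₁ p * (u * k)⁻¹) * u⁻¹⁻¹ := by group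
        _ = _ := by rw [h3, h4]
    · obtain ⟨q, rfl⟩ := core_AJ ha
      have h5 : S.m.nII S.p₀ * (S.m.nII (o1 h1))⁻¹ ∈ S.H := hII_mem S.hp₀ (o1_ne h1)
      have h6 : b * (S.m.nII S.p₀ * (S.m.nII (o1 h1))⁻¹) ∈ S.U ⊔ S.H :=
        mul_mem hb ((le_sup_right : S.H ≤ S.U ⊔ S.H) h5)
      obtain ⟨u, hu, k, hk, e2⟩ := mem_B.1 h6
      have e3 : g = u * k * B2Rel2.nb S h1 * S.m.z₂ q := by
        rw [← e2, e]
        change b * S.m.nII S.p₀ * S.m.z₂ q = b * (S.m.nII S.p₀ * (S.m.nII (o1 h1))⁻¹) *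
          S.m.nII (o1 h1) * S.m.z₂ q
        group
      refine ⟨u, hu, k, hk, fun p hp => ?_, Or.inr ⟨q, e3⟩⟩
      have h3 := hg p hp
      have h4 := hUc (inv_mem hu) p hp
      have h7 : (S.m.z₂ q)⁻¹ * S.m.z₁ p * S.m.z₂ q = S.m.z₁ p := by
        have := hUc (inv_mem (z₂_mem (m := S.m) q)) p hp
        rwa [inv_inv] at this
      have h8 : (B2Rel2.nb S h1)⁻¹ * S.m.z₁ p * B2Rel2.nb S h1 = S.m.z₁ p := by
        have := B2Rel2.nb_z₁ S h1 p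
        calc (B2Rel2.nb S h1)⁻¹ * S.m.z₁ p * B2Rel2.nb S h1 =
            (B2Rel2.nb S h1)⁻¹ * (B2Rel2.nb S h1 * S.m.z₁ p * (B2Rel2.nb S h1)⁻¹) * B2Rel2.nb S h1 := by
              rw [this]
          _ = _ := by group
      have h9 : k * S.m.z₁ p * k⁻¹ = u⁻¹ * (g * S.m.z₁ p * g⁻¹) * u⁻¹⁻¹ := by
        have h10 : g * S.m.z₁ p * g⁻¹ = u * (k * S.m.z₁ p * k⁻¹) * u⁻¹ := by
          rw [e3]
          have h11 : B2Rel2.nb S h1 * (S.m.z₂ q * S.m.z₁ p * (S.m.z₂ q)⁻¹) * (B2Rel2.nb S h1)⁻¹ =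
              S.m.z₁ p := by
            rw [hUc (z₂_mem (m := S.m) q) p hp, B2Rel2.nb_z₁ S h1 p]
          calc u * k * B2Rel2.nb S h1 * S.m.z₂ q * S.m.z₁ p * (u * k * B2Rel2.nb S h1 * S.m.z₂ q)⁻¹
              = u * (k * (B2Rel2.nb S h1 * (S.m.z₂ q * S.m.z₁ p * (S.m.z₂ q)⁻¹) *
                (B2Rel2.nb S h1)⁻¹) * k⁻¹) * u⁻¹ := by group
            _ = _ := by rw [h11]
        rw [h10]; group
      rw [h9, h3, h4]
  · have e1 : S.r2.core.symm.nJ = S.m.nI := core_nI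
    rw [e1]
    intro hn
    obtain ⟨p, hp, e⟩ := (mem_normalizer_iff.1 hn (S.m.z₁ (o1 h1))).1 ⟨_, rfl, rfl⟩
    have h3 : S.m.nI * S.m.z₁ (o1 h1) * S.m.nI⁻¹ ∈ S.VJ := by rw [e]; exact S.z₁_mem_VJ _
    rw [S.rel.nI_z₁, S.z₂_mem_VJ_iff] at h3
    have h4 := congrArg PQDatum.T.c h3
    rw [D.sc_c, PQDatum.T.one_c, map_neg, map_one] at h4
    have e5 : (o1 h1).c = 1 := rfl
    rw [e5] at h4
    exact one_ne_zero (by linear_combination h4 : (1 : F) = 0)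

end inA

section ambient

variable {F : Type*} [Field F] {V : Type*} [AddCommGroup V] [Module F V] {D : PQDatum F V}
variable [Finite F] [CharP F 2] [Finite D.T]
variable {G : Type u} [Group G] {A : Subgroup G} [Finite A] (S : B2Std.Std D ↥A) {B : Bar F}

/-- the torus centralising `Z` -/
def HZ (E : WEnv B G) : Subgroup G where
  carrier := {k | k ∈ E.T ∧ ∀ x, k * E.xz x * k⁻¹ = E.xz x}
  mul_mem' := by
    rintro a b ⟨ha, ha'⟩ ⟨hb, hb'⟩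
    refine ⟨mul_mem ha hb, fun x => ?_⟩
    have e : a * b * E.xz x * (a * b)⁻¹ = a * (b * E.xz x * b⁻¹) * a⁻¹ := by group
    rw [e, hb', ha']
  one_mem' := ⟨one_mem _, fun x => by group⟩
  inv_mem' := by
    rintro a ⟨ha, ha'⟩
    refine ⟨inv_mem ha, fun x => ?_⟩
    conv_lhs => rw [← ha' x]
    group

/-- `⟨U, n U n⁻¹, C_T(Z)⟩` -/
def PP (E : WEnv B G) (n : G) : Subgroup G :=
  closure ((SeedPre.UU E : Set G) ∪ {g | ∃ u ∈ SeedPre.UU E, g = n * u * n⁻¹} ∪ HZ E)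

variable {S} {t : G} (h : Hyp S B t) {lam : B.K} (h0 : lam ≠ 0) (h1 : lam ≠ 1)

theorem mem_UU_of {u : ↥A} (hu : u ∈ S.U) : (u : G) ∈ SeedPre.UU (wenv S h h0 h1) := by
  obtain ⟨a, ha⟩ := exists_PX hu
  obtain ⟨v, hv, rfl⟩ := PX.decomp ha
  refine ⟨(S.m.x a * v * (S.m.x a)⁻¹ : ↥A), ⟨_, S.UVI _ (x_mem a) v hv, rfl⟩, a, ?_⟩
  change ((S.m.x a * v : ↥A) : G) = ((S.m.x a * v * (S.m.x a)⁻¹ : ↥A) : G) * (S.m.x a : G)
  rw [← Subgroup.coe_mul, inv_mul_cancel_right]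

theorem UU_le {g : G} (hg : g ∈ SeedPre.UU (wenv S h h0 h1)) : ∃ u ∈ S.U, g = (u : G) := by
  obtain ⟨_, ⟨v, hv, rfl⟩, s, rfl⟩ := hg
  exact ⟨v * S.m.x s, mul_mem (S.VI_le hv) (x_mem s), rfl⟩

/-- `C_A(Z) ≤ ⟨U, n_b U n_b⁻¹, C_T(Z)⟩` -/
theorem mem_PP_of {g : ↥A} (hg : ∀ x : B.K, (g : G) * (S.m.z₁ (tk h.hB x) : G) = (S.m.z₁ (tk h.hB x) : G) * g) :
    (g : G) ∈ PP (wenv S h h0 h1) ((B2Rel2.nb S (h.hB.ok0 1) : ↥A) : G) := by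
  set E := wenv S h h0 h1 with hE
  set n : G := ((B2Rel2.nb S (h.hB.ok0 1) : ↥A) : G) with hn
  obtain ⟨u, hu, k, hk, hkz, e⟩ := cent_z₁ S h.hD (h.hB.ok0 1) (g := g) (fun p hp => by
    obtain ⟨x, rfl⟩ := exists_tk h.hB hp
    apply Subtype.ext
    exact mul_inv_eq_iff_eq_mul.2 (hg x))
  have hU : ∀ v ∈ S.U, (v : G) ∈ PP E n := fun v hv =>
    subset_closure (Or.inl (Or.inl (mem_UU_of h h0 h1 hv)))
  have hk' : (k : G) ∈ PP E n := subset_closure (Or.inr ⟨⟨k, hk, rfl⟩, fun x => by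
    exact congrArg A.subtype (hkz (tk h.hB x) (tk_w h.hB x))⟩)
  have hn' : n ∈ PP E n := by
    have i1 : (S.m.z₂ (o1 (h.hB.ok0 1)) : G) ∈ PP E n := hU _ (z₂_mem _)
    have i2 : (S.m.z₂' (o1 (h.hB.ok0 1)) : G) ∈ PP E n := by
      have i3 : n * (S.m.z₂ (o1 (h.hB.ok0 1)) : G) * n⁻¹ ∈ PP E n :=
        subset_closure (Or.inl (Or.inr ⟨_, mem_UU_of h h0 h1 (z₂_mem _), rfl⟩))
      have i4 : n * (S.m.z₂ (o1 (h.hB.ok0 1)) : G) * n⁻¹ = (S.m.z₂' (o1 (h.hB.ok0 1)) : G) :=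
        congrArg A.subtype (B2Rel2.nb_z₂ S (h.hB.ok0 1) (o1 (h.hB.ok0 1)))
      rw [i4] at i3
      exact i3
    have i5 : n = (S.m.z₂' (o1 (h.hB.ok0 1)) : G) * (S.m.z₂ (o1 (h.hB.ok0 1)) : G) *
        (S.m.z₂' (o1 (h.hB.ok0 1)) : G) := congrArg A.subtype (nb_def S (h.hB.ok0 1))
    rw [i5] at i2 ⊢
    rw [i5] at i1
    exact mul_mem (mul_mem i2 i1) i2
  rcases e with e | ⟨q, e⟩
  · rw [e]; exact mul_mem (hU _ hu) hk'
  · rw [e]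
    exact mul_mem (mul_mem (mul_mem (hU _ hu) hk') hn') (hU _ (z₂_mem _))

theorem PP_le {g : G} (hg : g ∈ PP (wenv S h h0 h1) ((B2Rel2.nb S (h.hB.ok0 1) : ↥A) : G)) :
    g ∈ A ∧ ∀ x : B.K, g * (S.m.z₁ (tk h.hB x) : G) * g⁻¹ = (S.m.z₁ (tk h.hB x) : G) := by
  let C : Subgroup G :=
    { carrier := {g | g ∈ A ∧ ∀ x : B.K, g * (S.m.z₁ (tk h.hB x) : G) * g⁻¹ = (S.m.z₁ (tk h.hB x) : G)}
      mul_mem' := by
        rintro a b ⟨ha, ha'⟩ ⟨hb, hb'⟩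
        refine ⟨mul_mem ha hb, fun x => ?_⟩
        have e : a * b * (S.m.z₁ (tk h.hB x) : G) * (a * b)⁻¹ =
            a * (b * (S.m.z₁ (tk h.hB x) : G) * b⁻¹) * a⁻¹ := by group
        rw [e, hb', ha']
      one_mem' := ⟨one_mem _, fun x => by group⟩
      inv_mem' := by
        rintro a ⟨ha, ha'⟩
        refine ⟨inv_mem ha, fun x => ?_⟩
        conv_lhs => rw [← ha' x]
        group }
  have hUC : ∀ u ∈ S.U, (u : G) ∈ C := by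
    intro u hu
    refine ⟨u.2, fun x => ?_⟩
    have := z₁_comm_U (tk_w h.hB x) hu
    exact mul_inv_eq_iff_eq_mul.2 (congrArg A.subtype this.symm)
  have hnC : ((B2Rel2.nb S (h.hB.ok0 1) : ↥A) : G) ∈ C := by
    refine ⟨(B2Rel2.nb S _).2, fun x => ?_⟩
    exact congrArg A.subtype (B2Rel2.nb_z₁ S (h.hB.ok0 1) (tk h.hB x))
  have hle : PP (wenv S h h0 h1) ((B2Rel2.nb S (h.hB.ok0 1) : ↥A) : G) ≤ C := by
    unfold PP
    rw [closure_le]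
    rintro g ((hg | ⟨u, hu, rfl⟩) | ⟨hk, hk'⟩)
    · obtain ⟨u, hu, rfl⟩ := UU_le h h0 h1 hg
      exact hUC u hu
    · obtain ⟨u, hu', rfl⟩ := UU_le h h0 h1 hu
      exact C.mul_mem (C.mul_mem hnC (hUC u hu')) (C.inv_mem hnC)
    · obtain ⟨k, hk, rfl⟩ := hk
      exact ⟨k.2, hk'⟩
  exact hle hg

/-- **`C_X(t) ∩ C_X(Z)` normalises `⟨U, n_b U n_b⁻¹, C_T(Z)⟩`.** -/
theorem conj_PP {c : G} (hc : c * t = t * c)
    (hz : ∀ x : B.K, c * (S.m.z₁ (tk h.hB x) : G) = (S.m.z₁ (tk h.hB x) : G) * c) {g : G}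
    (hg : g ∈ PP (wenv S h h0 h1) ((B2Rel2.nb S (h.hB.ok0 1) : ↥A) : G)) :
    c * g * c⁻¹ ∈ PP (wenv S h h0 h1) ((B2Rel2.nb S (h.hB.ok0 1) : ↥A) : G) := by
  obtain ⟨hgA, hgz⟩ := PP_le h h0 h1 hg
  have h2 : c * g * c⁻¹ ∈ A := h.amb.nor c hc g hgA
  apply mem_PP_of h h0 h1 (g := ⟨_, h2⟩)
  intro x
  change c * g * c⁻¹ * _ = _ * (c * g * c⁻¹)
  have h3 : c⁻¹ * (S.m.z₁ (tk h.hB x) : G) * c = (S.m.z₁ (tk h.hB x) : G) := by
    rw [mul_assoc, ← hz, inv_mul_cancel_left]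
  have h4 := mul_inv_eq_iff_eq_mul.1 (hgz x)
  calc c * g * c⁻¹ * (S.m.z₁ (tk h.hB x) : G)
      = c * (g * (c⁻¹ * (S.m.z₁ (tk h.hB x) : G) * c)) * c⁻¹ := by group
    _ = (c * (S.m.z₁ (tk h.hB x) : G)) * g * c⁻¹ := by rw [h3, h4]; group
    _ = _ := by rw [hz]; group

end ambient

/-! ### `U₄` -/

section four

variable {F : Type*} [Field F] [Finite F] [CharP F 2] {B : Bar F}
variable {G : Type u} [Group G] {A : Subgroup G} [Finite A] (S : Std (stdU0 F B.s B.invol) ↥A)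

theorem P_eq4 {t : G} (h : Hyp S B t) {lam : B.K} (h0 : lam ≠ 0) (h1 : lam ≠ 1) :
    SeedU4.P (UEnv4.env4 S h h0 h1) =
      PP (wenv S h h0 h1) ((B2Rel2.nb S (h.hB.ok0 1) : ↥A) : G) := rfl

/-- **The hypothesis `hP` of `SeedU4.exists_seed`.** -/
theorem hP4 {t : G} (h : Hyp S B t) {lam : B.K} (h0 : lam ≠ 0) (h1 : lam ≠ 1) :
    ∀ c, c * (UEnv4.env4 S h h0 h1).t = (UEnv4.env4 S h h0 h1).t * c →
      (∀ x, c * (UEnv4.env4 S h h0 h1).xz x = (UEnv4.env4 S h h0 h1).xz x * c) →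
      ∀ g ∈ SeedU4.P (UEnv4.env4 S h h0 h1), c * g * c⁻¹ ∈ SeedU4.P (UEnv4.env4 S h h0 h1) := by
  intro c hc hz g hg
  rw [P_eq4] at hg ⊢
  exact conj_PP h h0 h1 hc hz hg

/-- **The hypothesis `hb` of `SeedU4.exists_seed`.** -/
theorem braid4 {t : G} (h : Hyp S B t) {lam : B.K} (h0 : lam ≠ 0) (h1 : lam ≠ 1) :
    SeedU4.Braid (UEnv4.env4 S h h0 h1) := by
  have h2 := (B2Conn.weyl4 S h h0 h1).nb_b
  unfold SeedU4.Braid
  rw [pow_succ, pow_two, ← h2]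
  group

/-- **The seed of type `U₄` in `X`.** -/
theorem exists_seed4 [Finite G] {t : G} (h : Hyp S B t) {lam : B.K} (h0 : lam ≠ 0) (h1 : lam ≠ 1)
    {n : G} (hn : n ∈ normalizer (SeedOdd.TZ (UEnv4.env4 S h h0 h1).toWEnv : Set G)) {c : B.K} (hc : c ≠ 0)
    (ht : n * (UEnv4.env4 S h h0 h1).t * n⁻¹ = (UEnv4.env4 S h h0 h1).xz c * (UEnv4.env4 S h h0 h1).t) :
    ∃ Sd : Seed (UEnv4.env4 S h h0 h1).toWEnv,
      (∀ y ∈ Sd.Y, ∀ g ∈ SeedU4.P (UEnv4.env4 S h h0 h1), y * g = g * y) ∧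
      ∀ y ∈ Sd.Y, (UEnv4.env4 S h h0 h1).nb * y = y * (UEnv4.env4 S h h0 h1).nb :=
  SeedU4.exists_seed (braid4 S h h0 h1) (hP4 S h h0 h1) hn hc ht

end four

end Cfsg.Agent.StdRank2.B2CentZ
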