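import Cfsg.Agent.StdRank2.OddLift
import Cfsg.Agent.TitsThree.RankTwoIdentB2
import Cfsg.Agent.TitsThree.B2Derived

/-!
# Lifting a `B₂` package through a central kernel of odd order, characteristic two

`F` of characteristic two, `f : A →* L` onto with central kernel of odd order, `m : B2Maps D L`,
`B2Rel m`.  Then the maps `lm h m := lift ∘ m` satisfy `B2Rel` in `A`, lie over `m`, and generate `A`
if `A` is perfect and `m` generates `L`.
-/

set_option autoImplicit false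
set_option linter.unusedSectionVars false

namespace Cfsg.Agent.StdRank2.B2Lift

open Subgroup
open Cfsg.Agent.TitsThree.B2Pkg Cfsg.Agent.TitsThree.RankTwoIdentB2
open Cfsg.Agent.StdRank2.OddLift
open scoped commutatorElement

variable {F : Type*} [Field F] {V : Type*} [AddCommGroup V] [Module F V] {D : PQDatum F V}

/-! ### The parameter groups are 2-groups -/

theorem T_pow_four [CharP F 2] (p : D.T) : p ^ 4 = 1 := by
  have h2 : (2 : F) = 0 := by exact_mod_cast CharP.cast_eq_zero F 2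
  have hV : ∀ w : V, w + w = 0 := by
    intro w
    have : (2 : F) • w = 0 := by rw [h2, zero_smul]
    rwa [two_smul] at this
  have h1 : (p * p).w = 0 := by rw [PQDatum.T.mul_w]; exact hV _
  have h3 : p ^ 4 = (p * p) * (p * p) := by
    rw [show (4 : ℕ) = 2 + 2 from rfl, pow_add, sq]
  rw [h3]
  ext
  · rw [PQDatum.T.mul_w, h1, add_zero, PQDatum.T.one_w]
  · have h4 : D.h (p * p).w (p * p).w = 0 := by rw [h1]; exact D.zero_left _
    rw [PQDatum.T.mul_c, h4, PQDatum.T.one_c]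
    linear_combination (p * p).c * h2

theorem isTwo_of_add [CharP F 2] {Y : Type*} [Group Y] {g : F → Y}
    (h : ∀ a b, g (a + b) = g a * g b) (a : F) : IsTwo (g a) := by
  refine ⟨1, ?_⟩
  rw [pow_one, sq, ← h]
  have : a + a = 0 := CharTwo.add_self_eq_zero a
  rw [this]
  have := h 0 0
  rw [add_zero] at this
  exact left_eq_mul.1 this

theorem isTwo_of_mul [CharP F 2] {Y : Type*} [Group Y] {g : D.T → Y}
    (h : ∀ a b, g (a * b) = g a * g b) (p : D.T) : IsTwo (g p) := by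
  let φ : D.T →* Y := MonoidHom.mk' g h
  have h1 : IsTwo p := ⟨2, T_pow_four p⟩
  exact h1.map φ

/-- the range of an additive family, as a subgroup -/
def addRange {Y : Type*} [Group Y] (g : F → Y) (h : ∀ a b, g (a + b) = g a * g b) : Subgroup Y :=
  (MonoidHom.mk' (fun a : Multiplicative F => g a.toAdd) (fun a b => h a.toAdd b.toAdd)).range

theorem mem_addRange {Y : Type*} [Group Y] {g : F → Y} {h : ∀ a b, g (a + b) = g a * g b} {y : Y} :
    y ∈ addRange g h ↔ ∃ a, g a = y := by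
  constructor
  · rintro ⟨a, rfl⟩
    exact ⟨a.toAdd, rfl⟩
  · rintro ⟨a, rfl⟩
    exact ⟨Multiplicative.ofAdd a, rfl⟩

/-- the range of a multiplicative family, as a subgroup -/
def mulRange {Y : Type*} [Group Y] (g : D.T → Y) (h : ∀ a b, g (a * b) = g a * g b) : Subgroup Y :=
  (MonoidHom.mk' g h).range

theorem mem_mulRange {Y : Type*} [Group Y] {g : D.T → Y} {h : ∀ a b, g (a * b) = g a * g b}
    {y : Y} : y ∈ mulRange g h ↔ ∃ a, g a = y := Iff.rfl

theorem isPGroup_of_forall {Y : Type*} [Group Y] {P : Subgroup Y} (h : ∀ y ∈ P, IsTwo y) :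
    IsPGroup 2 P := by
  rintro ⟨y, hy⟩
  obtain ⟨k, hk⟩ := h y hy
  exact ⟨k, Subtype.ext hk⟩

section pos

variable [CharP F 2] {Y : Type*} [Group Y] {m : B2Maps D Y} (h : B2Rel m)

include h

/-- The positive part is a 2-group. -/
theorem isPGroup_pos : IsPGroup 2 (Subgroup.closure (posSet m)) := by
  classical
  let A2 : Subgroup Y := mulRange m.z₁ h.z₁_mul
  let A1 : Subgroup Y := addRange m.y h.y_add
  let X : Subgroup Y := addRange m.x h.x_add
  let Z : Subgroup Y := mulRange m.z₂ h.z₂_mul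
  have pA1 : IsPGroup 2 A1 := isPGroup_of_forall (by
    rintro _ hy
    obtain ⟨a, rfl⟩ := mem_addRange.1 hy
    exact isTwo_of_add h.y_add a)
  have pX : IsPGroup 2 X := isPGroup_of_forall (by
    rintro _ hy
    obtain ⟨a, rfl⟩ := mem_addRange.1 hy
    exact isTwo_of_add h.x_add a)
  have pA2 : IsPGroup 2 A2 := isPGroup_of_forall (by
    rintro _ hy
    obtain ⟨a, rfl⟩ := mem_mulRange.1 hy
    exact isTwo_of_mul h.z₁_mul a)
  have pZ : IsPGroup 2 Z := isPGroup_of_forall (by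
    rintro _ hy
    obtain ⟨a, rfl⟩ := mem_mulRange.1 hy
    exact isTwo_of_mul h.z₂_mul a)
  -- `A1` and `A2` commute
  have n1 : A1 ≤ Subgroup.normalizer (A2 : Set Y) := by
    intro y hy
    obtain ⟨b, rfl⟩ := mem_addRange.1 hy
    have hc : ∀ p, Commute (m.y b) (m.z₁ p) := fun p => h.y_z₁ b p
    rw [mem_normalizer_iff]
    intro g
    constructor
    · intro hg
      obtain ⟨p, rfl⟩ := mem_mulRange.1 hg
      rw [(hc p).eq, mul_inv_cancel_right]
      exact mem_mulRange.2 ⟨p, rfl⟩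
    · intro hg
      obtain ⟨p, hp⟩ := mem_mulRange.1 hg
      have : g = (m.y b)⁻¹ * m.z₁ p * m.y b := by rw [hp]; group
      rw [this, mul_assoc, ← (hc p).eq, inv_mul_cancel_left]
      exact mem_mulRange.2 ⟨p, rfl⟩
  have pN : IsPGroup 2 (A1 ⊔ A2 : Subgroup Y) := pA1.to_sup_of_normal_right' pA2 n1
  -- normalisers
  have key : ∀ (N : Subgroup Y) (g : Y), (∀ x ∈ N, g * x * g⁻¹ ∈ N) → (∀ x ∈ N, g⁻¹ * x * g ∈ N) →
      g ∈ Subgroup.normalizer (N : Set Y) := by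
    intro N g h1 h2
    rw [mem_normalizer_iff]
    intro x
    refine ⟨h1 x, fun hx => ?_⟩
    have := h2 _ hx
    have e : g⁻¹ * (g * x * g⁻¹) * g = x := by group
    rwa [e] at this
  have mono : ∀ (N : Subgroup Y) (g : Y) (S : Set Y), N = Subgroup.closure S →
      (∀ x ∈ S, g * x * g⁻¹ ∈ N) → ∀ x ∈ N, g * x * g⁻¹ ∈ N := by
    intro N g S hS h1 x hx
    have h3 : N ≤ N.comap (MulAut.conj g).toMonoidHom := by
      conv_lhs => rw [hS]
      rw [Subgroup.closure_le]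
      intro s hs
      exact h1 s hs
    exact h3 hx
  let N : Subgroup Y := A1 ⊔ A2
  let S1 : Set Y := Set.range m.y ∪ Set.range m.z₁
  have hN : N = Subgroup.closure S1 := by
    apply le_antisymm
    · refine sup_le ?_ ?_
      · intro y hy
        obtain ⟨b, rfl⟩ := mem_addRange.1 hy
        exact Subgroup.subset_closure (Or.inl ⟨b, rfl⟩)
      · intro y hy
        obtain ⟨b, rfl⟩ := mem_mulRange.1 hy
        exact Subgroup.subset_closure (Or.inr ⟨b, rfl⟩)
    · rw [Subgroup.closure_le]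
      rintro y (⟨b, rfl⟩ | ⟨p, rfl⟩)
      · exact (le_sup_left : A1 ≤ N) (mem_addRange.2 ⟨b, rfl⟩)
      · exact (le_sup_right : A2 ≤ N) (mem_mulRange.2 ⟨p, rfl⟩)
  have hyN : ∀ b, m.y b ∈ N := fun b => (le_sup_left : A1 ≤ N) (mem_addRange.2 ⟨b, rfl⟩)
  have hzN : ∀ p, m.z₁ p ∈ N := fun p => (le_sup_right : A2 ≤ N) (mem_mulRange.2 ⟨p, rfl⟩)
  have hX1 : ∀ a, ∀ x ∈ N, m.x a * x * (m.x a)⁻¹ ∈ N := by
    intro a
    apply mono N (m.x a) S1 hN
    rintro x (⟨b, rfl⟩ | ⟨p, rfl⟩)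
    · rw [B2Rel.conj_of_br (h.x_y a b)]
      exact mul_mem (hzN _) (hyN _)
    · rw [B2Rel.conj_of_commute (h.x_z₁ a p)]
      exact hzN _
  have hZ1 : ∀ q, ∀ x ∈ N, m.z₂ q * x * (m.z₂ q)⁻¹ ∈ N := by
    intro q
    apply mono N (m.z₂ q) S1 hN
    rintro x (⟨b, rfl⟩ | ⟨p, rfl⟩)
    · rw [B2Rel.conj_of_commute (h.y_z₂ b q).symm]
      exact hyN _
    · have e : m.z₂ q * m.z₁ p * (m.z₂ q)⁻¹ = ⁅m.z₁ p, m.z₂ q⁆⁻¹ * m.z₁ p := by
        rw [commutatorElement_def]; group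
      rw [e, h.z₁_z₂]
      exact mul_mem (inv_mem (hyN _)) (hzN _)
  have nX : X ≤ Subgroup.normalizer (N : Set Y) := by
    intro g hg
    obtain ⟨a, rfl⟩ := mem_addRange.1 hg
    refine key N _ (hX1 a) ?_
    intro x hx
    have := hX1 (-a) x hx
    rwa [add_neg' h.x_add, inv_inv] at this
  have pNX : IsPGroup 2 (X ⊔ N : Subgroup Y) := pX.to_sup_of_normal_right' pN nX
  have nZ : Z ≤ Subgroup.normalizer ((X ⊔ N : Subgroup Y) : Set Y) := by
    have hS2 : (X ⊔ N : Subgroup Y) = Subgroup.closure (Set.range m.x ∪ S1) := by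
      rw [Subgroup.closure_union, ← hN]
      congr 1
      apply le_antisymm
      · intro y hy
        obtain ⟨b, rfl⟩ := mem_addRange.1 hy
        exact Subgroup.subset_closure ⟨b, rfl⟩
      · rw [Subgroup.closure_le]
        rintro y ⟨b, rfl⟩
        exact mem_addRange.2 ⟨b, rfl⟩
    have hZ2 : ∀ q, ∀ x ∈ (X ⊔ N : Subgroup Y), m.z₂ q * x * (m.z₂ q)⁻¹ ∈ (X ⊔ N : Subgroup Y) := by
      intro q
      apply mono _ (m.z₂ q) _ hS2
      rintro x (⟨a, rfl⟩ | hx)
      · have e : m.z₂ q * m.x a * (m.z₂ q)⁻¹ = ⁅m.x a, m.z₂ q⁆⁻¹ * m.x a := by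
          rw [commutatorElement_def]; group
        rw [e, h.x_z₂]
        refine mul_mem (inv_mem ?_) ((le_sup_left : X ≤ X ⊔ N) (mem_addRange.2 ⟨a, rfl⟩))
        exact (le_sup_right : N ≤ X ⊔ N) (mul_mem (hzN _) (hyN _))
      · refine (le_sup_right : N ≤ X ⊔ N) (hZ1 q x ?_)
        rw [hN]; exact Subgroup.subset_closure hx
    intro g hg
    obtain ⟨q, rfl⟩ := mem_mulRange.1 hg
    refine key _ _ (hZ2 q) ?_
    intro x hx
    have := hZ2 q⁻¹ x hx
    rwa [mul_inv' h.z₂_mul, inv_inv] at this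
  have pU : IsPGroup 2 (Z ⊔ (X ⊔ N) : Subgroup Y) := pZ.to_sup_of_normal_right' pNX nZ
  refine pU.to_le ?_
  rw [Subgroup.closure_le]
  rintro g (⟨a, rfl | rfl⟩ | ⟨p, rfl | rfl⟩)
  · exact le_trans (le_sup_left : X ≤ X ⊔ N) le_sup_right (mem_addRange.2 ⟨a, rfl⟩)
  · exact le_trans (le_sup_right : N ≤ X ⊔ N) le_sup_right (hyN a)
  · exact le_trans (le_sup_right : N ≤ X ⊔ N) le_sup_right (hzN p)
  · exact (le_sup_left : Z ≤ Z ⊔ (X ⊔ N)) (mem_mulRange.2 ⟨p, rfl⟩)

/-- The negative root elements are 2-elements, too. -/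
theorem isTwo_all : (∀ a, IsTwo (m.x a)) ∧ (∀ a, IsTwo (m.x' a)) ∧ (∀ a, IsTwo (m.y a)) ∧
    (∀ a, IsTwo (m.y' a)) ∧ (∀ p, IsTwo (m.z₁ p)) ∧ (∀ p, IsTwo (m.z₂ p)) ∧
    (∀ p, IsTwo (m.z₁' p)) ∧ (∀ p, IsTwo (m.z₂' p)) :=
  ⟨isTwo_of_add h.x_add, isTwo_of_add h.x'_add, isTwo_of_add h.y_add, isTwo_of_add h.y'_add,
    isTwo_of_mul h.z₁_mul, isTwo_of_mul h.z₂_mul, isTwo_of_mul h.z₁'_mul, isTwo_of_mul h.z₂'_mul⟩

end pos

/-! ### The lift -/

section lift

variable [CharP F 2] {A L : Type*} [Group A] [Group L] [Finite A] {f : A →* L} (c : Cov f)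
  {m : B2Maps D L} (h : B2Rel m)

/-- the lifted maps -/
noncomputable def lm (c : Cov f) (m : B2Maps D L) : B2Maps D A where
  x a := lift c (m.x a)
  x' a := lift c (m.x' a)
  y a := lift c (m.y a)
  y' a := lift c (m.y' a)
  z₁ p := lift c (m.z₁ p)
  z₂ p := lift c (m.z₂ p)
  z₁' p := lift c (m.z₁' p)
  z₂' p := lift c (m.z₂' p)

include h

theorem map_lm : (lm c m).map f = m := by
  obtain ⟨h1, h2, h3, h4, h5, h6, h7, h8⟩ := isTwo_all h
  cases m
  simp only [lm, B2Maps.map]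
  congr 1
  · funext a; exact map_lift c (h1 a)
  · funext a; exact map_lift c (h2 a)
  · funext a; exact map_lift c (h3 a)
  · funext a; exact map_lift c (h4 a)
  · funext a; exact map_lift c (h5 a)
  · funext a; exact map_lift c (h6 a)
  · funext a; exact map_lift c (h7 a)
  · funext a; exact map_lift c (h8 a)

theorem map_nI : f (lm c m).nI = m.nI := by
  rw [← B2Rel.map_nI, map_lm c h]

theorem map_nII (p : D.T) : f ((lm c m).nII p) = m.nII p := by
  rw [← B2Rel.map_nII, map_lm c h]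

omit h in
theorem lift_add {g : F → L} (hg : ∀ a b, g (a + b) = g a * g b) (a b : F) :
    lift c (g (a + b)) = lift c (g a) * lift c (g b) := by
  rw [hg]
  have hP : IsPGroup 2 (addRange g hg) := isPGroup_of_forall (by
    rintro _ hy
    obtain ⟨a, rfl⟩ := mem_addRange.1 hy
    exact isTwo_of_add hg a)
  exact lift_mul c hP (mem_addRange.2 ⟨a, rfl⟩) (mem_addRange.2 ⟨b, rfl⟩)

omit h in
theorem lift_mul' {g : D.T → L} (hg : ∀ a b, g (a * b) = g a * g b) (a b : D.T) :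
    lift c (g (a * b)) = lift c (g a) * lift c (g b) := by
  rw [hg]
  have hP : IsPGroup 2 (mulRange g hg) := isPGroup_of_forall (by
    rintro _ hy
    obtain ⟨a, rfl⟩ := mem_mulRange.1 hy
    exact isTwo_of_mul hg a)
  exact lift_mul c hP (mem_mulRange.2 ⟨a, rfl⟩) (mem_mulRange.2 ⟨b, rfl⟩)

/-- **The lifted package satisfies all relations.** -/
theorem rel : B2Rel (lm c m) where
  x_add := lift_add c h.x_add
  x'_add := lift_add c h.x'_add
  y_add := lift_add c h.y_add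
  y'_add := lift_add c h.y'_add
  z₁_mul := lift_mul' c h.z₁_mul
  z₂_mul := lift_mul' c h.z₂_mul
  z₁'_mul := lift_mul' c h.z₁'_mul
  z₂'_mul := lift_mul' c h.z₂'_mul
  x_z₂ a p := by
    have hx : m.x a ∈ Subgroup.closure (posSet m) := Subgroup.subset_closure (Or.inl ⟨a, Or.inl rfl⟩)
    have hz : m.z₂ p ∈ Subgroup.closure (posSet m) := Subgroup.subset_closure (Or.inr ⟨p, Or.inr rfl⟩)
    have h1 : ∀ q, m.z₁ q ∈ Subgroup.closure (posSet m) :=
      fun q => Subgroup.subset_closure (Or.inr ⟨q, Or.inl rfl⟩)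
    have h2 : ∀ b, m.y b ∈ Subgroup.closure (posSet m) :=
      fun b => Subgroup.subset_closure (Or.inl ⟨b, Or.inr rfl⟩)
    change ⁅lift c (m.x a), lift c (m.z₂ p)⁆ = lift c _ * lift c _
    rw [← lift_commutator c (isPGroup_pos h) hx hz, h.x_z₂, lift_mul c (isPGroup_pos h) (h1 _) (h2 _)]
  z₁_z₂ p q := by
    have hz : m.z₂ q ∈ Subgroup.closure (posSet m) := Subgroup.subset_closure (Or.inr ⟨q, Or.inr rfl⟩)
    have h1 : ∀ q, m.z₁ q ∈ Subgroup.closure (posSet m) :=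
      fun q => Subgroup.subset_closure (Or.inr ⟨q, Or.inl rfl⟩)
    change ⁅lift c (m.z₁ p), lift c (m.z₂ q)⁆ = lift c _
    rw [← lift_commutator c (isPGroup_pos h) (h1 _) hz, h.z₁_z₂]
  x_y a b := by
    have hx : m.x a ∈ Subgroup.closure (posSet m) := Subgroup.subset_closure (Or.inl ⟨a, Or.inl rfl⟩)
    have h2 : ∀ b, m.y b ∈ Subgroup.closure (posSet m) :=
      fun b => Subgroup.subset_closure (Or.inl ⟨b, Or.inr rfl⟩)
    change ⁅lift c (m.x a), lift c (m.y b)⁆ = lift c _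
    rw [← lift_commutator c (isPGroup_pos h) hx (h2 b), h.x_y]
  x_z₁ a p := by
    have hx : m.x a ∈ Subgroup.closure (posSet m) := Subgroup.subset_closure (Or.inl ⟨a, Or.inl rfl⟩)
    have h1 : m.z₁ p ∈ Subgroup.closure (posSet m) := Subgroup.subset_closure (Or.inr ⟨p, Or.inl rfl⟩)
    change lift c _ * lift c _ = lift c _ * lift c _
    rw [← lift_mul c (isPGroup_pos h) hx h1, ← lift_mul c (isPGroup_pos h) h1 hx, (h.x_z₁ a p).eq]
  y_z₁ b p := by
    have hx : m.y b ∈ Subgroup.closure (posSet m) := Subgroup.subset_closure (Or.inl ⟨b, Or.inr rfl⟩)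
    have h1 : m.z₁ p ∈ Subgroup.closure (posSet m) := Subgroup.subset_closure (Or.inr ⟨p, Or.inl rfl⟩)
    change lift c _ * lift c _ = lift c _ * lift c _
    rw [← lift_mul c (isPGroup_pos h) hx h1, ← lift_mul c (isPGroup_pos h) h1 hx, (h.y_z₁ b p).eq]
  y_z₂ b p := by
    have hx : m.y b ∈ Subgroup.closure (posSet m) := Subgroup.subset_closure (Or.inl ⟨b, Or.inr rfl⟩)
    have h1 : m.z₂ p ∈ Subgroup.closure (posSet m) := Subgroup.subset_closure (Or.inr ⟨p, Or.inr rfl⟩)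
    change lift c _ * lift c _ = lift c _ * lift c _
    rw [← lift_mul c (isPGroup_pos h) hx h1, ← lift_mul c (isPGroup_pos h) h1 hx, (h.y_z₂ b p).eq]
  nI_x a := lift_conj' c (map_nI c h) (h.nI_x a)
  nI_x' a := lift_conj' c (map_nI c h) (h.nI_x' a)
  nI_y a := lift_conj' c (map_nI c h) (h.nI_y a)
  nI_y' a := lift_conj' c (map_nI c h) (h.nI_y' a)
  nI_z₁ a := lift_conj' c (map_nI c h) (h.nI_z₁ a)
  nI_z₂ a := lift_conj' c (map_nI c h) (h.nI_z₂ a)
  nI_z₁' a := lift_conj' c (map_nI c h) (h.nI_z₁' a)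
  nI_z₂' a := lift_conj' c (map_nI c h) (h.nI_z₂' a)
  nII_x p hp a := lift_conj' c (map_nII c h p) (h.nII_x p hp a)
  nII_x' p hp a := lift_conj' c (map_nII c h p) (h.nII_x' p hp a)
  nII_y p hp a := lift_conj' c (map_nII c h p) (h.nII_y p hp a)
  nII_y' p hp a := lift_conj' c (map_nII c h p) (h.nII_y' p hp a)
  nII_z₁ p hp a := lift_conj' c (map_nII c h p) (h.nII_z₁ p hp a)
  nII_z₁' p hp a := lift_conj' c (map_nII c h p) (h.nII_z₁' p hp a)
  nII_z₂ p hp a := lift_conj' c (map_nII c h p) (h.nII_z₂ p hp a)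
  nII_z₂' p hp a := lift_conj' c (map_nII c h p) (h.nII_z₂' p hp a)

/-- Generation of a perfect group. -/
theorem gen (hA : _root_.commutator A = ⊤) (hg : Subgroup.closure (genSet m) = ⊤) :
    Subgroup.closure (genSet (lm c m)) = ⊤ := by
  apply eq_top_of_map_eq_top c hA
  rw [MonoidHom.map_closure, ← hg]
  congr 1
  obtain ⟨h1, h2, h3, h4, h5, h6, h7, h8⟩ := isTwo_all h
  ext g
  constructor
  · rintro ⟨a, (⟨t, rfl | rfl⟩ | ⟨p, rfl | rfl⟩), rfl⟩
    · exact Or.inl ⟨t, Or.inl (map_lift c (h1 t))⟩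
    · exact Or.inl ⟨t, Or.inr (map_lift c (h2 t))⟩
    · exact Or.inr ⟨p, Or.inl (map_lift c (h6 p))⟩
    · exact Or.inr ⟨p, Or.inr (map_lift c (h8 p))⟩
  · rintro (⟨t, rfl | rfl⟩ | ⟨p, rfl | rfl⟩)
    · exact ⟨_, Or.inl ⟨t, Or.inl rfl⟩, map_lift c (h1 t)⟩
    · exact ⟨_, Or.inl ⟨t, Or.inr rfl⟩, map_lift c (h2 t)⟩
    · exact ⟨_, Or.inr ⟨p, Or.inl rfl⟩, map_lift c (h6 p)⟩
    · exact ⟨_, Or.inr ⟨p, Or.inr rfl⟩, map_lift c (h8 p)⟩

end lift

end Cfsg.Agent.StdRank2.B2Lift
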