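import Cfsg.Agent.StdRank2.B2CentOne
import Cfsg.Agent.StdRank2.UFive.MoverFive
import Cfsg.Agent.Schreier.PSU

/-!
# The mover for the environments `env4`, `env5` in `X = N_G(O)/O`

`exists_seed_of_mover4`, `mem_TZ5`: an element `n` of `X` with `n t n⁻¹ = x_z(c) t`, `n x_z(c) n⁻¹ = x_z(c)`, `c ≠ 0`
normalises `⟨t⟩ X_z`.  `start4`, `start5`: from `StepFour.Data` in `G`.
-/

set_option autoImplicit false
set_option linter.unusedSectionVars false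

namespace Cfsg.Agent.StdRank2.B2Mover

open Subgroup
open Cfsg.Agent.TitsThree.B2Pkg Cfsg.Agent.TitsThree.RankTwoIdentB2
  Cfsg.Agent.TitsThree.StdData
open Cfsg.Agent.StdRank2.B2Std Cfsg.Agent.StdRank2.B2Amb Cfsg.Agent.StdRank2.UFour
  Cfsg.Agent.StdRank2.UEnvW Cfsg.Agent.StdRank2.B2CentZ Cfsg.Agent.StdRank2.B2CentOne
open Cfsg.Agent.Schreier.Basic
open Cfsg.Agent.StdEven.CoreQuot Cfsg.Agent.StdEven.StepFour Cfsg.Agent.StdRank2.B2Conn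

universe u

section X

variable {F : Type*} [Field F] [Finite F] [CharP F 2] {B : Bar F}
variable {G : Type u} [Group G] [Finite G] {A : Subgroup G}

/-! ### `U₄` -/

theorem ain4 (S : Std (stdU0 F B.s B.invol) ↥A) {t : G} (h : Hyp S B t) {lam : B.K} (h0 : lam ≠ 0)
    (h1 : lam ≠ 1) (hS : Sch ↥A) : Mover.AIn (UEnv4.env4 S h h0 h1) A where
  braid := braid4 S h h0 h1
  P_le := fun _ hg => (PP_le h h0 h1 hg).1
  norm := fun c hc a ha => h.amb.nor c hc a ha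
  perf := fun _ hR hRt => perf_le h.amb hS hR hRt
  cent := fun _ ha _ hc hz => mem_PP_one h h0 h1 ha hc hz

theorem exists_seed_of_mover4 (S : Std (stdU0 F B.s B.invol) ↥A) {t : G} (h : Hyp S B t) {lam : B.K}
    (h0 : lam ≠ 0) (h1 : lam ≠ 1) (hS : Sch ↥A) {n : G} {c : B.K} (hc : c ≠ 0)
    (e1 : n * (UEnv4.env4 S h h0 h1).t * n⁻¹ = (UEnv4.env4 S h h0 h1).xz c * (UEnv4.env4 S h h0 h1).t)
    (e2 : n * (UEnv4.env4 S h h0 h1).xz c * n⁻¹ = (UEnv4.env4 S h h0 h1).xz c) :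
    ∃ Sd : Seed (UEnv4.env4 S h h0 h1).toWEnv,
      (∀ y ∈ Sd.Y, ∀ g ∈ SeedU4.P (UEnv4.env4 S h h0 h1), y * g = g * y) ∧
      ∀ y ∈ Sd.Y, (UEnv4.env4 S h h0 h1).nb * y = y * (UEnv4.env4 S h h0 h1).nb :=
  Mover.exists_seed_of_mover (ain4 S h h0 h1 hS) hc e1 e2

/-! ### `U₅` -/

theorem P_le5 (S : Std (stdU1 F B.s B.invol) ↥A) {t : G} (h : Hyp S B t) {lam : B.K} (h0 : lam ≠ 0)
    (h1 : lam ≠ 1) : UFive.MoverFive.P0 (UEnv5.env5 S h h0 h1).toWEnv (UEnv5.env5 S h h0 h1).nb ≤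
      PP (wenv S h h0 h1) ((B2Rel2.nb S (h.hB.ok0 1) : ↥A) : G) :=
  closure_mono fun _ hg => Or.inl hg

/-- **The mover normalises `⟨t⟩ X_z`.** -/
theorem mem_TZ5 (S : Std (stdU1 F B.s B.invol) ↥A) {t : G} (h : Hyp S B t) {lam : B.K}
    (h0 : lam ≠ 0) (h1 : lam ≠ 1) (hS : Sch ↥A) {n : G} {c : B.K} (hc : c ≠ 0)
    (e1 : n * (UEnv5.env5 S h h0 h1).t * n⁻¹ = (UEnv5.env5 S h h0 h1).xz c * (UEnv5.env5 S h h0 h1).t)
    (e2 : n * (UEnv5.env5 S h h0 h1).xz c * n⁻¹ = (UEnv5.env5 S h h0 h1).xz c) :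
    n ∈ normalizer (SeedOdd.TZ (UEnv5.env5 S h h0 h1).toWEnv : Set G) := by
  have hP : ∀ g ∈ UFive.MoverFive.P0 (UEnv5.env5 S h h0 h1).toWEnv (UEnv5.env5 S h h0 h1).nb,
      g ∈ A ∧ ∀ x, g * (UEnv5.env5 S h h0 h1).xz x = (UEnv5.env5 S h h0 h1).xz x * g := by
    intro g hg
    obtain ⟨i1, i2⟩ := PP_le h h0 h1 (P_le5 S h h0 h1 hg)
    exact ⟨i1, fun x => mul_inv_eq_iff_eq_mul.1 (i2 x)⟩
  refine UFive.MoverFive.mem_normalizer_TZ e1 e2 UFive.MoverFive.U_le UFive.MoverFive.P0_perf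
    (fun g hg => (h.amb.comm g (hP g hg).1).symm) (fun g hg x => (hP g hg).2 x) ?_
  intro R hR hRt hRz
  have h2 : R ≤ PP (wenv S h h0 h1) ((B2Rel2.nb S (h.hB.ok0 1) : ↥A) : G) := fun g hg =>
    mem_PP_one h h0 h1 (perf_le h.amb hS hR hRt hg) hc (hRz g hg)
  rw [← hR]
  refine (commutator_mono h2 h2).trans ?_
  exact UFive.MoverFive.P_comm (E := (UEnv5.env5 S h h0 h1).toWEnv) (nb := (UEnv5.env5 S h h0 h1).nb)
    UFive.MoverFive.nb_T (H := HZ (wenv S h h0 h1)) (fun k hk => hk.1)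

end X

/-! ### From `G` -/

section G

variable {G : Type u} [Group G] [Finite G] {A : Subgroup G} {t : G} {T J W : Subgroup G}

theorem sch_im (h : Cfsg.Agent.StdEven.CoreQuot.Hyp A t T) {L : Type*} [Group L] (e : ↥A ⧸ center ↥A ≃* L)
    (hL : Sch L) : Sch ↥(im A t A) := by
  obtain ⟨e'⟩ := h.nonempty_equiv
  exact Sch.of_equiv (e'.trans e).symm hL

variable {F : Type*} [Field F] [Finite F] [CharP F 2] {B : Bar F}

/-- **(I0), type `U₄`.** -/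
theorem start4 (h : Cfsg.Agent.StdEven.CoreQuot.Hyp A t T) (S : Std (stdU0 F B.s B.invol) ↥A) {lam : B.K}
    (h0 : lam ≠ 0) (h1 : lam ≠ 1) (hS : Sch ↥(im A t A)) (D : Data A t T J W)
    (hNO : normalizer (T : Set G) ≤ NO A t)
    (hW : ∀ (w : G) (_ : w ∈ W) (hn : w ∈ NO A t), ∃ v, pr A t ⟨w, hn⟩ = (env4 h S h0 h1).w v)
    (ha : ∀ s, (env4 h S h0 h1).xa s ∈ im A t T)
    {g : G} (hg : g ∈ normalizer (T : Set G)) {k : ℕ} (hk : g ^ 2 ^ k = 1) (hgt : g * t ≠ t * g) :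
    ∃ Sd : Seed (env4 h S h0 h1).toWEnv,
      (∀ y ∈ Sd.Y, ∀ g ∈ SeedU4.P (env4 h S h0 h1), y * g = g * y) ∧
      ∀ y ∈ Sd.Y, (env4 h S h0 h1).nb * y = y * (env4 h S h0 h1).nb := by
  obtain ⟨n, c, hn, hc, e1, e2⟩ := MoverG.exists_mover h D (E := (env4 h S h0 h1).toWEnv) rfl hNO hW ha hg hk hgt
  exact exists_seed_of_mover4 (imS h S) (hyp4 h S) h0 h1 hS hc e1 e2

/-- **(I0), type `U₅`: the mover.** -/
theorem start5 (h : Cfsg.Agent.StdEven.CoreQuot.Hyp A t T) (S : Std (stdU1 F B.s B.invol) ↥A) {c₀ : F}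
    (hc : c₀ * B.s c₀ = 1) (hc1 : c₀ * c₀ * c₀ ≠ 1) {lam : B.K}
    (h0 : lam ≠ 0) (h1 : lam ≠ 1) (hS : Sch ↥(im A t A)) (D : Data A t T J W)
    (hNO : normalizer (T : Set G) ≤ NO A t)
    (hW : ∀ (w : G) (_ : w ∈ W) (hn : w ∈ NO A t), ∃ v, pr A t ⟨w, hn⟩ = (env5 h S hc hc1 h0 h1).w v)
    (ha : ∀ s, (env5 h S hc hc1 h0 h1).xa s ∈ im A t T)
    {g : G} (hg : g ∈ normalizer (T : Set G)) {k : ℕ} (hk : g ^ 2 ^ k = 1) (hgt : g * t ≠ t * g) :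
    ∃ (n : XQ A t) (c : B.K), c ≠ 0 ∧
      n ∈ normalizer (SeedOdd.TZ (env5 h S hc hc1 h0 h1).toWEnv : Set (XQ A t)) ∧
      n * (env5 h S hc hc1 h0 h1).t * n⁻¹ = (env5 h S hc hc1 h0 h1).xz c * (env5 h S hc hc1 h0 h1).t ∧
      n * (env5 h S hc hc1 h0 h1).xz c * n⁻¹ = (env5 h S hc hc1 h0 h1).xz c := by
  obtain ⟨n, c, hn, hc', e1, e2⟩ := MoverG.exists_mover h D (E := (env5 h S hc hc1 h0 h1).toWEnv) rfl hNO hW
    ha hg hk hgt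
  exact ⟨pr A t n, c, hc', mem_TZ5 (imS h S) (hyp5 h S hc hc1) h0 h1 hS hc' e1 e2, e1, e2⟩

end G

end Cfsg.Agent.StdRank2.B2Mover
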