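import Cfsg.Agent.StdRank2.B2Act

/-!
# Parabolic subgroups and centralisers in a group with a `B₂` package

`mem_or`: a subgroup containing the Borel subgroup `D` but not `nJ` is contained in `D ∪ D nI D`.
`normalizer_VI`, `normalizer_VJ`: `N(V_I) = B ∪ B n_I x(F)`, `N(V_J) = B ∪ B n_II z₂(T)`.
`mem_VI_of_cent`, `mem_VJ_of_cent`: elements trivial on the graded pieces of `V_I` (resp. `V_J`) are in `V_I`
(resp. `V_J`) when `Z(A) = 1`.
-/

set_option autoImplicit false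
set_option linter.unusedSectionVars false

namespace Cfsg.Agent.StdRank2.B2Par

open Subgroup
open Cfsg.Agent.TitsThree.B2Pkg Cfsg.Agent.TitsThree.RankTwoIdentB2
  Cfsg.Agent.TitsThree.CoreB2 Cfsg.Agent.TitsThree.RankTwoIdx Cfsg.Agent.TitsThree.RankTwoRGD
  Cfsg.Agent.TitsThree.StdData
open Cfsg.Agent.StdRank2.OddLift Cfsg.Agent.StdRank2.B2Lift Cfsg.Agent.StdRank2.B2Std
  Cfsg.Agent.StdRank2.B2Torus Cfsg.Agent.StdRank2.B2Act Cfsg.Agent.StdRank2.B2Act.Std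
open scoped commutatorElement Pointwise

universe u

section core

variable {Y : Type u} [Group Y] {m : ℕ} (c : Core m Y)

theorem nJ_mem_of_start {S : Subgroup Y} (hDS : c.D ≤ S) {k : ℕ} (hk : k < m) {h w : Y} (hh : h ∈ c.H)
    (hw : w ∈ S) (e : w = alt c.nJ c.nI (k + 1) * h) : c.nJ ∈ S := by
  have hhS : h ∈ S := hDS (c.H_le hh)
  apply c.sJ.mem_of_le ((c.sJ.A_le.trans c.U_le).trans hDS)
  intro a ha
  have h2 := hDS (c.U_le (c.posJ k hk _ (c.sJ.nA'_inv a ha)))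
  rw [alt_succ] at e
  have h3 : w * (h⁻¹ * ((alt c.nI c.nJ k)⁻¹ * (c.nJ⁻¹ * a * c.nJ) * alt c.nI c.nJ k) * h) * w⁻¹ ∈ S :=
    S.mul_mem (S.mul_mem hw (S.mul_mem (S.mul_mem (S.inv_mem hhS) h2) hhS)) (S.inv_mem hw)
  have e2 : w * (h⁻¹ * ((alt c.nI c.nJ k)⁻¹ * (c.nJ⁻¹ * a * c.nJ) * alt c.nI c.nJ k) * h) * w⁻¹ = a := by
    rw [e]; group
  rwa [e2] at h3

/-- a subgroup containing `D` but not `nJ` -/
theorem mem_or (hm : 1 ≤ m) {S : Subgroup Y} (hSG : S ≤ c.G) (hDS : c.D ≤ S)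
    (hJ : c.nJ ∉ S) {g : Y} (hg : g ∈ S) :
    g ∈ c.D ∨ ∃ b ∈ c.D, ∃ a ∈ c.AI, g = b * c.nI * a := by
  obtain ⟨b, hb, w, hw, b', hb', e⟩ := c.bruhat hm (hSG hg)
  have hwS : w ∈ S := by
    have h1 : b⁻¹ * g * b'⁻¹ ∈ S :=
      S.mul_mem (S.mul_mem (S.inv_mem (hDS hb)) hg) (S.inv_mem (hDS hb'))
    have e2 : b⁻¹ * g * b'⁻¹ = w := by rw [e]; group
    rwa [e2] at h1
  have key : w ∈ c.H ∨ ∃ h ∈ c.H, w = c.nI * h := by
    obtain ⟨k, hk, h, hh, e⟩ := hw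
    rcases Nat.eq_zero_or_pos k with rfl | h1
    · left
      rcases e with rfl | rfl <;> simpa using hh
    · obtain ⟨k, rfl⟩ := Nat.exists_eq_add_of_le' h1
      rcases e with e | e
      · have hnI : c.nI ∈ S := nJ_mem_of_start c.symm (S := S) hDS (by omega) hh hwS e
        rcases Nat.eq_zero_or_pos k with rfl | h2
        · right
          refine ⟨h, hh, ?_⟩
          rw [e]; simp [alt]
        · exfalso
          obtain ⟨k, rfl⟩ := Nat.exists_eq_add_of_le' h2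
          apply hJ
          have hw' : c.nI⁻¹ * w ∈ S := S.mul_mem (S.inv_mem hnI) hwS
          refine nJ_mem_of_start c hDS (k := k) (by omega) hh hw' ?_
          rw [e, alt_succ c.nI c.nJ (k + 1)]; group
      · exact absurd (nJ_mem_of_start c hDS (by omega) hh hwS e) hJ
  rcases key with hwH | ⟨h, hh, rfl⟩
  · left
    rw [e]
    exact mul_mem (mul_mem hb (c.H_le hwH)) hb'
  · right
    obtain ⟨u1, hu1, h1, hh1, rfl⟩ := c.mem_D.1 hb'
    have hu2 : h * u1 * h⁻¹ ∈ c.U := c.HU h hh u1 hu1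
    obtain ⟨v, hv, a, ha, e3⟩ := c.sI.decomp _ hu2
    have hh2 : h * h1 ∈ c.H := mul_mem hh hh1
    refine ⟨b * (c.nI * v * c.nI⁻¹) * (c.nI * (h * h1) * c.nI⁻¹), ?_, (h * h1)⁻¹ * a * (h * h1),
      c.sI.HA_inv _ hh2 a ha, ?_⟩
    · exact mul_mem (mul_mem hb (c.U_le (c.sI.V_le (c.sI.nV v hv)))) (c.H_le (c.sI.nH _ hh2))
    · rw [e]
      have e4 : h * u1 = v * a * h := by rw [← e3]; group
      calc b * (c.nI * h) * (u1 * h1) = b * c.nI * (h * u1) * h1 := by group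
        _ = b * c.nI * (v * a * h) * h1 := by rw [e4]
        _ = _ := by group

end core

variable {F : Type*} [Field F] {V : Type*} [AddCommGroup V] [Module F V] {D : PQDatum F V}
variable {A : Type u} [Group A]

namespace Std

variable {S : B2Std.Std D A}

theorem mem_B {g : A} : g ∈ S.U ⊔ S.H ↔ ∃ u ∈ S.U, ∃ h ∈ S.H, g = u * h := by
  have h1 : S.r2.core.D = S.U ⊔ S.H := by
    have : S.r2.core.D = S.r2.U ⊔ S.H := rfl
    rw [this, S.r2_U]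
  rw [← h1, S.r2.core.mem_D]
  constructor
  · rintro ⟨u, hu, h, hh, e⟩
    exact ⟨u, by rw [← S.r2_U]; exact hu, h, hh, e.symm⟩
  · rintro ⟨u, hu, h, hh, e⟩
    exact ⟨u, by change u ∈ S.r2.U; rw [S.r2_U]; exact hu, h, hh, e.symm⟩

theorem HU {h u : A} (hh : h ∈ S.H) (hu : u ∈ S.U) : h * u * h⁻¹ ∈ S.U := by
  rw [← S.r2_U] at hu ⊢
  exact S.r2.core.HU h hh u hu

theorem core_D : S.r2.core.D = S.U ⊔ S.H := by
  have : S.r2.core.D = S.r2.U ⊔ S.H := rfl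
  rw [this, S.r2_U]

theorem core_nI : S.r2.core.nI = S.m.nI := by
  change nt S.m 1 = _
  exact nt_one

theorem core_nJ : S.r2.core.nJ = S.m.nII S.p₀ := rfl

theorem core_AI {a : A} (h : a ∈ S.r2.core.AI) : ∃ c, a = S.m.x c := by
  obtain ⟨c, rfl⟩ := h
  exact ⟨c, rfl⟩

theorem core_AJ {a : A} (h : a ∈ S.r2.core.AJ) : ∃ c, a = S.m.z₂ c := by
  obtain ⟨c, rfl⟩ := h
  exact ⟨c, rfl⟩

theorem B_le_of_conj {P : Subgroup A} (h1 : ∀ u ∈ S.U, ∀ v ∈ P, u * v * u⁻¹ ∈ P)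
    (h2 : ∀ g ∈ S.H, ∀ v ∈ P, g * v * g⁻¹ ∈ P) : S.U ⊔ S.H ≤ Subgroup.normalizer (P : Set A) := by
  have key : ∀ {Q : Subgroup A}, (∀ u ∈ Q, ∀ v ∈ P, u * v * u⁻¹ ∈ P) →
      Q ≤ Subgroup.normalizer (P : Set A) := by
    intro Q hQ u hu
    rw [Subgroup.mem_normalizer_iff]
    intro v
    refine ⟨hQ u hu v, fun hv => ?_⟩
    have := hQ u⁻¹ (inv_mem hu) _ hv
    have e : u⁻¹ * (u * v * u⁻¹) * u⁻¹⁻¹ = v := by group
    rwa [e] at this
  exact sup_le (key h1) (key h2)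

variable [Finite F] [CharP F 2]

/-- **`N(V_I) = B ∪ B n_I x(F)`** -/
theorem normalizer_VI {g : A} (hg : g ∈ Subgroup.normalizer (S.VI : Set A)) :
    g ∈ S.U ⊔ S.H ∨ ∃ b ∈ S.U ⊔ S.H, ∃ a, g = b * S.m.nI * S.m.x a := by
  have hle : S.U ⊔ S.H ≤ Subgroup.normalizer (S.VI : Set A) := B_le_of_conj S.UVI S.HVI
  have h1 := mem_or S.r2.core (by norm_num) (S := Subgroup.normalizer (S.VI : Set A))
    (by rw [S.core_G]; exact le_top) (by rw [core_D]; exact hle) ?_ hg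
  · rw [core_D, core_nI] at h1
    rcases h1 with h1 | ⟨b, hb, a, ha, e⟩
    · exact Or.inl h1
    · obtain ⟨c, rfl⟩ := core_AI ha
      exact Or.inr ⟨b, hb, c, e⟩
  · rw [core_nJ]
    intro hn
    have h2 := (mem_normalizer_iff.1 hn (S.m.y 1)).1 (S.y_mem_VI 1)
    rw [S.rel.nII_y S.p₀ S.hp₀, S.x_mem_VI_iff, mul_one] at h2
    exact S.hp₀ (inv_eq_zero.1 h2)

/-- **`N(V_J) = B ∪ B n_II z₂(T)`** -/
theorem normalizer_VJ {g : A} (hg : g ∈ Subgroup.normalizer (S.VJ : Set A)) :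
    g ∈ S.U ⊔ S.H ∨ ∃ b ∈ S.U ⊔ S.H, ∃ q, g = b * S.m.nII S.p₀ * S.m.z₂ q := by
  have hle : S.U ⊔ S.H ≤ Subgroup.normalizer (S.VJ : Set A) := B_le_of_conj S.UVJ S.HVJ
  have h1 := mem_or S.r2.core.symm (by norm_num) (S := Subgroup.normalizer (S.VJ : Set A))
    (by
      have : S.r2.core.symm.G = ⊤ := by
        rw [eq_top_iff, ← S.core_G]
        unfold Core.G
        refine sup_le le_sup_left (sup_le ?_ ?_)
        · exact le_trans (le_sup_right (a := S.r2.core.AJ')) le_sup_right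
        · exact le_trans (le_sup_left (b := S.r2.core.AI')) le_sup_right
      rw [this]; exact le_top)
    (by
      have : S.r2.core.symm.D = S.r2.core.D := rfl
      rw [this, core_D]; exact hle) ?_ hg
  · have e1 : S.r2.core.symm.D = S.U ⊔ S.H := core_D
    rw [e1] at h1
    rcases h1 with h1 | ⟨b, hb, a, ha, e⟩
    · exact Or.inl h1
    · obtain ⟨c, rfl⟩ := core_AJ ha
      exact Or.inr ⟨b, hb, c, e⟩
  · have e1 : S.r2.core.symm.nJ = S.m.nI := core_nI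
    rw [e1]
    intro hn
    have h2 := (mem_normalizer_iff.1 hn (S.m.z₁ S.p₀)).1 (S.z₁_mem_VJ _)
    rw [S.rel.nI_z₁, S.z₂_mem_VJ_iff] at h2
    have h3 := congrArg PQDatum.T.c h2
    rw [D.sc_c, PQDatum.T.one_c, map_neg, map_one] at h3
    apply S.hp₀
    linear_combination h3

theorem mem_normalizer_of_conj {G : Type*} [Group G] {P : Subgroup G} [Finite P] {g : G}
    (h : ∀ v ∈ P, g * v * g⁻¹ ∈ P) : g ∈ Subgroup.normalizer (P : Set G) := by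
  have hinj : Function.Injective (fun v : P => (⟨g * v * g⁻¹, h v v.2⟩ : P)) := by
    intro v w hvw
    have h1 : g * (v : G) * g⁻¹ = g * w * g⁻¹ := congrArg Subtype.val hvw
    exact Subtype.ext (mul_left_cancel (mul_right_cancel h1))
  have hs := Finite.surjective_of_injective hinj
  rw [Subgroup.mem_normalizer_iff]
  intro v
  refine ⟨h v, fun hv => ?_⟩
  obtain ⟨w, hw⟩ := hs ⟨_, hv⟩
  have h1 : g * (w : G) * g⁻¹ = g * v * g⁻¹ := congrArg Subtype.val hw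
  have h2 : (w : G) = v := mul_left_cancel (mul_right_cancel h1)
  rw [← h2]
  exact w.2

theorem VI_normal_B {b : A} (hb : b ∈ S.U ⊔ S.H) {v : A} : v ∈ S.VI ↔ b * v * b⁻¹ ∈ S.VI :=
  mem_normalizer_iff.1 (B_le_of_conj S.UVI S.HVI hb) v

theorem VJ_normal_B {b : A} (hb : b ∈ S.U ⊔ S.H) {v : A} : v ∈ S.VJ ↔ b * v * b⁻¹ ∈ S.VJ :=
  mem_normalizer_iff.1 (B_le_of_conj S.UVJ S.HVJ hb) v

/-- `z₂(0, c)` is central in `V_I` -/
theorem z₂_comm_VI {p : D.T} (hp : p.w = 0) {v : A} (hv : v ∈ S.VI) :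
    S.m.z₂ p * v = v * S.m.z₂ p := by
  obtain ⟨p', b, q, rfl⟩ := mem_VI_iff.1 hv
  rw [z₂_eq_nf S.rel p, mul_nf S.rel, mul_nf S.rel]
  have e1 : D.tr 0 0 = 1 := by ext <;> simp
  have e2 : D.sc (-0) p = 1 := by ext <;> simp
  have e3 : D.tr 0 b = 1 := by ext <;> simp
  have e4 : D.sc (-0) q = 1 := by ext <;> simp
  rw [e1, e2, e3, e4, hp, comm_of_w hp q]
  simp [D.zero_left, D.zero_right]

theorem y_comm_VI (c : F) {v : A} (hv : v ∈ S.VI) : S.m.y c * v = v * S.m.y c := by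
  obtain ⟨p', b, q, rfl⟩ := mem_VI_iff.1 hv
  rw [y_eq_nf S.rel c, mul_nf S.rel, mul_nf S.rel]
  have e1 : D.tr 0 c = 1 := by ext <;> simp
  have e2 : D.sc (-0) (1 : D.T) = 1 := by ext <;> simp
  have e3 : D.tr 0 b = 1 := by ext <;> simp
  have e4 : D.sc (-0) q = 1 := by ext <;> simp
  rw [e1, e2, e3, e4]
  simp [D.zero_left, D.zero_right, add_comm]

/-- `z₁(0, c)` is central in `U` -/
theorem z₁_comm_U {p : D.T} (hp : p.w = 0) {v : A} (hv : v ∈ S.U) :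
    S.m.z₁ p * v = v * S.m.z₁ p := by
  obtain ⟨a, p', b, q, rfl⟩ := exists_nf S.rel hv
  rw [z₁_eq_nf S.rel p, mul_nf S.rel, mul_nf S.rel]
  have e1 : D.tr a 0 = 1 := by ext <;> simp
  have e2 : D.sc (-a) (1 : D.T) = 1 := by ext <;> simp
  have e3 : D.tr 0 b = 1 := by ext <;> simp
  have e4 : D.sc (-0) q = 1 := by ext <;> simp
  rw [e1, e2, e3, e4, hp]
  simp [D.zero_left, D.zero_right, comm_of_w hp p']

theorem z₂_comm_VI_aux {p : D.T} {v : A} (hv : v ∈ S.VI) (hp : p.w = 0) :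
    v * S.m.z₂ p * v⁻¹ = S.m.z₂ p := by
  rw [← z₂_comm_VI hp hv, mul_inv_cancel_right]

/-- elements of `U` with first coordinate `a` -/
theorem PX.decomp {u : A} {a : F} (h : PX S u a) : ∃ v ∈ S.VI, u = S.m.x a * v := by
  obtain ⟨p, b, q, rfl⟩ := h
  refine ⟨S.m.z₁ p * S.m.y b * S.m.z₂ q,
    mul_mem (mul_mem (S.z₁_mem_VI p) (S.y_mem_VI b)) (S.z₂_mem_VI q), ?_⟩
  unfold B2Std.nf; group

theorem PZ.decomp {u : A} {q : D.T} (h : PZ S u q) : ∃ v ∈ S.VJ, u = v * S.m.z₂ q := by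
  obtain ⟨a, p, b, rfl⟩ := h
  exact ⟨S.m.x a * S.m.z₁ p * S.m.y b,
    mul_mem (mul_mem (S.x_mem_VJ a) (S.z₁_mem_VJ p)) (S.y_mem_VJ b), rfl⟩

theorem H_eq_one {h : A} {l μ ν : F} (hZ : Subgroup.center A = ⊥) (ht : TAct S.m h l μ ν) (h1 : l = μ)
    (h2 : ∀ q : D.T, (D.σ l * ν) • q.w = q.w) (h3 : l * D.σ l = 1) : h = 1 := by
  subst h1
  have := center_of_tact ht h2 h3
  rwa [hZ, mem_bot] at this

/-- **An element trivial on the graded pieces of `V_I` is in `V_I`.** -/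
theorem mem_VI_of_cent [Finite D.T] [Finite A] (hD : Scal D) {lam : F} (L : Lam D lam)
    (hZ : Subgroup.center A = ⊥) {g : A} (hn : ∀ v ∈ S.VI, g * v * g⁻¹ ∈ S.VI)
    (hy : ∀ b, g * S.m.y b * g⁻¹ = S.m.y b)
    (h1 : ∀ p : D.T, p.w = 0 → g * S.m.z₁ p * g⁻¹ = S.m.z₁ p)
    (h2 : ∀ p : D.T, p.w = 0 → g * S.m.z₂ p * g⁻¹ = S.m.z₂ p)
    (hw : ∀ p : D.T, ∃ r : D.T, r.w = p.w ∧ PZ S (g * S.m.z₂ p * g⁻¹) r) : g ∈ S.VI := by
  let one : D.T := ⟨0, 1, L.ok1⟩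
  rcases normalizer_VI (mem_normalizer_of_conj hn) with hg | ⟨b, hb, a, rfl⟩
  · obtain ⟨u, hu, h, hh, rfl⟩ := mem_B.1 hg
    obtain ⟨l, μ, ν, ht⟩ := exists_tact S.rel S.hp₀ hD hh
    obtain ⟨c, hc⟩ := exists_PX hu
    obtain ⟨v, hv, rfl⟩ := PX.decomp hc
    -- `z₂(0,1)`
    obtain ⟨p', e1, e2, e3⟩ := ht.z₂ one
    have hp'w : p'.w = 0 := by rw [e1]; exact smul_zero _
    have hp'c : p'.c = μ * D.σ μ := by rw [e2]; exact mul_one _
    have k1 : S.m.x c * S.m.z₂ p' * (S.m.x c)⁻¹ = S.m.z₂ one := by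
      rw [← h2 one rfl, ← z₂_comm_VI_aux hv hp'w, ← e3]
      group
    have k2 : S.m.x c * S.m.z₂ p' = S.m.z₂ one * S.m.x c := mul_inv_eq_iff_eq_mul.1 k1
    rw [z₂_x S.rel] at k2
    have k3 : B2Std.nf S.m c 1 0 p' = B2Std.nf S.m c (D.sc (-c) one) (D.ε * c * D.σ one.c) one := by
      unfold B2Std.nf
      rw [mul_one' S.rel.z₁_mul, add_zero' S.rel.y_add, mul_one, mul_one]
      exact k2
    obtain ⟨-, j1, -, j2⟩ := S.nf_inj k3
    have hμ : μ * D.σ μ = 1 := by rw [← hp'c, j2]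
    have hc0 : c = 0 := by
      have := congrArg PQDatum.T.c j1
      rw [D.sc_c, PQDatum.T.one_c] at this
      have h3 : -c * D.σ (-c) = 0 := by
        have e : one.c = 1 := rfl
        rw [e, mul_one] at this
        exact this.symm
      rcases mul_eq_zero.1 h3 with h4 | h4
      · exact neg_eq_zero.1 h4
      · have h5 : -c = 0 := (map_eq_zero_iff D.σ D.σ.injective).1 h4
        exact neg_eq_zero.1 h5
    have hx0 : S.m.x c = 1 := by rw [hc0]; exact add_zero' S.rel.x_add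
    rw [hx0, one_mul] at hy h1 hw h2 ⊢
    -- `y`
    have hl : l * D.σ μ = 1 := by
      have i1 := hy 1
      have i2 : v * h * S.m.y 1 * (v * h)⁻¹ = v * (h * S.m.y 1 * h⁻¹) * v⁻¹ := by group
      rw [i2, ht.y, ← y_comm_VI _ hv, mul_inv_cancel_right] at i1
      have := S.y_injective i1
      rwa [mul_one] at this
    have hσμ := D.σ_ne ht.μ0
    have hlμ : l = μ := mul_right_cancel₀ hσμ (hl.trans hμ.symm)
    have hw' : ∀ q : D.T, (D.σ l * ν) • q.w = q.w := by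
      intro q
      obtain ⟨r, r1, r2⟩ := hw q
      obtain ⟨q', q1, q2, q3⟩ := ht.z₂ q
      have i2 : v * h * S.m.z₂ q * (v * h)⁻¹ = v * (h * S.m.z₂ q * h⁻¹) * v⁻¹ := by group
      rw [i2, q3] at r2
      obtain ⟨s, hs⟩ := exists_PZ (S.VI_le hv)
      have i3 := (PZ.z₂ q').conj hs
      have i4 := r2.uniq i3
      rw [hlμ, ← q1, ← r1, i4, conj_w]
    have := H_eq_one hZ ht hlμ hw' (by rw [hlμ]; exact hμ)
    rw [this, mul_one]
    exact hv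
  · exfalso
    have i1 := h1 one rfl
    have i2 : b * S.m.nI * S.m.x a * S.m.z₁ one * (b * S.m.nI * S.m.x a)⁻¹ =
        b * (S.m.nI * (S.m.x a * S.m.z₁ one * (S.m.x a)⁻¹) * S.m.nI⁻¹) * b⁻¹ := by group
    rw [i2, (S.rel.x_z₁ a one).eq, mul_inv_cancel_right, S.rel.nI_z₁] at i1
    have i3 : b * S.m.z₂ (D.sc (-1) one) * b⁻¹ ∈ S.VJ := by rw [i1]; exact S.z₁_mem_VJ _
    rw [← VJ_normal_B hb, S.z₂_mem_VJ_iff] at i3
    have i4 := congrArg PQDatum.T.c i3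
    rw [D.sc_c, PQDatum.T.one_c, map_neg, map_one] at i4
    have e : one.c = 1 := rfl
    rw [e] at i4
    exact one_ne_zero (by linear_combination i4 : (1 : F) = 0)

/-- **An element trivial on `V_J/Z` and `z₁(T)/Z`, mapping `x a`, `y b` to themselves modulo `Z = z₁(0,·)`, is in
`V_J`.** -/
theorem mem_VJ_of_cent [Finite D.T] [Finite A] (hD : Scal D)
    (hZ : Subgroup.center A = ⊥) {g : A} (hn : ∀ v ∈ S.VJ, g * v * g⁻¹ ∈ S.VJ)
    (hx : ∀ a, ∃ r : D.T, g * S.m.x a * g⁻¹ = S.m.x a * S.m.z₁ r)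
    (hy : ∀ b, ∃ r : D.T, g * S.m.y b * g⁻¹ = S.m.y b * S.m.z₁ r)
    (hz : ∀ p : D.T, ∃ r : D.T, r.w = p.w ∧ g * S.m.z₁ p * g⁻¹ = S.m.z₁ r) : g ∈ S.VJ := by
  rcases normalizer_VJ (mem_normalizer_of_conj hn) with hg | ⟨b, hb, q, rfl⟩
  · obtain ⟨u, hu, h, hh, rfl⟩ := mem_B.1 hg
    obtain ⟨l, μ, ν, ht⟩ := exists_tact S.rel S.hp₀ hD hh
    have hconj : ∀ v : A, u * h * v * (u * h)⁻¹ = u * (h * v * h⁻¹) * u⁻¹ := by intro v; group
    -- `l = μ`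
    have hlμ : l = μ := by
      obtain ⟨r, hr⟩ := hx 1
      rw [hconj, ht.x] at hr
      have i1 := (PX.x (S := S) (l * μ⁻¹ * 1)).conj hu
      rw [hr] at i1
      have i2 := i1.uniq ((PX.x (S := S) 1).mul (PX.z₁ r))
      rw [add_zero, mul_one] at i2
      exact (mul_inv_eq_one₀ ht.μ0).1 i2
    subst hlμ
    obtain ⟨a0, p0, b0, q0, rfl⟩ := exists_nf S.rel hu
    -- `q0 = 1`
    have hq0 : q0 = 1 := by
      obtain ⟨r, hr⟩ := hx 1
      rw [hconj, ht.x, mul_inv_cancel₀ ht.l0, one_mul, mul_inv_eq_iff_eq_mul] at hr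
      rw [x_eq_nf S.rel 1, z₁_eq_nf S.rel r, mul_nf S.rel, mul_nf S.rel, mul_nf S.rel] at hr
      have j := (S.nf_inj hr).2.2.1
      simp only [PQDatum.T.one_c, PQDatum.T.one_w, map_zero, D.zero_right, D.zero_left,
        mul_zero, add_zero, zero_add, mul_one] at j
      have j2 : D.ε * D.σ q0.c = 0 := by linear_combination j
      have j3 := (mul_eq_zero.1 j2).resolve_left D.ε_ne
      exact PQDatum.T.c_eq_zero_iff.1 ((map_eq_zero_iff D.σ D.σ.injective).1 j3)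
    subst hq0
    have hl : l * D.σ l = 1 := by
      obtain ⟨r, hr⟩ := hy 1
      rw [hconj, ht.y, mul_inv_eq_iff_eq_mul] at hr
      rw [y_eq_nf S.rel, y_eq_nf S.rel, z₁_eq_nf S.rel r, mul_nf S.rel, mul_nf S.rel, mul_nf S.rel] at hr
      have j := (S.nf_inj hr).2.2.1
      simp only [PQDatum.T.one_c, PQDatum.T.one_w, map_zero, D.zero_right, D.zero_left,
        mul_zero, add_zero, zero_add, mul_one] at j
      linear_combination j
    have hw' : ∀ q : D.T, (D.σ l * ν) • q.w = q.w := by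
      intro q
      obtain ⟨r, r1, r2⟩ := hz q
      obtain ⟨q', q1, q2, q3⟩ := ht.z₁ q
      rw [hconj, q3, mul_inv_eq_iff_eq_mul] at r2
      rw [z₁_eq_nf S.rel, z₁_eq_nf S.rel, mul_nf S.rel, mul_nf S.rel] at r2
      have j := congrArg PQDatum.T.w (S.nf_inj r2).2.1
      simp only [PQDatum.T.mul_w, PQDatum.T.inv_w, PQDatum.T.one_w, D.sc_w, D.tr_w, neg_zero, smul_zero,
        add_zero, q1, r1] at j
      rw [add_comm] at j
      exact add_right_cancel j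
    have := H_eq_one hZ ht rfl hw' hl
    rw [this, mul_one]
    exact mem_VJ_iff.2 ⟨_, _, _, rfl⟩
  · exfalso
    obtain ⟨r, hr⟩ := hy 1
    have i2 : b * S.m.nII S.p₀ * S.m.z₂ q * S.m.y 1 * (b * S.m.nII S.p₀ * S.m.z₂ q)⁻¹ =
        b * (S.m.nII S.p₀ * (S.m.z₂ q * S.m.y 1 * (S.m.z₂ q)⁻¹) * (S.m.nII S.p₀)⁻¹) * b⁻¹ := by group
    rw [i2, ← (S.rel.y_z₂ 1 q).eq, mul_inv_cancel_right, S.rel.nII_y S.p₀ S.hp₀] at hr
    have i3 : b * S.m.x (S.p₀.c⁻¹ * 1) * b⁻¹ ∈ S.VI := by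
      rw [hr]; exact mul_mem (S.y_mem_VI _) (S.z₁_mem_VI _)
    rw [← VI_normal_B hb, S.x_mem_VI_iff, mul_one] at i3
    exact S.hp₀ (inv_eq_zero.1 i3)

/-- `C(V_I) ≤ V_I` -/
theorem cent_VI [Finite D.T] [Finite A] (hD : Scal D) {lam : F} (L : Lam D lam)
    (hZ : Subgroup.center A = ⊥) {g : A} (hg : ∀ v ∈ S.VI, g * v * g⁻¹ = v) : g ∈ S.VI :=
  mem_VI_of_cent hD L hZ (fun v hv => by rw [hg v hv]; exact hv) (fun b => hg _ (S.y_mem_VI b))
    (fun p _ => hg _ (S.z₁_mem_VI p)) (fun p _ => hg _ (S.z₂_mem_VI p))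
    (fun p => ⟨p, rfl, by rw [hg _ (S.z₂_mem_VI p)]; exact PZ.z₂ p⟩)

/-- `C(V_J) ≤ V_J` -/
theorem cent_VJ [Finite D.T] [Finite A] (hD : Scal D)
    (hZ : Subgroup.center A = ⊥) {g : A} (hg : ∀ v ∈ S.VJ, g * v * g⁻¹ = v) : g ∈ S.VJ :=
  mem_VJ_of_cent hD hZ (fun v hv => by rw [hg v hv]; exact hv)
    (fun a => ⟨1, by rw [hg _ (S.x_mem_VJ a), mul_one' S.rel.z₁_mul, mul_one]⟩)
    (fun a => ⟨1, by rw [hg _ (S.y_mem_VJ a), mul_one' S.rel.z₁_mul, mul_one]⟩)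
    (fun p => ⟨p, rfl, hg _ (S.z₁_mem_VJ p)⟩)

end Std

end Cfsg.Agent.StdRank2.B2Par
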