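import Cfsg.Agent.StdRank2.B2CentZ
import Cfsg.Agent.StdRank2.UFive.SeedEnd5

/-!
# The seed of type `U₅(q)` for the frame `UEnv5.env5`

`rank1_aux`: the `SU₃` relation `nb z₂(p) nb ∈ z₂(T) h(1,b) nb z₂(T)`.  `rank1`, `hGen`, `hP5`: the hypotheses of
`UFive.SeedU5.exists_seed5`.  `exists_seed5`: the seed in `X`.
-/

set_option autoImplicit false
set_option linter.unusedSectionVars false

namespace Cfsg.Agent.StdRank2.B2Seed5

open Subgroup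
open Cfsg.Agent.TitsThree.B2Pkg Cfsg.Agent.TitsThree.RankTwoIdentB2
  Cfsg.Agent.TitsThree.CoreB2 Cfsg.Agent.TitsThree.RankTwoIdx Cfsg.Agent.TitsThree.RankTwoRGD
  Cfsg.Agent.TitsThree.StdData
open Cfsg.Agent.StdRank2.OddLift Cfsg.Agent.StdRank2.B2Lift Cfsg.Agent.StdRank2.B2Std
  Cfsg.Agent.StdRank2.B2Torus Cfsg.Agent.StdRank2.B2Act Cfsg.Agent.StdRank2.B2Act.Std
  Cfsg.Agent.StdRank2.B2Par Cfsg.Agent.StdRank2.B2Par.Std Cfsg.Agent.StdRank2.B2Self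
  Cfsg.Agent.StdRank2.B2Amb Cfsg.Agent.StdRank2.B2Rel2 Cfsg.Agent.StdRank2.UFour
  Cfsg.Agent.StdRank2.UEnvW Cfsg.Agent.StdRank2.UEnv5 Cfsg.Agent.StdRank2.B2CentZ
open Cfsg.Agent.StdRank2.UFive (Tp)
open scoped commutatorElement Pointwise

universe u

section gen

variable {F : Type*} [Field F] {V : Type*} [AddCommGroup V] [Module F V] {D : PQDatum F V}
variable {A : Type u} [Group A] (S : B2Std.Std D A) [CharP F 2]

/-- **The rank one relation.** -/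
theorem rank1_gen (hε : D.ε = 1) (h1 : D.ok 0 1) (hZ : Subgroup.center A = ⊥) (p : D.T) :
    B2Rel2.nb S h1 * S.m.z₂ p * B2Rel2.nb S h1 =
      S.m.z₂ (D.sc (-(D.σ p.c)⁻¹) p)⁻¹ * (B2Rel2.nb S h1 * hII S.m p (o1 h1) * (B2Rel2.nb S h1)⁻¹) *
        B2Rel2.nb S h1 * S.m.z₂ (D.sc (-(D.ε * p.c⁻¹)) p)⁻¹ := by
  have hn : (B2Rel2.nb S h1)⁻¹ = B2Rel2.nb S h1 := inv_eq_of_mul_eq_one_right (nb_sq S hε h1 hZ)
  have h2 : S.m.nII p = S.m.z₂' (D.sc (-(D.σ p.c)⁻¹) p) * S.m.z₂ p * S.m.z₂' (D.sc (-(D.ε * p.c⁻¹)) p) := rfl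
  have h3 : S.m.z₂ p = (S.m.z₂' (D.sc (-(D.σ p.c)⁻¹) p))⁻¹ * S.m.nII p *
      (S.m.z₂' (D.sc (-(D.ε * p.c⁻¹)) p))⁻¹ := by rw [h2]; group
  have h4 := nb_z₂' S hε h1 (D.sc (-(D.σ p.c)⁻¹) p)
  have h5 := nb_z₂' S hε h1 (D.sc (-(D.ε * p.c⁻¹)) p)
  have h6 : hII S.m p (o1 h1) = S.m.nII p * (B2Rel2.nb S h1)⁻¹ := rfl
  have h8 : ∀ X, S.m.z₂ X⁻¹ = (S.m.z₂ X)⁻¹ := fun X => mul_inv' S.rel.z₂_mul X
  rw [h6, h8, h8, ← h4, ← h5, h3]
  rw [mul_inv_rev, mul_inv_rev, mul_inv_rev, mul_inv_rev, inv_inv]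
  have h7 := nb_sq S hε h1 hZ
  calc B2Rel2.nb S h1 * ((S.m.z₂' (D.sc (-(D.σ p.c)⁻¹) p))⁻¹ * S.m.nII p *
      (S.m.z₂' (D.sc (-(D.ε * p.c⁻¹)) p))⁻¹) * B2Rel2.nb S h1
      = B2Rel2.nb S h1 * ((S.m.z₂' (D.sc (-(D.σ p.c)⁻¹) p))⁻¹ * S.m.nII p *
      (S.m.z₂' (D.sc (-(D.ε * p.c⁻¹)) p))⁻¹) * (B2Rel2.nb S h1)⁻¹ := by rw [hn]
    _ = _ := by group

end gen

section five

variable {F : Type*} [Field F] [Finite F] [CharP F 2] {B : Bar F}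
variable {A : Type u} [Group A] (S : Std (stdU1 F B.s B.invol) A)

theorem tact_hII1 (p : (stdU1 F B.s B.invol).T) (hp : p.c ≠ 0) (h1 : (stdU1 F B.s B.invol).ok 0 1) :
    TAct S.m (hII S.m p (o1 h1)) 1 p.c (B.s p.c * p.c⁻¹) := by
  have hσp : B.s p.c ≠ 0 := (map_ne_zero_iff B.s B.s.injective).2 hp
  have t2 := tact_hII (m := S.m) S.rel (p := p) (q := o1 h1) hp (o1_ne h1)
    (ν := B.s p.c * p.c⁻¹) (μ := 1) (mul_ne_zero hσp (inv_ne_zero hp)) one_ne_zero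
    (fun w => scal_val p hp w) (fun w => by
      change w + _ • (-(0 : F)) = (1 : F) • w
      rw [neg_zero, smul_zero, add_zero, one_smul])
  have e1 : (o1 h1).c = 1 := rfl
  rw [e1, inv_one, mul_one, mul_one] at t2
  exact t2

omit [Finite F] [CharP F 2] in
theorem tact_congr {D : PQDatum F F} {m : B2Maps D A} {g : A} {l μ ν l' μ' ν' : F} (h : TAct m g l μ ν)
    (e1 : μ = μ') (e2 : ν = ν') (e0 : l = l' := by rfl) : TAct m g l' μ' ν' := by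
  subst e0 e1 e2; exact h

/-- the torus element in the rank one relation -/
theorem torus_eq [Finite A] (hZ : Subgroup.center A = ⊥) (h1 : (stdU1 F B.s B.invol).ok 0 1)
    (p : (stdU1 F B.s B.invol).T) (b : Fˣ) (hb : (b : F) * B.s p.c = 1) :
    B2Rel2.nb S h1 * hII S.m p (o1 h1) * (B2Rel2.nb S h1)⁻¹ = (exists_hh S 1 b).choose := by
  have hp : p.c ≠ 0 := by
    intro h0
    rw [h0, map_zero, mul_zero] at hb
    exact zero_ne_one hb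
  have hσp : B.s p.c ≠ 0 := (map_ne_zero_iff B.s B.s.injective).2 hp
  have t1 := conj_nb S (D := stdU1 F B.s B.invol) rfl h1 (tact_hII1 S p hp h1)
  have t2 := (exists_hh S 1 b).choose_spec.2
  have e1 : (b : F) = (B.s p.c)⁻¹ := eq_inv_of_mul_eq_one_left hb
  have e2 : B.s (b : F) = p.c⁻¹ := by rw [e1, map_inv₀, B.invol]
  have e3 : B.s ((1 : Fˣ) : F) * B.s (b : F) * ((1 : Fˣ) : F)⁻¹ * (b : F)⁻¹ = B.s p.c * p.c⁻¹ := by
    rw [e2, e1, inv_inv, Units.val_one, map_one, inv_one, one_mul, mul_one, mul_comm]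
  have e4 : ((stdU1 F B.s B.invol).σ p.c)⁻¹ = (b : F) := e1.symm
  rw [e4] at t1
  exact tact_uniq S hZ t1 (tact_congr t2 rfl e3 Units.val_one)

end five

section ambient

variable {F : Type*} [Field F] [Finite F] [CharP F 2] {B : Bar F}
variable {G : Type u} [Group G] {A : Subgroup G} [Finite A] (S : Std (stdU1 F B.s B.invol) ↥A)
variable {t : G} (h : Hyp S B t) {lam : B.K} (h0 : lam ≠ 0) (h1 : lam ≠ 1)

/-- **The rank one relation, with the parameter.** -/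
theorem rank1_p (r : Tp B) (b : Fˣ) (hb : (b : F) * B.s r.c = 1) : ∃ r' r'' : Tp B,
    (env5 S h h0 h1).nb * (env5 S h h0 h1).p2 r * (env5 S h h0 h1).nb =
      (env5 S h h0 h1).p2 r' * (env5 S h h0 h1).hh 1 b * (env5 S h h0 h1).nb * (env5 S h h0 h1).p2 r'' := by
  have e := rank1_gen S h.hB.ε (one_ok h.hB) h.hZ (cv r)
  rw [torus_eq S h.hZ (one_ok h.hB) (cv r) b hb] at e
  exact ⟨vc ((stdU1 F B.s B.invol).sc (-((stdU1 F B.s B.invol).σ (cv r).c)⁻¹) (cv r))⁻¹,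
    vc ((stdU1 F B.s B.invol).sc (-((stdU1 F B.s B.invol).ε * (cv r).c⁻¹)) (cv r))⁻¹, congrArg A.subtype e⟩

theorem c_ne {r : Tp B} (hr : r ≠ 1) : r.c ≠ 0 := by
  intro h2
  apply hr
  have h3 := r.ok
  rw [h2, map_zero, add_zero] at h3
  have h4 : r.w = 0 := by
    rcases mul_eq_zero.1 h3.symm with h5 | h5
    · exact h5
    · exact (map_eq_zero_iff B.s B.s.injective).1 h5
  exact Tp.ext h4 h2

/-- **The hypothesis `hr` of `SeedU5.exists_seed5`.** -/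
theorem rank1 : UFive.SeedU5.Rank1 (env5 S h h0 h1) := by
  intro r hr
  have hσ : B.s r.c ≠ 0 := (map_ne_zero_iff B.s B.s.injective).2 (c_ne hr)
  obtain ⟨r', r'', e⟩ := rank1_p S h h0 h1 r (Units.mk0 _ hσ)⁻¹ (by simp [hσ])
  exact ⟨_, SeedPre.Q_le _ (((env5 S h h0 h1).mem_Q _).2 ⟨1, 0, r', by
      rw [(env5 S h h0 h1).p1_one, (env5 S h h0 h1).xc_zero, one_mul, one_mul]⟩), _, _,
    SeedPre.Q_le _ (((env5 S h h0 h1).mem_Q _).2 ⟨1, 0, r'', by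
      rw [(env5 S h h0 h1).p1_one, (env5 S h h0 h1).xc_zero, one_mul, one_mul]⟩), e⟩

/-- **The hypothesis `hg` of `SeedU5.exists_seed5`.** -/
theorem hGen : UFive.SeedU5.HGen (env5 S h h0 h1) := by
  intro b
  set E := env5 S h h0 h1 with hE
  have hσ : B.s (b : F) ≠ 0 := (map_ne_zero_iff B.s B.s.injective).2 b.ne_zero
  obtain ⟨r, hr⟩ := exists_T (B := B) (B.s (b : F))⁻¹
  have hrc : (vc r).c = (B.s (b : F))⁻¹ := hr
  obtain ⟨r', r'', e⟩ := rank1_p S h h0 h1 (vc r) b (by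
    rw [hrc, map_inv₀, B.invol, mul_inv_cancel₀ b.ne_zero])
  have hp2 : ∀ r, E.p2 r ∈ UFive.SeedU5.UnU E := fun r =>
    subset_closure (Or.inl (SeedPre.Q_le _ ((E.mem_Q _).2 ⟨1, 0, r, by
      rw [E.p1_one, E.xc_zero, one_mul, one_mul]⟩)))
  have hnb : E.nb ∈ UFive.SeedU5.UnU E := UFive.SeedU5.nb_gen
  have e2 : E.hh 1 b = (E.p2 r')⁻¹ * (E.nb * E.p2 (vc r) * E.nb) * (E.p2 r'')⁻¹ * E.nb⁻¹ := by
    rw [← hE] at e
    rw [e]; group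
  rw [e2]
  exact mul_mem (mul_mem (mul_mem (inv_mem (hp2 _)) (mul_mem (mul_mem hnb (hp2 _)) hnb))
    (inv_mem (hp2 _))) (inv_mem hnb)

theorem P_le_PP : UFive.SeedU5.P (env5 S h h0 h1) ≤
    PP (wenv S h h0 h1) ((B2Rel2.nb S (h.hB.ok0 1) : ↥A) : G) := by
  unfold UFive.SeedU5.P PP
  apply Subgroup.closure_mono
  rintro g ((hg | hg) | ⟨b, rfl⟩)
  · exact Or.inl (Or.inl hg)
  · exact Or.inl (Or.inr hg)
  · refine Or.inr ⟨(env5 S h h0 h1).hh_mem 1 b, fun x => ?_⟩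
    have := (env5 S h h0 h1).hh_z 1 b x
    rw [Units.val_one, B.nm_one, one_mul] at this
    exact this

/-- `C_A(Z) = P C_T(Z)` -/
theorem mem_PP {g : G} (hg : g ∈ PP (wenv S h h0 h1) ((B2Rel2.nb S (h.hB.ok0 1) : ↥A) : G)) :
    ∃ p ∈ UFive.SeedU5.P (env5 S h h0 h1), ∃ k ∈ (env5 S h h0 h1).T, g = p * k := by
  set E := env5 S h h0 h1 with hE
  have hr := rank1 S h h0 h1
  have hTP : ∀ k ∈ E.T, ∀ g ∈ UFive.SeedU5.P E, k * g * k⁻¹ ∈ UFive.SeedU5.P E := fun k hk g hg =>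
    (UFive.SeedU5.pre hr).T_P hk hg
  have mul_cl : ∀ a b : G, (∃ p ∈ UFive.SeedU5.P E, ∃ k ∈ E.T, a = p * k) →
      (∃ p ∈ UFive.SeedU5.P E, ∃ k ∈ E.T, b = p * k) → ∃ p ∈ UFive.SeedU5.P E, ∃ k ∈ E.T, a * b = p * k := by
    rintro _ _ ⟨p, hp, k, hk, rfl⟩ ⟨p', hp', k', hk', rfl⟩
    exact ⟨p * (k * p' * k⁻¹), mul_mem hp (hTP k hk p' hp'), k * k', mul_mem hk hk', by group⟩
  refine closure_induction (p := fun g _ => ∃ p ∈ UFive.SeedU5.P E, ∃ k ∈ E.T, g = p * k) ?_ ?_ ?_ ?_ hg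
  · rintro x ((hx | hx) | hx)
    · exact ⟨x, subset_closure (Or.inl (Or.inl hx)), 1, one_mem _, by group⟩
    · exact ⟨x, subset_closure (Or.inl (Or.inr hx)), 1, one_mem _, by group⟩
    · exact ⟨1, one_mem _, x, hx.1, by group⟩
  · exact ⟨1, one_mem _, 1, one_mem _, by group⟩
  · intro a b _ _ ha hb
    exact mul_cl a b ha hb
  · rintro _ _ ⟨p, hp, k, hk, rfl⟩
    refine ⟨k⁻¹ * p⁻¹ * k⁻¹⁻¹, hTP _ (inv_mem hk) _ (inv_mem hp), k⁻¹, inv_mem hk, by group⟩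

/-- `P = [C_A(Z), C_A(Z)]` -/
theorem P_eq_comm : UFive.SeedU5.P (env5 S h h0 h1) =
    ⁅PP (wenv S h h0 h1) ((B2Rel2.nb S (h.hB.ok0 1) : ↥A) : G),
      PP (wenv S h h0 h1) ((B2Rel2.nb S (h.hB.ok0 1) : ↥A) : G)⁆ := by
  set E := env5 S h h0 h1 with hE
  apply le_antisymm
  · rw [← UFive.SeedU5.P_perfect (hGen S h h0 h1)]
    exact commutator_mono (P_le_PP S h h0 h1) (P_le_PP S h h0 h1)
  · rw [commutator_le]
    intro x hx y hy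
    obtain ⟨p, hp, k, hk, rfl⟩ := mem_PP S h h0 h1 hx
    obtain ⟨p', hp', k', hk', rfl⟩ := mem_PP S h h0 h1 hy
    have hr := rank1 S h h0 h1
    have hTP : ∀ k ∈ E.T, ∀ g ∈ UFive.SeedU5.P E, k * g * k⁻¹ ∈ UFive.SeedU5.P E := fun k hk g hg =>
      (UFive.SeedU5.pre hr).T_P hk hg
    have hc := E.T_comm k hk k' hk'
    have e : ⁅p * k, p' * k'⁆ = p * (k * p' * k⁻¹) * (k' * p⁻¹ * k'⁻¹) * p'⁻¹ := by
      rw [commutatorElement_def]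
      have hc' : k * k' * k⁻¹ = k' := by rw [hc]; group
      calc p * k * (p' * k') * (p * k)⁻¹ * (p' * k')⁻¹
          = p * (k * p' * k⁻¹) * (k * k' * k⁻¹) * p⁻¹ * k'⁻¹ * p'⁻¹ := by group
        _ = p * (k * p' * k⁻¹) * (k' * p⁻¹ * k'⁻¹) * p'⁻¹ := by rw [hc']; group
    rw [e]
    exact mul_mem (mul_mem (mul_mem hp (hTP k hk p' hp')) (hTP k' hk' _ (inv_mem hp))) (inv_mem hp')

/-- **The hypothesis `hP` of `SeedU5.exists_seed5`.** -/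
theorem hP5 : ∀ c, c * (env5 S h h0 h1).t = (env5 S h h0 h1).t * c →
      (∀ x, c * (env5 S h h0 h1).xz x = (env5 S h h0 h1).xz x * c) →
      ∀ g ∈ UFive.SeedU5.P (env5 S h h0 h1), c * g * c⁻¹ ∈ UFive.SeedU5.P (env5 S h h0 h1) := by
  intro c hc hz
  have h2 : PP (wenv S h h0 h1) ((B2Rel2.nb S (h.hB.ok0 1) : ↥A) : G) ≤
      (PP (wenv S h h0 h1) ((B2Rel2.nb S (h.hB.ok0 1) : ↥A) : G)).comap (MulAut.conj c).toMonoidHom :=
    fun g hg => conj_PP h h0 h1 hc hz hg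
  have h3 : ⁅PP (wenv S h h0 h1) ((B2Rel2.nb S (h.hB.ok0 1) : ↥A) : G),
      PP (wenv S h h0 h1) ((B2Rel2.nb S (h.hB.ok0 1) : ↥A) : G)⁆ ≤
      (⁅PP (wenv S h h0 h1) ((B2Rel2.nb S (h.hB.ok0 1) : ↥A) : G),
      PP (wenv S h h0 h1) ((B2Rel2.nb S (h.hB.ok0 1) : ↥A) : G)⁆).comap (MulAut.conj c).toMonoidHom := by
    rw [commutator_le]
    intro x hx y hy
    rw [mem_comap, map_commutatorElement]
    exact commutator_mem_commutator (h2 hx) (h2 hy)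
  intro g hg
  rw [P_eq_comm] at hg ⊢
  exact h3 hg

/-- **The seed of type `U₅` in `X`.** -/
theorem exists_seed5 [Finite G] {n : G} (hn : n ∈ normalizer (SeedOdd.TZ (env5 S h h0 h1).toWEnv : Set G))
    {c : B.K} (hc : c ≠ 0)
    (ht : n * (env5 S h h0 h1).t * n⁻¹ = (env5 S h h0 h1).xz c * (env5 S h h0 h1).t) :
    ∃ Sd : UFive.Seed5 (env5 S h h0 h1), ∀ y ∈ Sd.Y, ∀ g ∈ UFive.SeedU5.P (env5 S h h0 h1), y * g = g * y :=
  UFive.SeedU5.exists_seed5 (rank1 S h h0 h1) (hGen S h h0 h1) (hP5 S h h0 h1) hn hc ht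

end ambient

end Cfsg.Agent.StdRank2.B2Seed5
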