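import Cfsg.Agent.StdRank2.B2Par

/-!
# Automorphisms trivial on the graded pieces of `U` are inner (`B₂` packages, characteristic two)

`Triv S φ`: `φ` is trivial on `U/V_I ≅ x(F)`, on `U/V_J ≅ z₂(T)` modulo `z₂(0,·)` and on `z₂(0,·)` modulo `V_J`.
`inner_of_triv`: then `φ` is conjugation by an element of `U` (`Z(A) = 1`, a parameter `lam ≠ 0, 1`, and for
`U₅` a torus element trivial on `z₂(0,·)` but not on `z₂(T)`).  `inner_of_VI`, `inner_of_VJ`: automorphisms centralising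
`V_I` (`V_J`).
-/

set_option autoImplicit false
set_option linter.unusedSectionVars false

namespace Cfsg.Agent.StdRank2.B2Self

open Subgroup
open Cfsg.Agent.TitsThree.B2Pkg Cfsg.Agent.TitsThree.RankTwoIdentB2
  Cfsg.Agent.TitsThree.CoreB2 Cfsg.Agent.TitsThree.RankTwoIdx Cfsg.Agent.TitsThree.RankTwoRGD
  Cfsg.Agent.TitsThree.StdData
open Cfsg.Agent.StdRank2.OddLift Cfsg.Agent.StdRank2.B2Lift Cfsg.Agent.StdRank2.B2Std
  Cfsg.Agent.StdRank2.B2Torus Cfsg.Agent.StdRank2.B2Act Cfsg.Agent.StdRank2.B2Act.Std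
  Cfsg.Agent.StdRank2.B2Par Cfsg.Agent.StdRank2.B2Par.Std
open scoped commutatorElement Pointwise

universe u

/-- a fixed point free element is conjugate to all elements of its coset -/
theorem exists_conj_of_fpf {G : Type*} [Group G] {P : Subgroup G} [Finite P] {g : G}
    (hn : ∀ v ∈ P, g * v * g⁻¹ ∈ P) (hf : ∀ v ∈ P, g * v = v * g → v = 1) {u : G} (hu : u ∈ P) :
    ∃ v ∈ P, v * (u * g) * v⁻¹ = g := by
  have hmem : ∀ v ∈ P, v⁻¹ * (g * v * g⁻¹) ∈ P := fun v hv => mul_mem (inv_mem hv) (hn v hv)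
  have hinj : Function.Injective (fun v : P => (⟨(v : G)⁻¹ * (g * v * g⁻¹), hmem v v.2⟩ : P)) := by
    intro v w hvw
    have h1 : (v : G)⁻¹ * (g * v * g⁻¹) = (w : G)⁻¹ * (g * w * g⁻¹) := congrArg Subtype.val hvw
    have h2 : g * ((w : G) * (v : G)⁻¹) = (w : G) * (v : G)⁻¹ * g := by
      have h3 : (w : G) * ((v : G)⁻¹ * (g * v * g⁻¹)) = g * w * g⁻¹ := by rw [h1]; group
      calc g * ((w : G) * (v : G)⁻¹) = (g * w * g⁻¹) * g * (v : G)⁻¹ := by group
        _ = (w : G) * ((v : G)⁻¹ * (g * v * g⁻¹)) * g * (v : G)⁻¹ := by rw [h3]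
        _ = _ := by group
    have h3 := hf _ (mul_mem w.2 (inv_mem v.2)) h2
    exact Subtype.ext (mul_inv_eq_one.1 h3).symm
  obtain ⟨v, hv⟩ := Finite.surjective_of_injective hinj ⟨u, hu⟩
  have h1 : (v : G)⁻¹ * (g * v * g⁻¹) = u := congrArg Subtype.val hv
  refine ⟨v, v.2, ?_⟩
  rw [← h1]; group

variable {F : Type*} [Field F] {V : Type*} [AddCommGroup V] [Module F V] {D : PQDatum F V}
variable {A : Type u} [Group A]

/-- `φ` is trivial on the graded pieces -/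
structure Triv (S : B2Std.Std D A) (φ : MulAut A) : Prop where
  x : ∀ a, PX S (φ (S.m.x a)) a
  z : ∀ q : D.T, ∃ r : D.T, r.w = 0 ∧ PZ S (φ (S.m.z₂ q)) (q * r)
  z0 : ∀ q : D.T, q.w = 0 → PZ S (φ (S.m.z₂ q)) q

variable {S : B2Std.Std D A} {φ : MulAut A}

variable [Finite F] [CharP F 2]

theorem Triv.conj (h : Triv S φ) {u : A} (hu : u ∈ S.U) : Triv S (MulAut.conj u * φ) where
  x a := by
    rw [MulAut.mul_apply, MulAut.conj_apply]
    exact (h.x a).conj hu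
  z q := by
    obtain ⟨r, hr, h1⟩ := h.z q
    obtain ⟨s, hs⟩ := exists_PZ hu
    refine ⟨q⁻¹ * (s * (q * r) * s⁻¹), ?_, ?_⟩
    · simp [hr]
    · rw [MulAut.mul_apply, MulAut.conj_apply]
      have h2 := h1.conj hs
      have e : q * (q⁻¹ * (s * (q * r) * s⁻¹)) = s * (q * r) * s⁻¹ := by group
      rw [e]
      exact h2
  z0 q hq := by
    obtain ⟨s, hs⟩ := exists_PZ hu
    rw [MulAut.mul_apply, MulAut.conj_apply]
    have h2 := (h.z0 q hq).conj hs
    have e : s * q * s⁻¹ = q := by rw [← comm_of_w hq s]; group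
    rwa [e] at h2

theorem Triv.map_U {lam : F} (L : Lam D lam) (h : Triv S φ) {v : A} (hv : v ∈ S.U) : φ v ∈ S.U := by
  have h1 : S.U ≤ S.U.comap φ.toMonoidHom := by
    apply U_le L
    · intro a
      exact (h.x a).mem
    · intro q
      obtain ⟨r, -, h2⟩ := h.z q
      exact h2.mem
  exact h1 hv

variable [Finite D.T] [Finite A]

theorem Triv.exists_U {lam : F} (L : Lam D lam) (h : Triv S φ) {v : A} (hv : v ∈ S.U) :
    ∃ w ∈ S.U, φ w = v := by
  have hinj : Function.Injective (fun w : ↥S.U => (⟨φ w, h.map_U L w.2⟩ : ↥S.U)) := by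
    intro w w' hw
    exact Subtype.ext (φ.injective (congrArg Subtype.val hw))
  obtain ⟨w, hw⟩ := Finite.surjective_of_injective hinj ⟨v, hv⟩
  exact ⟨w, w.2, congrArg Subtype.val hw⟩

/-- `φ` is trivial on `B/U` -/
theorem Triv.map_H {lam : F} (L : Lam D lam) (hD : Scal D) (hZ : Subgroup.center A = ⊥)
    (hφ : Triv S φ) {h : A} (hh : h ∈ S.H) : ∃ u ∈ S.U, φ h = u * h := by
  have hn : φ h ∈ Subgroup.normalizer (S.U : Set A) := by
    apply mem_normalizer_of_conj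
    intro v hv
    obtain ⟨w, hw, rfl⟩ := hφ.exists_U L hv
    have := hφ.map_U L (Std.HU hh hw)
    rwa [map_mul, map_mul, map_inv] at this
  rw [B2Torus.Std.normalizer_U, mem_B] at hn
  obtain ⟨u, hu, h', hh', e⟩ := hn
  refine ⟨u, hu, ?_⟩
  obtain ⟨l, μ, ν, ht⟩ := exists_tact S.rel S.hp₀ hD hh
  obtain ⟨l', μ', ν', ht'⟩ := exists_tact S.rel S.hp₀ hD hh'
  obtain ⟨s, hs⟩ := exists_PZ hu
  have hconj : ∀ v, φ (h * v * h⁻¹) = u * (h' * φ v * h'⁻¹) * u⁻¹ := by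
    intro v
    rw [map_mul, map_mul, map_inv, e]; group
  -- `x`
  have ha : l * μ⁻¹ = l' * μ'⁻¹ := by
    have h1 := hφ.x (l * μ⁻¹ * 1)
    rw [← ht.x, hconj] at h1
    have h2 := (PX.tact ht' (hφ.x 1)).conj hu
    have h3 := h1.uniq h2
    rwa [mul_one, mul_one] at h3
  -- `z₂`
  have hw : ∀ q : D.T, (D.σ μ * ν) • q.w = (D.σ μ' * ν') • q.w := by
    intro q
    obtain ⟨q1, h1, -, h2⟩ := ht.z₂ q
    obtain ⟨r1, hr1, h3⟩ := hφ.z q1
    obtain ⟨r, hr, h4⟩ := hφ.z q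
    rw [← h2, hconj] at h3
    obtain ⟨q2, h5, -, h6⟩ := PZ.tact ht' h4
    have h7 := h3.uniq (h6.conj hs)
    have h8 := congrArg PQDatum.T.w h7
    rw [conj_w, PQDatum.T.mul_w, hr1, add_zero, h5, PQDatum.T.mul_w, hr, add_zero, h1] at h8
    exact h8
  have hc : μ * D.σ μ = μ' * D.σ μ' := by
    let q : D.T := ⟨0, 1, L.ok1⟩
    obtain ⟨q1, h1, h1', h2⟩ := ht.z₂ q
    have hq1 : q1.w = 0 := by rw [h1]; exact smul_zero _
    have h3 := hφ.z0 q1 hq1
    rw [← h2, hconj] at h3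
    obtain ⟨q2, h5, h5', h6⟩ := PZ.tact ht' (hφ.z0 q rfl)
    have hq2 : q2.w = 0 := by rw [h5]; exact smul_zero _
    have h7 := h3.uniq (h6.conj hs)
    have e7 : s * q2 * s⁻¹ = q2 := by rw [← comm_of_w hq2 s]; group
    rw [e7] at h7
    rw [h7, h5'] at h1'
    have e8 : q.c = 1 := rfl
    rw [e8, mul_one, mul_one] at h1'
    exact h1'.symm
  have hk := ht.inv.mul ht'
  have hl0 := ht.l0
  have hμ0 := ht.μ0
  have hν0 := ht.ν0
  have hl0' := ht'.l0
  have hμ0' := ht'.μ0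
  have hσ := D.σ_ne hμ0
  have e1 : l⁻¹ * l' = μ⁻¹ * μ' := by
    field_simp at ha ⊢
    linear_combination -ha
  have h1 : h⁻¹ * h' = 1 := by
    refine H_eq_one hZ hk e1 ?_ ?_
    · intro q
      rw [e1]
      have e2 : D.σ (μ⁻¹ * μ') * (ν⁻¹ * ν') = (D.σ μ * ν)⁻¹ * (D.σ μ' * ν') := by
        rw [map_mul, map_inv₀, mul_inv]; ring
      rw [e2, mul_smul, ← hw q, smul_smul, inv_mul_cancel₀ (mul_ne_zero hσ hν0), one_smul]
    · rw [e1, map_mul, map_inv₀]
      field_simp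
      linear_combination -hc
  rw [e, ← inv_mul_eq_one.1 h1]

/-- the odd exponent -/
theorem odd_card_sub_one (F : Type*) [Field F] [Finite F] [CharP F 2] : Odd (Nat.card F - 1) := by
  have := Fintype.ofFinite F
  have h1 : Even (Nat.card F) := by
    rw [Nat.card_eq_fintype_card]
    have := FiniteField.even_card_of_char_two (F := F)
      (CharP.ringChar_of_prime_eq_zero Nat.prime_two (by exact_mod_cast CharP.cast_eq_zero F 2))
    exact Nat.even_iff.2 this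
  have h2 : 0 < Nat.card F := Nat.card_pos
  obtain ⟨k, hk⟩ := h1
  exact ⟨k - 1, by omega⟩

omit [Finite D.T] [Finite A] in
theorem PX_pow {g u : A} {l ν c : F} (ht : TAct S.m g l l ν) (hu : PX S u c) (k : ℕ) :
    ∃ v, (u * g) ^ k = v * g ^ k ∧ PX S v (k * c) := by
  have h1 : ∀ k : ℕ, PX S (g ^ k * u * (g ^ k)⁻¹) c := by
    intro k
    induction k with
    | zero => simpa using hu
    | succ k ih =>
      have := PX.tact ht ih
      rw [mul_inv_cancel₀ ht.l0, one_mul] at this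
      have e : g * (g ^ k * u * (g ^ k)⁻¹) * g⁻¹ = g ^ (k + 1) * u * (g ^ (k + 1))⁻¹ := by
        rw [pow_succ']; group
      rwa [e] at this
  induction k with
  | zero => exact ⟨1, by simp, by simpa using PX.one⟩
  | succ k ih =>
    obtain ⟨v, h2, h3⟩ := ih
    refine ⟨v * (g ^ k * u * (g ^ k)⁻¹), ?_, ?_⟩
    · rw [pow_succ, h2, pow_succ]; group
    · have := h3.mul (h1 k)
      have e : (k : F) * c + c = ((k + 1 : ℕ) : F) * c := by push_cast; ring
      rwa [e] at this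

/-- **Automorphisms trivial on the graded pieces of `U` are inner.** -/
theorem inner_of_triv {lam : F} (L : Lam D lam) (hD : Scal D)
    (hT : ∃ g ∈ S.H, ∃ β : F, β ≠ 1 ∧ ActT g S.m.z₂ β 1)
    (hZ : Subgroup.center A = ⊥) (hφ : Triv S φ) : ∃ u ∈ S.U, φ = MulAut.conj u := by
  obtain ⟨gJ, hgJ, tJ⟩ := exists_hJ S.rel S.hp₀ L.ok L.ok1 L.ne0
  obtain ⟨gK, hgK, tK⟩ := exists_hK S.rel S.hp₀ L.ok L.ok1 L.ne0
  have hgJ' : gJ ∈ S.H := hgJ
  have hgK' : gK ∈ S.H := hgK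
  -- reduce to `φ` trivial on `gK`, `gJ`
  suffices h0 : ∀ ψ : MulAut A, Triv S ψ → ψ gK = gK → ψ gJ = gJ → ψ = 1 by
    obtain ⟨u, hu, e⟩ := hφ.map_H L hD hZ hgK'
    -- `u ∈ V_I`
    have huI : u ∈ S.VI := by
      obtain ⟨c, hc⟩ := exists_PX hu
      obtain ⟨v, h1, h2⟩ := PX_pow tK hc (Nat.card F - 1)
      have h3 : gK ^ (Nat.card F - 1) = 1 := by
        have := B2Torus.Std.pow_mem_center S hD hgK'
        rwa [hZ, mem_bot] at this
      rw [← e, ← map_pow, h3, map_one, mul_one] at h1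
      rw [← h1] at h2
      have h4 := h2.uniq PX.one
      have h5 : ((Nat.card F - 1 : ℕ) : F) = 1 := by
        obtain ⟨k, hk⟩ := odd_card_sub_one F
        rw [hk]; push_cast
        have : (2 : F) = 0 := by exact_mod_cast CharP.cast_eq_zero F 2
        linear_combination (k : F) * this
      rw [h5, one_mul] at h4
      rw [h4] at hc
      exact mem_VI_iff.2 hc
    obtain ⟨v, hv, e1⟩ := exists_conj_of_fpf (P := S.VI) (g := gK) (S.HVI gK hgK')
      (fun w hw hc => by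
        obtain ⟨a, rfl⟩ := eq_x_of_comm L tK (S.VI_le hw) hc
        rw [S.x_mem_VI_iff] at hw
        rw [hw]; exact add_zero' S.rel.x_add) huI
    let φ₁ : MulAut A := MulAut.conj v * φ
    have h1 : Triv S φ₁ := hφ.conj (S.VI_le hv)
    have h1K : φ₁ gK = gK := by
      change v * φ gK * v⁻¹ = gK
      rw [e]; exact e1
    obtain ⟨w, hw, e2⟩ := h1.map_H L hD hZ hgJ'
    have hwK : gK * w = w * gK := by
      have h2 : gK * φ₁ gJ = φ₁ gJ * gK := by
        have h3 := congrArg φ₁ (H_comm hD hZ hgK' hgJ')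
        rwa [map_mul, map_mul, h1K] at h3
      rw [e2] at h2
      have h3 := H_comm hD hZ hgK' hgJ'
      have h4 : gK * w * gJ = w * gK * gJ := by
        calc gK * w * gJ = gK * (w * gJ) := by group
          _ = w * gJ * gK := h2
          _ = w * (gJ * gK) := by group
          _ = w * (gK * gJ) := by rw [h3]
          _ = _ := by group
      exact mul_right_cancel h4
    obtain ⟨a, rfl⟩ := eq_x_of_comm L tK hw hwK
    obtain ⟨_, ⟨c, rfl⟩, e4⟩ := exists_conj_of_fpf (P := Xg S.rel) (g := gJ)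
      (fun w hw => by
        obtain ⟨c, rfl⟩ := hw
        exact ⟨_, (tJ.x c).symm⟩)
      (fun w hw hc => by
        obtain ⟨c, rfl⟩ := hw
        obtain ⟨q, hq⟩ := eq_z₂_of_comm L tJ (x_mem c) hc
        exact x_eq_z₂ hq) (u := S.m.x a) ⟨a, rfl⟩
    let φ₂ : MulAut A := MulAut.conj (S.m.x c) * φ₁
    have h2 : Triv S φ₂ := h1.conj (x_mem c)
    have h2K : φ₂ gK = gK := by
      change S.m.x c * φ₁ gK * (S.m.x c)⁻¹ = gK
      rw [h1K, ← (tK.comm_x c).eq, mul_inv_cancel_right]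
    have h2J : φ₂ gJ = gJ := by
      change S.m.x c * φ₁ gJ * (S.m.x c)⁻¹ = gJ
      rw [e2]; exact e4
    have h3 := h0 φ₂ h2 h2K h2J
    refine ⟨(S.m.x c * v)⁻¹, inv_mem (mul_mem (x_mem c) (S.VI_le hv)), ?_⟩
    have h4 : MulAut.conj (S.m.x c * v) * φ = 1 := by
      rw [map_mul, mul_assoc]
      exact h3
    rw [map_inv]
    exact eq_inv_of_mul_eq_one_right h4
  intro ψ hψ hK hJ
  -- `ψ` is trivial on `H`
  have hH : ∀ h ∈ S.H, ψ h = h := by
    intro h hh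
    obtain ⟨u, hu, e⟩ := hψ.map_H L hD hZ hh
    have key : ∀ g ∈ S.H, ψ g = g → g * u = u * g := by
      intro g hg hψg
      have h2 : g * ψ h = ψ h * g := by
        have h3 := congrArg ψ (H_comm hD hZ hg hh)
        rwa [map_mul, map_mul, hψg] at h3
      rw [e] at h2
      have h3 := H_comm hD hZ hg hh
      have h4 : g * u * h = u * g * h := by
        calc g * u * h = g * (u * h) := by group
          _ = u * h * g := h2
          _ = u * (h * g) := by group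
          _ = u * (g * h) := by rw [h3]
          _ = _ := by group
      exact mul_right_cancel h4
    obtain ⟨a, ha⟩ := eq_x_of_comm L tK hu (key gK hgK' hK)
    obtain ⟨q, hq⟩ := eq_z₂_of_comm L tJ hu (key gJ hgJ' hJ)
    have : u = 1 := by rw [ha]; exact x_eq_z₂ (ha.symm.trans hq)
    rw [e, this, one_mul]
  -- `ψ` is trivial on `x`
  have hx : ∀ a, ψ (S.m.x a) = S.m.x a := by
    intro a
    have h1 : gK * ψ (S.m.x a) = ψ (S.m.x a) * gK := by
      have := congrArg ψ (tK.comm_x a).eq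
      rwa [map_mul, map_mul, hK] at this
    obtain ⟨c, hc⟩ := eq_x_of_comm L tK (hψ.x a).mem h1
    have h2 := hψ.x a
    rw [hc] at h2
    rw [hc, h2.uniq (PX.x c)]
  -- `ψ` on `z₂`
  have hz1 : ∀ q, ∃ q', ψ (S.m.z₂ q) = S.m.z₂ q' := by
    intro q
    obtain ⟨r, hr, h1⟩ := hψ.z q
    have h2 : gJ * ψ (S.m.z₂ q) = ψ (S.m.z₂ q) * gJ := by
      have := congrArg ψ (tJ.comm_z₂ q).eq
      rwa [map_mul, map_mul, hJ] at this
    exact eq_z₂_of_comm L tJ h1.mem h2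
  choose f hf using hz1
  have hfw : ∀ q, (f q).w = q.w := by
    intro q
    obtain ⟨r, hr, h1⟩ := hψ.z q
    rw [hf] at h1
    have h2 := h1.uniq (PZ.z₂ (f q))
    rw [← h2, PQDatum.T.mul_w, hr, add_zero]
  have hf0 : ∀ q : D.T, q.w = 0 → f q = q := by
    intro q hq
    have h1 := hψ.z0 q hq
    rw [hf] at h1
    exact (h1.uniq (PZ.z₂ (f q))).symm
  have hfm : ∀ q q', f (q * q') = f q * f q' := by
    intro q q'
    apply S.z₂_injective
    rw [← hf, S.rel.z₂_mul, S.rel.z₂_mul, map_mul, hf, hf]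
  have hf1 : ∀ q, f q = q := by
    obtain ⟨g, hg, β, hβ, hact⟩ := hT
    -- `f (g·q) = g·(f q)`
    have key : ∀ q q1 : D.T, q1.w = β • q.w → q1.c = 1 * q.c → g * S.m.z₂ q * g⁻¹ = S.m.z₂ q1 →
        f q1 = q1 * (q⁻¹ * f q) := by
      intro q q1 _ _ h3
      have hr : (q⁻¹ * f q).w = 0 := by
        rw [PQDatum.T.mul_w, PQDatum.T.inv_w, hfw, neg_add_cancel]
      obtain ⟨q2, i1, i2, i3⟩ := hact (q⁻¹ * f q)
      have hq2 : q2 = q⁻¹ * f q := by
        ext
        · rw [i1, hr, smul_zero]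
        · rw [i2, one_mul]
      rw [hq2] at i3
      apply S.z₂_injective
      rw [← hf, ← h3, map_mul, map_mul, map_inv, hH g hg, hf]
      have e : f q = q * (q⁻¹ * f q) := by group
      calc g * S.m.z₂ (f q) * g⁻¹ = g * S.m.z₂ (q * (q⁻¹ * f q)) * g⁻¹ := by rw [← e]
        _ = (g * S.m.z₂ q * g⁻¹) * (g * S.m.z₂ (q⁻¹ * f q) * g⁻¹) := by
            rw [S.rel.z₂_mul]; group
        _ = S.m.z₂ q1 * S.m.z₂ (q⁻¹ * f q) := by rw [h3, i3]
        _ = _ := by rw [← S.rel.z₂_mul]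
    intro q
    -- write `q.w = (β - 1) w`
    have hβ' : β - 1 ≠ 0 := sub_ne_zero.2 hβ
    let p : D.T := D.sc (D.σ (β - 1)⁻¹) q
    obtain ⟨p1, j1, j2, j3⟩ := hact p
    have h4 := key p p1 j1 j2 j3
    have hw : (p⁻¹ * p1).w = q.w := by
      rw [PQDatum.T.mul_w, PQDatum.T.inv_w, j1]
      change -(D.σ (D.σ (β - 1)⁻¹) • q.w) + β • D.σ (D.σ (β - 1)⁻¹) • q.w = q.w
      rw [D.σσ, smul_smul, ← neg_smul, ← add_smul]
      have : -(β - 1)⁻¹ + β * (β - 1)⁻¹ = 1 := by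
        have := mul_inv_cancel₀ hβ'
        linear_combination this
      rw [this, one_smul]
    have h5 : f (p⁻¹ * p1) = p⁻¹ * p1 := by
      have h6 : f p * f (p⁻¹ * p1) = f p1 := by
        rw [← hfm]; congr 1; group
      have hr : (p⁻¹ * f p).w = 0 := by
        rw [PQDatum.T.mul_w, PQDatum.T.inv_w, hfw, neg_add_cancel]
      rw [h4] at h6
      have h7 : f p * f (p⁻¹ * p1) = f p * (p⁻¹ * p1) := by
        rw [h6]
        calc p1 * (p⁻¹ * f p) = (p⁻¹ * f p) * p1 := (comm_of_w hr p1).symm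
          _ = p⁻¹ * f p * p⁻¹ * (p * p⁻¹) * p * p1 := by group
          _ = p⁻¹ * f p * (p * (p⁻¹ * p1)) := by group
          _ = p * (p⁻¹ * f p) * (p⁻¹ * p1) := by
              rw [← comm_of_w hr p]; group
          _ = _ := by group
      exact mul_left_cancel h7
    -- `q = (p⁻¹ p1) r`
    have hr : ((p⁻¹ * p1)⁻¹ * q).w = 0 := by
      rw [PQDatum.T.mul_w, PQDatum.T.inv_w, hw, neg_add_cancel]
    have e : q = (p⁻¹ * p1) * ((p⁻¹ * p1)⁻¹ * q) := by group
    rw [e, hfm, h5, hf0 _ hr]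
  have hz : ∀ q, ψ (S.m.z₂ q) = S.m.z₂ q := fun q => by rw [hf, hf1]
  -- `ψ` is trivial on `U`
  have hU : ∀ u ∈ S.U, ψ u = u := by
    let E : Subgroup A :=
      { carrier := {g | ψ g = g}
        mul_mem' := fun {a b} ha hb => by
          change ψ (a * b) = a * b
          rw [map_mul, show ψ a = a from ha, show ψ b = b from hb]
        one_mem' := map_one ψ
        inv_mem' := fun {a} ha => by
          change ψ a⁻¹ = a⁻¹
          rw [map_inv, show ψ a = a from ha] }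
    exact fun u hu => U_le L (P := E) hx hz hu
  -- `n_I`
  have hnI : ψ S.m.nI = S.m.nI := by
    have h1 : S.m.nI⁻¹ * ψ S.m.nI ∈ S.VI := by
      apply cent_VI hD L hZ
      intro v hv
      have h2 : S.m.nI * v * S.m.nI⁻¹ ∈ S.VI := by
        have := S.nVI v hv
        rwa [nt_one] at this
      have h3 := hU _ (S.VI_le h2)
      rw [map_mul, map_mul, map_inv, hU v (S.VI_le hv)] at h3
      calc S.m.nI⁻¹ * ψ S.m.nI * v * (S.m.nI⁻¹ * ψ S.m.nI)⁻¹
          = S.m.nI⁻¹ * (ψ S.m.nI * v * (ψ S.m.nI)⁻¹) * S.m.nI := by group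
        _ = v := by rw [h3]; group
    have h2 : gK * (S.m.nI⁻¹ * ψ S.m.nI) = S.m.nI⁻¹ * ψ S.m.nI * gK := by
      have h3 := tK.comm_nI
      have h4 : Commute gK (ψ S.m.nI) := by
        have := congrArg ψ h3.eq
        rw [map_mul, map_mul, hK] at this
        exact this
      exact (h3.inv_right.mul_right h4).eq
    obtain ⟨a, ha⟩ := eq_x_of_comm L tK (S.VI_le h1) h2
    rw [ha, S.x_mem_VI_iff] at h1
    rw [h1, show S.m.x 0 = 1 from add_zero' S.rel.x_add] at ha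
    exact (inv_mul_eq_one.1 ha).symm
  have hnJ : ψ (S.m.nII S.p₀) = S.m.nII S.p₀ := by
    have h1 : (S.m.nII S.p₀)⁻¹ * ψ (S.m.nII S.p₀) ∈ S.VJ := by
      apply cent_VJ hD hZ
      intro v hv
      have h2 : S.m.nII S.p₀ * v * (S.m.nII S.p₀)⁻¹ ∈ S.VJ := S.nVJ v hv
      have h3 := hU _ (S.VJ_le h2)
      rw [map_mul, map_mul, map_inv, hU v (S.VJ_le hv)] at h3
      calc (S.m.nII S.p₀)⁻¹ * ψ (S.m.nII S.p₀) * v * ((S.m.nII S.p₀)⁻¹ * ψ (S.m.nII S.p₀))⁻¹
          = (S.m.nII S.p₀)⁻¹ * (ψ (S.m.nII S.p₀) * v * (ψ (S.m.nII S.p₀))⁻¹) * S.m.nII S.p₀ := by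
            group
        _ = v := by rw [h3]; group
    have h2 : gJ * ((S.m.nII S.p₀)⁻¹ * ψ (S.m.nII S.p₀)) =
        (S.m.nII S.p₀)⁻¹ * ψ (S.m.nII S.p₀) * gJ := by
      have h3 := tJ.comm_nII S.p₀
      have h4 : Commute gJ (ψ (S.m.nII S.p₀)) := by
        have := congrArg ψ h3.eq
        rw [map_mul, map_mul, hJ] at this
        exact this
      exact (h3.inv_right.mul_right h4).eq
    obtain ⟨q, hq⟩ := eq_z₂_of_comm L tJ (S.VJ_le h1) h2
    rw [hq, S.z₂_mem_VJ_iff] at h1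
    rw [h1, show S.m.z₂ 1 = 1 from mul_one' S.rel.z₂_mul] at hq
    exact (inv_mul_eq_one.1 hq).symm
  -- the generators
  have htop : ∀ g : A, ψ g = g := by
    let E : Subgroup A :=
      { carrier := {g | ψ g = g}
        mul_mem' := fun {a b} ha hb => by
          change ψ (a * b) = a * b
          rw [map_mul, show ψ a = a from ha, show ψ b = b from hb]
        one_mem' := map_one ψ
        inv_mem' := fun {a} ha => by
          change ψ a⁻¹ = a⁻¹
          rw [map_inv, show ψ a = a from ha] }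
    have h1 : (⊤ : Subgroup A) ≤ E := by
      rw [← S.gen, Subgroup.closure_le]
      rintro k (⟨a, rfl | rfl⟩ | ⟨p, rfl | rfl⟩)
      · exact hx a
      · change ψ (S.m.x' a) = S.m.x' a
        have h2 := S.rel.nI_x (-a)
        rw [neg_neg] at h2
        rw [← h2, map_mul, map_mul, map_inv, hnI, hx]
      · exact hz p
      · change ψ (S.m.z₂' p) = S.m.z₂' p
        have h2 := S.rel.nII_z₂ S.p₀ S.hp₀ (D.unrefl S.p₀ S.hp₀ (D.sc (D.σ S.p₀.c) p))
        rw [D.refl_unrefl, D.sc_sc, inv_mul_cancel₀ (D.σ_ne S.hp₀), D.sc_one] at h2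
        rw [← h2, map_mul, map_mul, map_inv, hnJ, hz]
    exact fun g => h1 (mem_top g)
  exact MulEquiv.ext htop

/-- automorphisms centralising `V_I` -/
theorem inner_of_VI {lam : F} (L : Lam D lam) (hD : Scal D)
    (hT : ∃ g ∈ S.H, ∃ β : F, β ≠ 1 ∧ ActT g S.m.z₂ β 1)
    (hZ : Subgroup.center A = ⊥) (hφ : ∀ v ∈ S.VI, φ v = v) :
    ∃ u ∈ S.VI, φ = MulAut.conj u ∧ ∀ v ∈ S.VI, u * v = v * u := by
  have h1 : Triv S φ := by
    refine ⟨fun a => ?_, fun q => ?_, fun q _ => ?_⟩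
    · have h2 : (S.m.x a)⁻¹ * φ (S.m.x a) ∈ S.VI := by
        apply cent_VI hD L hZ
        intro v hv
        have h3 := hφ _ (S.UVI _ (x_mem a) v hv)
        rw [map_mul, map_mul, map_inv, hφ v hv] at h3
        calc (S.m.x a)⁻¹ * φ (S.m.x a) * v * ((S.m.x a)⁻¹ * φ (S.m.x a))⁻¹
            = (S.m.x a)⁻¹ * (φ (S.m.x a) * v * (φ (S.m.x a))⁻¹) * S.m.x a := by group
          _ = v := by rw [h3]; group
      have h3 := (PX.x (S := S) a).mul (mem_VI_iff.1 h2)
      rwa [add_zero, mul_inv_cancel_left] at h3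
    · exact ⟨1, rfl, by rw [hφ _ (S.z₂_mem_VI q), mul_one]; exact PZ.z₂ q⟩
    · rw [hφ _ (S.z₂_mem_VI q)]; exact PZ.z₂ q
  obtain ⟨u, hu, rfl⟩ := inner_of_triv L hD hT hZ h1
  have h2 : ∀ v ∈ S.VI, u * v * u⁻¹ = v := fun v hv => hφ v hv
  exact ⟨u, cent_VI hD L hZ h2, rfl, fun v hv => mul_inv_eq_iff_eq_mul.1 (h2 v hv)⟩

/-- automorphisms centralising `V_J` -/
theorem inner_of_VJ {lam : F} (L : Lam D lam) (hD : Scal D)
    (hT : ∃ g ∈ S.H, ∃ β : F, β ≠ 1 ∧ ActT g S.m.z₂ β 1)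
    (hZ : Subgroup.center A = ⊥) (hφ : ∀ v ∈ S.VJ, φ v = v) :
    ∃ u ∈ S.VJ, φ = MulAut.conj u ∧ ∀ v ∈ S.VJ, u * v = v * u := by
  have h1 : Triv S φ := by
    have key : ∀ q, PZ S (φ (S.m.z₂ q)) q := by
      intro q
      have h2 : φ (S.m.z₂ q) * (S.m.z₂ q)⁻¹ ∈ S.VJ := by
        apply cent_VJ hD hZ
        intro v hv
        have h0 := S.UVJ _ (inv_mem (z₂_mem q)) v hv
        rw [inv_inv] at h0
        have h3 := hφ _ h0
        rw [map_mul, map_mul, map_inv, hφ v hv] at h3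
        calc φ (S.m.z₂ q) * (S.m.z₂ q)⁻¹ * v * (φ (S.m.z₂ q) * (S.m.z₂ q)⁻¹)⁻¹
            = φ (S.m.z₂ q) * ((S.m.z₂ q)⁻¹ * v * S.m.z₂ q) * (φ (S.m.z₂ q))⁻¹ := by group
          _ = v := by rw [← h3]; group
      have h3 := (mem_VJ_iff.1 h2).mul (PZ.z₂ (S := S) q)
      rwa [one_mul, inv_mul_cancel_right] at h3
    refine ⟨fun a => ?_, fun q => ?_, fun q _ => key q⟩
    · rw [hφ _ (S.x_mem_VJ a)]; exact PX.x a
    · exact ⟨1, rfl, by rw [mul_one]; exact key q⟩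
  obtain ⟨u, hu, rfl⟩ := inner_of_triv L hD hT hZ h1
  have h2 : ∀ v ∈ S.VJ, u * v * u⁻¹ = v := fun v hv => hφ v hv
  exact ⟨u, cent_VJ hD hZ h2, rfl, fun v hv => mul_inv_eq_iff_eq_mul.1 (h2 v hv)⟩

end Cfsg.Agent.StdRank2.B2Self
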