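import Cfsg.Agent.StdRank2.B2Mover
import Cfsg.Agent.StdRank2.B2Seed5

/-!
# (I0) for `U₅(q)`: the seed in `X = N_G(O)/O` from `StepFour.Data`
-/

set_option autoImplicit false
set_option linter.unusedSectionVars false

namespace Cfsg.Agent.StdRank2.B2Start5

open Subgroup
open Cfsg.Agent.TitsThree.StdData
open Cfsg.Agent.StdRank2.B2Std Cfsg.Agent.StdRank2.UFour
open Cfsg.Agent.Schreier.Basic
open Cfsg.Agent.StdEven.CoreQuot Cfsg.Agent.StdEven.StepFour Cfsg.Agent.StdRank2.B2Conn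

universe u

variable {G : Type u} [Group G] [Finite G] {A : Subgroup G} {t : G} {T J W : Subgroup G}
variable {F : Type*} [Field F] [Finite F] [CharP F 2] {B : Bar F}

/-- **(I0), type `U₅`: the seed.** -/
theorem seed5 (h : Cfsg.Agent.StdEven.CoreQuot.Hyp A t T) (S : Std (stdU1 F B.s B.invol) ↥A) {c₀ : F}
    (hc : c₀ * B.s c₀ = 1) (hc1 : c₀ * c₀ * c₀ ≠ 1) {lam : B.K}
    (h0 : lam ≠ 0) (h1 : lam ≠ 1) (hS : Sch ↥(im A t A)) (D : Data A t T J W)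
    (hNO : normalizer (T : Set G) ≤ NO A t)
    (hW : ∀ (w : G) (_ : w ∈ W) (hn : w ∈ NO A t), ∃ v, pr A t ⟨w, hn⟩ = (env5 h S hc hc1 h0 h1).w v)
    (ha : ∀ s, (env5 h S hc hc1 h0 h1).xa s ∈ im A t T)
    {g : G} (hg : g ∈ normalizer (T : Set G)) {k : ℕ} (hk : g ^ 2 ^ k = 1) (hgt : g * t ≠ t * g) :
    ∃ Sd : UFive.Seed5 (env5 h S hc hc1 h0 h1), ∀ y ∈ Sd.Y, ∀ g ∈ UFive.SeedU5.P (env5 h S hc hc1 h0 h1),
      y * g = g * y := by
  obtain ⟨n, c, hc', hn, e1, -⟩ := B2Mover.start5 h S hc hc1 h0 h1 hS D hNO hW ha hg hk hgt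
  exact B2Seed5.exists_seed5 (imS h S) (hyp5 h S hc hc1) h0 h1 hn hc' e1

end Cfsg.Agent.StdRank2.B2Start5
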