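import Cfsg.Agent.StdRank2.ModelL3
import Cfsg.Agent.LieClassical.SLGen

/-!
# The frame of root elements of a subgroup `A` with `A / Z(A) ≃* PSL 3 F`, `Z(A)` odd, `char F = 2`

`FrameL3 A F` consists of an isomorphism `e` and elements `x i j s` of `A` (`i ≠ j`), involutions or 1,
mapping to the elementary matrices.  All relations of `PSL 3 F` between 2-elements lift to `A`.
-/

set_option autoImplicit false
set_option linter.unusedSimpArgs false

namespace Cfsg.Agent.StdRank2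

open Matrix
open Matrix.SpecialLinearGroup (transvection)
open Cfsg.Agent.ClassicalGeometry.AutPSL.Root
open Cfsg.Agent.ClassicalGeometry.AutPSL.SylowU
open Cfsg.Agent.StdRank2.FrameLift
open Cfsg.Agent.StdRank2.ModelL3

/-- Root elements of `A`, `A / Z(A) ≃* PSL 3 F`. -/
structure FrameL3 {G : Type*} [Group G] (A : Subgroup G) (F : Type*) [Field F] where
  /-- the isomorphism -/
  e : ↥A ⧸ Subgroup.center ↥A ≃* Matrix.ProjectiveSpecialLinearGroup (Fin 3) F
  /-- root elements -/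
  x : Fin 3 → Fin 3 → F → G
  mem : ∀ {i j : Fin 3}, i ≠ j → ∀ s, x i j s ∈ A
  map : ∀ {i j : Fin 3} (h : i ≠ j) (s : F),
    e (QuotientGroup.mk ⟨x i j s, mem h s⟩) = pr (transvection h s)
  two : ∀ {i j : Fin 3}, i ≠ j → ∀ s, x i j s * x i j s = 1

namespace FrameL3

variable {G : Type*} [Group G] {A : Subgroup G} {F : Type*} [Field F]

/-- Existence of the frame. -/
theorem exists_frame [CharP F 2] (hZ : Odd (Nat.card (Subgroup.center ↥A)))
    (e : ↥A ⧸ Subgroup.center ↥A ≃* Matrix.ProjectiveSpecialLinearGroup (Fin 3) F) :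
    ∃ R : FrameL3 A F, R.e = e := by
  classical
  have hc := OddCover.of_center e hZ
  set f := e.toMonoidHom.comp (QuotientGroup.mk' (Subgroup.center ↥A)) with hf
  have hsq : ∀ {i j : Fin 3} (h : i ≠ j) (s : F),
      (pr (transvection h s) : Matrix.ProjectiveSpecialLinearGroup (Fin 3) F)
        * pr (transvection h s) = 1 := by
    intro i j h s
    rw [← map_mul, ← Matrix.SpecialLinearGroup.transvection_add, CharTwo.add_self_eq_zero,
      Matrix.SpecialLinearGroup.transvection_coeff_zero, map_one]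
  refine ⟨⟨e, fun i j s => if h : i ≠ j then ((lift2 f (pr (transvection h s)) : ↥A) : G) else 1,
    ?_, ?_, ?_⟩, rfl⟩
  · intro i j h s
    rw [dif_pos h]
    exact (lift2 f (pr (transvection h s)) : ↥A).2
  · intro i j h s
    have h1 := hc.map_lift2 (is2_of_sq (hsq h s))
    have h2 : ∀ (g : G) (hg : g ∈ A), g = ((lift2 f (pr (transvection h s)) : ↥A) : G) →
        e (QuotientGroup.mk ⟨g, hg⟩) = pr (transvection h s) := by
      rintro g hg rfl
      exact h1
    exact h2 _ _ (by rw [dif_pos h])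
  · intro i j h s
    rw [dif_pos h]
    have h1 : (lift2 f (pr (transvection h s)) : ↥A) * lift2 f (pr (transvection h s)) = 1 := by
      have h3 := hc.map_lift2 (is2_of_sq (hsq h s))
      apply hc.eq_of_map_eq _ is2_one
      · rw [map_mul, h3, hsq, map_one]
      · exact (hc.is2_lift2 (is2_of_sq (hsq h s))).mul (hc.is2_lift2 (is2_of_sq (hsq h s))) rfl
    exact congrArg Subtype.val h1

variable (R : FrameL3 A F)

/-- The projection of `A` onto `PSL 3 F`. -/
def f : ↥A →* Matrix.ProjectiveSpecialLinearGroup (Fin 3) F :=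
  R.e.toMonoidHom.comp (QuotientGroup.mk' (Subgroup.center ↥A))

/-- The root elements as elements of `A`. -/
def X {i j : Fin 3} (h : i ≠ j) (s : F) : ↥A := ⟨R.x i j s, R.mem h s⟩

@[simp] theorem coe_X {i j : Fin 3} (h : i ≠ j) (s : F) : (R.X h s : G) = R.x i j s := rfl

theorem f_X {i j : Fin 3} (h : i ≠ j) (s : F) : R.f (R.X h s) = pr (transvection h s) := R.map h s

theorem is2_X {i j : Fin 3} (h : i ≠ j) (s : F) : Is2 (R.X h s) :=
  is2_of_sq (Subtype.ext (R.two h s))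

theorem mem_ker_f {a : ↥A} : a ∈ R.f.ker ↔ a ∈ Subgroup.center ↥A := by
  rw [MonoidHom.mem_ker]
  change R.e (QuotientGroup.mk a) = 1 ↔ _
  rw [← QuotientGroup.eq_one_iff]
  constructor
  · intro h
    apply R.e.injective
    rw [h, map_one]
  · intro h
    rw [h, map_one]

theorem x_inv {i j : Fin 3} (h : i ≠ j) (s : F) : (R.x i j s)⁻¹ = R.x i j s :=
  inv_eq_of_mul_eq_one_left (R.two h s)

theorem x_inj {i j : Fin 3} (h : i ≠ j) {s t : F} : R.x i j s = R.x i j t ↔ s = t := by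
  refine ⟨fun hst => ?_, fun hst => by rw [hst]⟩
  have h1 : R.X h s = R.X h t := Subtype.ext hst
  have h2 : (pr (transvection h s) : Matrix.ProjectiveSpecialLinearGroup (Fin 3) F)
      = pr (transvection h t) := by rw [← R.f_X, ← R.f_X, h1]
  have h3 := entries_of_conj (s := s) (t := t) (M := 1) h
  by_cases hs : s = 0
  · subst hs
    rw [Matrix.SpecialLinearGroup.transvection_coeff_zero, map_one] at h2
    have h4 := (pr_eq_one_iff _).1 h2.symm
    exact ((Matrix.SpecialLinearGroup.transvection_mem_center_iff h t).1 h4).symm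
  · have h5 := (h3 hs (by rw [one_mul, inv_one, mul_one, h2])).2.2
    simpa using h5

section Odd

variable [CharP F 2] (hZ : Odd (Nat.card (Subgroup.center ↥A)))
include hZ

theorem cover : OddCover R.f := OddCover.of_center R.e hZ

/-- General conjugation principle. -/
theorem conj_of_sl {g : ↥A} {M : Matrix.SpecialLinearGroup (Fin 3) F} (hg : R.f g = pr M)
    {i j k l : Fin 3} {hij : i ≠ j} {hkl : k ≠ l} {s t : F}
    (e : M * transvection hij s * M⁻¹ = transvection hkl t) :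
    (g : G) * R.x i j s * (g : G)⁻¹ = R.x k l t := by
  have h1 := (R.cover hZ).conj_eq' (g := g) (R.is2_X hij s) (R.is2_X hkl t)
    (by rw [hg, R.f_X, R.f_X, ← map_inv, ← map_mul, ← map_mul, e])
  exact congrArg Subtype.val h1

theorem add {i j : Fin 3} (h : i ≠ j) (s t : F) : R.x i j s * R.x i j t = R.x i j (s + t) := by
  have h1 := (R.cover hZ).mul_eq (R.is2_X h s) (R.is2_X h t) (R.is2_X h (s + t))
    (by rw [R.f_X, R.f_X, ← map_mul, ← map_mul, ← Matrix.SpecialLinearGroup.transvection_add,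
      ← Matrix.SpecialLinearGroup.transvection_add, add_comm])
    (by rw [R.f_X, R.f_X, R.f_X, ← map_mul, ← Matrix.SpecialLinearGroup.transvection_add])
  exact congrArg Subtype.val h1

theorem x_zero {i j : Fin 3} (h : i ≠ j) : R.x i j 0 = 1 := by
  have h1 := R.add hZ h 0 0
  rw [add_zero] at h1
  exact mul_eq_left.1 h1

theorem x_eq_one {i j : Fin 3} (h : i ≠ j) {s : F} : R.x i j s = 1 ↔ s = 0 := by
  rw [← R.x_zero hZ h, R.x_inj h]

theorem comm {i j k l : Fin 3} (hij : i ≠ j) (hkl : k ≠ l) (hjk : j ≠ k) (hil : i ≠ l) (s t : F) :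
    R.x i j s * R.x k l t = R.x k l t * R.x i j s := by
  have h1 := (R.cover hZ).comm (g := R.X hij s) (R.is2_X hkl t)
    (by rw [R.f_X, R.f_X, ← map_mul, ← map_mul, tv_comm hij hkl hjk hil])
  exact congrArg Subtype.val h1

theorem conj {i j k : Fin 3} (hij : i ≠ j) (hjk : j ≠ k) (hik : i ≠ k) (s t : F) :
    R.x i j s * R.x j k t * (R.x i j s)⁻¹ = R.x i k (s * t) * R.x j k t := by
  have hcom : R.X hik (s * t) * R.X hjk t = R.X hjk t * R.X hik (s * t) :=
    Subtype.ext (R.comm hZ hik hjk hjk.symm.symm.symm hik (s * t) t)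
  have h1 := (R.cover hZ).conj_eq' (g := R.X hij s) (a := R.X hjk t)
    (b := R.X hik (s * t) * R.X hjk t) (R.is2_X hjk t)
    ((R.is2_X hik (s * t)).mul (R.is2_X hjk t) hcom)
    (by rw [map_mul, R.f_X, R.f_X, R.f_X, ← map_inv, ← map_mul, ← map_mul, ← map_mul,
      tv_conj hij hjk hik])
  exact congrArg Subtype.val h1

theorem conj' {i j k : Fin 3} (hij : i ≠ j) (hjk : j ≠ k) (hik : i ≠ k) (s t : F) :
    R.x j k t * R.x i j s * (R.x j k t)⁻¹ = R.x i k (s * t) * R.x i j s := by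
  have hcom : R.X hik (s * t) * R.X hij s = R.X hij s * R.X hik (s * t) :=
    Subtype.ext (R.comm hZ hik hij hik.symm hij (s * t) s)
  have h1 := (R.cover hZ).conj_eq' (g := R.X hjk t) (a := R.X hij s)
    (b := R.X hik (s * t) * R.X hij s) (R.is2_X hij s)
    ((R.is2_X hik (s * t)).mul (R.is2_X hij s) hcom)
    (by rw [map_mul, R.f_X, R.f_X, R.f_X, ← map_inv, ← map_mul, ← map_mul, ← map_mul,
      tv_conj' hij hjk hik, CharTwo.neg_eq])
  exact congrArg Subtype.val h1

theorem mul_swap {i j k : Fin 3} (hij : i ≠ j) (hjk : j ≠ k) (hik : i ≠ k) (s t : F) :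
    R.x j k t * R.x i j s = R.x i k (s * t) * (R.x i j s * R.x j k t) := by
  have h1 := R.conj' hZ hij hjk hik s t
  rw [mul_inv_eq_iff_eq_mul] at h1
  rw [h1, mul_assoc]

/-- The Weyl elements `w i j u = x i j u * x j i u⁻¹ * x i j u`; they are involutions. -/
def w (R : FrameL3 A F) (i j : Fin 3) (u : F) : G := R.x i j u * R.x j i u⁻¹ * R.x i j u

omit [CharP F 2] hZ in
theorem w_mem {i j : Fin 3} (h : i ≠ j) (u : F) : R.w i j u ∈ A :=
  mul_mem (mul_mem (R.mem h u) (R.mem h.symm u⁻¹)) (R.mem h u)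

omit [CharP F 2] hZ in
theorem w_mul_self {i j : Fin 3} (h : i ≠ j) (u : F) : R.w i j u * R.w i j u = 1 := by
  unfold w
  have h1 := R.two h u
  have h2 := R.two h.symm u⁻¹
  calc R.x i j u * R.x j i u⁻¹ * R.x i j u * (R.x i j u * R.x j i u⁻¹ * R.x i j u)
      = R.x i j u * (R.x j i u⁻¹ * (R.x i j u * R.x i j u) * R.x j i u⁻¹) * R.x i j u := by
        simp only [mul_assoc]
    _ = 1 := by rw [h1, mul_one, h2, mul_one, h1]

omit [CharP F 2] hZ in
theorem w_inv {i j : Fin 3} (h : i ≠ j) (u : F) : (R.w i j u)⁻¹ = R.w i j u :=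
  inv_eq_of_mul_eq_one_left (R.w_mul_self h u)

omit [CharP F 2] hZ in
theorem f_w {i j : Fin 3} (h : i ≠ j) (u : F) : R.f ⟨R.w i j u, R.w_mem h u⟩ = pr (wl h u) := by
  have h1 : (⟨R.w i j u, R.w_mem h u⟩ : ↥A) = R.X h u * R.X h.symm u⁻¹ * R.X h u := rfl
  rw [h1, map_mul, map_mul, R.f_X, R.f_X, wl, map_mul, map_mul]

theorem w_conj {i j : Fin 3} (h : i ≠ j) {u : F} (hu : u ≠ 0) {k l : Fin 3} (hkl : k ≠ l) (s : F) :
    R.w i j u * R.x k l s * (R.w i j u)⁻¹
      = R.x (Equiv.swap i j k) (Equiv.swap i j l)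
        ((if k = i then u⁻¹ else if k = j then u else 1) * s *
          (if l = i then u⁻¹ else if l = j then u else 1)⁻¹) :=
  R.conj_of_sl hZ (R.f_w h u) (wl_conj' h hu hkl s)

theorem w_conj_one {i j : Fin 3} (h : i ≠ j) {k l : Fin 3} (hkl : k ≠ l) (s : F) :
    R.w i j 1 * R.x k l s * (R.w i j 1)⁻¹ = R.x (Equiv.swap i j k) (Equiv.swap i j l) s :=
  R.conj_of_sl hZ (R.f_w h 1) (wl_conj h hkl s)

/-- `y` lies above the diagonal matrix `c`. -/
def Tor (R : FrameL3 A F) (y : G) (c : Fin 3 → F) : Prop :=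
  ∃ (hy : y ∈ A) (hc : c 0 * c 1 * c 2 = 1), R.f ⟨y, hy⟩ = pr (dg c hc)

omit [CharP F 2] hZ in
theorem Tor.mem {R : FrameL3 A F} {y : G} {c : Fin 3 → F} (h : R.Tor y c) : y ∈ A := h.1

omit [CharP F 2] hZ in
theorem Tor.prod {R : FrameL3 A F} {y : G} {c : Fin 3 → F} (h : R.Tor y c) :
    c 0 * c 1 * c 2 = 1 := h.2.1

omit [CharP F 2] hZ in
theorem Tor.ne_zero {R : FrameL3 A F} {y : G} {c : Fin 3 → F} (h : R.Tor y c) (i : Fin 3) :
    c i ≠ 0 := ne_zero_of_prod h.prod i

theorem Tor.conj {R : FrameL3 A F} {y : G} {c : Fin 3 → F} (h : R.Tor y c) {i j : Fin 3}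
    (hij : i ≠ j) (s : F) : y * R.x i j s * y⁻¹ = R.x i j (c i * s * (c j)⁻¹) := by
  obtain ⟨hy, hc, he⟩ := h
  exact R.conj_of_sl hZ he (dg_conj c hc hij s)

omit [CharP F 2] hZ in
theorem Tor.mul {R : FrameL3 A F} {y y' : G} {c c' : Fin 3 → F} (h : R.Tor y c)
    (h' : R.Tor y' c') : R.Tor (y * y') (fun i => c i * c' i) := by
  obtain ⟨hy, hc, he⟩ := h
  obtain ⟨hy', hc', he'⟩ := h'
  have hcc : c 0 * c' 0 * (c 1 * c' 1) * (c 2 * c' 2) = 1 := by
    rw [show c 0 * c' 0 * (c 1 * c' 1) * (c 2 * c' 2) = (c 0 * c 1 * c 2) * (c' 0 * c' 1 * c' 2) by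
      ring, hc, hc', one_mul]
  refine ⟨mul_mem hy hy', hcc, ?_⟩
  have h1 : R.f (⟨y, hy⟩ * ⟨y', hy'⟩) = pr (dg c hc * dg c' hc') := by
    rw [map_mul, map_mul, he, he']
  rw [dg_mul] at h1
  exact h1

omit [CharP F 2] hZ in
theorem Tor.one (R : FrameL3 A F) : R.Tor 1 (fun _ => 1) :=
  ⟨one_mem _, by norm_num, by rw [dg_one, map_one]; exact map_one R.f⟩

omit [CharP F 2] hZ in
theorem Tor.inv {R : FrameL3 A F} {y : G} {c : Fin 3 → F} (h : R.Tor y c) :
    R.Tor y⁻¹ (fun i => (c i)⁻¹) := by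
  obtain ⟨hy, hc, he⟩ := h
  have hc' : (c 0)⁻¹ * (c 1)⁻¹ * (c 2)⁻¹ = 1 := by
    rw [← mul_inv, ← mul_inv, hc, inv_one]
  refine ⟨inv_mem hy, hc', ?_⟩
  have h1 : (⟨y⁻¹, inv_mem hy⟩ : ↥A) = (⟨y, hy⟩ : ↥A)⁻¹ := rfl
  rw [h1, map_inv, he, ← map_inv]
  congr 1
  rw [inv_eq_iff_mul_eq_one, dg_mul]
  have h2 : (fun i => c i * (c i)⁻¹) = fun _ : Fin 3 => (1 : F) := by
    funext i
    exact mul_inv_cancel₀ (ne_zero_of_prod hc i)
  rw [← dg_one]
  congr 1

omit [CharP F 2] hZ in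
/-- Central elements of `A` lie above 1. -/
theorem Tor.of_central {z : G} (hz : z ∈ A) (hc : ∀ a ∈ A, a * z = z * a) :
    R.Tor z (fun _ => 1) := by
  refine ⟨hz, by norm_num, ?_⟩
  rw [dg_one, map_one]
  exact R.mem_ker_f.2 (Subgroup.mem_center_iff.2 fun a => Subtype.ext (hc a.1 a.2))

omit [CharP F 2] hZ in
/-- A torus element with equal entries is central in `A`. -/
theorem Tor.central {R : FrameL3 A F} {y : G} {c : Fin 3 → F} (h : R.Tor y c) (h01 : c 0 = c 1)
    (h12 : c 1 = c 2) : ∀ a ∈ A, y * a = a * y := by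
  obtain ⟨hy, hc, he⟩ := h
  have h1 : dg c hc ∈ Subgroup.center (Matrix.SpecialLinearGroup (Fin 3) F) := by
    rw [Matrix.SpecialLinearGroup.mem_center_iff]
    refine ⟨c 0, ?_, ?_⟩
    · rw [Fintype.card_fin]
      rw [← h12, ← h01] at hc
      rw [← hc]; ring
    · ext a b
      change Matrix.scalar (Fin 3) (c 0) a b = diagonal c a b
      rw [Matrix.scalar_apply, diagonal_apply, diagonal_apply]
      by_cases hab : a = b
      · subst hab
        rw [if_pos rfl, if_pos rfl]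
        fin_cases a
        · rfl
        · exact h01
        · exact h01.trans h12
      · rw [if_neg hab, if_neg hab]
  have h2 : (⟨y, hy⟩ : ↥A) ∈ Subgroup.center ↥A := by
    rw [← R.mem_ker_f, MonoidHom.mem_ker, he]
    exact (pr_eq_one_iff _).2 h1
  intro a ha
  exact (congrArg Subtype.val (Subgroup.mem_center_iff.1 h2 ⟨a, ha⟩)).symm

omit [CharP F 2] hZ in
theorem exists_tor {c : Fin 3 → F} (hc : c 0 * c 1 * c 2 = 1) : ∃ y : G, R.Tor y c := by
  obtain ⟨⟨y, hy⟩, h⟩ := (R.e.surjective.comp (QuotientGroup.mk'_surjective _)) (pr (dg c hc))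
  exact ⟨y, hy, hc, h⟩

omit [CharP F 2] in
theorem f_surjective : Function.Surjective R.f :=
  R.e.surjective.comp (QuotientGroup.mk'_surjective _)

/-- The torus elements `w u * w 1` inside the rank one group of `x i j`, `x j i`. -/
theorem tor_w {i j : Fin 3} (h : i ≠ j) {u : F} (hu : u ≠ 0) :
    R.Tor (R.w i j u * R.w i j 1) (fun k => if k = i then u else if k = j then u⁻¹ else 1) := by
  have hc : (fun k : Fin 3 => if k = i then u else if k = j then u⁻¹ else (1 : F)) 0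
      * (fun k : Fin 3 => if k = i then u else if k = j then u⁻¹ else (1 : F)) 1
      * (fun k : Fin 3 => if k = i then u else if k = j then u⁻¹ else (1 : F)) 2 = 1 := by
    fin_cases i <;> fin_cases j <;> first | exact absurd rfl h | simp [hu]
  refine ⟨mul_mem (R.w_mem h u) (R.w_mem h 1), hc, ?_⟩
  have h1 : (⟨R.w i j u * R.w i j 1, mul_mem (R.w_mem h u) (R.w_mem h 1)⟩ : ↥A)
      = ⟨R.w i j u, R.w_mem h u⟩ * ⟨R.w i j 1, R.w_mem h 1⟩ := rfl
  rw [h1, map_mul, R.f_w h, R.f_w h, ← map_mul]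
  congr 1
  apply Subtype.ext
  ext a b
  rw [Matrix.SpecialLinearGroup.coe_mul, Matrix.mul_apply, dg_apply, Equiv.Perm.one_apply,
    Finset.sum_eq_single (Equiv.swap i j b)]
  · rw [wl_apply h hu, wl_apply h one_ne_zero, Equiv.swap_apply_self, if_pos rfl]
    by_cases hab : a = b
    · subst hab
      rw [if_pos rfl, if_pos rfl]
      by_cases hi : a = i
      · subst hi
        simp [Equiv.swap_apply_left, h.symm]
      · by_cases hj : a = j
        · subst hj
          simp [Equiv.swap_apply_right, h.symm]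
        · simp [Equiv.swap_apply_of_ne_of_ne hi hj, hi, hj]
    · rw [if_neg hab, if_neg hab, zero_mul]
  · intro k _ hk
    rw [wl_apply h one_ne_zero, if_neg hk, mul_zero]
  · intro hh
    exact absurd (Finset.mem_univ _) hh

/-- An element of `A` moving a root element `x i j s` into the root group `x i j` lies in the Borel
subgroup of the order `i < k < j`. -/
theorem borel {i j k : Fin 3} (hij : i ≠ j) (hik : i ≠ k) (hkj : k ≠ j) {g : G} (hg : g ∈ A)
    {s t : F} (hs : s ≠ 0) (h : g * R.x i j s * g⁻¹ = R.x i j t) :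
    ∃ (a b d : F) (c : Fin 3 → F) (y : G), R.Tor y c ∧ c i * s * (c j)⁻¹ = t ∧
      g = R.x i j d * R.x i k a * R.x k j b * y := by
  obtain ⟨M, hM⟩ := pr_surjective (R.f ⟨g, hg⟩)
  have h1 : R.f (⟨g, hg⟩ * R.X hij s * (⟨g, hg⟩ : ↥A)⁻¹) = R.f (R.X hij t) := by
    congr 1
    exact Subtype.ext h
  rw [map_mul, map_mul, map_inv, R.f_X, R.f_X, ← hM, ← map_inv, ← map_mul, ← map_mul] at h1
  obtain ⟨h2, h3, h4⟩ := entries_of_conj hij hs h1
  obtain ⟨c, hc, a, b, d, h5⟩ := borel_decomp hij hik hkj h2 h3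
  have hyA : (R.x k j b)⁻¹ * (R.x i k a)⁻¹ * (R.x i j d)⁻¹ * g ∈ A :=
    mul_mem (mul_mem (mul_mem (inv_mem (R.mem hkj b)) (inv_mem (R.mem hik a)))
      (inv_mem (R.mem hij d))) hg
  have hTor : R.Tor ((R.x k j b)⁻¹ * (R.x i k a)⁻¹ * (R.x i j d)⁻¹ * g) c := by
    refine ⟨hyA, hc, ?_⟩
    have h6 : (⟨(R.x k j b)⁻¹ * (R.x i k a)⁻¹ * (R.x i j d)⁻¹ * g, hyA⟩ : ↥A)
        = (R.X hkj b)⁻¹ * (R.X hik a)⁻¹ * (R.X hij d)⁻¹ * ⟨g, hg⟩ := rfl
    rw [h6, map_mul, map_mul, map_mul, map_inv, map_inv, map_inv, R.f_X, R.f_X, R.f_X, ← hM, h5,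
      map_mul, map_mul, map_mul]
    group
  refine ⟨a, b, d, c, _, hTor, ?_, by group⟩
  have h7 : R.x i j (c i * s * (c j)⁻¹) = R.x i j t := by
    rw [← h, ← hTor.conj hZ hij s]
    set y := (R.x k j b)⁻¹ * (R.x i k a)⁻¹ * (R.x i j d)⁻¹ * g with hy'
    have hgy : g = R.x i j d * R.x i k a * R.x k j b * y := by rw [hy']; group
    rw [hgy]
    have e1 : y * R.x i j s * y⁻¹ = R.x i j (c i * s * (c j)⁻¹) := hTor.conj hZ hij s
    have e2 := R.comm hZ hkj hij hij.symm hkj b (c i * s * (c j)⁻¹)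
    have e3 := R.comm hZ hik hij hik.symm hij a (c i * s * (c j)⁻¹)
    have e4 := R.comm hZ hij hij hij.symm hij d (c i * s * (c j)⁻¹)
    calc y * R.x i j s * y⁻¹ = R.x i j (c i * s * (c j)⁻¹) := e1
      _ = R.x i j d * (R.x i k a * (R.x k j b * R.x i j (c i * s * (c j)⁻¹) * (R.x k j b)⁻¹) *
          (R.x i k a)⁻¹) * (R.x i j d)⁻¹ := by
        rw [e2, mul_inv_cancel_right, e3, mul_inv_cancel_right, e4, mul_inv_cancel_right]
      _ = _ := by rw [← e1]; group
  exact (R.x_inj hij).1 h7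

end Odd

end FrameL3

end Cfsg.Agent.StdRank2
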