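import Cfsg.Agent.StdRank2.HexCent

/-!
# Explicit multiplication in `Q₁ = X₂X₃X₄X₅X₆` and `Q₂ = X₁X₂X₃X₄X₅`
-/

set_option autoImplicit false

namespace Cfsg.Agent.StdRank2.Hex

open Cfsg.Agent.SplitTwo
open scoped commutatorElement

section Alg

variable {E : Type*} [Field E] {σ : E ≃+* E}

theorem trc_add_left (a b c : E) : trc σ (a + b) c = trc σ a c + trc σ b c := by
  unfold trc
  rw [add_mul, map_add, map_add]
  ring

theorem trc_add_right (a b c : E) : trc σ a (b + c) = trc σ a b + trc σ a c := by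
  unfold trc
  rw [mul_add, map_add, map_add]
  ring

theorem trc_comm (a b : E) : trc σ a b = trc σ b a := by
  unfold trc
  rw [mul_comm]

theorem trc_smul_left {t : E} (ht : σ t = t) (a b : E) : trc σ (t * a) b = t * trc σ a b := by
  unfold trc
  simp only [map_mul, ht]
  ring

theorem trc_smul_right {t : E} (ht : σ t = t) (a b : E) : trc σ a (t * b) = t * trc σ a b := by
  rw [trc_comm, trc_smul_left ht, trc_comm]

theorem crs_comm (a b : E) : crs σ a b = crs σ b a := by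
  unfold crs
  ring

theorem crs_smul_left {t : E} (ht : σ t = t) (a b : E) : crs σ (t * a) b = t * crs σ a b := by
  unfold crs
  rw [map_mul, ht, map_mul, ht]
  ring

theorem crs_smul_right {t : E} (ht : σ t = t) (a b : E) : crs σ a (t * b) = t * crs σ a b := by
  rw [crs_comm, crs_smul_left ht, crs_comm]

theorem crs_add_left (a b c : E) : crs σ (a + b) c = crs σ a c + crs σ b c := by
  unfold crs
  rw [map_add, map_add]
  ring

theorem trc_zero_left (a : E) : trc σ 0 a = 0 := by simp [trc]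
theorem trc_zero_right (a : E) : trc σ a 0 = 0 := by simp [trc]
theorem crs_zero_left (a : E) : crs σ 0 a = 0 := by simp [crs]
theorem crs_zero_right (a : E) : crs σ a 0 = 0 := by simp [crs]
theorem shp_zero : shp σ (0 : E) = 0 := by simp [shp]
theorem nrm_zero : nrm σ (0 : E) = 0 := by simp [nrm]

end Alg

namespace HexTwo

variable {E : Type*} [Field E] {σ : E ≃+* E} {Γ : Type*} [Group Γ] {x : ZMod 12 → E → Γ} (h : HexTwo σ x)

include h

theorem fix_trc (a b : E) : σ (trc σ a b) = trc σ a b := trc_fix h.cube a b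
theorem fix_nrm (a : E) : σ (nrm σ a) = nrm σ a := nrm_fix h.cube a

theorem trc_one_right {t : E} (ht : σ t = t) : trc σ 1 t = t := by
  unfold trc
  rw [one_mul, ht, ht, add_assoc, h.add_self, add_zero]

theorem trc_div {a t : E} (ha : a ≠ 0) (ht : σ t = t) : trc σ a (t / a) = t := by
  unfold trc
  rw [mul_div_cancel₀ _ ha, ht, ht, add_assoc, h.add_self, add_zero]

/-! ### Moving letters -/

omit [Field E] h in
theorem swap {k l : ZMod 12} {a b : E} (e : ⁅x k a, x l b⁆ = 1) : x k a * x l b = x l b * x k a := by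
  rwa [commutatorElement_eq_one_iff_mul_comm] at e

theorem s12 (a : E) {t : E} (ht : σ t = t) : x 1 a * x 2 t = x 2 t * x 1 a :=
  swap (h.commS1 (k := 1) (by decide) a ht)
theorem s14 (a : E) {t : E} (ht : σ t = t) : x 1 a * x 4 t = x 4 t * x 1 a :=
  swap (h.commS3 (k := 1) (by decide) a ht)
theorem s23 {t : E} (ht : σ t = t) (a : E) : x 2 t * x 3 a = x 3 a * x 2 t :=
  swap (h.commL1 (k := 2) (by decide) ht a)
theorem s24 {t u : E} (ht : σ t = t) (hu : σ u = u) : x 2 t * x 4 u = x 4 u * x 2 t :=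
  swap (h.commL2 (k := 2) (by decide) ht hu)
theorem s25 {t : E} (ht : σ t = t) (a : E) : x 2 t * x 5 a = x 5 a * x 2 t :=
  swap (h.commL3 (k := 2) (by decide) ht a)
theorem s34 (a : E) {t : E} (ht : σ t = t) : x 3 a * x 4 t = x 4 t * x 3 a :=
  swap (h.commS1 (k := 3) (by decide) a ht)
theorem s36 (a : E) {t : E} (ht : σ t = t) : x 3 a * x 6 t = x 6 t * x 3 a :=
  swap (h.commS3 (k := 3) (by decide) a ht)
theorem s45 {t : E} (ht : σ t = t) (a : E) : x 4 t * x 5 a = x 5 a * x 4 t :=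
  swap (h.commL1 (k := 4) (by decide) ht a)
theorem s46 {t u : E} (ht : σ t = t) (hu : σ u = u) : x 4 t * x 6 u = x 6 u * x 4 t :=
  swap (h.commL2 (k := 4) (by decide) ht hu)
theorem s56 (a : E) {t : E} (ht : σ t = t) : x 5 a * x 6 t = x 6 t * x 5 a :=
  swap (h.commS1 (k := 5) (by decide) a ht)

theorem c13 (a b : E) : x 1 a * x 3 b = x 2 (trc σ a b) * x 3 b * x 1 a := by
  have := h.commS2 (k := 1) (by decide) a b
  rw [commutatorElement_def, mul_inv_eq_iff_eq_mul, mul_inv_eq_iff_eq_mul] at this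
  exact this

theorem c26 {t u : E} (ht : σ t = t) (hu : σ u = u) : x 2 t * x 6 u = x 4 (t * u) * x 6 u * x 2 t := by
  have := h.commL4 (k := 2) (by decide) ht hu
  rw [commutatorElement_def, mul_inv_eq_iff_eq_mul, mul_inv_eq_iff_eq_mul] at this
  exact this

theorem c35 (a b : E) : x 3 a * x 5 b = x 4 (trc σ a b) * x 5 b * x 3 a := by
  have := h.commS2 (k := 3) (by decide) a b
  rw [commutatorElement_def, mul_inv_eq_iff_eq_mul, mul_inv_eq_iff_eq_mul] at this
  exact this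

theorem c15 (a b : E) : x 1 a * x 5 b =
    x 2 (trc σ (shp σ a) b) * x 3 (crs σ a b) * x 4 (trc σ a (shp σ b)) * x 5 b * x 1 a := by
  have := h.commS4 (k := 1) (by decide) a b
  rw [commutatorElement_def, mul_inv_eq_iff_eq_mul, mul_inv_eq_iff_eq_mul] at this
  exact this

theorem c16 (a : E) {t : E} (ht : σ t = t) : x 1 a * x 6 t =
    x 2 (t * nrm σ a) * x 3 (t * shp σ a) * x 4 (t ^ 2 * nrm σ a) * x 5 (t * a) * x 6 t * x 1 a := by
  have := h.commS5 (k := 1) (by decide) a ht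
  rw [commutatorElement_def, mul_inv_eq_iff_eq_mul, mul_inv_eq_iff_eq_mul] at this
  exact this

/-! ### `Q₁` -/

/-- the element of `Q₁` with the given coordinates -/
def q (x : ZMod 12 → E → Γ) (b c d e f : E) : Γ := x 2 b * x 3 c * x 4 d * x 5 e * x 6 f

omit h in
theorem q_mem {b c d e f : E} (hb : σ b = b) (hd : σ d = d) (hf : σ f = f) :
    q x b c d e f ∈ gen σ x (arc 2 5) := by
  unfold q
  refine mul_mem (mul_mem (mul_mem (mul_mem ?_ ?_) ?_) ?_) ?_
  · exact x_mem_gen (by rw [mem_arc]; decide) (ok_of_fix _ hb)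
  · exact x_mem_gen (by rw [mem_arc]; decide) (ok3 c)
  · exact x_mem_gen (by rw [mem_arc]; decide) (ok_of_fix _ hd)
  · exact x_mem_gen (by rw [mem_arc]; decide) (ok5 e)
  · exact x_mem_gen (by rw [mem_arc]; decide) (ok_of_fix _ hf)

theorem q_mul {b c d e f b' c' d' e' f' : E} (hb : σ b = b) (hd : σ d = d) (hf : σ f = f)
    (hb' : σ b' = b') (hd' : σ d' = d') (hf' : σ f' = f') :
    q x b c d e f * q x b' c' d' e' f' =
      q x (b + b') (c + c') (d + d' + b' * f + trc σ c' e) (e + e') (f + f') := by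
  unfold q
  have t1 := h.fix_trc c' e
  have t2 : σ (b' * f) = b' * f := by rw [map_mul, hb', hf]
  have a2 := h.add 2 b b' (ok_of_fix _ hb) (ok_of_fix _ hb')
  have a3 := h.add 3 c c' (ok3 c) (ok3 c')
  have a4 : x 4 (d + d' + b' * f + trc σ c' e) = x 4 (b' * f) * x 4 (trc σ c' e) * x 4 d * x 4 d' := by
    rw [show d + d' + b' * f + trc σ c' e = b' * f + trc σ c' e + d + d' by ring,
      h.add 4 _ _ (ok_of_fix _ (by rw [map_add, map_add, t1, t2, hd])) (ok_of_fix _ hd'),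
      h.add 4 _ _ (ok_of_fix _ (by rw [map_add, t1, t2])) (ok_of_fix _ hd),
      h.add 4 _ _ (ok_of_fix _ t2) (ok_of_fix _ t1)]
  have a5 := h.add 5 e e' (ok5 e) (ok5 e')
  have a6 := h.add 6 f f' (ok_of_fix _ hf) (ok_of_fix _ hf')
  have m26 := h.c26 hb' hf
  have m35 := h.c35 c' e
  have m62 : x 6 f * x 2 b' = x 4 (b' * f) * x 2 b' * x 6 f := by
    have i4 := h.x_sq (ok_of_fix 4 t2)
    rw [mul_assoc, m26, ← mul_assoc, ← mul_assoc, i4, one_mul]
  have m53 : x 5 e * x 3 c' = x 4 (trc σ c' e) * x 3 c' * x 5 e := by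
    have i4 := h.x_sq (ok_of_fix 4 t1)
    rw [mul_assoc, m35, ← mul_assoc, ← mul_assoc, i4, one_mul]
  rw [a2, a3, a4, a5, a6]
  calc x 2 b * x 3 c * x 4 d * x 5 e * x 6 f * (x 2 b' * x 3 c' * x 4 d' * x 5 e' * x 6 f')
      = x 2 b * x 3 c * x 4 d * x 5 e * (x 6 f * x 2 b') * x 3 c' * x 4 d' * x 5 e' * x 6 f' := by group
    _ = x 2 b * x 3 c * x 4 d * x 5 e * (x 4 (b' * f) * x 2 b') * (x 6 f * x 3 c') * x 4 d' * x 5 e' * x 6 f' := by
        rw [m62]; group
    _ = x 2 b * x 3 c * x 4 d * (x 5 e * x 4 (b' * f)) * x 2 b' * x 3 c' * (x 6 f * x 4 d') * x 5 e' * x 6 f' := by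
        rw [← h.s36 c' hf]; group
    _ = x 2 b * x 3 c * x 4 d * x 4 (b' * f) * (x 5 e * x 2 b') * x 3 c' * x 4 d' * (x 6 f * x 5 e') * x 6 f' := by
        rw [← h.s46 hd' hf, ← h.s45 t2 e]; group
    _ = x 2 b * x 3 c * x 4 d * x 4 (b' * f) * x 2 b' * (x 5 e * x 3 c') * x 4 d' * x 5 e' * x 6 f * x 6 f' := by
        rw [← h.s56 e' hf, ← h.s25 hb' e]; group
    _ = x 2 b * x 3 c * x 4 d * x 4 (b' * f) * x 2 b' * (x 4 (trc σ c' e) * x 3 c') * (x 5 e * x 4 d') * x 5 e' *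
          x 6 f * x 6 f' := by
        rw [m53]; group
    _ = x 2 b * x 3 c * x 4 d * x 4 (b' * f) * (x 2 b' * x 4 (trc σ c' e)) * x 3 c' * x 4 d' * x 5 e * x 5 e' *
          x 6 f * x 6 f' := by
        rw [← h.s45 hd' e]; group
    _ = x 2 b * x 3 c * x 4 d * (x 4 (b' * f) * x 4 (trc σ c' e) * x 2 b') * x 3 c' * x 4 d' * x 5 e * x 5 e' *
          x 6 f * x 6 f' := by
        rw [h.s24 hb' t1]; group
    _ = x 2 b * x 3 c * (x 4 (b' * f) * x 4 (trc σ c' e) * x 4 d) * x 2 b' * x 3 c' * x 4 d' * x 5 e * x 5 e' *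
          x 6 f * x 6 f' := by
        have e1 := (h.x_comm_same (ok_of_fix 4 hd) (ok_of_fix 4 t2)).eq
        have e2 := (h.x_comm_same (ok_of_fix 4 hd) (ok_of_fix 4 t1)).eq
        have : x 4 d * (x 4 (b' * f) * x 4 (trc σ c' e)) = x 4 (b' * f) * x 4 (trc σ c' e) * x 4 d := by
          rw [← mul_assoc, e1, mul_assoc, e2, mul_assoc]
        rw [← this]; group
    _ = x 2 b * x 3 c * (x 4 (b' * f) * x 4 (trc σ c' e)) * (x 4 d * x 2 b') * x 3 c' * x 4 d' * x 5 e * x 5 e' *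
          x 6 f * x 6 f' := by group
    _ = x 2 b * x 3 c * x 4 (b' * f) * (x 4 (trc σ c' e) * x 2 b') * (x 4 d * x 3 c') * x 4 d' * x 5 e * x 5 e' *
          x 6 f * x 6 f' := by
        rw [← h.s24 hb' hd]; group
    _ = x 2 b * x 3 c * (x 4 (b' * f) * x 2 b') * (x 4 (trc σ c' e) * x 3 c') * x 4 d * x 4 d' * x 5 e * x 5 e' *
          x 6 f * x 6 f' := by
        rw [← h.s34 c' hd, ← h.s24 hb' t1]; group
    _ = x 2 b * (x 3 c * x 2 b') * (x 4 (b' * f) * x 3 c') * x 4 (trc σ c' e) * x 4 d * x 4 d' * x 5 e * x 5 e' *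
          x 6 f * x 6 f' := by
        rw [← h.s34 c' t1, ← h.s24 hb' t2]; group
    _ = x 2 b * x 2 b' * (x 3 c * x 3 c') * (x 4 (b' * f) * x 4 (trc σ c' e) * x 4 d * x 4 d') * (x 5 e * x 5 e') *
          (x 6 f * x 6 f') := by
        rw [← h.s34 c' t2, ← h.s23 hb' c]; group

theorem q_inj {b c d e f b' c' d' e' f' : E} (hb : σ b = b) (hd : σ d = d) (hf : σ f = f)
    (hb' : σ b' = b') (hd' : σ d' = d') (hf' : σ f' = f') (e1 : q x b c d e f = q x b' c' d' e' f') :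
    b = b' ∧ c = c' ∧ d = d' ∧ e = e' ∧ f = f' := by
  have key : ∀ {b c d e f : E}, σ d = d → σ f = f →
      x 3 c * x 4 d * x 5 e * x 6 f ∈ gen σ x (arc (2 + 1) 4) ∧ x 4 d * x 5 e * x 6 f ∈ gen σ x (arc (3 + 1) 3) ∧
      x 5 e * x 6 f ∈ gen σ x (arc (4 + 1) 2) ∧ x 6 f ∈ gen σ x (arc (5 + 1) 1) := by
    intro b c d e f hd hf
    refine ⟨?_, ?_, ?_, ?_⟩
    · refine mul_mem (mul_mem (mul_mem ?_ ?_) ?_) ?_
      · exact x_mem_gen (by rw [mem_arc]; decide) (ok3 c)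
      · exact x_mem_gen (by rw [mem_arc]; decide) (ok_of_fix _ hd)
      · exact x_mem_gen (by rw [mem_arc]; decide) (ok5 e)
      · exact x_mem_gen (by rw [mem_arc]; decide) (ok_of_fix _ hf)
    · refine mul_mem (mul_mem ?_ ?_) ?_
      · exact x_mem_gen (by rw [mem_arc]; decide) (ok_of_fix _ hd)
      · exact x_mem_gen (by rw [mem_arc]; decide) (ok5 e)
      · exact x_mem_gen (by rw [mem_arc]; decide) (ok_of_fix _ hf)
    · refine mul_mem ?_ ?_
      · exact x_mem_gen (by rw [mem_arc]; decide) (ok5 e)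
      · exact x_mem_gen (by rw [mem_arc]; decide) (ok_of_fix _ hf)
    · exact x_mem_gen (by rw [mem_arc]; decide) (ok_of_fix _ hf)
  obtain ⟨k1, k2, k3, k4⟩ := key (b := b) (c := c) (e := e) hd hf
  obtain ⟨k1', k2', k3', k4'⟩ := key (b := b') (c := c') (e := e') hd' hf'
  have e2 : x 2 b * (x 3 c * x 4 d * x 5 e * x 6 f) = x 2 b' * (x 3 c' * x 4 d' * x 5 e' * x 6 f') := by
    simpa only [q, mul_assoc] using e1
  obtain ⟨r1, e3⟩ := h.uniq_first (by norm_num) (ok_of_fix 2 hb) (ok_of_fix 2 hb') k1 k1' e2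
  have e3' : x 3 c * (x 4 d * x 5 e * x 6 f) = x 3 c' * (x 4 d' * x 5 e' * x 6 f') := by
    simpa only [mul_assoc] using e3
  obtain ⟨r2, e4⟩ := h.uniq_first (by norm_num) (ok3 c) (ok3 c') k2 k2' e3'
  have e4' : x 4 d * (x 5 e * x 6 f) = x 4 d' * (x 5 e' * x 6 f') := by
    simpa only [mul_assoc] using e4
  obtain ⟨r3, e5⟩ := h.uniq_first (by norm_num) (ok_of_fix 4 hd) (ok_of_fix 4 hd') k3 k3' e4'
  obtain ⟨r4, e6⟩ := h.uniq_first (by norm_num) (ok5 e) (ok5 e') k4 k4' e5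
  exact ⟨r1, r2, r3, r4, (h.x_inj (ok_of_fix 6 hf) (ok_of_fix 6 hf')).1 e6⟩

theorem mem_Q1 {g : Γ} : g ∈ gen σ x (arc 2 5) ↔
    ∃ b c d e f, σ b = b ∧ σ d = d ∧ σ f = f ∧ g = q x b c d e f := by
  constructor
  · intro hg
    obtain ⟨b, hb, g1, hg1, rfl⟩ := (h.mem_gen_first (n := 4) (by norm_num)).1 hg
    obtain ⟨c, hc, g2, hg2, rfl⟩ := (h.mem_gen_first (n := 3) (by norm_num)).1 hg1
    obtain ⟨d, hd, g3, hg3, rfl⟩ := (h.mem_gen_first (n := 2) (by norm_num)).1 hg2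
    obtain ⟨e, he, g4, hg4, rfl⟩ := (h.mem_gen_first (n := 1) (by norm_num)).1 hg3
    obtain ⟨f, hf, g5, hg5, rfl⟩ := (h.mem_gen_first (n := 0) (by norm_num)).1 hg4
    rw [gen_arc_zero, Subgroup.mem_bot] at hg5
    refine ⟨b, c, d, e, f, hb (by decide), hd (by decide), hf (by decide), ?_⟩
    rw [hg5, mul_one]
    unfold q
    simp only [mul_assoc]
    rfl
  · rintro ⟨b, c, d, e, f, hb, hd, hf, rfl⟩
    exact q_mem hb hd hf

/-- conjugation by `x₁` on `Q₁` -/
theorem x1_q (a : E) {b c d e f : E} (hb : σ b = b) (hd : σ d = d) (hf : σ f = f) :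
    x 1 a * q x b c d e f = q x (b + trc σ a c + trc σ (shp σ a) e + f * nrm σ a) (c + crs σ a e + f * shp σ a)
      (d + trc σ a (shp σ e) + f ^ 2 * nrm σ a + f * trc σ (shp σ a) e) (e + f * a) f * x 1 a := by
  have t1 := h.fix_trc a c
  have t2 := h.fix_trc (shp σ a) e
  have t3 := h.fix_trc a (shp σ e)
  have t4 := h.fix_nrm a
  have z : σ (0 : E) = 0 := map_zero σ
  have e3 : x 1 a * x 3 c = q x (trc σ a c) c 0 0 0 * x 1 a := by
    unfold q
    rw [h.c13, h.x_zero, h.x_zero, h.x_zero, mul_one, mul_one, mul_one]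
  have e5 : x 1 a * x 5 e = q x (trc σ (shp σ a) e) (crs σ a e) (trc σ a (shp σ e)) e 0 * x 1 a := by
    unfold q
    rw [h.c15, h.x_zero, mul_one]
  have e6 : x 1 a * x 6 f = q x (f * nrm σ a) (f * shp σ a) (f ^ 2 * nrm σ a) (f * a) f * x 1 a := by
    unfold q
    rw [h.c16 a hf]
  have e2 : x 2 b = q x b 0 0 0 0 := by
    unfold q
    rw [h.x_zero, h.x_zero, h.x_zero, h.x_zero, mul_one, mul_one, mul_one, mul_one]
  have e4 : x 4 d = q x 0 0 d 0 0 := by
    unfold q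
    rw [h.x_zero, h.x_zero, h.x_zero, h.x_zero, mul_one, mul_one, one_mul, one_mul]
  have hf1 : σ (f * nrm σ a) = f * nrm σ a := by rw [map_mul, hf, t4]
  have hf2 : σ (f ^ 2 * nrm σ a) = f ^ 2 * nrm σ a := by rw [map_mul, map_pow, hf, t4]
  calc x 1 a * q x b c d e f = (x 1 a * x 2 b) * x 3 c * x 4 d * x 5 e * x 6 f := by unfold q; group
    _ = x 2 b * (x 1 a * x 3 c) * x 4 d * x 5 e * x 6 f := by rw [h.s12 a hb]; group
    _ = x 2 b * q x (trc σ a c) c 0 0 0 * (x 1 a * x 4 d) * x 5 e * x 6 f := by rw [e3]; group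
    _ = x 2 b * q x (trc σ a c) c 0 0 0 * x 4 d * (x 1 a * x 5 e) * x 6 f := by rw [h.s14 a hd]; group
    _ = x 2 b * q x (trc σ a c) c 0 0 0 * x 4 d *
        q x (trc σ (shp σ a) e) (crs σ a e) (trc σ a (shp σ e)) e 0 * (x 1 a * x 6 f) := by rw [e5]; group
    _ = x 2 b * q x (trc σ a c) c 0 0 0 * x 4 d *
        q x (trc σ (shp σ a) e) (crs σ a e) (trc σ a (shp σ e)) e 0 *
        q x (f * nrm σ a) (f * shp σ a) (f ^ 2 * nrm σ a) (f * a) f * x 1 a := by rw [e6]; group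
    _ = _ := by
      rw [e2, e4, h.q_mul hb z z t1 z z,
        h.q_mul (by rw [map_add, hb, t1]) (by simp [trc_zero_right]) (by simp) z hd z,
        h.q_mul (by simp [hb, t1]) (by simp [trc_zero_right, hd]) (by simp) t2 t3 z,
        h.q_mul (by simp [hb, t1, t2]) (by simp [trc_zero_right, hd, t3]) (by simp) hf1 hf2 hf]
      congr 1
      simp only [trc_zero_right, trc_smul_left hf, zero_add, add_zero, mul_zero]

/-! ### `U` -/

/-- the element of `U` with the given coordinates -/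
def uu (x : ZMod 12 → E → Γ) (a b c d e f : E) : Γ := x 1 a * q x b c d e f

omit h in
theorem uu_mem {a b c d e f : E} (hb : σ b = b) (hd : σ d = d) (hf : σ f = f) :
    uu x a b c d e f ∈ UU σ x := by
  refine mul_mem (x_mem_gen (by rw [mem_arc]; decide) (ok1 a)) ?_
  exact gen_mono (fun l hl => arc_succ_sub (k := 1) (n := 5) (by norm_num) hl) (q_mem hb hd hf)

theorem mem_UU {g : Γ} : g ∈ UU σ x ↔
    ∃ a b c d e f, σ b = b ∧ σ d = d ∧ σ f = f ∧ g = uu x a b c d e f := by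
  constructor
  · intro hg
    obtain ⟨a, ha, g1, hg1, rfl⟩ := (h.mem_gen_first (k := 1) (n := 5) (by norm_num)).1 hg
    obtain ⟨b, c, d, e, f, hb, hd, hf, rfl⟩ := h.mem_Q1.1 hg1
    exact ⟨a, b, c, d, e, f, hb, hd, hf, rfl⟩
  · rintro ⟨a, b, c, d, e, f, hb, hd, hf, rfl⟩
    exact uu_mem hb hd hf

theorem uu_inj {a b c d e f a' b' c' d' e' f' : E} (hb : σ b = b) (hd : σ d = d) (hf : σ f = f)
    (hb' : σ b' = b') (hd' : σ d' = d') (hf' : σ f' = f') (e1 : uu x a b c d e f = uu x a' b' c' d' e' f') :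
    a = a' ∧ b = b' ∧ c = c' ∧ d = d' ∧ e = e' ∧ f = f' := by
  obtain ⟨r, e2⟩ := h.uniq_first (k := 1) (n := 5) (by norm_num) (ok1 a) (ok1 a') (q_mem hb hd hf)
    (q_mem hb' hd' hf') e1
  exact ⟨r, h.q_inj hb hd hf hb' hd' hf' e2⟩

/-- **The multiplication of `U`.** -/
theorem uu_mul {a b c d e f a' b' c' d' e' f' : E} (hb : σ b = b) (hd : σ d = d) (hf : σ f = f)
    (hb' : σ b' = b') (hd' : σ d' = d') (hf' : σ f' = f') :
    uu x a b c d e f * uu x a' b' c' d' e' f' =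
      uu x (a + a') (b + trc σ a' c + trc σ (shp σ a') e + f * nrm σ a' + b') (c + crs σ a' e + f * shp σ a' + c')
        (d + trc σ a' (shp σ e) + f ^ 2 * nrm σ a' + f * trc σ (shp σ a') e + d' + b' * f + trc σ c' (e + f * a'))
        (e + f * a' + e') (f + f') := by
  have t1 := h.fix_trc a' c
  have t2 := h.fix_trc (shp σ a') e
  have t3 := h.fix_trc a' (shp σ e)
  have t4 := h.fix_nrm a'
  have i1 : x 1 a' * x 1 a' = 1 := h.x_sq (ok1 a')
  unfold uu
  calc x 1 a * q x b c d e f * (x 1 a' * q x b' c' d' e' f')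
      = x 1 a * (x 1 a' * x 1 a') * q x b c d e f * x 1 a' * q x b' c' d' e' f' := by rw [i1]; group
    _ = x 1 a * x 1 a' * (x 1 a' * q x b c d e f) * x 1 a' * q x b' c' d' e' f' := by group
    _ = x 1 a * x 1 a' * q x (b + trc σ a' c + trc σ (shp σ a') e + f * nrm σ a') (c + crs σ a' e + f * shp σ a')
      (d + trc σ a' (shp σ e) + f ^ 2 * nrm σ a' + f * trc σ (shp σ a') e) (e + f * a') f * (x 1 a' * x 1 a') *
      q x b' c' d' e' f' := by
        rw [h.x1_q a' hb hd hf]; group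
    _ = x 1 (a + a') * (q x (b + trc σ a' c + trc σ (shp σ a') e + f * nrm σ a') (c + crs σ a' e + f * shp σ a')
      (d + trc σ a' (shp σ e) + f ^ 2 * nrm σ a' + f * trc σ (shp σ a') e) (e + f * a') f *
      q x b' c' d' e' f') := by
        rw [i1, h.add 1 a a' (ok1 a) (ok1 a')]; group
    _ = _ := by
        rw [h.q_mul (by simp only [map_add, map_mul, hb, t1, t2, hf, t4])
          (by simp only [map_add, map_mul, map_pow, hd, t2, t3, hf, t4]) hf hb' hd' hf']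

omit h in
theorem uu_zero_left (b c d e f : E) (h0 : x 1 0 = 1) : uu x 0 b c d e f = q x b c d e f := by
  unfold uu
  rw [h0, one_mul]

end HexTwo

end Cfsg.Agent.StdRank2.Hex
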