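import Cfsg.Agent.StdRank2.HexRank

/-!
# The modules of the rank one subgroups of a hexagonal root system in characteristic two (S1778)

`k` even (long), `L = ⟨X_k, X_{k+6}⟩ ≅ SL₂(F)`:
* `W_act` : `L` acts on `W = X_{k+2} X_{k+4}` as on `F²`;
* `W_irred` : a subgroup `1 < Y ≤ W` normalised by `X_k`, `X_{k+6}` is `W`;
* `short_act` : `L` acts on `X_{k+1} X_{k+5} X_{k+2} X_{k+3} X_{k+4} / X_{k+2} X_{k+3} X_{k+4}` as on `E²`.
`k` odd (short), `L = ⟨X_k, X_{k+6}⟩ ≅ SL₂(E)`: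
see `HexModS.lean`.
-/

set_option autoImplicit false

namespace Cfsg.Agent.StdRank2.Hex

open Cfsg.Agent.SplitTwo Cfsg.Agent.SuzukiRankOne.SLTwoRel
open Matrix (SpecialLinearGroup)
open scoped commutatorElement

/-! ### Generation of `SL₂` -/

/-- every diagonal matrix is a product of `U`'s and `Tm`'s -/
theorem Dg_eq {K : Type*} [Field K] [CharP K 2] (c : Kˣ) :
    Dg c = U (c : K) * Tm K * U ((c⁻¹ : Kˣ) : K) * Tm K * U (c : K) * Tm K := by
  apply mat_ext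
  have hc : (c : K) ≠ 0 := c.ne_zero
  rw [mat_mul, mat_mul, mat_mul, mat_mul, mat_mul, U_mat, U_mat, Tm_mat, Dg_mat, Matrix.mul_fin_two,
    Matrix.mul_fin_two, Matrix.mul_fin_two, Matrix.mul_fin_two, Matrix.mul_fin_two]
  simp [hc, CharTwo.add_self_eq_zero]

/-- induction on `SL₂(K)` -/
theorem sl_induction {K : Type*} [Field K] [CharP K 2] {Q : SpecialLinearGroup (Fin 2) K → Prop}
    (hU : ∀ a, Q (U a)) (hT : Q (Tm K)) (hmul : ∀ A B, Q A → Q B → Q (A * B)) (A : SpecialLinearGroup (Fin 2) K) :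
    Q A := by
  have hD : ∀ c : Kˣ, Q (Dg c) := fun c => by
    rw [Dg_eq]
    exact hmul _ _ (hmul _ _ (hmul _ _ (hmul _ _ (hmul _ _ (hU _) hT) (hU _)) hT) (hU _)) hT
  rcases exists_form A with ⟨a, c, rfl⟩ | ⟨a, c, b, rfl⟩
  · exact hmul _ _ (hU a) (hD c)
  · exact hmul _ _ (hmul _ _ (hmul _ _ (hU a) (hD c)) hT) (hU b)

namespace HexTwo

variable {E : Type*} [Field E] {σ : E ≃+* E} {Γ : Type*} [Group Γ] {x : ZMod 12 → E → Γ} (h : HexTwo σ x)

include h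

omit h in
theorem conj_eq_mod {a b c : Γ} (e : ⁅a, b⁆ = c) : a * b * a⁻¹ = c * b := by
  rw [← e, commutatorElement_def]
  group

section even

variable {k : ZMod 12} (hk : k.val % 2 = 0)

include hk

omit h in
omit [Field E] in
theorem even_add_two : (k + 2).val % 2 = 0 := by rw [val_add_2]; exact hk

omit h in
theorem even_add_four : (k + 4).val % 2 = 0 := by rw [val_add_4]; exact hk

/-- `x_k(t)` acts on `X_{k+2} X_{k+4}` -/
theorem W_up {t p q : E} (ht : σ t = t) (hp : σ p = p) (hq : σ q = q) :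
    x k t * (x (k + 2) p * x (k + 4) q) * (x k t)⁻¹ = x (k + 2) (p + t * q) * x (k + 4) q := by
  have h1 := conj_eq_mod (h.commL2 hk ht hp)
  have h2 := conj_eq_mod (h.commL4 hk ht hq)
  rw [one_mul] at h1
  calc x k t * (x (k + 2) p * x (k + 4) q) * (x k t)⁻¹ =
      (x k t * x (k + 2) p * (x k t)⁻¹) * (x k t * x (k + 4) q * (x k t)⁻¹) := by group
    _ = x (k + 2) p * x (k + 2) (t * q) * x (k + 4) q := by rw [h1, h2, mul_assoc]
    _ = _ := by rw [← h.add (k + 2) p (t * q) (ok_of_fix _ hp) (ok_of_fix _ (by rw [map_mul, ht, hq]))]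

/-- the reflection acts on `X_{k+2} X_{k+4}` -/
theorem W_nn {p q : E} (hp : σ p = p) (hq : σ q = q) :
    nn x k * (x (k + 2) p * x (k + 4) q) * (nn x k)⁻¹ = x (k + 2) q * x (k + 4) p := by
  have e1 : ∀ k : ZMod 12, 2 * k + 6 - (k + 2) = k + 4 := by decide
  have e2 : ∀ k : ZMod 12, 2 * k + 6 - (k + 4) = k + 2 := by decide
  have c : x (k + 4) p * x (k + 2) q = x (k + 2) q * x (k + 4) p := by
    have h1 := conj_eq_mod (h.commL2 (k := k + 2) (even_add_two hk) hq hp)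
    have e3 : ∀ k : ZMod 12, k + 2 + 2 = k + 4 := by decide
    rw [e3, one_mul, mul_inv_eq_iff_eq_mul] at h1
    exact h1.symm
  calc nn x k * (x (k + 2) p * x (k + 4) q) * (nn x k)⁻¹ =
      (nn x k * x (k + 2) p * (nn x k)⁻¹) * (nn x k * x (k + 4) q * (nn x k)⁻¹) := by group
    _ = _ := by rw [h.refl k _ (ok_of_fix _ hp), h.refl k _ (ok_of_fix _ hq), e1, e2, c]

/-- **`L_k` acts on `W = X_{k+2} X_{k+4}` as on the natural module.** -/
theorem W_act [Finite E] {K : Type*} [Field K] [CharP K 2] {ι : K →+* E} (P : Par σ k ι)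
    {θ : SpecialLinearGroup (Fin 2) K →* Γ} (h1 : ∀ a, θ (U a) = x k (ι a)) (h3 : θ (Tm K) = nn x k)
    (A : SpecialLinearGroup (Fin 2) K) (p q : K) :
    θ A * (x (k + 2) (ι p) * x (k + 4) (ι q)) * (θ A)⁻¹ =
      x (k + 2) (ι (A.1 0 0 * p + A.1 0 1 * q)) * x (k + 4) (ι (A.1 1 0 * p + A.1 1 1 * q)) := by
  have hf : ∀ a, σ (ι a) = ι a := fun a => P.ok a hk
  -- closure under products
  have hmul : ∀ A B : SpecialLinearGroup (Fin 2) K,
      (∀ p q, θ A * (x (k + 2) (ι p) * x (k + 4) (ι q)) * (θ A)⁻¹ =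
        x (k + 2) (ι (A.1 0 0 * p + A.1 0 1 * q)) * x (k + 4) (ι (A.1 1 0 * p + A.1 1 1 * q))) →
      (∀ p q, θ B * (x (k + 2) (ι p) * x (k + 4) (ι q)) * (θ B)⁻¹ =
        x (k + 2) (ι (B.1 0 0 * p + B.1 0 1 * q)) * x (k + 4) (ι (B.1 1 0 * p + B.1 1 1 * q))) →
      (∀ p q, θ (A * B) * (x (k + 2) (ι p) * x (k + 4) (ι q)) * (θ (A * B))⁻¹ =
        x (k + 2) (ι ((A * B).1 0 0 * p + (A * B).1 0 1 * q)) *
          x (k + 4) (ι ((A * B).1 1 0 * p + (A * B).1 1 1 * q))) := by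
    intro A B hA hB p q
    rw [map_mul]
    have e : θ A * θ B * (x (k + 2) (ι p) * x (k + 4) (ι q)) * (θ A * θ B)⁻¹ =
        θ A * (θ B * (x (k + 2) (ι p) * x (k + 4) (ι q)) * (θ B)⁻¹) * (θ A)⁻¹ := by group
    rw [e, hB, hA]
    have e1 : (A * B).1 = A.1 * B.1 := rfl
    rw [e1, Matrix.mul_apply, Matrix.mul_apply, Matrix.mul_apply, Matrix.mul_apply, Fin.sum_univ_two,
      Fin.sum_univ_two, Fin.sum_univ_two, Fin.sum_univ_two]
    congr 3 <;> ring
  have hU : ∀ a p q, θ (U a) * (x (k + 2) (ι p) * x (k + 4) (ι q)) * (θ (U a))⁻¹ =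
        x (k + 2) (ι ((U a).1 0 0 * p + (U a).1 0 1 * q)) * x (k + 4) (ι ((U a).1 1 0 * p + (U a).1 1 1 * q)) := by
    intro a p q
    have e00 : (U a).1 0 0 = 1 := rfl
    have e01 : (U a).1 0 1 = a := rfl
    have e10 : (U a).1 1 0 = 0 := rfl
    have e11 : (U a).1 1 1 = 1 := rfl
    rw [h1, h.W_up hk (hf a) (hf p) (hf q), e00, e01, e10, e11, one_mul, one_mul, zero_mul, zero_add, map_add,
      map_mul]
  have hT : ∀ p q, θ (Tm K) * (x (k + 2) (ι p) * x (k + 4) (ι q)) * (θ (Tm K))⁻¹ =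
        x (k + 2) (ι ((Tm K).1 0 0 * p + (Tm K).1 0 1 * q)) *
          x (k + 4) (ι ((Tm K).1 1 0 * p + (Tm K).1 1 1 * q)) := by
    intro p q
    have e00 : (Tm K).1 0 0 = 0 := rfl
    have e01 : (Tm K).1 0 1 = 1 := rfl
    have e10 : (Tm K).1 1 0 = 1 := rfl
    have e11 : (Tm K).1 1 1 = 0 := rfl
    rw [h3, h.W_nn hk (hf p) (hf q), e00, e01, e10, e11, one_mul, one_mul, zero_mul, zero_mul, zero_add, add_zero]
  -- every element is a product of `U`'s and `Tm`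
  have hDg : ∀ c : Kˣ, Dg c = U (c : K) * Tm K * U ((c⁻¹ : Kˣ) : K) * Tm K * U (c : K) * Tm K := by
    intro c
    apply mat_ext
    have hc : (c : K) ≠ 0 := c.ne_zero
    have hcc : (c : K) + c = 0 := CharTwo.add_self_eq_zero _
    rw [mat_mul, mat_mul, mat_mul, mat_mul, mat_mul, U_mat, U_mat, Tm_mat, Dg_mat, Matrix.mul_fin_two,
      Matrix.mul_fin_two, Matrix.mul_fin_two, Matrix.mul_fin_two, Matrix.mul_fin_two]
    simp [hc, CharTwo.add_self_eq_zero]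
  have hD : ∀ (c : Kˣ) (p q), θ (Dg c) * (x (k + 2) (ι p) * x (k + 4) (ι q)) * (θ (Dg c))⁻¹ =
        x (k + 2) (ι ((Dg c).1 0 0 * p + (Dg c).1 0 1 * q)) *
          x (k + 4) (ι ((Dg c).1 1 0 * p + (Dg c).1 1 1 * q)) := by
    intro c
    rw [hDg c]
    exact hmul _ _ (hmul _ _ (hmul _ _ (hmul _ _ (hmul _ _ (hU _) hT) (hU _)) hT) (hU _)) hT
  revert p q
  rcases exists_form A with ⟨a, c, rfl⟩ | ⟨a, c, b, rfl⟩
  · exact hmul _ _ (hU a) (hD c)
  · exact hmul _ _ (hmul _ _ (hmul _ _ (hU a) (hD c)) hT) (hU b)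

/-- **`W` is irreducible.** -/
theorem W_irred {Y : Subgroup Γ} (hY : Y ≤ gen σ x {k + 2, k + 4}) (hne : Y ≠ ⊥)
    (h0 : ∀ t, σ t = t → ∀ y ∈ Y, x k t * y * (x k t)⁻¹ ∈ Y)
    (h6 : ∀ t, σ t = t → ∀ y ∈ Y, x (k + 6) t * y * (x (k + 6) t)⁻¹ ∈ Y) : Y = gen σ x {k + 2, k + 4} := by
  have e24 : ∀ k : ZMod 12, k + 2 + 2 = k + 4 := by decide
  -- normal form in `W`
  have nf : ∀ g ∈ gen σ x {k + 2, k + 4}, ∃ p q, σ p = p ∧ σ q = q ∧ g = x (k + 2) p * x (k + 4) q := by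
    intro g hg
    have hcomm : ∀ p q, σ p = p → σ q = q → x (k + 4) q * x (k + 2) p = x (k + 2) p * x (k + 4) q := by
      intro p q hp hq
      have h1 := conj_eq_mod (h.commL2 (k := k + 2) (even_add_two hk) hp hq)
      rw [e24, one_mul, mul_inv_eq_iff_eq_mul] at h1
      exact h1.symm
    let W : Subgroup Γ :=
      { carrier := {g | ∃ p q, σ p = p ∧ σ q = q ∧ g = x (k + 2) p * x (k + 4) q}
        one_mem' := ⟨0, 0, map_zero σ, map_zero σ, by rw [h.x_zero, h.x_zero, one_mul]⟩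
        mul_mem' := by
          rintro _ _ ⟨p, q, hp, hq, rfl⟩ ⟨p', q', hp', hq', rfl⟩
          refine ⟨p + p', q + q', by rw [map_add, hp, hp'], by rw [map_add, hq, hq'], ?_⟩
          rw [h.add _ _ _ (ok_of_fix _ hp) (ok_of_fix _ hp'), h.add _ _ _ (ok_of_fix _ hq) (ok_of_fix _ hq')]
          calc x (k + 2) p * x (k + 4) q * (x (k + 2) p' * x (k + 4) q') =
              x (k + 2) p * (x (k + 4) q * x (k + 2) p') * x (k + 4) q' := by group
            _ = _ := by rw [hcomm p' q hp' hq]; group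
        inv_mem' := by
          rintro _ ⟨p, q, hp, hq, rfl⟩
          refine ⟨p, q, hp, hq, ?_⟩
          rw [mul_inv_rev, h.x_inv (ok_of_fix _ hp), h.x_inv (ok_of_fix _ hq), hcomm p q hp hq] }
    have : gen σ x {k + 2, k + 4} ≤ W := by
      refine gen_le fun l hl a ha => ?_
      rcases hl with rfl | hl
      · have ha' := ha (even_add_two hk)
        exact ⟨a, 0, ha', map_zero σ, by rw [h.x_zero, mul_one]⟩
      · rw [Set.mem_singleton_iff] at hl
        subst hl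
        have ha' := ha (even_add_four hk)
        exact ⟨0, a, map_zero σ, ha', by rw [h.x_zero, one_mul]⟩
    exact this hg
  -- a subgroup containing one element of one of the two groups contains everything
  have up : ∀ q, q ≠ 0 → σ q = q → x (k + 4) q ∈ Y → ∀ u, σ u = u → x (k + 2) u ∈ Y := by
    intro q hq0 hq hqY u hu
    have ht : σ (u * q⁻¹) = u * q⁻¹ := by rw [map_mul, map_inv₀, hu, hq]
    have h1 := h0 _ ht _ hqY
    have h2 := h.W_up hk ht (map_zero σ) hq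
    rw [h.x_zero, one_mul, zero_add, inv_mul_cancel_right₀ hq0] at h2
    rw [h2] at h1
    have h3 := mul_mem h1 (inv_mem hqY)
    rwa [mul_inv_cancel_right] at h3
  have down : ∀ p, p ≠ 0 → σ p = p → x (k + 2) p ∈ Y → ∀ u, σ u = u → x (k + 4) u ∈ Y := by
    intro p hp0 hp hpY u hu
    have ht : σ (u * p⁻¹) = u * p⁻¹ := by rw [map_mul, map_inv₀, hu, hp]
    have h1 := h6 _ ht _ hpY
    have h2 := h.commL4 (k := k + 2) (even_add_two hk) hp ht
    have e1 : ∀ k : ZMod 12, k + 2 + 4 = k + 6 := by decide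
    rw [e1, e24, mul_comm p, inv_mul_cancel_right₀ hp0] at h2
    have h3 : x (k + 6) (u * p⁻¹) * x (k + 2) p * (x (k + 6) (u * p⁻¹))⁻¹ * (x (k + 2) p)⁻¹ = x (k + 4) u := by
      have h4 : (⁅x (k + 2) p, x (k + 6) (u * p⁻¹)⁆)⁻¹ = (x (k + 4) u)⁻¹ := by rw [h2]
      rw [commutatorElement_inv, h.x_inv (ok_of_fix _ hu), commutatorElement_def] at h4
      exact h4
    have h5 := mul_mem h1 (inv_mem hpY)
    rwa [h3] at h5
  obtain ⟨y, hy, hy1⟩ := Y.bot_or_exists_ne_one.resolve_left hne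
  obtain ⟨p, q, hp, hq, rfl⟩ := nf y (hY hy)
  have all4 : ∀ u, σ u = u → x (k + 4) u ∈ Y := by
    by_cases hp0 : p = 0
    · subst hp0
      rw [h.x_zero, one_mul] at hy hy1
      have hq0 : q ≠ 0 := fun e => hy1 (by rw [e, h.x_zero])
      have h2 := up q hq0 hq hy 1 (map_one σ)
      exact down 1 one_ne_zero (map_one σ) h2
    · -- conjugating by `x_{k+6}(u)` and comparing
      intro u hu
      have ht : σ (u * p⁻¹) = u * p⁻¹ := by rw [map_mul, map_inv₀, hu, hp]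
      have h1 := h6 _ ht _ hy
      have h2 := h.commL4 (k := k + 2) (even_add_two hk) hp ht
      have h2' := h.commL2 (k := k + 4) (even_add_four hk) hq ht
      have e1 : ∀ k : ZMod 12, k + 2 + 4 = k + 6 := by decide
      have e2 : ∀ k : ZMod 12, k + 4 + 2 = k + 6 := by decide
      rw [e1, e24, mul_comm p, inv_mul_cancel_right₀ hp0] at h2
      rw [e2] at h2'
      have h3 : x (k + 6) (u * p⁻¹) * x (k + 2) p * (x (k + 6) (u * p⁻¹))⁻¹ = x (k + 4) u * x (k + 2) p := by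
        have h4 : (⁅x (k + 2) p, x (k + 6) (u * p⁻¹)⁆)⁻¹ = (x (k + 4) u)⁻¹ := by rw [h2]
        rw [commutatorElement_inv, h.x_inv (ok_of_fix _ hu)] at h4
        exact conj_eq_mod h4
      have h4 : x (k + 6) (u * p⁻¹) * x (k + 4) q * (x (k + 6) (u * p⁻¹))⁻¹ = x (k + 4) q := by
        have h5 : (⁅x (k + 4) q, x (k + 6) (u * p⁻¹)⁆)⁻¹ = 1 := by rw [h2', inv_one]
        rw [commutatorElement_inv] at h5
        rw [conj_eq_mod h5, one_mul]
      have h5 : x (k + 6) (u * p⁻¹) * (x (k + 2) p * x (k + 4) q) * (x (k + 6) (u * p⁻¹))⁻¹ =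
          x (k + 4) u * (x (k + 2) p * x (k + 4) q) := by
        calc x (k + 6) (u * p⁻¹) * (x (k + 2) p * x (k + 4) q) * (x (k + 6) (u * p⁻¹))⁻¹ =
            (x (k + 6) (u * p⁻¹) * x (k + 2) p * (x (k + 6) (u * p⁻¹))⁻¹) *
              (x (k + 6) (u * p⁻¹) * x (k + 4) q * (x (k + 6) (u * p⁻¹))⁻¹) := by group
          _ = _ := by rw [h3, h4, mul_assoc]
      rw [h5] at h1
      have h6 := mul_mem h1 (inv_mem hy)
      rwa [mul_inv_cancel_right] at h6
  have all2 : ∀ u, σ u = u → x (k + 2) u ∈ Y := up 1 one_ne_zero (map_one σ) (all4 1 (map_one σ))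
  refine le_antisymm hY (gen_le fun l hl a ha => ?_)
  rcases hl with rfl | hl
  · exact all2 a (ha (even_add_two hk))
  · rw [Set.mem_singleton_iff] at hl
    subst hl
    exact all4 a (ha (even_add_four hk))

/-! ### The short part -/

/-- `x_k(t)` acts on `X_{k+1} X_{k+5}` modulo `X_{k+2} X_{k+3} X_{k+4}`. -/
theorem short_up {t : E} (ht : σ t = t) (a b : E) : ∃ m ∈ gen σ x (arc (k + 2) 3),
    x k t * (x (k + 1) a * x (k + 5) b) * (x k t)⁻¹ = x (k + 1) (a + t * b) * x (k + 5) b * m := by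
  have hk1 : (k + 1).val % 2 = 1 := by
    have : ∀ k : ZMod 12, k.val % 2 = 0 → (k + 1).val % 2 = 1 := by decide
    exact this k hk
  have hk5 : (k + 5).val % 2 = 1 := by
    have : ∀ k : ZMod 12, k.val % 2 = 0 → (k + 5).val % 2 = 1 := by decide
    exact this k hk
  have h1 := conj_eq_mod (h.commL1 hk ht a)
  have h2 := conj_eq_mod (h.commL5 hk ht b)
  rw [one_mul] at h1
  set m : Γ := x (k + 2) (t ^ 2 * nrm σ b) * x (k + 3) (t * shp σ b) * x (k + 4) (t * nrm σ b) with hm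
  have hmM : m ∈ gen σ x (arc (k + 2) 3) := by
    have f1 : σ (t * nrm σ b) = t * nrm σ b := by rw [map_mul, ht, nrm_fix h.cube]
    have f2 : σ (t ^ 2 * nrm σ b) = t ^ 2 * nrm σ b := by rw [map_mul, map_pow, ht, nrm_fix h.cube]
    have a2 : ∀ k : ZMod 12, k + 2 ∈ arc (k + 2) 3 := by
      intro k; change (k + 2 - (k + 2)).val < 3; revert k; decide
    have a3 : ∀ k : ZMod 12, k + 3 ∈ arc (k + 2) 3 := by
      intro k; change (k + 3 - (k + 2)).val < 3; revert k; decide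
    have a4 : ∀ k : ZMod 12, k + 4 ∈ arc (k + 2) 3 := by
      intro k; change (k + 4 - (k + 2)).val < 3; revert k; decide
    have hk3 : (k + 3).val % 2 = 1 := by
      have : ∀ k : ZMod 12, k.val % 2 = 0 → (k + 3).val % 2 = 1 := by decide
      exact this k hk
    exact mul_mem (mul_mem (x_mem_gen (a2 k) (ok_of_fix _ f2)) (x_mem_gen (a3 k) (ok_odd hk3 _)))
      (x_mem_gen (a4 k) (ok_of_fix _ f1))
  have hconj : (x (k + 5) b)⁻¹ * m * x (k + 5) b ∈ gen σ x (arc (k + 2) 3) := by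
    have := h.conj_last (k := k + 2) (n := 3) (by norm_num) (b := b)
      (by
        have e : ∀ k : ZMod 12, k + 2 + ((3 : ℕ) : ZMod 12) = k + 5 := by decide
        rw [e]; exact ok_odd hk5 b) hmM
    have e : ∀ k : ZMod 12, k + 2 + ((3 : ℕ) : ZMod 12) = k + 5 := by decide
    rw [e] at this
    rw [h.x_inv (ok_odd hk5 b)] at this ⊢
    exact this
  refine ⟨_, hconj, ?_⟩
  calc x k t * (x (k + 1) a * x (k + 5) b) * (x k t)⁻¹ =
      (x k t * x (k + 1) a * (x k t)⁻¹) * (x k t * x (k + 5) b * (x k t)⁻¹) := by group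
    _ = x (k + 1) a * (x (k + 1) (t * b) * m * x (k + 5) b) := by rw [h1, h2, hm]; group
    _ = x (k + 1) a * x (k + 1) (t * b) * x (k + 5) b * ((x (k + 5) b)⁻¹ * m * x (k + 5) b) := by group
    _ = _ := by rw [← h.add (k + 1) a (t * b) (ok_odd hk1 _) (ok_odd hk1 _)]

/-- the reflection acts on `X_{k+1} X_{k+5}` modulo `X_{k+2} X_{k+3} X_{k+4}`. -/
theorem short_nn (a b : E) : ∃ m ∈ gen σ x (arc (k + 2) 3),
    nn x k * (x (k + 1) a * x (k + 5) b) * (nn x k)⁻¹ = x (k + 1) b * x (k + 5) a * m := by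
  have hk1 : (k + 1).val % 2 = 1 := by
    have : ∀ k : ZMod 12, k.val % 2 = 0 → (k + 1).val % 2 = 1 := by decide
    exact this k hk
  have hk5 : (k + 5).val % 2 = 1 := by
    have : ∀ k : ZMod 12, k.val % 2 = 0 → (k + 5).val % 2 = 1 := by decide
    exact this k hk
  have e1 : ∀ k : ZMod 12, 2 * k + 6 - (k + 1) = k + 5 := by decide
  have e2 : ∀ k : ZMod 12, 2 * k + 6 - (k + 5) = k + 1 := by decide
  have h1 : nn x k * (x (k + 1) a * x (k + 5) b) * (nn x k)⁻¹ = x (k + 5) a * x (k + 1) b := by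
    calc nn x k * (x (k + 1) a * x (k + 5) b) * (nn x k)⁻¹ =
      (nn x k * x (k + 1) a * (nn x k)⁻¹) * (nn x k * x (k + 5) b * (nn x k)⁻¹) := by group
      _ = _ := by rw [h.refl k _ (ok_odd hk1 _), h.refl k _ (ok_odd hk5 _), e1, e2]
  have h2 := h.comm_mem (k + 1) 4 (by norm_num) (by norm_num) (ok_odd hk1 b) (b := a)
    (by
      have e : ∀ k : ZMod 12, k + 1 + ((4 : ℕ) : ZMod 12) = k + 5 := by decide
      rw [e]; exact ok_odd hk5 a)
  have e : ∀ k : ZMod 12, k + 1 + ((4 : ℕ) : ZMod 12) = k + 5 := by decide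
  have e' : ∀ k : ZMod 12, k + 1 + 1 = k + 2 := by decide
  rw [e, e'] at h2
  refine ⟨⁅(x (k + 5) a)⁻¹, (x (k + 1) b)⁻¹⁆, ?_, ?_⟩
  · rw [h.x_inv (ok_odd hk5 a), h.x_inv (ok_odd hk1 b), ← commutatorElement_inv]
    exact inv_mem h2
  · rw [h1, commutatorElement_def]
    group

omit [Field E] hk h in
theorem mem_arc_three {k l : ZMod 12} (hl : l ∈ arc (k + 2) 3) : l = k + 2 ∨ l = k + 3 ∨ l = k + 4 := by
  have : ∀ k l : ZMod 12, (l - (k + 2)).val < 3 → l = k + 2 ∨ l = k + 3 ∨ l = k + 4 := by decide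
  exact this k l hl

omit [Field E] hk h in
theorem arc_three (k : ZMod 12) : k + 2 ∈ arc (k + 2) 3 ∧ k + 3 ∈ arc (k + 2) 3 ∧ k + 4 ∈ arc (k + 2) 3 := by
  have : ∀ k : ZMod 12, (k + 2 - (k + 2)).val < 3 ∧ (k + 3 - (k + 2)).val < 3 ∧ (k + 4 - (k + 2)).val < 3 := by
    decide
  exact this k

theorem M_conj_x {t : E} (ht : σ t = t) {m : Γ} (hm : m ∈ gen σ x (arc (k + 2) 3)) :
    x k t * m * (x k t)⁻¹ ∈ gen σ x (arc (k + 2) 3) := by
  obtain ⟨m2, m3, m4⟩ := arc_three k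
  refine conj_gen (fun l hl a ha => ?_) hm
  rcases mem_arc_three hl with rfl | rfl | rfl
  · rw [conj_eq_mod (h.commL2 hk ht (ha (even_add_two hk))), one_mul]
    exact x_mem_gen m2 ha
  · rw [conj_eq_mod (h.commL3 hk ht a), one_mul]
    exact x_mem_gen m3 ha
  · have ha' := ha (even_add_four hk)
    rw [conj_eq_mod (h.commL4 hk ht ha')]
    exact mul_mem (x_mem_gen m2 (ok_of_fix _ (by rw [map_mul, ht, ha']))) (x_mem_gen m4 ha)

omit hk in
theorem M_conj_nn {m : Γ} (hm : m ∈ gen σ x (arc (k + 2) 3)) :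
    nn x k * m * (nn x k)⁻¹ ∈ gen σ x (arc (k + 2) 3) := by
  refine h.nn_conj_gen k (fun l hl => ?_) hm
  have : ∀ k l : ZMod 12, (l - (k + 2)).val < 3 → (2 * k + 6 - l - (k + 2)).val < 3 := by decide
  exact this k l hl

/-- `M = X_{k+2} X_{k+3} X_{k+4}` is normalised by `L_k`. -/
theorem M_act [Finite E] {K : Type*} [Field K] [CharP K 2] {ι : K →+* E} (P : Par σ k ι)
    {θ : SpecialLinearGroup (Fin 2) K →* Γ} (h1 : ∀ a, θ (U a) = x k (ι a)) (h3 : θ (Tm K) = nn x k)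
    (A : SpecialLinearGroup (Fin 2) K) : ∀ m ∈ gen σ x (arc (k + 2) 3), θ A * m * (θ A)⁻¹ ∈ gen σ x (arc (k + 2) 3) := by
  refine sl_induction (Q := fun A => ∀ m ∈ gen σ x (arc (k + 2) 3), θ A * m * (θ A)⁻¹ ∈ gen σ x (arc (k + 2) 3))
    (fun a m hm => ?_) (fun m hm => ?_) (fun A B hA hB m hm => ?_) A
  · rw [h1]
    exact h.M_conj_x hk (P.ok a hk) hm
  · rw [h3]
    exact h.M_conj_nn hm
  · rw [map_mul]
    have e : θ A * θ B * m * (θ A * θ B)⁻¹ = θ A * (θ B * m * (θ B)⁻¹) * (θ A)⁻¹ := by group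
    rw [e]
    exact hA _ (hB _ hm)

/-- **`L_k` acts on `X_{k+1} X_{k+5}` modulo `X_{k+2} X_{k+3} X_{k+4}` as on the natural module.** -/
theorem short_act [Finite E] {K : Type*} [Field K] [CharP K 2] {ι : K →+* E} (P : Par σ k ι)
    {θ : SpecialLinearGroup (Fin 2) K →* Γ} (h1 : ∀ a, θ (U a) = x k (ι a)) (h3 : θ (Tm K) = nn x k)
    (A : SpecialLinearGroup (Fin 2) K) (p q : E) : ∃ m ∈ gen σ x (arc (k + 2) 3),
    θ A * (x (k + 1) p * x (k + 5) q) * (θ A)⁻¹ =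
      x (k + 1) (ι (A.1 0 0) * p + ι (A.1 0 1) * q) * x (k + 5) (ι (A.1 1 0) * p + ι (A.1 1 1) * q) * m := by
  refine sl_induction (Q := fun A => ∀ p q : E, ∃ m ∈ gen σ x (arc (k + 2) 3),
    θ A * (x (k + 1) p * x (k + 5) q) * (θ A)⁻¹ =
      x (k + 1) (ι (A.1 0 0) * p + ι (A.1 0 1) * q) * x (k + 5) (ι (A.1 1 0) * p + ι (A.1 1 1) * q) * m)
    (fun a p q => ?_) (fun p q => ?_) (fun A B hA hB p q => ?_) A p q
  · obtain ⟨m, hm, e⟩ := h.short_up hk (P.ok a hk) p q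
    refine ⟨m, hm, ?_⟩
    have e00 : (U a).1 0 0 = 1 := rfl
    have e01 : (U a).1 0 1 = a := rfl
    have e10 : (U a).1 1 0 = 0 := rfl
    have e11 : (U a).1 1 1 = 1 := rfl
    rw [h1, e, e00, e01, e10, e11, map_one, map_zero, one_mul, one_mul, zero_mul, zero_add]
  · obtain ⟨m, hm, e⟩ := h.short_nn hk p q
    refine ⟨m, hm, ?_⟩
    have e00 : (Tm K).1 0 0 = 0 := rfl
    have e01 : (Tm K).1 0 1 = 1 := rfl
    have e10 : (Tm K).1 1 0 = 1 := rfl
    have e11 : (Tm K).1 1 1 = 0 := rfl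
    rw [h3, e, e00, e01, e10, e11, map_one, map_zero, one_mul, one_mul, zero_mul, zero_mul, zero_add, add_zero]
  · obtain ⟨m, hm, e⟩ := hB p q
    obtain ⟨m', hm', e'⟩ := hA (ι (B.1 0 0) * p + ι (B.1 0 1) * q) (ι (B.1 1 0) * p + ι (B.1 1 1) * q)
    refine ⟨m' * (θ A * m * (θ A)⁻¹), mul_mem hm' (h.M_act hk P h1 h3 A m hm), ?_⟩
    have e1 : (A * B).1 = A.1 * B.1 := rfl
    rw [map_mul, e1, Matrix.mul_apply, Matrix.mul_apply, Matrix.mul_apply, Matrix.mul_apply, Fin.sum_univ_two,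
      Fin.sum_univ_two, Fin.sum_univ_two, Fin.sum_univ_two]
    calc θ A * θ B * (x (k + 1) p * x (k + 5) q) * (θ A * θ B)⁻¹ =
        θ A * (θ B * (x (k + 1) p * x (k + 5) q) * (θ B)⁻¹) * (θ A)⁻¹ := by group
      _ = θ A * (x (k + 1) (ι (B.1 0 0) * p + ι (B.1 0 1) * q) *
          x (k + 5) (ι (B.1 1 0) * p + ι (B.1 1 1) * q)) * (θ A)⁻¹ * (θ A * m * (θ A)⁻¹) := by rw [e]; group
      _ = _ := by
        have f1 : ι (A.1 0 0) * (ι (B.1 0 0) * p + ι (B.1 0 1) * q) + ι (A.1 0 1) * (ι (B.1 1 0) * p + ι (B.1 1 1) * q) =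
            ι (A.1 0 0 * B.1 0 0 + A.1 0 1 * B.1 1 0) * p + ι (A.1 0 0 * B.1 0 1 + A.1 0 1 * B.1 1 1) * q := by
          simp only [map_add, map_mul]; ring
        have f2 : ι (A.1 1 0) * (ι (B.1 0 0) * p + ι (B.1 0 1) * q) + ι (A.1 1 1) * (ι (B.1 1 0) * p + ι (B.1 1 1) * q) =
            ι (A.1 1 0 * B.1 0 0 + A.1 1 1 * B.1 1 0) * p + ι (A.1 1 0 * B.1 0 1 + A.1 1 1 * B.1 1 1) * q := by
          simp only [map_add, map_mul]; ring
        rw [e', f1, f2]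
        group

end even



end HexTwo

end Cfsg.Agent.StdRank2.Hex
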