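import Cfsg.Agent.StdRank2.HexMap
import Cfsg.Agent.StdRank2.HexSylow

/-!
# The opposite unipotent subgroup `U⁻ = gen (arc 7 6)`
-/

set_option autoImplicit false
set_option maxHeartbeats 400000
set_option linter.unusedSimpArgs false

namespace Cfsg.Agent.StdRank2.Hex

open Cfsg.Agent.SplitTwo
open scoped commutatorElement

theorem weyl_opp : ∀ e c : ZMod 12, (e = 1 ∨ e = -1) → c.val % 2 = 0 →
    (∀ k : ZMod 12, (k - 1).val < 6 → ¬ (e * k + c - 1).val < 6) → e = 1 ∧ c = 6 := by decide +kernel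

theorem weyl_Q2 : ∀ e c : ZMod 12, (e = 1 ∨ e = -1) → c.val % 2 = 0 →
    (∀ k : ZMod 12, (k - 1).val < 5 → (e * k + c - 1).val < 5) → (e = 1 ∧ c = 0) ∨ (e = -1 ∧ c = 6) := by
  decide +kernel

theorem idx_neg : ∀ j : ZMod 12, -1 * j + 6 = 2 * 6 + 6 - j := by decide
theorem idx_back : ∀ j : ZMod 12, (1 : ZMod 12) * (j + 6) + 6 = j := by decide

namespace HexTwo

variable {E : Type*} [Field E] {σ : E ≃+* E} {Γ : Type*} [Group Γ] {x : ZMod 12 → E → Γ} (h : HexTwo σ x)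

include h

theorem conj_U6 {u : Γ} (hu : u ∈ UU σ x) {y : Γ} (hy : y ∈ gen σ x (arc 1 5)) :
    u * y * u⁻¹ ∈ gen σ x (arc 1 5) := by
  obtain ⟨v, hv, b, hb, rfl⟩ := (h.mem_gen_last (k := 1) (n := 5) (by norm_num)).1 hu
  have h1 := h.conj_last (k := 1) (n := 5) (by norm_num) hb hy
  have e : v * x (1 + (5 : ℕ)) b * y * (v * x (1 + (5 : ℕ)) b)⁻¹ =
      v * (x (1 + (5 : ℕ)) b * y * (x (1 + (5 : ℕ)) b)⁻¹) * v⁻¹ := by group
  rw [e]
  exact mul_mem (mul_mem hv h1) (inv_mem hv)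

theorem isPGroup_V [Finite E] : IsPGroup 2 (gen σ x (arc 7 6)) := by
  have := (h.shift (c := 6) (by decide)).isPGroup_U
  unfold UU at this
  rwa [gen_shift_arc 6 (by decide)] at this

/-- `U H ∩ U⁻ = 1` -/
theorem UH_opp [Finite E] {u s : Γ} (hu : u ∈ UU σ x) (hs : s ∈ h.H) (hm : u * s ∈ gen σ x (arc 7 6)) :
    u * s = 1 := by
  have key : ∀ n : ℕ, ∃ v ∈ UU σ x, (u * s) ^ n = v * s ^ n := by
    intro n
    induction n with
    | zero => exact ⟨1, one_mem _, by simp⟩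
    | succ n ih =>
      obtain ⟨v, hv, e⟩ := ih
      refine ⟨v * (s ^ n * u * (s ^ n)⁻¹), mul_mem hv (h.H_conj_gen (pow_mem hs n) _ hu), ?_⟩
      rw [pow_succ, e, pow_succ]
      group
  obtain ⟨v, hv, e⟩ := key (Nat.card E - 1)
  rw [h.H_pow hs, mul_one] at e
  have e1 : (u * s) ^ (Nat.card E - 1) = 1 := by
    refine h.opp_one ?_ (pow_mem hm _)
    rw [e]
    exact hv
  obtain ⟨m, hm2⟩ := h.isPGroup_V ⟨u * s, hm⟩
  have hm3 : (u * s) ^ 2 ^ m = 1 := by
    have := congrArg Subtype.val hm2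
    simpa using this
  obtain ⟨n, hn, hn2⟩ := h.exists_card
  have hco : Nat.Coprime (Nat.card E - 1) (2 ^ m) := by
    refine Nat.Coprime.pow_right m ?_
    rw [Nat.coprime_two_right, hn2]
    refine Nat.Even.sub_odd (Nat.one_le_two_pow) ?_ odd_one
    exact (Nat.even_pow.2 ⟨even_two, by omega⟩)
  have h1 := orderOf_dvd_of_pow_eq_one e1
  have h2 := orderOf_dvd_of_pow_eq_one hm3
  have h3 := Nat.eq_one_of_dvd_coprimes hco h1 h2
  exact orderOf_eq_one_iff.1 h3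

omit [Field E] [Group Γ] h in
theorem val_pos {k : ZMod 12} (hk : k ∈ arc 1 6) : k + 6 ∈ arc 7 6 := by
  have : ∀ k : ZMod 12, (k - 1).val < 6 → (k + 6 - 7).val < 6 := by decide
  exact this k hk

/-- elements of the big cell of a rank one subgroup in `U⁻` -/
theorem opp_cell [Finite E] {k : ZMod 12} (hk : k ∈ arc 1 6) {u s : Γ} (hu : u ∈ UU σ x) (hs : s ∈ h.H) {b : E}
    (hb : Ok σ k b) (hm : u * s * nn x k * x k b ∈ gen σ x (arc 7 6)) :
    u * s * nn x k * x k b ∈ gen σ x {k + 6} := by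
  have hk6 := val_pos hk
  by_cases hb0 : b = 0
  · exfalso
    subst hb0
    rw [h.x_zero, mul_one] at hm
    have h1 : x (k + 6) 1 ∈ gen σ x (arc 7 6) := x_mem_gen hk6 (ok_one σ _)
    have h2 := mul_mem (mul_mem hm h1) (inv_mem hm)
    have e : u * s * nn x k * x (k + 6) 1 * (u * s * nn x k)⁻¹ = u * (s * x k 1 * s⁻¹) * u⁻¹ := by
      have := h.refl k (k + 6) (ok_one σ _)
      rw [show 2 * k + 6 - (k + 6) = k by ring] at this
      rw [← this]
      group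
    have h3 : u * (s * x k 1 * s⁻¹) * u⁻¹ ∈ UU σ x :=
      mul_mem (mul_mem hu (h.H_conj_gen hs _ (x_mem_gen hk (ok_one σ _)))) (inv_mem hu)
    rw [e] at h2
    have h4 := h.opp_one h3 h2
    rw [mul_inv_eq_one, mul_eq_left, mul_inv_eq_one, mul_eq_left] at h4
    exact one_ne_zero (h.inj k 1 (ok_one σ _) h4)
  · have hbi : Ok σ k b⁻¹ := hb.inv
    have e1 := h.rank_one_eq k hbi
    rw [inv_inv] at e1
    have h1 : x (k + 6) b⁻¹ ∈ gen σ x (arc 7 6) := x_mem_gen hk6 (hbi.congr (val_add_6 k))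
    have h2 := mul_mem hm h1
    have h3 : hh x k b ∈ h.H := h.hh_mem_H k hb0 hb
    set s' := s * (nn x k * hh x k b * (nn x k)⁻¹) with hs'
    have hs'H : s' ∈ h.H := mul_mem hs (h.nn_conj_H k h3)
    have e2 : u * s * nn x k * x k b * x (k + 6) b⁻¹ = u * (s' * x k b * s'⁻¹) * s' := by
      rw [e1]
      have i1 := h.x_sq hb
      have i2 := h.nn_inv k
      have i3 := h.nn_sq k
      calc u * s * nn x k * x k b * (x k b * (hh x k b * nn x k) * x k b) =
          u * s * nn x k * (x k b * x k b) * hh x k b * nn x k * x k b := by group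
        _ = u * s * nn x k * hh x k b * nn x k * x k b := by rw [i1, mul_one]
        _ = u * (s * (nn x k * hh x k b * (nn x k)⁻¹)) * x k b := by rw [i2]; group
        _ = _ := by rw [hs']; group
    rw [e2] at h2
    have h4 := h.UH_opp (mul_mem hu (h.H_conj_gen hs'H _ (x_mem_gen hk hb))) hs'H h2
    rw [← e2] at h4
    have e3 := eq_inv_of_mul_eq_one_left h4
    rw [e3]
    exact inv_mem (x_mem_gen (Set.mem_singleton _) (hbi.congr (val_add_6 k)))

/-- `U⁻ ∩ P₁ = X₇` -/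
theorem mem_X7 [Finite E] {g : Γ} (hg : g ∈ gen σ x (arc 7 6)) (hP : g ∈ gen σ x (arc 1 7)) : g ∈ gen σ x {7} := by
  rcases h.bruhat_P 1 hP with ⟨u, hu, s, hok, hs, rfl⟩ | ⟨u, hu, s, b, hok, hs, hb, rfl⟩
  · rw [h.UH_opp hu (h.hh_mem_H 1 hs hok) hg]
    exact one_mem _
  · exact h.opp_cell (k := 1) (by rw [mem_arc]; decide) hu (h.hh_mem_H 1 hs hok) hb hg

/-- `U⁻ ∩ N_A(Q₂) = X₀` -/
theorem mem_X0 [Finite E] {g : Γ} (hg : g ∈ gen σ x (arc 7 6))
    (hQ : ∀ v ∈ gen σ x (arc 1 5), g * v * g⁻¹ ∈ gen σ x (arc 1 5)) : g ∈ gen σ x {0} := by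
  have hgA : g ∈ AA σ x := gen_le_AA _ hg
  obtain ⟨u, hu, s, hs, w, hw, u', hu', rfl⟩ := h.bruhat hgA
  have hwQ : ∀ v ∈ gen σ x (arc 1 5), w * v * w⁻¹ ∈ gen σ x (arc 1 5) := by
    intro v hv
    have h1 := h.conj_U6 (inv_mem hu') hv
    have h2 := hQ _ h1
    have h3 := h.conj_U6 (inv_mem hu) h2
    have h4 := h.H_conj_gen (inv_mem hs) _ h3
    have e : s⁻¹ * (u⁻¹ * (u * s * w * u' * (u'⁻¹ * v * u'⁻¹⁻¹) * (u * s * w * u')⁻¹) * u⁻¹⁻¹) * s⁻¹⁻¹ =
        w * v * w⁻¹ := by group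
    rwa [e] at h4
  obtain ⟨e, c, he, hc, hact⟩ := h.isW_act hw
  have hwk : ∀ k : ZMod 12, (k - 1).val < 5 → (e * k + c - 1).val < 5 := by
    intro k hk
    have h1 := hwQ _ (x_mem_gen (k := k) hk (ok_one σ k))
    rw [hact k 1 (ok_one σ k)] at h1
    exact h.root_mem_arc (by norm_num) (ok_one σ _) one_ne_zero h1
  rcases weyl_Q2 e c he hc hwk with ⟨rfl, rfl⟩ | ⟨rfl, rfl⟩
  · have hw1 : w = 1 := (h.isW_faithful hw (f := id) (by
      intro j a ha
      rw [hact j a ha, one_mul, add_zero]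
      rfl)).1 rfl
    subst hw1
    rw [mul_one] at hg ⊢
    have e1 : u * s * u' = u * (s * u' * s⁻¹) * s := by group
    rw [e1] at hg ⊢
    rw [h.UH_opp (mul_mem hu (h.H_conj_gen hs _ hu')) hs hg]
    exact one_mem _
  · have hw1 : w = nn x 6 := (h.isW_faithful hw (f := fun j => 2 * 6 + 6 - j) (by
      intro j a ha
      rw [hact j a ha, idx_neg j])).2 6 rfl
    subst hw1
    obtain ⟨v, hv, b, hb, rfl⟩ := (h.mem_gen_last (k := 1) (n := 5) (by norm_num)).1 hu'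
    have h16 : (1 : ZMod 12) + (5 : ℕ) = 6 := by decide
    rw [h16] at hb hg ⊢
    have h1 := hwQ v hv
    have h2 := h.H_conj_gen hs _ h1
    have e1 : u * s * nn x 6 * (v * x 6 b) =
        u * (s * (nn x 6 * v * (nn x 6)⁻¹) * s⁻¹) * s * nn x 6 * x 6 b := by group
    rw [e1] at hg ⊢
    have h3 := h.opp_cell (k := 6) (by rw [mem_arc]; decide)
      (mul_mem hu (gen_mono (arc_mono (by norm_num)) h2)) hs hb hg
    rwa [show (6 : ZMod 12) + 6 = 0 by decide] at h3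

/-- a Sylow subgroup meeting `U` trivially is conjugate to `U⁻` under `U` -/
theorem opp_conj [Finite E] {g : Γ} (hg : g ∈ AA σ x)
    (ht : ∀ v ∈ UU σ x, g * v * g⁻¹ ∈ UU σ x → v = 1) :
    ∃ u ∈ UU σ x, ∀ v, v ∈ gen σ x (arc 7 6) ↔ g⁻¹ * (u * v * u⁻¹) * g ∈ UU σ x := by
  obtain ⟨u, hu, s, hs, w, hw, u', hu', rfl⟩ := h.bruhat hg
  obtain ⟨e, c, he, hc, hact⟩ := h.isW_act hw
  have hwk : ∀ k : ZMod 12, (k - 1).val < 6 → ¬ (e * k + c - 1).val < 6 := by
    intro k hk hk'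
    have h1 : u'⁻¹ * x k 1 * u' ∈ UU σ x :=
      mul_mem (mul_mem (inv_mem hu') (x_mem_gen (k := k) hk (ok_one σ k))) hu'
    have h2 := ht _ h1 (by
      have e1 : u * s * w * u' * (u'⁻¹ * x k 1 * u') * (u * s * w * u')⁻¹ =
          u * (s * (w * x k 1 * w⁻¹) * s⁻¹) * u⁻¹ := by group
      rw [e1, hact k 1 (ok_one σ k)]
      exact mul_mem (mul_mem hu (h.H_conj_gen hs _ (x_mem_gen (k := e * k + c) hk' (ok_one σ _)))) (inv_mem hu))
    have e2 : x k 1 = 1 := by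
      have : x k 1 = u' * (u'⁻¹ * x k 1 * u') * u'⁻¹ := by group
      rw [this, h2, mul_one, mul_inv_cancel]
    exact one_ne_zero (h.inj k 1 (ok_one σ k) e2)
  obtain ⟨rfl, rfl⟩ := weyl_opp e c he hc hwk
  refine ⟨u, hu, fun v => ?_⟩
  have hwinv : ∀ j a, Ok σ j a → w⁻¹ * x j a * w = x (j + 6) a := by
    intro j a ha
    have h1 := hact (j + 6) a (ha.congr (val_add_6 j))
    rw [idx_back j] at h1
    rw [← h1]
    group
  have e1 : (u * s * w * u')⁻¹ * (u * v * u⁻¹) * (u * s * w * u') =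
      u'⁻¹ * (w⁻¹ * (s⁻¹ * v * s) * w) * u' := by group
  rw [e1]
  constructor
  · intro hv
    have h1 := h.H_conj_gen (inv_mem hs) _ hv
    rw [inv_inv] at h1
    have h2 : w⁻¹ * (s⁻¹ * v * s) * w ∈ UU σ x := by
      have := conj_gen (σ := σ) (x := x) (g := w⁻¹) (S := arc 7 6) (T := arc 1 6) (by
        intro k hk a ha
        rw [inv_inv, hwinv k a ha]
        refine x_mem_gen ?_ (ha.congr (val_add_6 k))
        have : ∀ k : ZMod 12, (k - 7).val < 6 → (k + 6 - 1).val < 6 := by decide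
        exact this k hk) h1
      rwa [inv_inv] at this
    exact mul_mem (mul_mem (inv_mem hu') h2) hu'
  · intro hv
    have h2 : w⁻¹ * (s⁻¹ * v * s) * w ∈ UU σ x := by
      have := mul_mem (mul_mem hu' hv) (inv_mem hu')
      have e2 : u' * (u'⁻¹ * (w⁻¹ * (s⁻¹ * v * s) * w) * u') * u'⁻¹ = w⁻¹ * (s⁻¹ * v * s) * w := by group
      rwa [e2] at this
    have h3 := conj_gen (σ := σ) (x := x) (g := w) (S := arc 1 6) (T := arc 7 6) (by
        intro k hk a ha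
        rw [hact k a ha]
        refine x_mem_gen ?_ (ha.congr ?_)
        · have : ∀ k : ZMod 12, (k - 1).val < 6 → (1 * k + 6 - 7).val < 6 := by decide
          exact this k hk
        · rw [one_mul]
          exact val_add_6 k) h2
    have e3 : w * (w⁻¹ * (s⁻¹ * v * s) * w) * w⁻¹ = s⁻¹ * v * s := by group
    rw [e3] at h3
    have h4 := h.H_conj_gen hs _ h3
    have e4 : s * (s⁻¹ * v * s) * s⁻¹ = v := by group
    rwa [e4] at h4

end HexTwo

end Cfsg.Agent.StdRank2.Hex
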