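import Cfsg.Agent.StdRank2.HexBorel

/-!
# The centraliser and the normaliser of a long root group
-/

set_option autoImplicit false

namespace Cfsg.Agent.StdRank2.Hex

open Cfsg.Agent.SplitTwo
open scoped commutatorElement Pointwise

/-- elements of the Weyl group fixing the root `4` -/
theorem weyl_fix4 : ∀ e c : ZMod 12, (e = 1 ∨ e = -1) → c.val % 2 = 0 → e * 4 + c = 4 →
    (∀ j, e * j + c = j) ∨ (∀ j, e * j + c = 2 * 1 + 6 - j) := by
  decide +kernel

/-- elements of the Weyl group fixing the root `3` -/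
theorem weyl_fix3 : ∀ e c : ZMod 12, (e = 1 ∨ e = -1) → c.val % 2 = 0 → e * 3 + c = 3 →
    (∀ j, e * j + c = j) ∨ (∀ j, e * j + c = 2 * 6 + 6 - j) := by
  decide +kernel

namespace HexTwo

variable {E : Type*} [Field E] {σ : E ≃+* E} {Γ : Type*} [Group Γ] {x : ZMod 12 → E → Γ} (h : HexTwo σ x)

include h

/-- root elements at distance `≤ 3` from a long root commute with it -/
theorem comm_long {k l : ZMod 12} (hk : k.val % 2 = 0) (hkl : (l - (k - 3)).val < 7) {t a : E} (ht : Ok σ k t)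
    (ha : Ok σ l a) : Commute (x k t) (x l a) := by
  have ht' : σ t = t := ht hk
  have key : ∀ k l : ZMod 12, (l - (k - 3)).val < 7 → l = k ∨ (l = k + 1 ∨ l = k + 2 ∨ l = k + 3) ∨
      (k = l + 1 ∨ k = l + 2 ∨ k = l + 3) := by decide
  rcases key k l hkl with rfl | (rfl | rfl | rfl) | (rfl | rfl | rfl)
  · exact h.x_comm_same ht ha
  · exact commutatorElement_eq_one_iff_commute.1 (h.commL1 hk ht' a)
  · exact commutatorElement_eq_one_iff_commute.1 (h.commL2 hk ht' (ha (by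
      have : ∀ k : ZMod 12, k.val % 2 = 0 → (k + 2).val % 2 = 0 := by decide
      exact this k hk)))
  · exact commutatorElement_eq_one_iff_commute.1 (h.commL3 hk ht' a)
  · have hl : l.val % 2 = 1 := by
      have : ∀ k : ZMod 12, (k + 1).val % 2 = 0 → k.val % 2 = 1 := by decide
      exact this l hk
    exact (commutatorElement_eq_one_iff_commute.1 (h.commS1 hl a ht')).symm
  · have hl : l.val % 2 = 0 := by
      have : ∀ k : ZMod 12, (k + 2).val % 2 = 0 → k.val % 2 = 0 := by decide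
      exact this l hk
    exact (commutatorElement_eq_one_iff_commute.1 (h.commL2 hl (ha hl) ht')).symm
  · have hl : l.val % 2 = 1 := by
      have : ∀ k : ZMod 12, (k + 3).val % 2 = 0 → k.val % 2 = 1 := by decide
      exact this l hk
    exact (commutatorElement_eq_one_iff_commute.1 (h.commS3 hl a ht')).symm

omit h in
theorem comm_gen {k : ZMod 12} {t : E} {S : Set (ZMod 12)}
    (hS : ∀ l ∈ S, ∀ a, Ok σ l a → Commute (x k t) (x l a)) {g : Γ} (hg : g ∈ gen σ x S) : Commute (x k t) g := by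
  have key : gen σ x S ≤ Subgroup.centralizer {x k t} := gen_le fun l hl a ha => by
    rw [Subgroup.mem_centralizer_iff]
    intro y hy
    rw [Set.mem_singleton_iff] at hy
    subst hy
    exact (hS l hl a ha).eq
  have := (Subgroup.mem_centralizer_iff.1 (key hg)) (x k t) (Set.mem_singleton _)
  exact this

/-- `⟨X (k-3), …, X (k+3)⟩` centralises the long root group `X k` -/
theorem comm_gen_long {k : ZMod 12} (hk : k.val % 2 = 0) {t : E} (ht : Ok σ k t) {g : Γ}
    (hg : g ∈ gen σ x (arc (k - 3) 7)) : Commute (x k t) g :=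
  comm_gen (fun _ hl _ ha => h.comm_long hk hl ht ha) hg

omit h in
theorem nn_mem_gen {S : Set (ZMod 12)} {k : ZMod 12} (h1 : k ∈ S) (h2 : k + 6 ∈ S) : nn x k ∈ gen σ x S :=
  mul_mem (mul_mem (x_mem_gen h1 (ok_one σ k)) (x_mem_gen h2 (ok_one σ _))) (x_mem_gen h1 (ok_one σ k))

omit h in
theorem hh_mem_gen {S : Set (ZMod 12)} {k : ZMod 12} (h1 : k ∈ S) (h2 : k + 6 ∈ S) {t : E} (ht : Ok σ k t) :
    hh x k t ∈ gen σ x S :=
  mul_mem (mul_mem (mul_mem (x_mem_gen h1 ht) (x_mem_gen h2 (ht.inv.congr (val_add_6 k)))) (x_mem_gen h1 ht))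
    (nn_mem_gen h1 h2)

/-- **Transporters of long root elements.** -/
theorem long_transport [Finite E] {g : Γ} (hg : g ∈ AA σ x) {t t' : E} (ht : σ t = t) (ht' : σ t' = t') (ht0 : t ≠ 0)
    (e : g * x 4 t * g⁻¹ = x 4 t') : ∃ p ∈ gen σ x (arc 1 7), ∃ b : E, b ≠ 0 ∧ σ b = b ∧ b * t = t' ∧ g = p * hh x 6 b := by
  have hlong : ∀ {b : E}, σ b = b → ∀ {y : Γ}, y ∈ UU σ x → Commute (x 4 b) y := fun hb y hy =>
    h.comm_gen_long (k := 4) (by decide) (ok_of_fix _ hb) (gen_mono (by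
      intro l hl
      rw [mem_arc] at hl ⊢
      rw [show (4 : ZMod 12) - 3 = 1 by ring]
      omega) hy)
  obtain ⟨u, hu, s, hs, w, hw, u', hu', rfl⟩ := h.bruhat hg
  obtain ⟨c, hc0, hc, hsx⟩ := h.H_diag hs 4
  -- `w x4(t) w⁻¹ = x4(c⁻¹ t')`
  have hok' : Ok σ (4 : ZMod 12) (c⁻¹ * t') := hc.inv.mul (ok_of_fix _ ht')
  have e1 : w * x 4 t * w⁻¹ = x 4 (c⁻¹ * t') := by
    have c1 := (hlong ht hu').eq
    have c2 := (hlong ht' hu).eq
    have c3 := hsx _ hok'
    rw [mul_inv_cancel_left₀ hc0] at c3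
    have e2 : w * x 4 t * w⁻¹ = s⁻¹ * (u⁻¹ * (u * s * w * u' * (u'⁻¹ * x 4 t * u') * (u * s * w * u')⁻¹) * u) * s := by
      group
    have e3 : u'⁻¹ * x 4 t * u' = x 4 t := by rw [mul_assoc, c1]; group
    rw [e2, e3, e]
    have e4 : u⁻¹ * x 4 t' * u = x 4 t' := by rw [mul_assoc, c2]; group
    rw [e4, ← c3]
    group
  obtain ⟨ε, d, hε, hd, hact⟩ := h.isW_act hw
  have h4 : ε * 4 + d = 4 := by
    rw [hact 4 t (ok_of_fix _ ht)] at e1
    exact h.root_unique (by
      have : (ε * 4 + d).val % 2 = 0 := by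
        have : ∀ ε d : ZMod 12, (ε = 1 ∨ ε = -1) → d.val % 2 = 0 → (ε * 4 + d).val % 2 = 0 := by decide +kernel
        exact this ε d hε hd
      exact ok_of_fix _ ht) hok' ht0 e1
  have hwP : w ∈ gen σ x (arc 1 7) := by
    rcases weyl_fix4 ε d hε hd h4 with hf | hf
    · have : w = 1 := (h.isW_faithful hw (f := fun j => ε * j + d) hact).1 (by funext j; exact hf j)
      rw [this]
      exact one_mem _
    · have : w = nn x 1 := (h.isW_faithful hw (f := fun j => ε * j + d) hact).2 1 (by funext j; exact hf j)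
      rw [this]
      exact nn_mem_gen (by rw [mem_arc]; decide) (by rw [mem_arc]; decide)
  have hUP : UU σ x ≤ gen σ x (arc 1 7) := gen_mono (arc_mono (by norm_num))
  -- `s = hh 1 a * hh 6 b`
  have hs' := hs
  obtain ⟨a, b, ha0, hb0, hb, rfl⟩ := hs'
  set s := hh x 1 a * hh x 6 b with hsdef
  have ha : hh x 1 a ∈ gen σ x (arc 1 7) := hh_mem_gen (by rw [mem_arc]; decide) (by rw [mem_arc]; decide) (ok1 a)
  have h6 : hh x 6 b ∈ h.H := h.hh6_mem_H hb0 hb
  refine ⟨u * hh x 1 a * (hh x 6 b * (w * u') * (hh x 6 b)⁻¹), mul_mem (mul_mem (hUP hu) ha)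
    (h.H_conj_gen h6 _ (mul_mem hwP (hUP hu'))), b, hb0, hb, ?_, by rw [hsdef]; group⟩
  -- the scalar
  have hPc : ∀ {y : Γ}, y ∈ gen σ x (arc 1 7) → Commute (x 4 t) y := fun hy =>
    h.comm_gen_long (k := 4) (by decide) (ok_of_fix _ ht) hy
  have e5 : u * s * w * u' * x 4 t * (u * s * w * u')⁻¹ = u * (s * x 4 t * s⁻¹) * u⁻¹ := by
    have := (hPc (mul_mem hwP (hUP hu'))).eq
    calc u * s * w * u' * x 4 t * (u * s * w * u')⁻¹ = u * s * ((w * u') * x 4 t) * (u * s * w * u')⁻¹ := by group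
      _ = u * s * (x 4 t * (w * u')) * (u * s * w * u')⁻¹ := by rw [this]
      _ = _ := by group
  rw [e5, hsdef, h.H_act ha0 hb0 hb (ok_of_fix _ ht)] at e
  have e6 : ch σ 1 (4 - 1) a * ch σ 6 (4 - 6) b * t = b * t := by
    change 1 * b * t = b * t
    rw [one_mul]
  rw [e6] at e
  have hbt : σ (b * t) = b * t := by rw [map_mul, hb, ht]
  have e7 : u * x 4 (b * t) * u⁻¹ = x 4 (b * t) := by
    rw [← (hlong hbt hu).eq]; group
  rw [e7, h.x_inj (ok_of_fix _ hbt) (ok_of_fix _ ht')] at e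
  exact e

/-- **The centraliser of a long root element is `P₁ = ⟨X 1, …, X 7⟩`.** -/
theorem mem_centralizer_x4 [Finite E] {g : Γ} (hg : g ∈ AA σ x) {t : E} (ht : σ t = t) (ht0 : t ≠ 0) :
    g * x 4 t * g⁻¹ = x 4 t ↔ g ∈ gen σ x (arc 1 7) := by
  constructor
  · intro e
    obtain ⟨p, hp, b, hb0, hb, hbt, rfl⟩ := h.long_transport hg ht ht ht0 e
    have : b = 1 := by
      have : b * t = 1 * t := by rw [hbt, one_mul]
      exact mul_right_cancel₀ ht0 this
    rw [this, h.hh_one, mul_one]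
    exact hp
  · intro hp
    have := (h.comm_gen_long (k := 4) (by decide) (ok_of_fix _ ht) hp).eq
    rw [← this]
    group

end HexTwo

end Cfsg.Agent.StdRank2.Hex
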