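import Cfsg.Agent.StdRank2.HexSylow

/-!
# Parabolic subgroups and radicals of a hexagonal root system in characteristic two
-/

set_option autoImplicit false

namespace Cfsg.Agent.StdRank2.Hex

open Cfsg.Agent.SplitTwo
open scoped commutatorElement Pointwise

section Gen

variable {E : Type*} [Field E] {σ : E ≃+* E} {Γ : Type*} [Group Γ] {x : ZMod 12 → E → Γ}

theorem comm_closure {S T : Set Γ} {Z : Subgroup Γ} (hS : ∀ s ∈ S, ∀ z ∈ Z, s * z * s⁻¹ ∈ Z ∧ s⁻¹ * z * s ∈ Z)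
    (hT : ∀ s ∈ T, ∀ z ∈ Z, s * z * s⁻¹ ∈ Z ∧ s⁻¹ * z * s ∈ Z) (hST : ∀ s ∈ S, ∀ s' ∈ T, ⁅s, s'⁆ ∈ Z) {u v : Γ}
    (hu : u ∈ Subgroup.closure S) (hv : v ∈ Subgroup.closure T) : ⁅u, v⁆ ∈ Z := by
  have nT : ∀ v ∈ Subgroup.closure T, ∀ z ∈ Z, v * z * v⁻¹ ∈ Z ∧ v⁻¹ * z * v ∈ Z := by
    intro v hv
    induction hv using Subgroup.closure_induction with
    | mem s hs => exact hT s hs
    | one => intro z hz; simpa using hz
    | mul a b _ _ ha hb =>
      intro z hz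
      have e1 : a * b * z * (a * b)⁻¹ = a * (b * z * b⁻¹) * a⁻¹ := by group
      have e2 : (a * b)⁻¹ * z * (a * b) = b⁻¹ * (a⁻¹ * z * a) * b := by group
      rw [e1, e2]
      exact ⟨(ha _ (hb z hz).1).1, (hb _ (ha z hz).2).2⟩
    | inv a _ ha =>
      intro z hz
      rw [inv_inv]
      exact ⟨(ha z hz).2, (ha z hz).1⟩
  have nS : ∀ v ∈ Subgroup.closure S, ∀ z ∈ Z, v * z * v⁻¹ ∈ Z ∧ v⁻¹ * z * v ∈ Z := by
    intro v hv
    induction hv using Subgroup.closure_induction with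
    | mem s hs => exact hS s hs
    | one => intro z hz; simpa using hz
    | mul a b _ _ ha hb =>
      intro z hz
      have e1 : a * b * z * (a * b)⁻¹ = a * (b * z * b⁻¹) * a⁻¹ := by group
      have e2 : (a * b)⁻¹ * z * (a * b) = b⁻¹ * (a⁻¹ * z * a) * b := by group
      rw [e1, e2]
      exact ⟨(ha _ (hb z hz).1).1, (hb _ (ha z hz).2).2⟩
    | inv a _ ha =>
      intro z hz
      rw [inv_inv]
      exact ⟨(ha z hz).2, (ha z hz).1⟩
  have h1 : ∀ s ∈ S, ∀ v ∈ Subgroup.closure T, ⁅s, v⁆ ∈ Z := by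
    intro s hs v hv
    induction hv using Subgroup.closure_induction with
    | mem s' hs' => exact hST s hs s' hs'
    | one => rw [commutatorElement_one_right]; exact one_mem _
    | mul a b ha hb iha ihb =>
      have e : ⁅s, a * b⁆ = ⁅s, a⁆ * (a * ⁅s, b⁆ * a⁻¹) := by
        rw [commutatorElement_def, commutatorElement_def, commutatorElement_def]; group
      rw [e]
      exact mul_mem iha (nT a ha _ ihb).1
    | inv a ha iha =>
      have e : ⁅s, a⁻¹⁆ = a⁻¹ * ⁅s, a⁆⁻¹ * a := by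
        rw [commutatorElement_def, commutatorElement_def]; group
      rw [e]
      exact (nT a ha _ (inv_mem iha)).2
  induction hu using Subgroup.closure_induction with
  | mem s hs => exact h1 s hs v hv
  | one => rw [commutatorElement_one_left]; exact one_mem _
  | mul a b ha hb iha ihb =>
    have e : ⁅a * b, v⁆ = a * ⁅b, v⁆ * a⁻¹ * ⁅a, v⁆ := by
      rw [commutatorElement_def, commutatorElement_def, commutatorElement_def]; group
    rw [e]
    exact mul_mem (nS a ha _ ihb).1 iha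
  | inv a ha iha =>
    have e : ⁅a⁻¹, v⁆ = a⁻¹ * ⁅a, v⁆⁻¹ * a := by
      rw [commutatorElement_def, commutatorElement_def]; group
    rw [e]
    exact (nS a ha _ (inv_mem iha)).2

end Gen

namespace HexTwo

variable {E : Type*} [Field E] {σ : E ≃+* E} {Γ : Type*} [Group Γ] {x : ZMod 12 → E → Γ} (h : HexTwo σ x)

include h

/-- commutator of generated subgroups -/
theorem comm_gen_mem {S T R : Set (ZMod 12)}
    (hS : ∀ k ∈ S, ∀ a, Ok σ k a → ∀ z ∈ gen σ x R, x k a * z * (x k a)⁻¹ ∈ gen σ x R)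
    (hT : ∀ k ∈ T, ∀ a, Ok σ k a → ∀ z ∈ gen σ x R, x k a * z * (x k a)⁻¹ ∈ gen σ x R)
    (hST : ∀ k ∈ S, ∀ l ∈ T, ∀ a b, Ok σ k a → Ok σ l b → ⁅x k a, x l b⁆ ∈ gen σ x R) {u v : Γ}
    (hu : u ∈ gen σ x S) (hv : v ∈ gen σ x T) : ⁅u, v⁆ ∈ gen σ x R := by
  refine comm_closure ?_ ?_ ?_ hu hv
  · rintro _ ⟨k, hk, a, ha, rfl⟩ z hz
    refine ⟨hS k hk a ha z hz, ?_⟩
    have := hS k hk a ha z hz
    rw [h.x_inv ha] at this ⊢
    exact this
  · rintro _ ⟨k, hk, a, ha, rfl⟩ z hz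
    refine ⟨hT k hk a ha z hz, ?_⟩
    have := hT k hk a ha z hz
    rw [h.x_inv ha] at this ⊢
    exact this
  · rintro _ ⟨k, hk, a, ha, rfl⟩ _ ⟨l, hl, b, hb, rfl⟩
    exact hST k hk l hl a b ha hb

/-- a root element inside an arc subgroup belongs to the arc -/
theorem root_mem_arc {k j : ZMod 12} {n : ℕ} (hn : n ≤ 6) {a : E} (ha : Ok σ j a) (ha0 : a ≠ 0)
    (hm : x j a ∈ gen σ x (arc k n)) : j ∈ arc k n := by
  by_contra hj
  apply ha0
  have hj' : n ≤ (j - k).val := by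
    by_contra h0
    exact hj (mem_arc.2 (by omega))
  by_cases h6 : (j - k).val < 6
  · -- `arc k n ⊆ arc (j - 5) 5`
    refine h.mem_last_eq_zero ha (gen_mono ?_ hm)
    intro l hl
    rw [mem_arc] at hl ⊢
    have key : ∀ d e : ZMod 12, d.val < 6 → e.val < d.val → (e - d + 5).val < 5 := by decide +kernel
    have := key (j - k) (l - k) h6 (by omega)
    have e : l - (j - 5) = l - k - (j - k) + 5 := by ring
    rwa [e]
  · have h7 : (j - (k + 6)).val < 6 := by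
      have key : ∀ d : ZMod 12, ¬ d.val < 6 → (d - 6).val < 6 := by decide +kernel
      have := key (j - k) h6
      have e : j - (k + 6) = j - k - 6 := by ring
      rwa [e]
    exact h.inj j a ha (h.opp_all k (gen_mono (arc_mono hn) hm) (x_mem_gen h7 ha))

/-! ### Levi factors -/

/-- **Bruhat decomposition of `⟨X k, X (k+6)⟩`.** -/
theorem mem_L [Finite E] (k : ZMod 12) {g : Γ} (hg : g ∈ gen σ x {k, k + 6}) :
    (∃ a s, Ok σ k a ∧ Ok σ k s ∧ s ≠ 0 ∧ g = x k a * hh x k s) ∨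
    (∃ a s b, Ok σ k a ∧ Ok σ k s ∧ s ≠ 0 ∧ Ok σ k b ∧ g = x k a * hh x k s * nn x k * x k b) := by
  -- left multiplication by `x k c`
  have mx : ∀ c g, Ok σ k c → ((∃ a s, Ok σ k a ∧ Ok σ k s ∧ s ≠ 0 ∧ g = x k a * hh x k s) ∨
      (∃ a s b, Ok σ k a ∧ Ok σ k s ∧ s ≠ 0 ∧ Ok σ k b ∧ g = x k a * hh x k s * nn x k * x k b)) →
      ((∃ a s, Ok σ k a ∧ Ok σ k s ∧ s ≠ 0 ∧ x k c * g = x k a * hh x k s) ∨
      (∃ a s b, Ok σ k a ∧ Ok σ k s ∧ s ≠ 0 ∧ Ok σ k b ∧ x k c * g = x k a * hh x k s * nn x k * x k b)) := by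
    rintro c g hc (⟨a, s, ha, hs, hs0, rfl⟩ | ⟨a, s, b, ha, hs, hs0, hb, rfl⟩)
    · left
      exact ⟨c + a, s, hc.add ha, hs, hs0, by rw [h.add k c a hc ha]; group⟩
    · right
      exact ⟨c + a, s, b, hc.add ha, hs, hs0, hb, by rw [h.add k c a hc ha]; group⟩
  -- torus elements and `X k`
  have ht : ∀ {s a : E}, Ok σ k s → s ≠ 0 → Ok σ k a → ∃ a', Ok σ k a' ∧ x k a * hh x k s = hh x k s * x k a' := by
    intro s a hs hs0 ha
    have e := h.tor k k (inv_ne_zero hs0) hs.inv ha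
    rw [sub_self, ch_zero_right, ← h.hh_inv k hs0 hs, inv_inv] at e
    exact ⟨_, (show Ok σ k ((s⁻¹) ^ 2 * a) from (by rw [pow_two]; exact (hs.inv.mul hs.inv).mul ha)), by rw [← e]; group⟩
  have ht' : ∀ {s a : E}, Ok σ k s → s ≠ 0 → Ok σ k a → ∃ a', Ok σ k a' ∧ hh x k s * x k a = x k a' * hh x k s := by
    intro s a hs hs0 ha
    have e := h.tor k k hs0 hs ha
    rw [sub_self, ch_zero_right] at e
    exact ⟨_, (show Ok σ k (s ^ 2 * a) from (by rw [pow_two]; exact (hs.mul hs).mul ha)), by rw [← e]; group⟩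
  have nnh : ∀ {s : E}, Ok σ k s → s ≠ 0 → nn x k * hh x k s = hh x k s⁻¹ * nn x k := by
    intro s hs hs0
    have e := h.conj_nn_hh k k hs
    rw [show 2 * k + 6 - k = k + 6 by ring, h.hh_opp k hs0 hs] at e
    rw [← e]; group
  -- left multiplication by `nn x k`
  have mn : ∀ g, ((∃ a s, Ok σ k a ∧ Ok σ k s ∧ s ≠ 0 ∧ g = x k a * hh x k s) ∨
      (∃ a s b, Ok σ k a ∧ Ok σ k s ∧ s ≠ 0 ∧ Ok σ k b ∧ g = x k a * hh x k s * nn x k * x k b)) →
      ((∃ a s, Ok σ k a ∧ Ok σ k s ∧ s ≠ 0 ∧ nn x k * g = x k a * hh x k s) ∨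
      (∃ a s b, Ok σ k a ∧ Ok σ k s ∧ s ≠ 0 ∧ Ok σ k b ∧ nn x k * g = x k a * hh x k s * nn x k * x k b)) := by
    rintro g (⟨a, s, ha, hs, hs0, rfl⟩ | ⟨a, s, b, ha, hs, hs0, hb, rfl⟩)
    · right
      obtain ⟨a', ha', e⟩ := ht hs hs0 ha
      refine ⟨0, s⁻¹, a', ok_zero σ k, hs.inv, inv_ne_zero hs0, ha', ?_⟩
      rw [h.x_zero, one_mul, e, ← mul_assoc, nnh hs hs0]
    · by_cases ha0 : a = 0
      · left
        subst ha0
        obtain ⟨b', hb', e⟩ := ht' hs.inv (inv_ne_zero hs0) hb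
        refine ⟨b', s⁻¹, hb', hs.inv, inv_ne_zero hs0, ?_⟩
        rw [← e, h.x_zero, one_mul]
        calc nn x k * (hh x k s * nn x k * x k b) = (nn x k * hh x k s) * nn x k * x k b := by group
          _ = hh x k s⁻¹ * (nn x k * nn x k) * x k b := by rw [nnh hs hs0]; group
          _ = _ := by rw [h.nn_sq, mul_one]
      · right
        have hai := inv_ne_zero ha0
        have e1 : nn x k * x k a = x k a⁻¹ * (hh x k a⁻¹ * nn x k) * x k a⁻¹ * nn x k := by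
          have e2 := h.refl k k ha
          rw [show 2 * k + 6 - k = k + 6 by ring, h.rank_one_eq k ha] at e2
          rw [← e2]; group
        obtain ⟨c, hc, e3⟩ := ht hs.inv (inv_ne_zero hs0) ha.inv
        refine ⟨a⁻¹, a⁻¹ * s, c + b, ha.inv, ha.inv.mul hs, mul_ne_zero hai hs0, hc.add hb, ?_⟩
        rw [h.hh_mul k hai hs0 ha.inv hs, h.add k c b hc hb]
        have e4 := nnh hs.inv (inv_ne_zero hs0)
        rw [inv_inv] at e4
        calc nn x k * (x k a * hh x k s * nn x k * x k b) =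
            (nn x k * x k a) * hh x k s * nn x k * x k b := by group
          _ = x k a⁻¹ * (hh x k a⁻¹ * nn x k) * x k a⁻¹ * (nn x k * hh x k s) * nn x k * x k b := by
            rw [e1]; group
          _ = x k a⁻¹ * (hh x k a⁻¹ * nn x k) * (x k a⁻¹ * hh x k s⁻¹) * (nn x k * nn x k) * x k b := by
            rw [nnh hs hs0]; group
          _ = x k a⁻¹ * hh x k a⁻¹ * (nn x k * hh x k s⁻¹) * x k c * x k b := by
            rw [h.nn_sq, mul_one, e3]; group
          _ = _ := by rw [e4]; group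
  have key : ∀ y ∈ {y : Γ | ∃ l ∈ ({k, k + 6} : Set (ZMod 12)), ∃ a, Ok σ l a ∧ y = x l a}, ∀ g : Γ,
      ((∃ a s, Ok σ k a ∧ Ok σ k s ∧ s ≠ 0 ∧ g = x k a * hh x k s) ∨
      (∃ a s b, Ok σ k a ∧ Ok σ k s ∧ s ≠ 0 ∧ Ok σ k b ∧ g = x k a * hh x k s * nn x k * x k b)) →
      ((∃ a s, Ok σ k a ∧ Ok σ k s ∧ s ≠ 0 ∧ y * g = x k a * hh x k s) ∨
      (∃ a s b, Ok σ k a ∧ Ok σ k s ∧ s ≠ 0 ∧ Ok σ k b ∧ y * g = x k a * hh x k s * nn x k * x k b)) := by
    rintro y ⟨l, hl, c, hc, rfl⟩ g hg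
    rcases hl with rfl | hl
    · exact mx c g hc hg
    · rw [Set.mem_singleton_iff] at hl
      subst hl
      have hc' : Ok σ k c := hc.congr (val_add_6 k).symm
      have e2 := h.refl' k k hc'
      rw [show 2 * k + 6 - k = k + 6 by ring] at e2
      have := mn _ (mx c _ hc' (mn g hg))
      rw [← e2]
      have e3 : nn x k * x k c * nn x k * g = nn x k * (x k c * (nn x k * g)) := by group
      rw [e3]
      exact this
  unfold gen at hg
  induction hg using Subgroup.closure_induction_left with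
  | one => exact Or.inl ⟨0, 1, ok_zero σ k, ok_one σ k, one_ne_zero, by rw [h.x_zero, h.hh_one, mul_one]⟩
  | mul_left y hy g _ ih => exact key y hy g ih
  | inv_mul_cancel y hy g _ ih =>
    have hy' := hy
    obtain ⟨l, hl, c, hc, rfl⟩ := hy'
    rw [h.x_inv hc]
    exact key _ hy g ih

end HexTwo

end Cfsg.Agent.StdRank2.Hex
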