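import Mathlib
import Cfsg.Agent.SplitTwo.HexDefs

/-!
# Hexagonal root systems in characteristic two, with coordinates at all twelve roots (S1778, types `G₂(q)`, `³D₄(q)`)

`x : ZMod 12 → E → Γ`; the roots are numbered cyclically, odd roots are short (parameter in `E`), even roots are long
(parameter fixed by `σ`).  `nn x k` is the reflection `j ↦ 2 k + 6 - j`, it acts on the root elements without any sign
or twist; `hh x k t` are the elements of the torus, which act by explicit characters.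
-/

set_option autoImplicit false

namespace Cfsg.Agent.StdRank2.Hex

open Cfsg.Agent.SplitTwo

section Defs

variable {E : Type*} [Field E] (σ : E ≃+* E) {Γ : Type*} [Group Γ] (x : ZMod 12 → E → Γ)

/-- Admissible parameters of the root `k`. -/
def Ok (k : ZMod 12) (a : E) : Prop := k.val % 2 = 0 → σ a = a

/-- The reflection at the root `k`. -/
def nn (k : ZMod 12) : Γ := x k 1 * x (k + 6) 1 * x k 1

/-- The element `n_k(t)`. -/
def nt (k : ZMod 12) (t : E) : Γ := x k t * x (k + 6) t⁻¹ * x k t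

/-- The torus element `h_k(t)`. -/
def hh (k : ZMod 12) (t : E) : Γ := nt x k t * nn x k

/-- Action of `h_k(t)`, `k` short, on the root `k + d`. -/
def chS (d : ZMod 12) (t : E) : E :=
  (![t ^ 2, nrm σ t, t⁻¹ * shp σ t, 1, t * (shp σ t)⁻¹, (nrm σ t)⁻¹, (t ^ 2)⁻¹, (nrm σ t)⁻¹,
    t * (shp σ t)⁻¹, 1, t⁻¹ * shp σ t, nrm σ t] : Fin 12 → E) d

/-- Action of `h_k(t)`, `k` long, on the root `k + d`. -/
def chL (d : ZMod 12) (t : E) : E :=
  (![t ^ 2, t, t, 1, t⁻¹, t⁻¹, (t ^ 2)⁻¹, t⁻¹, t⁻¹, 1, t, t] : Fin 12 → E) d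

/-- Action of `h_k(t)` on the root `k + d`. -/
def ch (k d : ZMod 12) (t : E) : E := if k.val % 2 = 0 then chL d t else chS σ d t

/-- Hexagonal root system in characteristic two with coordinates at all twelve roots. -/
structure HexTwo : Prop where
  two : (2 : E) = 0
  rel : HexRel σ (x 1) (x 2) (x 3) (x 4) (x 5) (x 6)
  add : ∀ k a b, Ok σ k a → Ok σ k b → x k (a + b) = x k a * x k b
  inj : ∀ k a, Ok σ k a → x k a = 1 → a = 0
  refl1 : ∀ j a, Ok σ j a → nn x 1 * x j a * (nn x 1)⁻¹ = x (8 - j) a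
  refl6 : ∀ j a, Ok σ j a → nn x 6 * x j a * (nn x 6)⁻¹ = x (6 - j) a
  tor1 : ∀ t, t ≠ 0 → ∀ j a, Ok σ j a → hh x 1 t * x j a * (hh x 1 t)⁻¹ = x j (chS σ (j - 1) t * a)
  tor6 : ∀ t, t ≠ 0 → σ t = t → ∀ j a, Ok σ j a →
    hh x 6 t * x j a * (hh x 6 t)⁻¹ = x j (chL (j - 6) t * a)
  opp : ∀ g, g ∈ Subgroup.closure {y : Γ | ∃ k ∈ ({1, 2, 3, 4, 5, 6} : Set (ZMod 12)), ∃ a, Ok σ k a ∧ y = x k a} →
    g ∈ Subgroup.closure {y : Γ | ∃ k ∈ ({7, 8, 9, 10, 11, 0} : Set (ZMod 12)), ∃ a, Ok σ k a ∧ y = x k a} →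
    g = 1

end Defs

section Ok

variable {E : Type*} [Field E] {σ : E ≃+* E} {k : ZMod 12} {a b : E}

theorem ok_odd (h : k.val % 2 = 1) (a : E) : Ok σ k a := fun h0 => by omega

theorem ok_of_fix (k : ZMod 12) (h : σ a = a) : Ok σ k a := fun _ => h

theorem ok_zero (σ : E ≃+* E) (k : ZMod 12) : Ok σ k 0 := fun _ => map_zero σ

theorem ok_one (σ : E ≃+* E) (k : ZMod 12) : Ok σ k 1 := fun _ => map_one σ

theorem Ok.add (h : Ok σ k a) (h' : Ok σ k b) : Ok σ k (a + b) := fun h0 => by rw [map_add, h h0, h' h0]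

theorem Ok.mul (h : Ok σ k a) (h' : Ok σ k b) : Ok σ k (a * b) := fun h0 => by rw [map_mul, h h0, h' h0]

theorem Ok.inv (h : Ok σ k a) : Ok σ k a⁻¹ := fun h0 => by rw [map_inv₀, h h0]

theorem Ok.congr {l : ZMod 12} (hkl : l.val % 2 = k.val % 2) (h : Ok σ k a) : Ok σ l a := fun h0 =>
  h (by rw [← hkl]; exact h0)

theorem val_8_sub : ∀ j : ZMod 12, (8 - j).val % 2 = j.val % 2 := by decide
theorem val_6_sub : ∀ j : ZMod 12, (6 - j).val % 2 = j.val % 2 := by decide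
theorem val_add_6 : ∀ j : ZMod 12, (j + 6).val % 2 = j.val % 2 := by decide
theorem val_add_2 : ∀ j : ZMod 12, (j + 2).val % 2 = j.val % 2 := by decide
theorem val_add_4 : ∀ j : ZMod 12, (j + 4).val % 2 = j.val % 2 := by decide
theorem val_refl : ∀ k j : ZMod 12, (2 * k + 6 - j).val % 2 = j.val % 2 := by decide
theorem idx8 : ∀ k j : ZMod 12, 8 - (2 * k + 6 - (8 - j)) = 2 * (8 - k) + 6 - j := by decide
theorem idx6 : ∀ k j : ZMod 12, 6 - (2 * k + 6 - (6 - j)) = 2 * (6 - k) + 6 - j := by decide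
theorem idx_opp_refl : ∀ k l : ZMod 12, 2 * k + 6 - (l + 6) = 2 * k + 6 - l + 6 := by decide

end Ok

section Ch

variable {E : Type*} [Field E] {σ : E ≃+* E}

theorem chS_neg (d : ZMod 12) (t : E) : chS σ (-d) t = chS σ d t := by
  revert d
  have : ∀ d : Fin 12, chS σ (-d : ZMod 12) t = chS σ d t := by
    intro d
    fin_cases d <;> rfl
  exact this

theorem chL_neg (d : ZMod 12) (t : E) : chL (-d) t = chL d t := by
  revert d
  have : ∀ d : Fin 12, chL (-d : ZMod 12) t = chL d t := by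
    intro d
    fin_cases d <;> rfl
  exact this

theorem ch_neg (k d : ZMod 12) (t : E) : ch σ k (-d) t = ch σ k d t := by
  unfold ch
  split_ifs
  · exact chL_neg d t
  · exact chS_neg d t

theorem ch_congr {k l : ZMod 12} (h : k.val % 2 = l.val % 2) (d : ZMod 12) (t : E) : ch σ k d t = ch σ l d t := by
  unfold ch
  rw [h]

theorem nrm_fix (h : ∀ a, σ (σ (σ a)) = a) (a : E) : σ (nrm σ a) = nrm σ a := by
  unfold nrm
  rw [map_mul, map_mul, h]
  ring

theorem trc_fix (h : ∀ a, σ (σ (σ a)) = a) (a b : E) : σ (trc σ a b) = trc σ a b := by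
  unfold trc
  rw [map_add, map_add, h]
  ring

/-- The characters respect admissibility. -/
theorem ok_ch (h : ∀ a, σ (σ (σ a)) = a) (k d : ZMod 12) {t : E} (ht : Ok σ k t) : Ok σ (k + d) (ch σ k d t) := by
  intro h0
  unfold ch
  split_ifs with hk
  · have ht' := ht hk
    have : ∀ d : Fin 12, σ (chL (d : ZMod 12) t) = chL d t := by
      intro d
      fin_cases d <;> simp [chL, ht']
    exact this d
  · have key : ∀ d : Fin 12, (d : ℕ) % 2 = 1 → σ (chS σ (d : ZMod 12) t) = chS σ d t := by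
      intro d hd
      fin_cases d <;> first | (exfalso; revert hd; decide) | (simp [chS, nrm_fix h])
    refine key d ?_
    have : ∀ k d : ZMod 12, (k + d).val % 2 = 0 → ¬ k.val % 2 = 0 → d.val % 2 = 1 := by decide
    exact this k d h0 hk

end Ch

namespace HexTwo

variable {E : Type*} [Field E] {σ : E ≃+* E} {Γ : Type*} [Group Γ] {x : ZMod 12 → E → Γ} (h : HexTwo σ x)

include h

theorem cube (a : E) : σ (σ (σ a)) = a := h.rel.cube a

theorem add_self (a : E) : a + a = 0 := by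
  rw [← two_mul, h.two, zero_mul]

theorem neg_eq (a : E) : -a = a := neg_eq_of_add_eq_zero_left (h.add_self a)

theorem sub_eq (a b : E) : a - b = a + b := by rw [sub_eq_add_neg, h.neg_eq]

theorem x_zero (k : ZMod 12) : x k 0 = 1 := by
  have h1 := h.add k 0 0 (ok_zero σ k) (ok_zero σ k)
  rw [add_zero] at h1
  exact left_eq_mul.1 h1

theorem x_sq {k : ZMod 12} {a : E} (ha : Ok σ k a) : x k a * x k a = 1 := by
  rw [← h.add k a a ha ha, h.add_self, h.x_zero]

theorem x_inv {k : ZMod 12} {a : E} (ha : Ok σ k a) : (x k a)⁻¹ = x k a :=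
  inv_eq_of_mul_eq_one_left (h.x_sq ha)

theorem x_eq_one {k : ZMod 12} {a : E} (ha : Ok σ k a) : x k a = 1 ↔ a = 0 :=
  ⟨h.inj k a ha, fun e => by rw [e, h.x_zero]⟩

theorem x_inj {k : ZMod 12} {a b : E} (ha : Ok σ k a) (hb : Ok σ k b) : x k a = x k b ↔ a = b := by
  constructor
  · intro e
    have h1 : x k (a + b) = 1 := by rw [h.add k a b ha hb, e, h.x_sq hb]
    have h2 := h.inj k _ (ha.add hb) h1
    rw [← h.sub_eq] at h2
    exact sub_eq_zero.1 h2
  · rintro rfl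
    rfl

theorem x_comm_same {k : ZMod 12} {a b : E} (ha : Ok σ k a) (hb : Ok σ k b) : Commute (x k a) (x k b) := by
  rw [Commute, SemiconjBy, ← h.add k a b ha hb, ← h.add k b a hb ha, add_comm]

theorem nn_sq (k : ZMod 12) : nn x k * nn x k = 1 := by
  have h1 := h.x_sq (ok_one σ k)
  have h2 := h.x_sq (ok_one σ (k + 6))
  unfold nn
  calc x k 1 * x (k + 6) 1 * x k 1 * (x k 1 * x (k + 6) 1 * x k 1) =
      x k 1 * (x (k + 6) 1 * (x k 1 * x k 1) * x (k + 6) 1) * x k 1 := by group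
    _ = 1 := by rw [h1, mul_one, h2, mul_one, h1]

theorem nn_inv (k : ZMod 12) : (nn x k)⁻¹ = nn x k := inv_eq_of_mul_eq_one_left (h.nn_sq k)

theorem nt_sq {k : ZMod 12} {t : E} (ht : Ok σ k t) : nt x k t * nt x k t = 1 := by
  have h1 := h.x_sq ht
  have h2 : x (k + 6) t⁻¹ * x (k + 6) t⁻¹ = 1 := h.x_sq (ht.inv.congr (val_add_6 k))
  unfold nt
  calc x k t * x (k + 6) t⁻¹ * x k t * (x k t * x (k + 6) t⁻¹ * x k t) =
      x k t * (x (k + 6) t⁻¹ * (x k t * x k t) * x (k + 6) t⁻¹) * x k t := by group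
    _ = 1 := by rw [h1, mul_one, h2, mul_one, h1]

theorem nt_inv {k : ZMod 12} {t : E} (ht : Ok σ k t) : (nt x k t)⁻¹ = nt x k t :=
  inv_eq_of_mul_eq_one_left (h.nt_sq ht)

omit h in
theorem nt_one (k : ZMod 12) : nt x k 1 = nn x k := by
  unfold nt nn
  rw [inv_one]

/-! ### All reflections -/

omit h in
theorem conj_nn {g : Γ} {k l : ZMod 12} (h1 : g * x k 1 * g⁻¹ = x l 1) (h2 : g * x (k + 6) 1 * g⁻¹ = x (l + 6) 1) :
    g * nn x k * g⁻¹ = nn x l := by
  unfold nn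
  calc g * (x k 1 * x (k + 6) 1 * x k 1) * g⁻¹ =
      (g * x k 1 * g⁻¹) * (g * x (k + 6) 1 * g⁻¹) * (g * x k 1 * g⁻¹) := by group
    _ = _ := by rw [h1, h2]

omit h in
theorem conj_nt {g : Γ} {k l : ZMod 12} {t u : E} (h1 : g * x k t * g⁻¹ = x l u)
    (h2 : g * x (k + 6) t⁻¹ * g⁻¹ = x (l + 6) u⁻¹) : g * nt x k t * g⁻¹ = nt x l u := by
  unfold nt
  calc g * (x k t * x (k + 6) t⁻¹ * x k t) * g⁻¹ =
      (g * x k t * g⁻¹) * (g * x (k + 6) t⁻¹ * g⁻¹) * (g * x k t * g⁻¹) := by group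
    _ = _ := by rw [h1, h2]

theorem conj1_nn (k : ZMod 12) : nn x 1 * nn x k * (nn x 1)⁻¹ = nn x (8 - k) := by
  refine conj_nn (h.refl1 _ _ (ok_one σ _)) ?_
  rw [h.refl1 _ _ (ok_one σ _)]
  congr 1
  revert k; decide

theorem conj6_nn (k : ZMod 12) : nn x 6 * nn x k * (nn x 6)⁻¹ = nn x (6 - k) := by
  refine conj_nn (h.refl6 _ _ (ok_one σ _)) ?_
  rw [h.refl6 _ _ (ok_one σ _)]
  congr 1
  revert k; decide

omit h in
/-- transport of the action of `nn x k` by an element `g` inducing the involutory map `f` -/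
theorem refl_step {g : Γ} {f : ZMod 12 → ZMod 12} (hf : ∀ j, f (f j) = j) (hv : ∀ j : ZMod 12, (f j).val % 2 = j.val % 2)
    (hg : ∀ j a, Ok σ j a → g * x j a * g⁻¹ = x (f j) a) {k l : ZMod 12} (hkl : g * nn x k * g⁻¹ = nn x l)
    (hfl : ∀ j, f (2 * k + 6 - f j) = 2 * l + 6 - j)
    (hk : ∀ j a, Ok σ j a → nn x k * x j a * (nn x k)⁻¹ = x (2 * k + 6 - j) a) (j : ZMod 12) (a : E)
    (ha : Ok σ j a) : nn x l * x j a * (nn x l)⁻¹ = x (2 * l + 6 - j) a := by
  have e1 : x j a = g * x (f j) a * g⁻¹ := by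
    rw [hg _ _ (ha.congr (hv j)), hf]
  have ha' : Ok σ (f j) a := ha.congr (hv j)
  rw [← hkl, e1]
  have e2 : g * nn x k * g⁻¹ * (g * x (f j) a * g⁻¹) * (g * nn x k * g⁻¹)⁻¹ =
      g * (nn x k * x (f j) a * (nn x k)⁻¹) * g⁻¹ := by group
  rw [e2, hk _ _ ha', hg _ _ (ha'.congr (val_refl k (f j))), hfl]

/-- **The reflections act without sign or twist.** -/
theorem refl (k j : ZMod 12) {a : E} (ha : Ok σ j a) : nn x k * x j a * (nn x k)⁻¹ = x (2 * k + 6 - j) a := by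
  have s8 := fun k l (e : 8 - k = l) (hk : ∀ j a, Ok σ j a → nn x k * x j a * (nn x k)⁻¹ = x (2 * k + 6 - j) a) =>
    refl_step (g := nn x 1) (f := fun j => 8 - j) (k := k) (l := l) (by decide) val_8_sub
      (fun j a ha => h.refl1 j a ha) (by rw [← e]; exact h.conj1_nn k)
      (by subst e; exact idx8 k) hk
  have s6 := fun k l (e : 6 - k = l) (hk : ∀ j a, Ok σ j a → nn x k * x j a * (nn x k)⁻¹ = x (2 * k + 6 - j) a) =>
    refl_step (g := nn x 6) (f := fun j => 6 - j) (k := k) (l := l) (by decide) val_6_sub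
      (fun j a ha => h.refl6 j a ha) (by rw [← e]; exact h.conj6_nn k)
      (by subst e; exact idx6 k) hk
  have r1 : ∀ j a, Ok σ j a → nn x 1 * x j a * (nn x 1)⁻¹ = x (2 * 1 + 6 - j) a := fun j a ha => by
    rw [h.refl1 j a ha]
    congr 1
  have r6 : ∀ j a, Ok σ j a → nn x 6 * x j a * (nn x 6)⁻¹ = x (2 * 6 + 6 - j) a := fun j a ha => by
    rw [h.refl6 j a ha]
    congr 1
  have r5 := s6 1 5 (by decide) r1
  have r3 := s8 5 3 (by decide) r5
  have r7 := s8 1 7 (by decide) r1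
  have r11 := s6 7 11 (by decide) r7
  have r9 := s8 11 9 (by decide) r11
  have r0 := s6 6 0 (by decide) r6
  have r2 := s8 6 2 (by decide) r6
  have r4 := s6 2 4 (by decide) r2
  have r8 := s8 0 8 (by decide) r0
  have r10 := s6 8 10 (by decide) r8
  have hk : k = 0 ∨ k = 1 ∨ k = 2 ∨ k = 3 ∨ k = 4 ∨ k = 5 ∨ k = 6 ∨ k = 7 ∨ k = 8 ∨ k = 9 ∨ k = 10 ∨ k = 11 := by
    revert k; decide
  rcases hk with rfl | rfl | rfl | rfl | rfl | rfl | rfl | rfl | rfl | rfl | rfl | rfl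
  · exact r0 j a ha
  · exact r1 j a ha
  · exact r2 j a ha
  · exact r3 j a ha
  · exact r4 j a ha
  · exact r5 j a ha
  · exact r6 j a ha
  · exact r7 j a ha
  · exact r8 j a ha
  · exact r9 j a ha
  · exact r10 j a ha
  · exact r11 j a ha

theorem refl' (k j : ZMod 12) {a : E} (ha : Ok σ j a) : nn x k * x j a * nn x k = x (2 * k + 6 - j) a := by
  have := h.refl k j ha
  rwa [h.nn_inv] at this

theorem nn_opp (k : ZMod 12) : nn x (k + 6) = nn x k := by
  have h1 : nn x k * nn x k * (nn x k)⁻¹ = nn x (k + 6) := by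
    refine conj_nn ?_ ?_
    · rw [h.refl k k (ok_one σ k)]
      congr 1
      revert k; decide
    · rw [h.refl k (k + 6) (ok_one σ _)]
      congr 1
      revert k; decide
  rw [← h1, mul_inv_cancel_right]

theorem conj_nn_nn (k l : ZMod 12) : nn x k * nn x l * (nn x k)⁻¹ = nn x (2 * k + 6 - l) := by
  refine conj_nn (h.refl k l (ok_one σ l)) ?_
  rw [h.refl k (l + 6) (ok_one σ _)]
  congr 1
  revert k l; decide

/-- the rotation by `2` -/
theorem rot (j : ZMod 12) {a : E} (ha : Ok σ j a) :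
    nn x 1 * nn x 6 * x j a * (nn x 1 * nn x 6)⁻¹ = x (j + 2) a := by
  have e : nn x 1 * nn x 6 * x j a * (nn x 1 * nn x 6)⁻¹ =
      nn x 1 * (nn x 6 * x j a * (nn x 6)⁻¹) * (nn x 1)⁻¹ := by group
  rw [e, h.refl6 j a ha, h.refl1 _ a (ha.congr (val_6_sub j)), show (8 : ZMod 12) - (6 - j) = j + 2 by ring]

end HexTwo

end Cfsg.Agent.StdRank2.Hex
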