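import Cfsg.Agent.StdU3.EndLie
import Cfsg.Agent.StdEven.Red
import Cfsg.Agent.StdEven.Syl

/-!
# S1778, type `L₃(q)`, `q` even: the end (W7) and the end of the field case

Both cases end in a Sylow 2-subgroup `S` of `L` of class two (`Heis(F_{q²})` or `UT₃(q) × UT₃(q)`): S1170 gives that `L` is of
Lie type in characteristic 2.
-/

set_option autoImplicit false

namespace Cfsg.Agent.StdRank2.L3End

open Cfsg Subgroup Cfsg.Agent.StdEven.Syl Cfsg.Agent.StdL2.Setup Cfsg.Agent.StdEven.Red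
open Cfsg.Agent.StdSz.Out
open scoped commutatorElement

universe u

section Three

variable {F : Type*} [Field F]

theorem det_M (h2 : (2 : F) = 0) : (!![0, 1, 0; 1, 1, 0; 0, 0, 1] : Matrix (Fin 3) (Fin 3) F).det = 1 := by
  rw [Matrix.det_fin_three]
  simp
  linear_combination -h2

theorem det_N : (!![1, 1, 0; 0, 1, 0; 0, 0, 1] : Matrix (Fin 3) (Fin 3) F).det = 1 := by
  rw [Matrix.det_fin_three]
  simp

/-- `3` divides the order of `PSL₃` in characteristic two. -/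
theorem three_dvd_psl [Finite F] (h2 : (2 : F) = 0) :
    3 ∣ Nat.card (Matrix.ProjectiveSpecialLinearGroup (Fin 3) F) := by
  let M : Matrix.SpecialLinearGroup (Fin 3) F := ⟨!![0, 1, 0; 1, 1, 0; 0, 0, 1], det_M h2⟩
  let N : Matrix.SpecialLinearGroup (Fin 3) F := ⟨!![1, 1, 0; 0, 1, 0; 0, 0, 1], det_N⟩
  let y : Matrix.ProjectiveSpecialLinearGroup (Fin 3) F := QuotientGroup.mk M
  have hM3 : M ^ 3 = 1 := by
    apply Subtype.ext
    have e11 : (1 : F) + 1 = 0 := by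
      rw [← h2]; norm_num
    rw [pow_succ, pow_two]
    change (!![0, 1, 0; 1, 1, 0; 0, 0, 1] : Matrix (Fin 3) (Fin 3) F) * !![0, 1, 0; 1, 1, 0; 0, 0, 1] *
      !![0, 1, 0; 1, 1, 0; 0, 0, 1] = 1
    ext i j
    fin_cases i <;> fin_cases j <;> simp [Matrix.mul_apply, Fin.sum_univ_three, e11]
  have hy3 : y ^ 3 = 1 := by
    change (QuotientGroup.mk (M ^ 3) : Matrix.ProjectiveSpecialLinearGroup (Fin 3) F) = 1
    rw [hM3]
    rfl
  have hy1 : y ≠ 1 := by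
    intro e
    have hc : M ∈ center (Matrix.SpecialLinearGroup (Fin 3) F) := (QuotientGroup.eq_one_iff M).1 e
    have h1 := mem_center_iff.1 hc N
    have h3 : (!![1, 1, 0; 0, 1, 0; 0, 0, 1] : Matrix (Fin 3) (Fin 3) F) * !![0, 1, 0; 1, 1, 0; 0, 0, 1] =
      !![0, 1, 0; 1, 1, 0; 0, 0, 1] * !![1, 1, 0; 0, 1, 0; 0, 0, 1] := congrArg Subtype.val h1
    have h4 := congrFun (congrFun h3 0) 0
    simp [Matrix.mul_apply, Fin.sum_univ_three] at h4
  have ho : orderOf y = 3 := orderOf_eq_prime hy3 hy1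
  have h5 := _root_.orderOf_dvd_natCard y
  rwa [ho] at h5

theorem three_dvd {A : Type*} [Group A] [Finite A] (h : TypeL3 (A ⧸ center A)) : 3 ∣ Nat.card A := by
  obtain ⟨F, _, _, a, ha, hc, ⟨e⟩⟩ := h
  have h2 : (2 : F) = 0 := by
    have h1 : ((Fintype.card F : ℕ) : F) = 0 := by simp
    rw [hc, Nat.cast_pow] at h1
    exact_mod_cast pow_eq_zero_iff (by omega) |>.1 h1
  have h3 := three_dvd_psl h2
  rw [← Nat.card_congr e.toEquiv] at h3
  exact h3.trans (card_quotient_dvd_card _)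

end Three

variable {G : Type u} [Group G] [Finite G] {L A S : Subgroup G} {t : G}

/-- **The end**: `S` a Sylow 2-subgroup of `L`, non commutative, of class two, of order at least 16. -/
theorem lie (h1170 : S1170Stmt.{u}) (C : Conf L A t) (hS : IsSyl S L) (hnc : ∃ x ∈ S, ∃ y ∈ S, x * y ≠ y * x)
    (hcl : ∀ x ∈ S, ∀ y ∈ S, ∀ z ∈ S, ⁅x, y⁆ * z = z * ⁅x, y⁆) (h16 : 16 ≤ Nat.card S) (h3 : 3 ∣ Nat.card A) :
    IsLieTypeChar 2 ↥L := by
  have := C.simple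
  have hc : Nat.card ↥(S.subgroupOf L) = Nat.card S := by
    rw [Nat.card_congr (subgroupOfEquivOfLe hS.le).toEquiv]
  refine StdU3.EndLie.lie_of_closed h1170 hS.toSylow (S.subgroupOf L) ⟨?_, fun x _ g hg => ?_⟩ ?_ ?_ (by rw [hc]; exact h16)
    (h3.trans (card_dvd_of_le C.le))
  · rw [hS.coe_toSylow]
  · rwa [hS.coe_toSylow] at hg
  · intro hcomm
    obtain ⟨x, hx, y, hy, hxy⟩ := hnc
    apply hxy
    have h1 := hcomm.is_comm.comm (⟨⟨x, hS.le hx⟩, mem_subgroupOf.2 hx⟩ : S.subgroupOf L)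
      ⟨⟨y, hS.le hy⟩, mem_subgroupOf.2 hy⟩
    exact congrArg (fun z : S.subgroupOf L => ((z : L) : G)) h1
  · rw [commutator_le]
    rintro ⟨⟨x, hxL⟩, hx⟩ - ⟨⟨y, hyL⟩, hy⟩ -
    rw [mem_center_iff]
    rintro ⟨⟨z, hzL⟩, hz⟩
    apply Subtype.ext
    apply Subtype.ext
    exact (hcl x (mem_subgroupOf.1 hx) y (mem_subgroupOf.1 hy) z (mem_subgroupOf.1 hz)).symm

/-- The conclusion of S1778. -/
theorem concl (h1170 : S1170Stmt.{u}) (C : Conf L A t) (hT : TypeL3 (↥A ⧸ center ↥A)) (hS : IsSyl S L)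
    (hnc : ∃ x ∈ S, ∃ y ∈ S, x * y ≠ y * x) (hcl : ∀ x ∈ S, ∀ y ∈ S, ∀ z ∈ S, ⁅x, y⁆ * z = z * ⁅x, y⁆)
    (h16 : 16 ≤ Nat.card S) (htL : t ∉ L) : Concl L t :=
  ⟨Or.inl (lie h1170 C hS hnc hcl h16 (three_dvd hT)), htL⟩

end Cfsg.Agent.StdRank2.L3End
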