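import Mathlib
import Cfsg.Agent.StdRank2.OutL3Je
import Cfsg.Agent.StdEven.StepFour

/-!
# `StepFour.Outer` for type `L₃(q)`

Every involution `f` of `T` acting as an outer automorphism on `A` centralises a perfect subgroup `B` of `A` generated by
2-elements, with an involution `w` such that `f w` is conjugate to `f`; except possibly for graph-field involutions
if `q = 4`.
-/

set_option autoImplicit false
set_option linter.unusedSectionVars false

namespace Cfsg.Agent.StdRank2.OutL3Outer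

open Subgroup
open scoped commutatorElement
open Cfsg.Agent.StdRank2.OutL3Rel Cfsg.Agent.StdRank2.OutField Cfsg.Agent.StdRank2.OutL3Inv
open Cfsg.Agent.StdRank2.OutL3Je

variable {G : Type*} [Group G]

/-- What `StepFour.Outer` asks for `f`. -/
def Good (f : G) : Prop :=
  ∃ B : Subgroup G, ⁅B, B⁆ = B ∧ (∀ x ∈ B, x * f = f * x) ∧
    B ≤ closure {x | x ∈ B ∧ ∃ k : ℕ, x ^ 2 ^ k = 1} ∧
    ∃ w ∈ B, w * w = 1 ∧ w ≠ 1 ∧ ∃ c : G, c * f * c⁻¹ = f * w

theorem Good.conj {f : G} (g : G) (h : Good (g * f * g⁻¹)) : Good f := by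
  obtain ⟨B, h1, h2, h3, w, hw, h4, h5, c, hc⟩ := h
  have hmem : ∀ x, x ∈ B → g⁻¹ * x * g ∈ B.map (MulAut.conj g⁻¹).toMonoidHom := by
    intro x hx
    refine ⟨x, hx, ?_⟩
    show g⁻¹ * x * g⁻¹⁻¹ = _
    rw [inv_inv]
  have hpow : ∀ (x : G) (k : ℕ), (g⁻¹ * x * g) ^ k = g⁻¹ * x ^ k * g := by
    intro x k
    have := (map_pow (MulAut.conj g⁻¹) x k)
    rw [MulAut.conj_apply, MulAut.conj_apply, inv_inv] at this
    exact this.symm
  refine ⟨B.map (MulAut.conj g⁻¹).toMonoidHom, ?_, ?_, ?_, g⁻¹ * w * g, hmem w hw, ?_, ?_, g⁻¹ * c * g, ?_⟩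
  · rw [← Subgroup.map_commutator, h1]
  · rintro _ ⟨x, hx, rfl⟩
    show g⁻¹ * x * g⁻¹⁻¹ * f = f * (g⁻¹ * x * g⁻¹⁻¹)
    rw [inv_inv]
    have := h2 x hx
    calc g⁻¹ * x * g * f = g⁻¹ * (x * (g * f * g⁻¹)) * g := by group
      _ = g⁻¹ * ((g * f * g⁻¹) * x) * g := by rw [this]
      _ = f * (g⁻¹ * x * g) := by group
  · rw [Subgroup.map_le_iff_le_comap]
    refine h3.trans ?_
    rw [closure_le]
    rintro x ⟨hx, k, hk⟩
    refine subset_closure ⟨⟨x, hx, rfl⟩, k, ?_⟩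
    show (g⁻¹ * x * g⁻¹⁻¹) ^ 2 ^ k = 1
    rw [inv_inv, hpow, hk]
    group
  · have : g⁻¹ * w * g * (g⁻¹ * w * g) = g⁻¹ * (w * w) * g := by group
    rw [this, h4]
    group
  · intro h
    apply h5
    have : w = g * (g⁻¹ * w * g) * g⁻¹ := by group
    rw [this, h]
    group
  · have e1 : g⁻¹ * c * g * f * (g⁻¹ * c * g)⁻¹ = g⁻¹ * (c * (g * f * g⁻¹) * c⁻¹) * g := by group
    rw [e1, hc]
    group

theorem perfect_closure {S : Set G} (h : ∀ s ∈ S, s ∈ ⁅closure S, closure S⁆) : ⁅closure S, closure S⁆ = closure S := by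
  refine le_antisymm ?_ ((closure_le _).2 h)
  rw [Subgroup.commutator_le]
  intro a ha b hb
  exact mul_mem (mul_mem (mul_mem ha hb) (inv_mem ha)) (inv_mem hb)

theorem closure_two {S : Set G} (h : ∀ s ∈ S, ∃ k : ℕ, s ^ 2 ^ k = 1) :
    closure S ≤ closure {x | x ∈ closure S ∧ ∃ k : ℕ, x ^ 2 ^ k = 1} := by
  rw [closure_le]
  intro s hs
  exact subset_closure ⟨subset_closure hs, h s hs⟩

theorem centralizes_closure {S : Set G} {f : G} (h : ∀ s ∈ S, s * f = f * s) : ∀ x ∈ closure S, x * f = f * x := by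
  intro x hx
  have h1 : closure S ≤ centralizer {f} := by
    rw [closure_le]
    intro s hs
    rw [SetLike.mem_coe, mem_centralizer_singleton_iff]
    exact (h s hs)
  exact mem_centralizer_singleton_iff.1 (h1 hx)

variable [Finite G] {A : Subgroup G} {F : Type*} [Field F] [Finite F] [CharP F 2]
  {fr : FrameL3 A F} (hZ : Odd (Nat.card (Subgroup.center ↥A)))
include hZ

theorem x_ne_one {i j : Fin 3} (h : i ≠ j) : fr.x i j 1 ≠ 1 := by
  intro h1
  exact one_ne_zero ((fr.x_eq_one hZ h).1 h1)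

theorem x_pow {i j : Fin 3} (h : i ≠ j) (s : F) : ∃ k : ℕ, fr.x i j s ^ 2 ^ k = 1 :=
  ⟨1, fr.pow_two_pow h s⟩

/-- Field type. -/
theorem good_fld {f : G} {σ : F ≃+* F} (hf : Fld fr f σ) (h1 : σ ≠ 1) (h2 : σ * σ = 1) (hff : f * f = 1) :
    Good f := by
  set S : Set G := {g | ∃ (i j : Fin 3) (_ : i ≠ j) (s : F), σ s = s ∧ g = fr.x i j s} with hS
  have hmem : ∀ {i j : Fin 3} (h : i ≠ j) {s : F}, σ s = s → fr.x i j s ∈ closure S :=
    fun h s hs => subset_closure ⟨_, _, h, _, hs, rfl⟩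
  have hcomm : ∀ s ∈ S, s * f = f * s := by
    rintro _ ⟨i, j, h, s, hs, rfl⟩
    have := hf i j h s
    rw [hs, mul_inv_eq_iff_eq_mul] at this
    exact this.symm
  have hper : ∀ g ∈ S, g ∈ ⁅closure S, closure S⁆ := by
    rintro _ ⟨i, j, h, s, hs, rfl⟩
    obtain ⟨k, hki, hkj⟩ : ∃ k : Fin 3, i ≠ k ∧ k ≠ j := by
      revert i j; decide
    have e1 := fr.conj hZ hki hkj h s 1
    have e2 : fr.x i j s = ⁅fr.x i k s, fr.x k j 1⁆ := by
      rw [commutatorElement_def, e1, mul_one, mul_inv_cancel_right]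
    rw [e2]
    exact Subgroup.commutator_mem_commutator (hmem hki hs) (hmem hkj (map_one σ))
  obtain ⟨s, hs⟩ := exists_trace h2 h1 (map_one σ)
  have h02 : (0 : Fin 3) ≠ 2 := by decide
  refine ⟨closure S, perfect_closure hper, centralizes_closure hcomm, closure_two ?_, fr.x 0 2 1,
    hmem h02 (map_one σ), fr.two h02 1, x_ne_one hZ h02, fr.x 0 2 s, ?_⟩
  · rintro _ ⟨i, j, h, s, hs, rfl⟩
    exact x_pow hZ h s
  · have e1 := hf 0 2 h02 s
    rw [fr.x_inv h02]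
    have e2 : fr.x 0 2 s * f = f * (f * fr.x 0 2 s * f⁻¹) := by
      have hf' : f⁻¹ = f := inv_eq_of_mul_eq_one_left hff
      have : f * (f * fr.x 0 2 s * f⁻¹) = (f * f) * fr.x 0 2 s * f⁻¹ := by group
      rw [this, hff, one_mul, hf']
    rw [e2, e1, mul_assoc, fr.add hZ h02, add_comm, hs]

/-- The subgroup `⟨x₀₂(s), x₂₀(s) : σ s = s⟩` is perfect if the fixed field has an element `≠ 0, 1`. -/
theorem perfect_sl {σ : F ≃+* F} {v : F} (hv : σ v = v) (hv0 : v ≠ 0) (hv1 : v ≠ 1) :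
    ⁅closure {g | ∃ s : F, σ s = s ∧ (g = fr.x 0 2 s ∨ g = fr.x 2 0 s)},
      closure {g | ∃ s : F, σ s = s ∧ (g = fr.x 0 2 s ∨ g = fr.x 2 0 s)}⁆ =
      closure {g | ∃ s : F, σ s = s ∧ (g = fr.x 0 2 s ∨ g = fr.x 2 0 s)} := by
  set S : Set G := {g | ∃ s : F, σ s = s ∧ (g = fr.x 0 2 s ∨ g = fr.x 2 0 s)} with hS
  have h02 : (0 : Fin 3) ≠ 2 := by decide
  have h20 : (2 : Fin 3) ≠ 0 := by decide
  have m1 : ∀ {s : F}, σ s = s → fr.x 0 2 s ∈ closure S := fun hs => subset_closure ⟨_, hs, Or.inl rfl⟩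
  have m2 : ∀ {s : F}, σ s = s → fr.x 2 0 s ∈ closure S := fun hs => subset_closure ⟨_, hs, Or.inr rfl⟩
  have hvi : σ v⁻¹ = v⁻¹ := by rw [map_inv₀, hv]
  have hw : ∀ {u : F}, σ u = u → fr.w 0 2 u ∈ closure S := by
    intro u hu
    exact mul_mem (mul_mem (m1 hu) (m2 (by rw [map_inv₀, hu]))) (m1 hu)
  have hh : fr.w 0 2 v * fr.w 0 2 1 ∈ closure S := mul_mem (hw hv) (hw (map_one σ))
  have htor := fr.tor_w hZ h02 hv0
  have hne : v * v + 1 ≠ 0 := by
    intro h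
    apply hv1
    have h3 : (v + 1) * (v + 1) = 0 := by
      have : (v + 1) * (v + 1) = v * v + 1 + (v + v) := by ring
      rw [this, h, CharTwo.add_self_eq_zero, add_zero]
    have h4 := mul_self_eq_zero.1 h3
    exact CharTwo.add_eq_zero.1 h4
  have hne' : v⁻¹ * v⁻¹ + 1 ≠ 0 := by
    intro h
    apply hne
    have : v * v + 1 = (v⁻¹ * v⁻¹ + 1) * (v * v) := by field_simp; ring
    rw [this, h, zero_mul]
  apply perfect_closure
  rintro _ ⟨s, hs, rfl | rfl⟩
  · have hfix : σ (s * (v * v + 1)⁻¹) = s * (v * v + 1)⁻¹ := by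
      rw [map_mul, map_inv₀, map_add, map_mul, map_one, hs, hv]
    have e1 := htor.conj hZ h02 (s * (v * v + 1)⁻¹)
    have e2 : fr.x 0 2 s = ⁅fr.w 0 2 v * fr.w 0 2 1, fr.x 0 2 (s * (v * v + 1)⁻¹)⁆ := by
      rw [commutatorElement_def, e1, fr.x_inv h02, fr.add hZ h02]
      congr 1
      simp only [if_pos, if_neg h20, inv_inv]
      have e3 : s = (v * v + 1) * (s * (v * v + 1)⁻¹) := by
        rw [mul_comm s, mul_inv_cancel_left₀ hne]
      conv_lhs => rw [e3]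
      ring
    rw [e2]
    exact Subgroup.commutator_mem_commutator hh (m1 hfix)
  · have hfix : σ (s * (v⁻¹ * v⁻¹ + 1)⁻¹) = s * (v⁻¹ * v⁻¹ + 1)⁻¹ := by
      rw [map_mul, map_inv₀, map_add, map_mul, map_one, hs, hvi]
    have e1 := htor.conj hZ h20 (s * (v⁻¹ * v⁻¹ + 1)⁻¹)
    have e2 : fr.x 2 0 s = ⁅fr.w 0 2 v * fr.w 0 2 1, fr.x 2 0 (s * (v⁻¹ * v⁻¹ + 1)⁻¹)⁆ := by
      rw [commutatorElement_def, e1, fr.x_inv h20, fr.add hZ h20]
      congr 1
      simp only [if_pos, if_neg h20]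
      have e3 : s = (v⁻¹ * v⁻¹ + 1) * (s * (v⁻¹ * v⁻¹ + 1)⁻¹) := by
        rw [mul_comm s, mul_inv_cancel_left₀ hne']
      conv_lhs => rw [e3]
      ring
    rw [e2]
    exact Subgroup.commutator_mem_commutator hh (m2 hfix)

/-- Graph type. -/
theorem good_graph {f : G} (hf : Grf fr f 1) (hff : f * f = 1) (hq : 4 ≤ Nat.card F) : Good f := by
  have h02 : (0 : Fin 3) ≠ 2 := by decide
  have h20 : (2 : Fin 3) ≠ 0 := by decide
  obtain ⟨v, hv0, hv1⟩ : ∃ v : F, v ≠ 0 ∧ v ≠ 1 := by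
    classical
    have := Fintype.ofFinite F
    by_contra hcon
    push Not at hcon
    have h1 : (Finset.univ : Finset F) ⊆ {0, 1} := by
      intro s _
      by_cases hs : s = 0
      · simp [hs]
      · simp [hcon s hs]
    have h2 := Finset.card_le_card h1
    rw [Finset.card_univ, ← Nat.card_eq_fintype_card] at h2
    have h3 : ({0, 1} : Finset F).card ≤ 2 := Finset.card_le_two
    omega
  have hper := perfect_sl hZ (fr := fr) (σ := (1 : F ≃+* F)) (v := v) rfl hv0 hv1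
  set S : Set G := {g | ∃ s : F, (1 : F ≃+* F) s = s ∧ (g = fr.x 0 2 s ∨ g = fr.x 2 0 s)} with hS
  have hcomm : ∀ s ∈ S, s * f = f * s := by
    rintro _ ⟨s, -, rfl | rfl⟩
    · have := hf 0 2 h02 s
      rw [mul_inv_eq_iff_eq_mul] at this
      exact this.symm
    · have := hf 2 0 h20 s
      rw [mul_inv_eq_iff_eq_mul] at this
      exact this.symm
  refine ⟨closure S, hper, centralizes_closure hcomm, closure_two ?_, fr.x 0 2 1,
    subset_closure ⟨1, rfl, Or.inl rfl⟩, fr.two h02 1, x_ne_one hZ h02, u fr 1 1 0, ?_⟩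
  · rintro _ ⟨s, -, rfl | rfl⟩
    · exact x_pow hZ h02 s
    · exact x_pow hZ h20 s
  · have e1 := hf.u hZ 1 1 0
    have hf' : f⁻¹ = f := inv_eq_of_mul_eq_one_left hff
    have e2 : u fr 1 1 0 * f = f * (f * u fr 1 1 0 * f⁻¹) := by
      have : f * (f * u fr 1 1 0 * f⁻¹) = (f * f) * u fr 1 1 0 * f⁻¹ := by group
      rw [this, hff, one_mul, hf']
    rw [e2, e1, mul_assoc, u_inv fr hZ, u_mul fr hZ, ← u_t fr hZ]
    congr 2
    · show (1 : F) + 1 = 0
      exact CharTwo.add_self_eq_zero 1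
    · show (1 : F) + 1 = 0
      exact CharTwo.add_self_eq_zero 1
    · show (0 + 1 * 1 : F) + (0 + 1 * 1) + 1 * 1 = 1
      rw [CharTwo.add_self_eq_zero, zero_add, mul_one]

/-- Graph-field type. -/
theorem good_grf {f : G} {σ : F ≃+* F} (hf : Grf fr f σ) (h1 : σ ≠ 1) (h2 : σ * σ = 1) (hff : f * f = 1)
    (hq : 8 ≤ Nat.card F) : Good f := by
  have h02 : (0 : Fin 3) ≠ 2 := by decide
  have h20 : (2 : Fin 3) ≠ 0 := by decide
  obtain ⟨v, hv, hv0, hv1⟩ : ∃ v : F, σ v = v ∧ v ≠ 0 ∧ v ≠ 1 := by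
    classical
    have := Fintype.ofFinite F
    by_contra hcon
    push Not at hcon
    have hc := card_fix h2 h1
    have h3 : Nat.card {x : F // σ x = x} ≤ 2 := by
      have h4 : Nat.card {x : F // σ x = x} = (Finset.univ.filter (fun x : F => σ x = x)).card := by
        rw [Nat.card_eq_fintype_card, Fintype.card_subtype]
      rw [h4]
      have h5 : (Finset.univ.filter (fun x : F => σ x = x)) ⊆ {0, 1} := by
        intro s hs
        rw [Finset.mem_filter] at hs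
        by_cases h0 : s = 0
        · simp [h0]
        · simp [hcon s hs.2 h0]
      exact (Finset.card_le_card h5).trans Finset.card_le_two
    have h6 : Nat.card {x : F // σ x = x} * Nat.card {x : F // σ x = x} ≤ 2 * 2 := Nat.mul_le_mul h3 h3
    omega
  have hper := perfect_sl hZ (fr := fr) (σ := σ) hv hv0 hv1
  set S : Set G := {g | ∃ s : F, σ s = s ∧ (g = fr.x 0 2 s ∨ g = fr.x 2 0 s)} with hS
  have hcomm : ∀ s ∈ S, s * f = f * s := by
    rintro _ ⟨s, hs, rfl | rfl⟩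
    · have := hf 0 2 h02 s
      rw [hs, mul_inv_eq_iff_eq_mul] at this
      exact this.symm
    · have := hf 2 0 h20 s
      rw [hs, mul_inv_eq_iff_eq_mul] at this
      exact this.symm
  obtain ⟨s, hs⟩ := exists_trace h2 h1 (map_one σ)
  refine ⟨closure S, hper, centralizes_closure hcomm, closure_two ?_, fr.x 0 2 1,
    subset_closure ⟨1, map_one σ, Or.inl rfl⟩, fr.two h02 1, x_ne_one hZ h02, fr.x 0 2 s, ?_⟩
  · rintro _ ⟨s, -, rfl | rfl⟩
    · exact x_pow hZ h02 s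
    · exact x_pow hZ h20 s
  · have e1 : f * fr.x 0 2 s * f⁻¹ = fr.x 0 2 (σ s) := hf 0 2 h02 s
    rw [fr.x_inv h02]
    have e2 : fr.x 0 2 s * f = f * (f * fr.x 0 2 s * f⁻¹) := by
      have hf' : f⁻¹ = f := inv_eq_of_mul_eq_one_left hff
      have : f * (f * fr.x 0 2 s * f⁻¹) = (f * f) * fr.x 0 2 s * f⁻¹ := by group
      rw [this, hff, one_mul, hf']
    rw [e2, e1, mul_assoc, fr.add hZ h02, add_comm, hs]

/-- An involution of `T` inducing an outer automorphism, `q ≥ 4`. -/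
theorem good_or {T : Subgroup G} (had : Adapted fr T) (hTA : T ≤ Subgroup.normalizer (A : Set G))
    (hA : _root_.commutator ↥A = ⊤) (hq : 4 ≤ Nat.card F) {f : G} (hfT : f ∈ T) (hff : f * f = 1)
    (hout : ¬ ∃ a ∈ A, a⁻¹ * f ∈ centralizer (A : Set G)) :
    Good f ∨ (Nat.card F < 8 ∧ ∃ w ∈ fr.U, ∃ σ : F ≃+* F, σ ≠ 1 ∧ σ * σ = 1 ∧ Grf fr (w * f * w⁻¹) σ) := by
  rcases had.invol hZ hTA hA hfT (by rw [hff]; exact one_mem _) with ⟨v, hv, h⟩ | ⟨w, hw, σ, h2, h⟩
  · exact absurd ⟨v, fr.U_le hv, h⟩ hout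
  · have hff' : w * f * w⁻¹ * (w * f * w⁻¹) = 1 := by
      have : w * f * w⁻¹ * (w * f * w⁻¹) = w * (f * f) * w⁻¹ := by group
      rw [this, hff, mul_one, mul_inv_cancel]
    rcases h with ⟨h1, h⟩ | h
    · exact Or.inl ((good_fld hZ h h1 h2 hff').conj w)
    · by_cases h1 : σ = 1
      · subst h1
        exact Or.inl ((good_graph hZ h hff' hq).conj w)
      · by_cases h8 : 8 ≤ Nat.card F
        · exact Or.inl ((good_grf hZ h h1 h2 hff' h8).conj w)
        · exact Or.inr ⟨by omega, w, hw, σ, h1, h2, h⟩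

/-- **`StepFour.Outer` for type `L₃(q)`, `q ≥ 8`.** -/
theorem outer {T : Subgroup G} (had : Adapted fr T) (hTA : T ≤ Subgroup.normalizer (A : Set G))
    (hA : _root_.commutator ↥A = ⊤) (hq : 8 ≤ Nat.card F) (t : G) : StdEven.StepFour.Outer A t T := by
  intro f hfT hff hout _
  rcases good_or hZ had hTA hA (by omega) hfT hff hout with h | ⟨h, -⟩
  · exact h
  · omega

end Cfsg.Agent.StdRank2.OutL3Outer
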