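import Mathlib
import Cfsg.Agent.Schreier.Basic
import Cfsg.Agent.Schreier.Tools

/-!
# The Schreier property of perfect central extensions (light version of `Schreier/CentExt`)
-/

set_option autoImplicit false

namespace Cfsg.Agent.StdRank2.SchQuot

open Subgroup Cfsg.Agent.Schreier.Basic Cfsg.Agent.Schreier.Tools

variable {C : Type*} [Group C]

theorem map_center (φ : MulAut C) : (center C).map φ.toMonoidHom = center C := by
  ext x
  constructor
  · rintro ⟨y, hy, rfl⟩
    rw [mem_center_iff]
    intro g
    have h1 := mem_center_iff.mp hy (φ.symm g)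
    have h2 := congrArg φ h1
    rw [map_mul, map_mul, MulEquiv.apply_symm_apply] at h2
    exact h2
  · intro hx
    refine ⟨φ.symm x, ?_, φ.apply_symm_apply x⟩
    rw [SetLike.mem_coe, mem_center_iff]
    intro g
    have h1 := mem_center_iff.mp hx (φ g)
    have h2 := congrArg φ.symm h1
    rw [map_mul, map_mul, MulEquiv.symm_apply_apply] at h2
    exact h2

/-- The action of the automorphism group on the central quotient. -/
def quoC : MulAut C →* MulAut (C ⧸ center C) where
  toFun φ := QuotientGroup.congr (center C) (center C) φ (map_center φ)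
  map_one' := by
    ext x
    induction x using QuotientGroup.induction_on with
    | H c => rfl
  map_mul' φ ψ := by
    ext x
    induction x using QuotientGroup.induction_on with
    | H c => rfl

theorem quoC_mk (φ : MulAut C) (c : C) : quoC φ (QuotientGroup.mk c) = QuotientGroup.mk (φ c) := rfl

/-- A perfect central extension of a group with the Schreier property has the Schreier property. -/
theorem sch_of_center (hperf : _root_.commutator C = ⊤) (h : Sch (C ⧸ center C)) : Sch C := by
  intro D hD φ hφ
  have h1 := h (D.map quoC) (map_perfect _ hD) ⟨φ, hφ, rfl⟩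
  obtain ⟨y, hy⟩ := h1
  obtain ⟨c, rfl⟩ := QuotientGroup.mk_surjective y
  have h2 : ∀ x : C, (c * x * c⁻¹)⁻¹ * φ x ∈ center C := by
    intro x
    have h3 := DFunLike.congr_fun hy (QuotientGroup.mk x)
    rw [MulAut.conj_apply, quoC_mk] at h3
    rw [← QuotientGroup.eq]
    exact h3
  let δ : C →* Subgroup.center C :=
    { toFun := fun x => ⟨(c * x * c⁻¹)⁻¹ * φ x, h2 x⟩
      map_one' := by
        apply Subtype.ext
        simp
      map_mul' := fun x y => by
        apply Subtype.ext
        show (c * (x * y) * c⁻¹)⁻¹ * φ (x * y) = (c * x * c⁻¹)⁻¹ * φ x * ((c * y * c⁻¹)⁻¹ * φ y)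
        have h3 := Subgroup.mem_center_iff.1 (h2 x) (c * y * c⁻¹)⁻¹
        calc (c * (x * y) * c⁻¹)⁻¹ * φ (x * y) = (c * y * c⁻¹)⁻¹ * ((c * x * c⁻¹)⁻¹ * φ x) * φ y := by
              rw [map_mul]; group
          _ = _ := by rw [h3]; group }
  have h4 : ∀ x, δ x = 1 := by
    intro x
    have h5 : _root_.commutator C ≤ δ.ker := by
      rw [_root_.commutator_def, Subgroup.commutator_le]
      intro a _ b _
      rw [MonoidHom.mem_ker, map_commutatorElement]
      exact commutatorElement_eq_one_iff_mul_comm.2 (Subtype.ext (Subgroup.mem_center_iff.1 (δ b).2 (δ a)))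
    rw [hperf] at h5
    exact h5 (Subgroup.mem_top x)
  refine ⟨c, ?_⟩
  ext x
  have h5 : (c * x * c⁻¹)⁻¹ * φ x = 1 := congrArg Subtype.val (h4 x)
  rw [inv_mul_eq_one] at h5
  rw [MulAut.conj_apply, h5]

end Cfsg.Agent.StdRank2.SchQuot
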