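import Mathlib
import Cfsg.Agent.StdRank2.L3Data
import Cfsg.Agent.StdRank2.L3X
import Cfsg.Agent.StdRank2.L3G.Grow
import Cfsg.Agent.StdRank2.OutL3Outer
import Cfsg.Agent.Schreier.ClassPSL
import Cfsg.Agent.StdRank2.SchQuot

/-!
# Type `L₃(q)`: the instance in `X = N_G(O) / O`

From `L3Data.Sit L A t T fr` and `CoreQuot.Hyp A t T` we get `L3X.XSit` for the images in
`X = XQ A t`, an element of `N_X(J)` moving `t`, and the seed `Zh` of part I.
-/

set_option autoImplicit false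
set_option linter.unusedSectionVars false
set_option linter.dupNamespace false

namespace Cfsg.Agent.StdRank2.L3Inst

open Subgroup Cfsg.Agent.SignalizersComponents Cfsg.Agent.StdEven.Syl Cfsg.Agent.StdEven.Loc
open Cfsg.Agent.StdEven.CoreQuot Cfsg.Agent.StdRank2.L3Data Cfsg.Agent.StdRank2.L3X
open Cfsg.Agent.StdRank2.FrameL3

variable {G : Type*} [Group G] [Finite G] {L A : Subgroup G} {t : G} {T : Subgroup G}
  {F : Type*} [Field F] [Finite F] [CharP F 2]

section Center

omit [Finite G]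

/-- In a quasisimple group the quotient by the centre has trivial centre. -/
theorem center_quot_bot {Q : Type*} [Group Q] [IsSimpleGroup Q] (hp : _root_.commutator Q = ⊤) :
    center Q = ⊥ := by
  rcases (inferInstance : (center Q).Normal).eq_bot_or_eq_top with h | h
  · exact h
  · exfalso
    have h1 : _root_.commutator Q = ⊥ := by
      rw [_root_.commutator_def, h.symm]
      rw [Subgroup.commutator_eq_bot_iff_le_centralizer]
      intro x hx
      rw [mem_centralizer_iff]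
      intro y hy
      exact mem_center_iff.mp hx y
    rw [hp] at h1
    obtain ⟨x, hx⟩ := exists_ne (1 : Q)
    apply hx
    have : x ∈ (⊤ : Subgroup Q) := mem_top x
    rw [h1] at this
    exact mem_bot.mp this

theorem perfect_quot {Q : Type*} [Group Q] (hp : _root_.commutator Q = ⊤) (N : Subgroup Q) [N.Normal] :
    _root_.commutator (Q ⧸ N) = ⊤ := by
  rw [_root_.commutator_def] at *
  have h1 := congrArg (Subgroup.map (QuotientGroup.mk' N)) hp
  rw [map_commutator, ← MonoidHom.range_eq_map, MonoidHom.range_eq_top.mpr (QuotientGroup.mk'_surjective N)] at h1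
  exact h1

theorem perfect_equiv {Q Q' : Type*} [Group Q] [Group Q'] (e : Q ≃* Q')
    (hp : _root_.commutator Q = ⊤) : _root_.commutator Q' = ⊤ := by
  rw [_root_.commutator_def] at *
  have h1 := congrArg (Subgroup.map e.toMonoidHom) hp
  rw [map_commutator, ← MonoidHom.range_eq_map, MonoidHom.range_eq_top.mpr e.surjective] at h1
  exact h1

end Center

section Img

variable {fr : FrameL3 A F} (H : Hyp A t T)
include H

theorem perf : _root_.commutator ↥A = ⊤ := H.std.1.1.commutator_eq_top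

theorem center_im : center ↥(im A t A) = ⊥ := by
  obtain ⟨e, -⟩ := H.exists_equiv
  have h1 : IsSimpleGroup (↥A ⧸ center ↥A) := H.std.1.2
  have h2 := center_quot_bot (perfect_quot (perf H) (center ↥A))
  rw [eq_bot_iff]
  intro x hx
  have h3 : e.symm x ∈ center (↥A ⧸ center ↥A) := by
    rw [mem_center_iff]
    intro g
    have h4 := mem_center_iff.mp hx (e g)
    have h5 := congrArg e.symm h4
    rw [map_mul, map_mul, MulEquiv.symm_apply_apply] at h5
    exact h5
  rw [h2, mem_bot] at h3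
  rw [mem_bot]
  have := congrArg e h3
  rwa [MulEquiv.apply_symm_apply, map_one] at this

theorem exists_equiv_center : ∃ e' : (↥(im A t A) ⧸ center ↥(im A t A)) ≃* (↥A ⧸ center ↥A),
    ∀ a : A, e' (QuotientGroup.mk ⟨pr A t ⟨a, H.A_le a.2⟩, pr_mem_im a.2⟩) = QuotientGroup.mk a := by
  obtain ⟨e, he⟩ := H.exists_equiv
  refine ⟨((QuotientGroup.quotientMulEquivOfEq (center_im H)).trans
    (QuotientGroup.quotientBot)).trans e.symm, fun a => ?_⟩
  have h1 : (⟨pr A t ⟨a, H.A_le a.2⟩, pr_mem_im a.2⟩ : ↥(im A t A)) = e (QuotientGroup.mk a) :=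
    Subtype.ext (he a).symm
  rw [h1]
  show e.symm (e (QuotientGroup.mk a)) = _
  rw [MulEquiv.symm_apply_apply]

/-- **The image frame.** -/
theorem exists_frX (fr : FrameL3 A F) : ∃ frX : FrameL3 (im A t A) F,
    ∀ i j : Fin 3, ∀ hij : i ≠ j, ∀ s,
      frX.x i j s = pr A t ⟨fr.x i j s, H.A_le (fr.mem hij s)⟩ := by
  classical
  obtain ⟨e', he'⟩ := exists_equiv_center H
  refine ⟨⟨e'.trans fr.e, fun i j s => if hij : i ≠ j then
    pr A t ⟨fr.x i j s, H.A_le (fr.mem hij s)⟩ else 1, ?_, ?_, ?_⟩, ?_⟩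
  · intro i j hij s
    rw [dif_pos hij]
    exact pr_mem_im (fr.mem hij s)
  · intro i j hij s
    have h1 := he' ⟨fr.x i j s, fr.mem hij s⟩
    have h2 := fr.map hij s
    rw [← h1] at h2
    rw [← h2]
    show fr.e (e' _) = _
    congr 3
    exact Subtype.ext (dif_pos hij)
  · intro i j hij s
    rw [dif_pos hij, ← map_mul]
    have h1 : (⟨fr.x i j s, H.A_le (fr.mem hij s)⟩ : ↥(NO A t)) * ⟨fr.x i j s, H.A_le (fr.mem hij s)⟩ = 1 :=
      Subtype.ext (fr.two hij s)
    rw [h1, map_one]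
  · intro i j hij s
    exact dif_pos hij

end Img

/-- The situation in `G` and in `X`. -/
structure Both (L A : Subgroup G) (t : G) (T : Subgroup G) (fr : FrameL3 A F) where
  sit : Sit L A t T fr
  hyp : Hyp A t T
  frX : FrameL3 (im A t A) F
  frX_x : ∀ i j : Fin 3, ∀ hij : i ≠ j, ∀ s,
      frX.x i j s = pr A t ⟨fr.x i j s, hyp.A_le (fr.mem hij s)⟩

namespace Both

variable {fr : FrameL3 A F} (B : Both L A t T fr)

theorem frX_el (a b c : F) : B.frX.el a b c = pr A t ⟨fr.el a b c, B.hyp.A_le (fr.el_mem_A a b c)⟩ := by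
  rw [el, B.frX_x 0 1 (by decide), B.frX_x 1 2 (by decide), B.frX_x 0 2 (by decide), ← map_mul, ← map_mul]
  rfl

/-- **The situation in `X`.** -/
theorem xsit : XSit (im A t A) B.hyp.tX B.frX where
  tt := B.hyp.tX_sq
  t_ne := B.hyp.tX_ne
  tA a ha := (B.hyp.im_A_comm ha).symm
  cent x h1 h2 := B.hyp.eq_of_cent h1 h2
  norm x hx := by
    apply mem_normalizer_of_conj_le
    intro a ha
    exact B.hyp.conj_mem_im hx ha
  Z a ha h1 := by
    have h2 : (⟨a, ha⟩ : ↥(im A t A)) ∈ center ↥(im A t A) := by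
      rw [mem_center_iff]
      intro b
      exact Subtype.ext (h1 b b.2).symm
    rw [center_im B.hyp, mem_bot] at h2
    exact congrArg Subtype.val h2
  perf := by
    obtain ⟨e, -⟩ := B.hyp.exists_equiv
    exact perfect_equiv e (perfect_quot (perf B.hyp) _)
  not_conj := by
    intro x u hu hxu
    have hZX : Odd (Nat.card (center ↥(im A t A))) := by
      rw [center_im B.hyp, Nat.card_unique]; exact odd_one
    have huu : u * u = 1 := by
      rw [← hxu]
      calc x * B.hyp.tX * x⁻¹ * (x * B.hyp.tX * x⁻¹) = x * (B.hyp.tX * B.hyp.tX) * x⁻¹ := by group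
        _ = 1 := by rw [B.hyp.tX_sq]; group
    have hu1 : u ≠ 1 := by
      rintro rfl
      apply B.hyp.tX_ne
      have : B.hyp.tX = x⁻¹ * (x * B.hyp.tX * x⁻¹) * x := by group
      rw [this, hxu]; group
    obtain ⟨y, -, hy⟩ := B.frX.involution_conj hZX hu huu hu1
    rw [B.frX_x 0 2 (by decide)] at hy
    have h1 : (y * x) * pr A t ⟨t, B.hyp.t_mem⟩ * (y * x)⁻¹ =
        pr A t ⟨fr.x 0 2 1, B.hyp.A_le (fr.mem (by decide) 1)⟩ := by
      rw [← hy, ← hxu]
      show (y * x) * B.hyp.tX * (y * x)⁻¹ = _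
      group
    obtain ⟨g, -, hg⟩ := B.hyp.exists_conj_elem (k := 1) (l := 1) (by
      rw [pow_one, pow_two]; exact Subtype.ext B.hyp.tt) (by
      rw [pow_one, pow_two]; exact Subtype.ext (fr.two (by decide) 1)) h1
    exact B.sit.not_conj (fr.mem (i := 0) (j := 2) (by decide) 1) g (congrArg Subtype.val hg)
  four := B.sit.four

theorem mem_imJ {x : XQ A t} : x ∈ im A t (J fr t) ↔ x ∈ B.xsit.env.J := by
  rw [mem_im, L3Env.Env.mem_J]
  constructor
  · rintro ⟨n, hn, rfl⟩
    rcases B.sit.mem_J.mp hn with h1 | h1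
    · obtain ⟨a, b, c, h2⟩ := (fr.mem_U B.sit.hZ).1 h1
      refine ⟨a, b, c, Or.inl ?_⟩
      show _ = B.frX.el a b c
      rw [B.frX_el]
      congr 1
      exact Subtype.ext h2
    · obtain ⟨a, b, c, h2⟩ := (fr.mem_U B.sit.hZ).1 h1
      refine ⟨a, b, c, Or.inr ?_⟩
      show _ = B.hyp.tX * B.frX.el a b c
      rw [B.frX_el, Hyp.tX, ← map_mul]
      congr 1
      apply Subtype.ext
      show (n : G) = t * fr.el a b c
      rw [← h2, ← mul_assoc, B.sit.tt, one_mul]
  · rintro ⟨a, b, c, h1 | h1⟩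
    · refine ⟨⟨fr.el a b c, B.hyp.A_le (fr.el_mem_A a b c)⟩, B.sit.U_mem_J (fr.el_mem_U a b c), ?_⟩
      rw [h1]
      exact (B.frX_el a b c).symm
    · refine ⟨⟨t, B.hyp.t_mem⟩ * ⟨fr.el a b c, B.hyp.A_le (fr.el_mem_A a b c)⟩,
        mul_mem B.sit.t_mem_J (B.sit.U_mem_J (fr.el_mem_U a b c)), ?_⟩
      rw [h1, map_mul]
      show B.hyp.tX * _ = B.hyp.tX * B.frX.el a b c
      rw [B.frX_el]

theorem imJ_eq : im A t (J fr t) = B.xsit.env.J := by
  ext x; exact B.mem_imJ

include B in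
/-- odd order elements of `X` centralising `J` are trivial. -/
theorem odd_cent {x : XQ A t} (hx : ∀ y ∈ im A t (J fr t), x * y = y * x) (ho : Odd (orderOf x)) :
    x = 1 := by
  have ht : B.hyp.tX ∈ im A t (J fr t) := B.mem_imJ.mpr B.xsit.env.t_mem_J
  have hel : ∀ a b c, B.frX.el a b c ∈ im A t (J fr t) := fun a b c =>
    B.mem_imJ.mpr (B.xsit.env.el_mem_J a b c)
  obtain ⟨a, b, m, h1⟩ := B.xsit.cen (hx _ ht) (fun a b d => ⟨d, by
    rw [hx _ (hel a b d), mul_inv_cancel_right]⟩)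
  have h2 : x * x * (x * x) = 1 := by
    have h3 : x * x = B.frX.el a b m * B.frX.el a b m := by
      rcases h1 with h1 | h1
      · rw [h1]
      · rw [h1]; exact B.xsit.env.tel_mul a b m a b m
    rw [h3]
    have h4 : B.frX.el a b m * B.frX.el a b m = B.xsit.env.z (a * b) := B.xsit.env.el_sq a b m
    rw [h4, B.xsit.env.z_self]
  have h3 : orderOf x ∣ 4 := orderOf_dvd_of_pow_eq_one (by
    rw [show (4 : ℕ) = 2 + 2 from rfl, pow_add, pow_two]; exact h2)
  have h4 : Nat.Coprime (orderOf x) 4 := by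
    have : Nat.Coprime (orderOf x) 2 := Nat.coprime_two_right.mpr ho
    exact this.mul_right this
  have h5 : orderOf x = 1 := Nat.Coprime.eq_one_of_dvd h4 h3
  exact orderOf_eq_one_iff.mp h5

include B in
/-- `N_G(J) ≤ N_G(O)`. -/
theorem normalizer_J_le : normalizer (J fr t : Set G) ≤ NO A t := by
  apply B.hyp.normalizer_le B.sit.t_mem_J
  · intro o ho y hy
    have h1 := (B.hyp.mem_core.mp ho)
    rcases B.sit.mem_J.mp hy with h2 | h2
    · exact comm_of_centralizer h1.1 (fr.U_le h2)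
    · have h3 := comm_of_centralizer h1.1 (fr.U_le h2)
      have h4 : t * (o * y) = t * (y * o) := by
        calc t * (o * y) = (o * t) * y := by rw [h1.2.1]; group
          _ = o * (t * y) := by group
          _ = _ := by rw [h3]; group
      exact mul_left_cancel h4
  · intro x hx ho
    exact B.odd_cent hx ho

/-- **The element of part I in `X`.** -/
theorem exists_n (hS : Cfsg.Agent.Schreier.Basic.Sch ↥A) (hO : Cfsg.Agent.StdEven.StepFour.Outer A t T) :
    ∃ g : G, ∃ hg : g ∈ NO A t, g ∈ normalizer (T : Set G) ∧ (∃ k : ℕ, g ^ 2 ^ k = 1) ∧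
      (∃ c : F, c ≠ 0 ∧ (∀ x ∈ T, x * fr.x 0 2 c = fr.x 0 2 c * x) ∧ g * t * g⁻¹ = t * fr.x 0 2 c) ∧
      pr A t ⟨g, hg⟩ ∈ normalizer (B.xsit.env.J : Set (XQ A t)) ∧
      pr A t ⟨g, hg⟩ * B.xsit.env.t ≠ B.xsit.env.t * pr A t ⟨g, hg⟩ := by
  obtain ⟨g, hgT, hk, c, hc0, hcT, hgt⟩ := B.sit.exists_n hS hO
  have hgJ := B.sit.data.normalizer_T_le hgT
  have hg := B.normalizer_J_le hgJ
  refine ⟨g, hg, hgT, hk, ⟨c, hc0, hcT, hgt⟩, ?_, ?_⟩
  · rw [← B.imJ_eq]
    exact B.hyp.pr_mem_normalizer hgJ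
  · intro h1
    have h2 : g * t = t * g := B.hyp.pr_comm_iff.mp h1
    rw [h2, mul_inv_cancel_right, left_eq_mul] at hgt
    exact B.sit.x02_ne_one hc0 hgt

/-- **Part I in `X`.** -/
theorem exists_seed (hS : Cfsg.Agent.Schreier.Basic.Sch ↥A) (hO : Cfsg.Agent.StdEven.StepFour.Outer A t T) :
    Nonempty (L3Zh.Seed B.xsit.env) := by
  obtain ⟨g, hg, -, -, -, h1, h2⟩ := B.exists_n hS hO
  exact L3Zh.exists_seed_of_mem B.xsit.exists_ne h1 h2

end Both

/-- the Schreier property. -/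
theorem sch (hp : _root_.commutator ↥A = ⊤)
    (e : (↥A ⧸ center ↥A) ≃* Matrix.ProjectiveSpecialLinearGroup (Fin 3) F) :
    Cfsg.Agent.Schreier.Basic.Sch ↥A :=
  SchQuot.sch_of_center hp
    ((Cfsg.Agent.Schreier.ClassPSL.sch (F := F) (n := 3) (by norm_num)).of_equiv e.symm)

/-- From `Sit` to `Both`. -/
theorem exists_both {fr : FrameL3 A F} (h : Sit L A t T fr)
    (hO : Cfsg.Agent.StdEven.StepFour.Outer A t T) : Nonempty (Both L A t T fr) := by
  have H := h.hyp (sch h.perfect fr.e) hO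
  obtain ⟨frX, hx⟩ := exists_frX H fr
  exact ⟨⟨h, H, frX, hx⟩⟩

/-- **Type `L₃(q)`, `q ≥ 8`: everything up to the input of part II.** -/
theorem exists_all (C : Cfsg.Agent.StdL2.Setup.Conf L A t) (hZ : Odd (Nat.card (center ↥A)))
    (e : (↥A ⧸ center ↥A) ≃* Matrix.ProjectiveSpecialLinearGroup (Fin 3) F) (h8 : 8 ≤ Nat.card F) :
    ∃ (T : Subgroup G) (fr : FrameL3 A F), Cfsg.Agent.StdEven.StepFour.Outer A t T ∧
      Nonempty (Both L A t T fr) := by
  obtain ⟨T, fr, h⟩ := L3Data.exists_sit C hZ e (by omega)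
  have hO := OutL3Outer.outer hZ h.had h.isT.syl.le h.perfect h8 t
  exact ⟨T, fr, hO, exists_both h hO⟩

/-- **Type `L₃(q)`, `q ≥ 8`: the grown root groups in `X`.** -/
theorem Both.exists_grown {fr : FrameL3 A F} (B : Both L A t T fr)
    (hO : Cfsg.Agent.StdEven.StepFour.Outer A t T) {ν : F} (hν0 : ν ≠ 0) (hν1 : ν ^ 3 ≠ 1) :
    ∃ (S : L3Zh.Seed B.xsit.env) (Ag Bg : Subgroup (XQ A t)),
      L3G.Grown (B.xsit.envG hν0 hν1) Ag Bg S.Zh := by
  obtain ⟨S⟩ := B.exists_seed (sch B.sit.perfect fr.e) hO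
  exact ⟨S, _, _, (B.xsit.seedG S hν0 hν1).grown (B.frX.w_mul_self (by decide) 1)
    (B.frX.w_mul_self (by decide) 1)⟩

end Cfsg.Agent.StdRank2.L3Inst
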