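import Cfsg.Agent.StdRank2.L3RLift

/-!
# Type `L₃(q)`: the grown group `Û` in `G` as the image of `Psi : Heis (Q g) →* G`
-/

set_option autoImplicit false
set_option linter.unusedSectionVars false

namespace Cfsg.Agent.StdRank2.L3Psi

open Subgroup Cfsg.Agent.StdRank2.FrameL3 Cfsg.Agent.StdRank2.L3G Quad Cfsg.Agent.StdRank2.L3X
open Cfsg.Agent.StdRank2.L3Roots Cfsg.Agent.StdRank2.L3Inst Cfsg.Agent.StdRank2.L3RLift
open Cfsg.Agent.StdEven.CoreQuot Cfsg.Agent.StdSpFour.Lift Cfsg.Agent.StdEven.Syl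
open Cfsg.Agent.StdL3.Heis Cfsg.Agent.StdL3.HeisTwo

/-- `Heis K` is a 2-group. -/
theorem isPGroup_heis (K : Type*) [CommRing K] [CharP K 2] : IsPGroup 2 (Heis K) := by
  intro u
  refine ⟨2, ?_⟩
  have h1 : u ^ 2 ^ 2 = (u * u) * (u * u) := by
    rw [show (2 : ℕ) ^ 2 = 2 * 2 from rfl, pow_mul, pow_two, pow_two]
  rw [h1, sq_eq u, z_sq]

variable {G : Type*} [Group G] [Finite G] {L A : Subgroup G} {t : G} {T : Subgroup G}
  {F : Type*} [Field F] [Finite F] [CharP F 2] {fr : FrameL3 A F}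
  (B : Both L A t T fr) {Ag Bg Zg : Subgroup (XQ A t)} (I : Input B.xsit Ag Bg Zg)

theorem toHom_mem_Cb (x : Heis (Q I.K.g)) : I.K.toHom I.core x ∈ Cb A t := by
  rw [I.K.toHom_apply]
  exact mul_mem (mul_mem (y_mem B I.roots (i := 1) (j := 2) (by decide) x.b)
    (y_mem B I.roots (i := 0) (j := 1) (by decide) x.a))
    (y_mem B I.roots (i := 0) (j := 2) (by decide) x.c)

theorem exists_Psi : ∃ (i : Heis (Q I.K.g) →* G) (hi : ∀ x, i x ∈ NO A t),
      (∀ x, pr A t ⟨i x, hi x⟩ = I.K.toHom I.core x) ∧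
      (∀ x, ∀ o ∈ core A t, o * i x = i x * o) ∧ (∀ x, Two (i x)) ∧
      (∀ (g : ↥(NO A t)) x y, pr A t g * I.K.toHom I.core x * (pr A t g)⁻¹ = I.K.toHom I.core y →
        (g : G) * i x * (g : G)⁻¹ = i y) ∧
      (∀ x (n : ↥(NO A t)), Two (n : G) → pr A t n = I.K.toHom I.core x → i x = n) :=
  exists_lift_core B.hyp (isPGroup_heis (Q I.K.g)) (I.K.toHom I.core) (toHom_mem_Cb B I)

/-- **The embedding of `Heis (Q g)` into `G`.** -/
noncomputable def Psi : Heis (Q I.K.g) →* G := (exists_Psi B I).choose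

theorem Psi_mem (x : Heis (Q I.K.g)) : Psi B I x ∈ NO A t := (exists_Psi B I).choose_spec.choose x

theorem pr_Psi (x : Heis (Q I.K.g)) : pr A t ⟨Psi B I x, Psi_mem B I x⟩ = I.K.toHom I.core x :=
  (exists_Psi B I).choose_spec.choose_spec.1 x

theorem Psi_core (x : Heis (Q I.K.g)) {o : G} (ho : o ∈ core A t) : o * Psi B I x = Psi B I x * o :=
  (exists_Psi B I).choose_spec.choose_spec.2.1 x o ho

theorem Psi_two (x : Heis (Q I.K.g)) : Two (Psi B I x) :=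
  (exists_Psi B I).choose_spec.choose_spec.2.2.1 x

theorem Psi_conj (g : ↥(NO A t)) {x y : Heis (Q I.K.g)}
    (h : pr A t g * I.K.toHom I.core x * (pr A t g)⁻¹ = I.K.toHom I.core y) :
    (g : G) * Psi B I x * (g : G)⁻¹ = Psi B I y :=
  (exists_Psi B I).choose_spec.choose_spec.2.2.2.1 g x y h

theorem Psi_eq (x : Heis (Q I.K.g)) (n : ↥(NO A t)) (hn : Two (n : G))
    (h : pr A t n = I.K.toHom I.core x) : Psi B I x = n :=
  (exists_Psi B I).choose_spec.choose_spec.2.2.2.2 x n hn h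

theorem Psi_injective : Function.Injective (Psi B I) := by
  intro x y hxy
  apply I.K.toHom_injective I.core
  rw [← pr_Psi B I, ← pr_Psi B I]
  congr 1
  exact Subtype.ext hxy

/-- the action of `t` -/
theorem t_Psi (x : Heis (Q I.K.g)) : t * Psi B I x * t⁻¹ = Psi B I (ofRing (tau I.K.g) x) :=
  Psi_conj B I ⟨t, B.hyp.t_mem⟩ (I.K.t_toHom I.core x)

/-- the coordinates -/
theorem Psi_apply (u : Heis (Q I.K.g)) : Psi B I u =
    (roots B I.roots).y 1 2 u.b * (roots B I.roots).y 0 1 u.a * (roots B I.roots).y 0 2 u.c := by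
  have hb : Psi B I ⟨0, u.b, 0⟩ = (roots B I.roots).y 1 2 u.b := by
    apply Psi_eq B I _ ⟨_, roots_mem B I.roots (i := 1) (j := 2) (by decide) u.b⟩
    · exact two_lf B.hyp (y_mem B I.roots (by decide) _) (y_two B I.roots (by decide) _)
    · rw [pr_roots B I.roots (i := 1) (j := 2) (by decide), I.K.toHom_apply]
      show I.K.ub u.b = I.K.ub u.b * I.K.ua 0 * I.K.uc 0
      have h3 : I.K.ua 0 = 1 := by
        have := I.K.ua_add I.core 0 0; rw [add_zero] at this; exact left_eq_mul.1 this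
      have h4 : I.K.uc 0 = 1 := by
        have := I.K.uc_add I.core 0 0; rw [add_zero] at this; exact left_eq_mul.1 this
      rw [h3, h4, mul_one, mul_one]
  have ha : Psi B I ⟨u.a, 0, 0⟩ = (roots B I.roots).y 0 1 u.a := by
    apply Psi_eq B I _ ⟨_, roots_mem B I.roots (i := 0) (j := 1) (by decide) u.a⟩
    · exact two_lf B.hyp (y_mem B I.roots (by decide) _) (y_two B I.roots (by decide) _)
    · rw [pr_roots B I.roots (i := 0) (j := 1) (by decide), I.K.toHom_apply]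
      show I.K.ua u.a = I.K.ub 0 * I.K.ua u.a * I.K.uc 0
      have h3 : I.K.ub 0 = 1 := by
        have := I.K.ub_add I.core 0 0; rw [add_zero] at this; exact left_eq_mul.1 this
      have h4 : I.K.uc 0 = 1 := by
        have := I.K.uc_add I.core 0 0; rw [add_zero] at this; exact left_eq_mul.1 this
      rw [h3, h4, mul_one, one_mul]
  have hc : Psi B I ⟨0, 0, u.c⟩ = (roots B I.roots).y 0 2 u.c := by
    apply Psi_eq B I _ ⟨_, roots_mem B I.roots (i := 0) (j := 2) (by decide) u.c⟩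
    · exact two_lf B.hyp (y_mem B I.roots (by decide) _) (y_two B I.roots (by decide) _)
    · rw [pr_roots B I.roots (i := 0) (j := 2) (by decide), I.K.toHom_apply]
      show I.K.uc u.c = I.K.ub 0 * I.K.ua 0 * I.K.uc u.c
      have h3 : I.K.ub 0 = 1 := by
        have := I.K.ub_add I.core 0 0; rw [add_zero] at this; exact left_eq_mul.1 this
      have h4 : I.K.ua 0 = 1 := by
        have := I.K.ua_add I.core 0 0; rw [add_zero] at this; exact left_eq_mul.1 this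
      rw [h3, h4, one_mul, one_mul]
  rw [← hb, ← ha, ← hc, ← map_mul, ← map_mul]
  congr 1
  ext1
  · simp
  · simp
  · simp

/-- fixed points: `U` -/
theorem Psi_con (a b c : F) : Psi B I ⟨con a, con b, con c⟩ = fr.x 1 2 b * fr.x 0 1 a * fr.x 0 2 c := by
  rw [Psi_apply]
  simp only
  rw [(roots B I.roots).con (by decide), (roots B I.roots).con (by decide), (roots B I.roots).con (by decide)]

theorem Psi_con' (a b c : F) : Psi B I ⟨con a, con b, con c⟩ = fr.el a b (a * b + c) := by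
  rw [Psi_con]
  have hZ := B.hyp.hZ
  have e1 : fr.x 1 2 b = fr.el 0 b 0 := by
    rw [el, fr.x_zero hZ (by decide), fr.x_zero hZ (by decide), one_mul, mul_one]
  have e2 : fr.x 0 1 a = fr.el a 0 0 := by
    rw [el, fr.x_zero hZ (by decide), fr.x_zero hZ (by decide), mul_one, mul_one]
  have e3 : fr.x 0 2 c = fr.el 0 0 c := by
    rw [el, fr.x_zero hZ (by decide), fr.x_zero hZ (by decide), one_mul, one_mul]
  rw [e1, e2, e3, fr.el_mul hZ, fr.el_mul hZ]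
  congr 1
  · ring
  · ring
  · ring

theorem ofRing_tau_eq {g : F} {u : Heis (Q g)} (h : ofRing (tau g) u = u) :
    ∃ a b c : F, u = ⟨con a, con b, con c⟩ := by
  rw [ofRing_apply] at h
  have h1 := congrArg Heis.a h
  have h2 := congrArg Heis.b h
  have h3 := congrArg Heis.c h
  simp only at h1 h2 h3
  rw [tau_eq_iff] at h1 h2 h3
  refine ⟨u.a.re, u.b.re, u.c.re, ?_⟩
  ext1
  · exact q_ext rfl h1
  · exact q_ext rfl h2
  · exact q_ext rfl h3

theorem ofRing_con {g : F} (a b c : F) : ofRing (tau g) (⟨con a, con b, con c⟩ : Heis (Q g)) = ⟨con a, con b, con c⟩ := by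
  rw [ofRing_apply]
  simp only [tau_con]

/-- elements of `U` -/
theorem exists_of_mem_U {x : G} (hx : x ∈ fr.U) : ∃ a b c : F, x = Psi B I ⟨con a, con b, con c⟩ := by
  obtain ⟨a, b, c, rfl⟩ := (fr.mem_U B.hyp.hZ).1 hx
  refine ⟨a, b, a * b + c, ?_⟩
  rw [Psi_con', ← add_assoc, CharTwo.add_self_eq_zero, zero_add]

theorem Psi_mem_U {u : Heis (Q I.K.g)} (h : ofRing (tau I.K.g) u = u) : Psi B I u ∈ fr.U := by
  obtain ⟨a, b, c, rfl⟩ := ofRing_tau_eq h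
  rw [Psi_con']
  exact fr.el_mem_U _ _ _

theorem Psi_comm_t {u : Heis (Q I.K.g)} (h : Psi B I u * t = t * Psi B I u) : ofRing (tau I.K.g) u = u := by
  apply Psi_injective B I
  rw [← t_Psi, ← h, mul_inv_cancel_right]

/-! ### elements of `C(t)` normalising `U` normalise `Û` -/

theorem centOne : (base B.xsit).CentOne := by
  rintro c hc hE
  obtain ⟨x, z, h1⟩ := B.xsit.cent_one (c := c) hc
    (fun x => hE _ ⟨x, 0, by rw [(base B.xsit).xc_zero, mul_one]; rfl⟩)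
    (fun x => hE _ ⟨0, x, by rw [(base B.xsit).xa_zero, one_mul]; rfl⟩)
  rcases h1 with h1 | h1
  · exact Or.inl ⟨x, z, h1⟩
  · right
    refine ⟨x, z, ?_⟩
    rw [h1, ← mul_assoc]
    show B.hyp.tX * B.hyp.tX * _ = _
    rw [B.hyp.tX_sq, one_mul]
    rfl

theorem centTwo : (base B.xsit).swap.CentOne := by
  rintro c hc hE
  obtain ⟨x, z, h1⟩ := B.xsit.cent_two (c := c) hc
    (fun x => hE _ ⟨x, 0, by rw [(base B.xsit).swap.xc_zero, mul_one]; rfl⟩)
    (fun x => hE _ ⟨0, x, by rw [(base B.xsit).swap.xa_zero, one_mul]; rfl⟩)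
  rcases h1 with h1 | h1
  · exact Or.inl ⟨x, z, h1⟩
  · right
    refine ⟨x, z, ?_⟩
    rw [h1, ← mul_assoc]
    show B.hyp.tX * B.hyp.tX * _ = _
    rw [B.hyp.tX_sq, one_mul]
    rfl

theorem mem_E1 {x : XQ A t} : x ∈ (base B.xsit).E1 ↔ ∃ r z, x = pr A t ⟨OutL3Rel.u fr r 0 z,
    B.hyp.A_le (fr.U_le (OutL3Rel.u_mem fr r 0 z))⟩ := by
  have key : ∀ r z, (base B.xsit).xa r * (base B.xsit).xc z = pr A t ⟨OutL3Rel.u fr r 0 z,
      B.hyp.A_le (fr.U_le (OutL3Rel.u_mem fr r 0 z))⟩ := by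
    intro r z
    show B.frX.x 0 1 r * B.frX.x 0 2 z = _
    rw [B.frX_x 0 1 (by decide), B.frX_x 0 2 (by decide), ← map_mul]
    congr 1
    apply Subtype.ext
    show fr.x 0 1 r * fr.x 0 2 z = OutL3Rel.u fr r 0 z
    rw [OutL3Rel.u_eq_el, mul_zero, sub_zero, el, fr.x_zero B.hyp.hZ (by decide), mul_one]
  constructor
  · rintro ⟨r, z, rfl⟩
    exact ⟨r, z, key r z⟩
  · rintro ⟨r, z, rfl⟩
    exact ⟨r, z, (key r z).symm⟩

theorem mem_E2 {x : XQ A t} : x ∈ (base B.xsit).swap.E1 ↔ ∃ s z, x = pr A t ⟨OutL3Rel.u fr 0 s z,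
    B.hyp.A_le (fr.U_le (OutL3Rel.u_mem fr 0 s z))⟩ := by
  have key : ∀ r z, (base B.xsit).xb r * (base B.xsit).xc z = pr A t ⟨OutL3Rel.u fr 0 r z,
      B.hyp.A_le (fr.U_le (OutL3Rel.u_mem fr 0 r z))⟩ := by
    intro r z
    show B.frX.x 1 2 r * B.frX.x 0 2 z = _
    rw [B.frX_x 1 2 (by decide), B.frX_x 0 2 (by decide), ← map_mul]
    congr 1
    apply Subtype.ext
    show fr.x 1 2 r * fr.x 0 2 z = OutL3Rel.u fr 0 r z
    rw [OutL3Rel.u_eq_el, zero_mul, sub_zero, el, fr.x_zero B.hyp.hZ (by decide), one_mul]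
  constructor
  · rintro ⟨r, z, rfl⟩
    exact ⟨r, z, key r z⟩
  · rintro ⟨r, z, rfl⟩
    exact ⟨r, z, (key r z).symm⟩

/-- the two ways an element can act on `E₁`, `E₂` -/
def Act (k : XQ A t) : Prop :=
  ((∀ g ∈ (base B.xsit).E1, k * g * k⁻¹ ∈ (base B.xsit).E1) ∧
    (∀ g ∈ (base B.xsit).swap.E1, k * g * k⁻¹ ∈ (base B.xsit).swap.E1)) ∨
  ((∀ g ∈ (base B.xsit).E1, k * g * k⁻¹ ∈ (base B.xsit).swap.E1) ∧
    (∀ g ∈ (base B.xsit).swap.E1, k * g * k⁻¹ ∈ (base B.xsit).E1))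

theorem act_of_ft {y : G} (hy : y ∈ NO A t) {σ : F ≃+* F} (h : OutL3Je.FT fr y σ) :
    (∀ g ∈ (base B.xsit).E1, pr A t ⟨y, hy⟩ * g * (pr A t ⟨y, hy⟩)⁻¹ ∈ (base B.xsit).E1) ∧
    (∀ g ∈ (base B.xsit).swap.E1, pr A t ⟨y, hy⟩ * g * (pr A t ⟨y, hy⟩)⁻¹ ∈ (base B.xsit).swap.E1) := by
  constructor
  · intro g hg
    obtain ⟨r, z, rfl⟩ := (mem_E1 B).1 hg
    obtain ⟨z', hz'⟩ := h.conj B.hyp.hZ r 0 z
    rw [map_zero] at hz'
    refine (mem_E1 B).2 ⟨σ r, z', ?_⟩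
    rw [← map_inv, ← map_mul, ← map_mul]
    congr 1
    exact Subtype.ext hz'
  · intro g hg
    obtain ⟨r, z, rfl⟩ := (mem_E2 B).1 hg
    obtain ⟨z', hz'⟩ := h.conj B.hyp.hZ 0 r z
    rw [map_zero] at hz'
    refine (mem_E2 B).2 ⟨σ r, z', ?_⟩
    rw [← map_inv, ← map_mul, ← map_mul]
    congr 1
    exact Subtype.ext hz'

theorem act_of_gt {y : G} (hy : y ∈ NO A t) {σ : F ≃+* F} (h : OutL3Je.GT fr y σ) :
    (∀ g ∈ (base B.xsit).E1, pr A t ⟨y, hy⟩ * g * (pr A t ⟨y, hy⟩)⁻¹ ∈ (base B.xsit).swap.E1) ∧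
    (∀ g ∈ (base B.xsit).swap.E1, pr A t ⟨y, hy⟩ * g * (pr A t ⟨y, hy⟩)⁻¹ ∈ (base B.xsit).E1) := by
  constructor
  · intro g hg
    obtain ⟨r, z, rfl⟩ := (mem_E1 B).1 hg
    obtain ⟨z', hz'⟩ := h.conj B.hyp.hZ r 0 z
    rw [map_zero] at hz'
    refine (mem_E2 B).2 ⟨σ r, z', ?_⟩
    rw [← map_inv, ← map_mul, ← map_mul]
    congr 1
    exact Subtype.ext hz'
  · intro g hg
    obtain ⟨r, z, rfl⟩ := (mem_E2 B).1 hg
    obtain ⟨z', hz'⟩ := h.conj B.hyp.hZ 0 r z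
    rw [map_zero] at hz'
    refine (mem_E1 B).2 ⟨σ r, z', ?_⟩
    rw [← map_inv, ← map_mul, ← map_mul]
    congr 1
    exact Subtype.ext hz'

theorem conj_Sh_aux {k : XQ A t} {Y : Subgroup (XQ A t)} (h1 : ∀ y ∈ I.core.V1, k * y * k⁻¹ ∈ Y)
    (h2 : ∀ y ∈ I.core.swap.V1, k * y * k⁻¹ ∈ Y) {x : XQ A t} (hx : x ∈ I.core.Sh) :
    k * x * k⁻¹ ∈ Y := by
  obtain ⟨a, ha, b, hb, z, hz, rfl⟩ := hx
  have e : k * (a * b * z) * k⁻¹ = (k * (a * 1) * k⁻¹) * (k * (b * z) * k⁻¹) := by group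
  rw [e]
  exact mul_mem (h1 _ ⟨a, ha, 1, one_mem _, rfl⟩) (h2 _ ⟨b, hb, z, hz, rfl⟩)

/-- elements of `C(t)` permuting `E₁`, `E₂` normalise `Û`, in `X`. -/
theorem conj_Sh {k : XQ A t} (hk : k * B.hyp.tX = B.hyp.tX * k) (h1 : Act B k) (h2 : Act B k⁻¹)
    {x : XQ A t} (hx : x ∈ I.core.Sh) : k * x * k⁻¹ ∈ I.core.Sh := by
  have hV1 : I.core.V1 ≤ I.core.Sh := I.core.V1_le
  have hV2 : I.core.swap.V1 ≤ I.core.Sh := by
    rintro _ ⟨b, hb, z, hz, rfl⟩
    exact I.core.Sh.mul_mem (I.core.B_le hb) (I.core.Z_le hz)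
  -- `k⁻¹` acts in the same way as `k`
  have hne : ∃ g ∈ (base B.xsit).E1, g ∉ (base B.xsit).swap.E1 := by
    refine ⟨(base B.xsit).xa 1, ⟨1, 0, by rw [(base B.xsit).xc_zero, mul_one]⟩, ?_⟩
    rintro ⟨s, z, h3⟩
    have h4 : (base B.xsit).xa 1 = (base B.xsit).xb s * (base B.xsit).xc z := h3
    have h5 : (base B.xsit).xa 1 * (base B.xsit).xb s * (base B.xsit).xc z = 1 := by
      rw [mul_assoc, ← h4]
      rw [← (base B.xsit).xa_add, CharTwo.add_self_eq_zero, (base B.xsit).xa_zero]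
    exact one_ne_zero ((base B.xsit).u_inj _ _ _ h5).1
  rcases h1 with ⟨h1, h1'⟩ | ⟨h1, h1'⟩
  · rcases h2 with ⟨h2, h2'⟩ | ⟨h2, h2'⟩
    · apply conj_Sh_aux B I _ _ hx
      · intro y hy
        exact hV1 (I.core.conj_V1 I.core rfl (centOne B) hk h1 (fun g hg => by
          have := h2 g hg; rwa [inv_inv] at this) hy)
      · intro y hy
        exact hV2 (I.core.swap.conj_V1 I.core.swap rfl (centTwo B) hk h1' (fun g hg => by
          have := h2' g hg; rwa [inv_inv] at this) hy)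
    · exfalso
      obtain ⟨g, hg, hg'⟩ := hne
      have h3 := h2 _ (h1 g hg)
      apply hg'
      have : k⁻¹ * (k * g * k⁻¹) * k⁻¹⁻¹ = g := by group
      rwa [this] at h3
  · rcases h2 with ⟨h2, h2'⟩ | ⟨h2, h2'⟩
    · exfalso
      obtain ⟨g, hg, hg'⟩ := hne
      have h3 := h2' _ (h1 g hg)
      apply hg'
      have : k⁻¹ * (k * g * k⁻¹) * k⁻¹⁻¹ = g := by group
      rwa [this] at h3
    · apply conj_Sh_aux B I _ _ hx
      · intro y hy
        exact hV2 (I.core.conj_V1 I.core.swap rfl (centTwo B) hk h1 (fun g hg => by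
          have := h2' g hg; rwa [inv_inv] at this) hy)
      · intro y hy
        exact hV1 (I.core.swap.conj_V1 I.core rfl (centOne B) hk h1' (fun g hg => by
          have := h2 g hg; rwa [inv_inv] at this) hy)

/-- **`T` normalises `Û`.** -/
theorem T_norm : T ≤ normalizer ((Psi B I).range : Set G) := by
  intro y hy
  apply mem_normalizer_of_conj_le
  rintro _ ⟨u, rfl⟩
  have hyN : y ∈ NO A t := B.hyp.T_le hy
  have hyt : y * t = t * y := B.hyp.isT.cent y hy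
  have hk : pr A t ⟨y, hyN⟩ * B.hyp.tX = B.hyp.tX * pr A t ⟨y, hyN⟩ := B.hyp.pr_comm_iff.2 hyt
  have hact : Act B (pr A t ⟨y, hyN⟩) ∧ Act B (pr A t ⟨y, hyN⟩)⁻¹ := by
    rcases B.sit.had.cases hy with ⟨σ, h1⟩ | ⟨σ, h1⟩
    · refine ⟨Or.inl (act_of_ft B hyN h1), Or.inl ?_⟩
      have h2 := act_of_ft B (inv_mem hyN) (h1.inv B.hyp.hZ)
      have e : pr A t ⟨y⁻¹, inv_mem hyN⟩ = (pr A t ⟨y, hyN⟩)⁻¹ := by rw [← map_inv]; rfl
      rw [e] at h2
      exact h2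
    · refine ⟨Or.inr (act_of_gt B hyN h1), Or.inr ?_⟩
      have h2 := act_of_gt B (inv_mem hyN) (h1.inv B.hyp.hZ)
      have e : pr A t ⟨y⁻¹, inv_mem hyN⟩ = (pr A t ⟨y, hyN⟩)⁻¹ := by rw [← map_inv]; rfl
      rw [e] at h2
      exact h2
  obtain ⟨v, hv⟩ := I.K.exists_toHom I.core (conj_Sh B I hk hact.1 hact.2 (I.K.toHom_mem I.core u))
  exact ⟨v, (Psi_conj B I ⟨y, hyN⟩ hv.symm).symm⟩

end Cfsg.Agent.StdRank2.L3Psi
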