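import Cfsg.Agent.StdRank2.L3Roots
import Cfsg.Agent.StdRank2.L3Inst
import Cfsg.Agent.StdSpFour.Lift

/-!
# Lifting the grown root system from `X = N_G(O) / O` to `G`
-/

set_option autoImplicit false
set_option linter.unusedSectionVars false

namespace Cfsg.Agent.StdRank2.L3RLift

open Subgroup Cfsg.Agent.StdRank2.FrameL3 Cfsg.Agent.StdRank2.L3G Quad Cfsg.Agent.StdRank2.L3X
open Cfsg.Agent.StdRank2.L3Roots Cfsg.Agent.StdRank2.L3Inst
open Cfsg.Agent.StdEven.CoreQuot Cfsg.Agent.StdSpFour.Lift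

variable {G : Type*} [Group G] [Finite G] {A : Subgroup G} {t : G} {T : Subgroup G}

section Calculus

theorem two_map {N M : Type*} [Group N] [Group M] {x : N} (h : Two x) (f : N →* M) : Two (f x) := by
  obtain ⟨k, hk⟩ := h
  exact ⟨k, by rw [← map_pow, hk, map_one]⟩

theorem two_mul' {N : Type*} [Group N] {x y : N} (hx : Two x) (hy : Two y) (h : x * y = y * x) :
    Two (x * y) := by
  obtain ⟨a, ha⟩ := hx
  obtain ⟨b, hb⟩ := hy
  refine ⟨a + b, ?_⟩
  have h1 : Commute x y := h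
  rw [h1.mul_pow, pow_add, pow_mul, ha, one_pow, one_mul, mul_comm (2 ^ a), pow_mul, hb, one_pow]

theorem two_of_sq {N : Type*} [Group N] {x : N} (h : x * x = 1) : Two x := ⟨1, by rw [pow_one, pow_two, h]⟩

variable (H : Hyp A t T)
include H

theorem exists_lf {x : XQ A t} (hx : x ∈ Cb A t) (h2 : Two x) :
    ∃ n : ↥(NO A t), n ∈ C (pr A t) ∧ Two (n : G) ∧ pr A t n = x := by
  have hP : IsPGroup 2 (zpowers x) := by
    rintro ⟨y, hy⟩
    obtain ⟨k, hk⟩ := h2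
    obtain ⟨m, hm⟩ := mem_zpowers_iff.1 hy
    refine ⟨k, Subtype.ext ?_⟩
    show y ^ 2 ^ k = 1
    rw [← hm, ← zpow_natCast, ← zpow_mul, mul_comm, zpow_mul, zpow_natCast, hk, one_zpow]
  obtain ⟨i, hi, h1, h3, h4, -, -⟩ := exists_lift_core H hP (zpowers x).subtype (fun y => by
    obtain ⟨m, hm⟩ := mem_zpowers_iff.1 y.2
    show (y : XQ A t) ∈ Cb A t
    rw [← hm]
    exact zpow_mem hx m)
  refine ⟨⟨i ⟨x, mem_zpowers x⟩, hi _⟩, mem_C.2 (h3 _), h4 _, h1 _⟩

open Classical in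
/-- the lift of a 2-element of `Cb`. -/
noncomputable def lf (_ : Hyp A t T) (x : XQ A t) : G :=
  if h : ∃ n : ↥(NO A t), n ∈ C (pr A t) ∧ Two (n : G) ∧ pr A t n = x then (h.choose : G) else 1

variable {x y : XQ A t}

theorem lf_mem (hx : x ∈ Cb A t) (h2 : Two x) : lf H x ∈ NO A t := by
  have h := exists_lf H hx h2
  rw [lf, dif_pos h]
  exact h.choose.2

theorem lf_def (h : ∃ n : ↥(NO A t), n ∈ C (pr A t) ∧ Two (n : G) ∧ pr A t n = x) :
    lf H x = (h.choose : G) := by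
  unfold lf
  rw [dif_pos h]

theorem pr_lf (hx : x ∈ Cb A t) (h2 : Two x) : pr A t ⟨lf H x, lf_mem H hx h2⟩ = x := by
  have h := exists_lf H hx h2
  have e : (⟨lf H x, lf_mem H hx h2⟩ : ↥(NO A t)) = h.choose := Subtype.ext (lf_def H h)
  rw [e]
  exact h.choose_spec.2.2

theorem lf_mem_C (hx : x ∈ Cb A t) (h2 : Two x) : (⟨lf H x, lf_mem H hx h2⟩ : ↥(NO A t)) ∈ C (pr A t) := by
  have h := exists_lf H hx h2
  have e : (⟨lf H x, lf_mem H hx h2⟩ : ↥(NO A t)) = h.choose := Subtype.ext (lf_def H h)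
  rw [e]
  exact h.choose_spec.1

theorem lf_comm (hx : x ∈ Cb A t) (h2 : Two x) {o : G} (ho : o ∈ core A t) : o * lf H x = lf H x * o :=
  mem_C.1 (lf_mem_C H hx h2) o ho

theorem two_lf (hx : x ∈ Cb A t) (h2 : Two x) : Two (lf H x) := by
  have h := exists_lf H hx h2
  rw [lf, dif_pos h]
  exact h.choose_spec.2.1

theorem lf_eq (hx : x ∈ Cb A t) (h2 : Two x) {n : ↥(NO A t)} (hn : Two (n : G)) (e : pr A t n = x) :
    lf H x = n := by
  obtain ⟨a, ha⟩ := two_lf H hx h2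
  obtain ⟨b, hb⟩ := hn
  have h1 := unique (pr A t) H.odd_ker (lf_mem_C H hx h2) ⟨a, Subtype.ext ha⟩ ⟨b, Subtype.ext hb⟩
    ((pr_lf H hx h2).trans e.symm)
  exact congrArg Subtype.val h1

theorem lf_conj (hx : x ∈ Cb A t) (h2 : Two x) (g : ↥(NO A t)) :
    (g : G) * lf H x * (g : G)⁻¹ = lf H (pr A t g * x * (pr A t g)⁻¹) := by
  symm
  refine lf_eq H (Cb_conj hx _) (h2.conj _) (n := g * ⟨lf H x, lf_mem H hx h2⟩ * g⁻¹) ?_ ?_
  · exact (two_lf H hx h2).conj _
  · rw [map_mul, map_mul, map_inv, pr_lf H hx h2]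

theorem lf_comm_of (hx : x ∈ Cb A t) (h2 : Two x) (hy : y ∈ Cb A t) (hy2 : Two y) (h : x * y = y * x) :
    lf H x * lf H y = lf H y * lf H x := by
  have h1 := lf_conj H hy hy2 ⟨lf H x, lf_mem H hx h2⟩
  rw [pr_lf H hx h2, h, mul_inv_cancel_right] at h1
  exact mul_inv_eq_iff_eq_mul.1 h1

theorem lf_mul (hx : x ∈ Cb A t) (h2 : Two x) (hy : y ∈ Cb A t) (hy2 : Two y) (h : x * y = y * x) :
    lf H (x * y) = lf H x * lf H y := by
  refine lf_eq H (mul_mem hx hy) (two_mul' h2 hy2 h)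
    (n := ⟨lf H x, lf_mem H hx h2⟩ * ⟨lf H y, lf_mem H hy hy2⟩) ?_ ?_
  · exact two_mul' (two_lf H hx h2) (two_lf H hy hy2) (lf_comm_of H hx h2 hy hy2 h)
  · rw [map_mul, pr_lf H hx h2, pr_lf H hy hy2]

theorem lf_conj_lf (hx : x ∈ Cb A t) (h2 : Two x) (hy : y ∈ Cb A t) (hy2 : Two y) :
    lf H x * lf H y * (lf H x)⁻¹ = lf H (x * y * x⁻¹) := by
  have h1 := lf_conj H hy hy2 ⟨lf H x, lf_mem H hx h2⟩
  rw [pr_lf H hx h2] at h1
  exact h1

theorem lf_A {a : G} (ha : a ∈ A) (h2 : Two a) : lf H (pr A t ⟨a, H.A_le ha⟩) = a := by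
  refine lf_eq H ⟨_, A_mem_C H ha, rfl⟩ ?_ (n := ⟨a, H.A_le ha⟩) h2 rfl
  exact two_map (x := (⟨a, H.A_le ha⟩ : ↥(NO A t))) (by
    obtain ⟨k, hk⟩ := h2
    exact ⟨k, Subtype.ext hk⟩) _

theorem lf_eq_one (hx : x ∈ Cb A t) (h2 : Two x) (h : lf H x = 1) : x = 1 := by
  have h1 := pr_lf H hx h2
  have h3 : (⟨lf H x, lf_mem H hx h2⟩ : ↥(NO A t)) = 1 := Subtype.ext h
  rw [h3, map_one] at h1
  exact h1.symm

end Calculus

section Main

variable {L : Subgroup G} {F : Type*} [Field F] [Finite F] [CharP F 2] {fr : FrameL3 A F}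
  (B : Both L A t T fr) {g : F} (R : Roots B.hyp.tX B.frX g)

theorem frX_mem {i j : Fin 3} (hij : i ≠ j) (s : F) : B.frX.x i j s ∈ Cb A t := by
  rw [B.frX_x i j hij]
  exact ⟨_, A_mem_C B.hyp (fr.mem hij s), rfl⟩

theorem exists_third : ∀ i j : Fin 3, i ≠ j → ∃ k : Fin 3, i ≠ k ∧ k ≠ j := by decide

theorem y_mem {i j : Fin 3} (hij : i ≠ j) (u : Q g) : R.y i j u ∈ Cb A t := by
  obtain ⟨k, hik, hkj⟩ := exists_third i j hij
  have h1 := R.conj hik hkj hij 1 u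
  rw [one_mul] at h1
  have h2 : R.y i j u = R.y i k 1 * R.y k j u * (R.y i k 1)⁻¹ * (R.y k j u)⁻¹ := by rw [h1]; group
  rw [h2]
  apply Cb_comm
  have h3 : (1 : Q g) = con 1 := rfl
  rw [h3, R.con hik]
  exact frX_mem B hik 1

theorem sq {i j : Fin 3} (hij : i ≠ j) (u : Q g) : R.y i j u * R.y i j u = 1 := by
  rw [← R.add hij]
  have h1 : u + u = 0 := by
    have := two_eq_zero (g := g)
    rw [← two_mul, this, zero_mul]
  have h2 := R.con hij 0
  rw [h1, ← con_zero, h2, B.frX.x_zero B.xsit.hZ hij]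

theorem y_two {i j : Fin 3} (hij : i ≠ j) (u : Q g) : Two (R.y i j u) := two_of_sq (sq B R hij u)

/-- **The root system in `G`.** -/
noncomputable def roots : Roots t fr g where
  y i j u := lf B.hyp (R.y i j u)
  add {i j} hij u v := by
    rw [R.add hij, lf_mul B.hyp (y_mem B R hij u) (y_two B R hij u) (y_mem B R hij v)
      (y_two B R hij v) (R.comm hij hij hij.symm hij u v)]
  con {i j} hij s := by
    rw [R.con hij, B.frX_x i j hij]
    exact lf_A B.hyp (fr.mem hij s) (two_of_sq (fr.two hij s))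
  tau {i j} hij u := by
    rw [← R.tau hij]
    exact lf_conj B.hyp (y_mem B R hij u) (y_two B R hij u) ⟨t, B.hyp.t_mem⟩
  inj {i j} hij u hu := R.inj hij u (lf_eq_one B.hyp (y_mem B R hij u) (y_two B R hij u) hu)
  wey σ := by
    obtain ⟨n, hn, h1, h2⟩ := R.wey σ
    obtain ⟨a, ha, rfl⟩ := mem_im.mp hn
    refine ⟨a, ha, fun {i j} hij u => ?_, fun {i j} hij u => ?_⟩
    · rw [← h1 hij u]
      exact lf_conj B.hyp (y_mem B R hij u) (y_two B R hij u) a
    · have hσ : σ i ≠ σ j := fun hh => hij (σ.injective hh)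
      have h3 := lf_A B.hyp (fr.mem hij u) (two_of_sq (fr.two hij u))
      have h4 := lf_A B.hyp (fr.mem hσ u) (two_of_sq (fr.two hσ u))
      rw [← B.frX_x i j hij] at h3
      rw [← B.frX_x _ _ hσ] at h4
      rw [← h3, ← h4, ← h2 hij u]
      exact lf_conj B.hyp (frX_mem B hij u) (two_of_sq (B.frX.two hij u)) a
  comm {i j k l} hij hkl hjk hil u v :=
    lf_comm_of B.hyp (y_mem B R hij u) (y_two B R hij u) (y_mem B R hkl v) (y_two B R hkl v)
      (R.comm hij hkl hjk hil u v)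
  conj {i j k} hij hjk hik u v := by
    rw [lf_conj_lf B.hyp (y_mem B R hij u) (y_two B R hij u) (y_mem B R hjk v) (y_two B R hjk v),
      R.conj hij hjk hik, lf_mul B.hyp (y_mem B R hik _) (y_two B R hik _) (y_mem B R hjk v)
      (y_two B R hjk v) (R.comm hik hjk hjk.symm hik _ v)]
  opp {i j} hij u v huv :=
    lf_comm_of B.hyp (y_mem B R hij u) (y_two B R hij u) (y_mem B R hij.symm v) (y_two B R hij.symm v)
      (R.opp hij u v huv)

theorem roots_y (i j : Fin 3) (u : Q g) : (roots B R).y i j u = lf B.hyp (R.y i j u) := rfl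

/-- the root elements centralise the core. -/
theorem roots_comm {i j : Fin 3} (hij : i ≠ j) (u : Q g) {o : G} (ho : o ∈ core A t) :
    o * (roots B R).y i j u = (roots B R).y i j u * o :=
  lf_comm B.hyp (y_mem B R hij u) (y_two B R hij u) ho

theorem roots_mem {i j : Fin 3} (hij : i ≠ j) (u : Q g) : (roots B R).y i j u ∈ NO A t :=
  lf_mem B.hyp (y_mem B R hij u) (y_two B R hij u)

theorem pr_roots {i j : Fin 3} (hij : i ≠ j) (u : Q g) :
    pr A t ⟨(roots B R).y i j u, roots_mem B R hij u⟩ = R.y i j u :=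
  pr_lf B.hyp (y_mem B R hij u) (y_two B R hij u)

/-- conjugation by elements of `N_G(O)`. -/
theorem roots_conj {i j : Fin 3} (hij : i ≠ j) (u : Q g) (n : ↥(NO A t)) :
    (n : G) * (roots B R).y i j u * (n : G)⁻¹ = lf B.hyp (pr A t n * R.y i j u * (pr A t n)⁻¹) :=
  lf_conj B.hyp (y_mem B R hij u) (y_two B R hij u) n

end Main

end Cfsg.Agent.StdRank2.L3RLift
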