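import Mathlib

/-!
# S1778, Lemma W' (blueprint S1778-L3, 5.4)

`S ≤ Y ≤ G`, `ε : Y →* A` with `A` an elementary abelian 2-group.  If for every `g ∉ Y` the group
`Q = S ∩ gYg⁻¹` has a "good" element `v ∈ N_S(Q) - Q` (`v² ∈ Q`, the character `ε^g` of `Q` is trivial on `v²` and
on `[Q, v]`), then the transfer of `ε` to `G` agrees with `ε` on `S`.
-/

set_option autoImplicit false

namespace Cfsg.Agent.StdRank2.LemmaWp

open Subgroup MulAction

section cocycle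

variable {G : Type*} [Group G] {Y : Subgroup G} {A : Type*} [CommGroup A] (ε : Y →* A)

open Classical in
/-- `ε` extended by `1`. -/
noncomputable def ext (g : G) : A := if h : g ∈ Y then ε ⟨g, h⟩ else 1

theorem ext_of {g : G} (h : g ∈ Y) : ext ε g = ε ⟨g, h⟩ := dif_pos h

theorem ext_mul {a b : G} (ha : a ∈ Y) (hb : b ∈ Y) : ext ε (a * b) = ext ε a * ext ε b := by
  rw [ext_of ε ha, ext_of ε hb, ext_of ε (Y.mul_mem ha hb), ← map_mul]
  rfl

theorem ext_one : ext ε 1 = 1 := by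
  rw [ext_of ε Y.one_mem]
  exact map_one ε

theorem ext_inv {a : G} (ha : a ∈ Y) : ext ε a⁻¹ = (ext ε a)⁻¹ := by
  rw [eq_inv_iff_mul_eq_one, ← ext_mul ε (Y.inv_mem ha) ha, inv_mul_cancel, ext_one]

theorem ext_conj {a u : G} (ha : a ∈ Y) (hu : u ∈ Y) : ext ε (u⁻¹ * a * u) = ext ε a := by
  rw [ext_mul ε (Y.mul_mem (Y.inv_mem hu) ha) hu, ext_mul ε (Y.inv_mem hu) ha, ext_inv ε hu]
  rw [mul_comm (ext ε u)⁻¹, mul_assoc, inv_mul_cancel, mul_one]

theorem mem_c (x : G) (q : G ⧸ Y) : (x • q).out⁻¹ * x * q.out ∈ Y := by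
  rw [mul_assoc, ← QuotientGroup.eq]
  rw [QuotientGroup.out_eq']
  conv_lhs => rw [← QuotientGroup.out_eq' q]
  rfl

/-- The cocycle of `ε`. -/
noncomputable def c (x : G) (q : G ⧸ Y) : A := ext ε ((x • q).out⁻¹ * x * q.out)

theorem c_mul (x y : G) (q : G ⧸ Y) : c ε (x * y) q = c ε x (y • q) * c ε y q := by
  unfold c
  rw [← ext_mul ε (mem_c x (y • q)) (mem_c y q), mul_smul]
  congr 1
  group

theorem c_one (q : G ⧸ Y) : c ε 1 q = 1 := by
  have h := c_mul ε 1 1 q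
  rw [mul_one, one_smul] at h
  exact left_eq_mul.1 h

theorem c_mk {y g : G} (h : g⁻¹ * y * g ∈ Y) : c ε y (g : G ⧸ Y) = ext ε (g⁻¹ * y * g) := by
  unfold c
  have h1 : y • (g : G ⧸ Y) = (g : G ⧸ Y) := by
    rw [MulAction.Quotient.smul_coe, smul_eq_mul, eq_comm, QuotientGroup.eq, ← mul_assoc]
    exact h
  rw [h1]
  obtain ⟨u, hu⟩ := QuotientGroup.mk_out_eq_mul Y g
  rw [hu, ← ext_conj ε h u.2]
  congr 1
  group

theorem smul_mk_iff {y g : G} : y • (g : G ⧸ Y) = (g : G ⧸ Y) ↔ g⁻¹ * y * g ∈ Y := by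
  rw [MulAction.Quotient.smul_coe, smul_eq_mul, eq_comm, QuotientGroup.eq, ← mul_assoc]

/-- The transfer of `ε` as a product over the cosets. -/
noncomputable def V [Fintype (G ⧸ Y)] : G →* A where
  toFun x := ∏ q, c ε x q
  map_one' := by simp [c_one]
  map_mul' x y := by
    simp_rw [c_mul, Finset.prod_mul_distrib]
    congr 1
    exact Fintype.prod_equiv (MulAction.toPerm y) _ _ fun _ => rfl

end cocycle

/-- The pairing lemma. -/
theorem prod_pair {X A : Type*} [Fintype X] [CommGroup A] (π τ : Equiv.Perm X) (c d : X → A)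
    (hτ : ∀ q, τ (τ q) = q) (hne : ∀ q, τ q ≠ q) (hπ : ∀ q, τ (π q) = π (τ q))
    (hc : ∀ q, c q * c (τ q) * d q = d (π q)) (hd : ∀ q, d (τ q) = d q) : ∏ q, c q = 1 := by
  classical
  let r : Setoid X :=
    { r := fun a b => a = b ∨ a = τ b
      iseqv :=
        { refl := fun a => Or.inl rfl
          symm := by
            rintro a b (h | h)
            · exact Or.inl h.symm
            · exact Or.inr (by rw [h, hτ])
          trans := by
            rintro a b e (rfl | rfl) (rfl | rfl)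
            · exact Or.inl rfl
            · exact Or.inr rfl
            · exact Or.inr rfl
            · exact Or.inl (hτ _) } }
  have hrel : ∀ a b : X, (Quotient.mk r a = Quotient.mk r b) ↔ (a = b ∨ a = τ b) :=
    fun a b => ⟨fun h => Quotient.exact h, fun h => Quotient.sound h⟩
  have hfib : ∀ z : Quotient r, (Finset.univ.filter fun q => Quotient.mk r q = z) = {z.out, τ z.out} := by
    intro z
    ext q
    simp only [Finset.mem_filter, Finset.mem_univ, true_and, Finset.mem_insert, Finset.mem_singleton]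
    conv_lhs => rw [← Quotient.out_eq z]
    exact hrel q z.out
  let D : Quotient r → A := Quotient.lift d (by
    rintro a b (rfl | rfl)
    · rfl
    · exact hd b)
  let Pm : Quotient r → Quotient r := Quotient.map π (by
    rintro a b (rfl | rfl)
    · exact Or.inl rfl
    · exact Or.inr (hπ b).symm)
  have hPm : Function.Bijective Pm := by
    rw [← Finite.injective_iff_bijective]
    intro a b h
    induction a using Quotient.inductionOn with | _ a =>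
    induction b using Quotient.inductionOn with | _ b =>
    have h1 : Quotient.mk r (π a) = Quotient.mk r (π b) := h
    rw [hrel] at h1 ⊢
    rcases h1 with h1 | h1
    · exact Or.inl (π.injective h1)
    · exact Or.inr (π.injective (by rw [h1, hπ]))
  have h1 : ∏ q, c q = ∏ z : Quotient r, (c z.out * c (τ z.out)) := by
    rw [← Finset.prod_fiberwise Finset.univ (fun q => Quotient.mk r q) c]
    refine Finset.prod_congr rfl fun z _ => ?_
    rw [hfib z, Finset.prod_pair (hne z.out).symm]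
  have h2 : ∀ z : Quotient r, c z.out * c (τ z.out) * D z = D (Pm z) := by
    intro z
    have e1 : D z = d z.out := by
      conv_lhs => rw [← Quotient.out_eq z]
      rfl
    have e2 : D (Pm z) = d (π z.out) := by
      conv_lhs => rw [← Quotient.out_eq z]
      rfl
    rw [e1, e2, hc]
  have h3 : (∏ z : Quotient r, (c z.out * c (τ z.out))) * ∏ z, D z = ∏ z, D z := by
    rw [← Finset.prod_mul_distrib]
    calc ∏ z : Quotient r, c z.out * c (τ z.out) * D z = ∏ z : Quotient r, D (Pm z) :=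
          Finset.prod_congr rfl fun z _ => h2 z
      _ = ∏ z, D z := Fintype.prod_bijective Pm hPm _ _ fun _ => rfl
  rw [h1]
  exact mul_eq_right.1 h3

section main

variable {G : Type*} [Group G] {Y S : Subgroup G} {A : Type*} [CommGroup A] (ε : Y →* A)

/-- The good element at the point `q`. -/
structure Good (S : Subgroup G) (q : G ⧸ Y) (v : G) : Prop where
  mem : v ∈ S
  ne : v • q ≠ q
  nrm : ∀ s ∈ S, s • q = q → (v⁻¹ * s * v) • q = q
  sq : (v * v) • q = q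
  sq1 : c ε (v * v) q = 1
  comm : ∀ s ∈ S, s • q = q → c ε (v⁻¹ * s * v) q = c ε s q

variable {ε}

theorem Good.c_eq {q : G ⧸ Y} {v : G} (h : Good ε S q v) {y : G} (hy : y ∈ S) (hq : y • q = q) :
    c ε y (v • q) = c ε y q := by
  have h1 : c ε (y * v) q = c ε y (v • q) * c ε v q := c_mul ε y v q
  have h2 : c ε (v * (v⁻¹ * y * v)) q = c ε v q * c ε y q := by
    rw [c_mul, h.nrm y hy hq, h.comm y hy hq]
  have h3 : v * (v⁻¹ * y * v) = y * v := by group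
  rw [h3, h1, mul_comm] at h2
  exact mul_left_cancel h2

theorem Good.smul_eq {q : G ⧸ Y} {v : G} (h : Good ε S q v) {y : G} (hy : y ∈ S) (hq : y • q = q) :
    y • v • q = v • q := by
  have h1 : y • v • q = v • (v⁻¹ * y * v) • q := by
    rw [← mul_smul, ← mul_smul]
    congr 1
    group
  rw [h1, h.nrm y hy hq]

theorem Good.smul_eq' {q : G ⧸ Y} {v : G} (h : Good ε S q v) {s s' : G} (hs : s ∈ S) (hs' : s' ∈ S)
    (hq : s • q = s' • q) : s • v • q = s' • v • q := by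
  have h1 : (s'⁻¹ * s) • q = q := by rw [mul_smul, hq, inv_smul_smul]
  have h2 := h.smul_eq (S.mul_mem (S.inv_mem hs') hs) h1
  have h3 : s' • (s'⁻¹ * s) • v • q = s' • v • q := by rw [h2]
  rwa [← mul_smul, mul_inv_cancel_left] at h3

theorem Good.c_eq' (hA : ∀ a : A, a * a = 1) {q : G ⧸ Y} {v : G} (h : Good ε S q v) {s s' : G}
    (hs : s ∈ S) (hs' : s' ∈ S) (hq : s • q = s' • q) :
    c ε s q * c ε s (v • q) = c ε s' q * c ε s' (v • q) := by
  have h1 : (s'⁻¹ * s) • q = q := by rw [mul_smul, hq, inv_smul_smul]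
  have hm := S.mul_mem (S.inv_mem hs') hs
  have h2 := h.smul_eq hm h1
  have h3 := h.c_eq hm h1
  have e1 : c ε s q = c ε s' q * c ε (s'⁻¹ * s) q := by
    have := c_mul ε s' (s'⁻¹ * s) q
    rwa [mul_inv_cancel_left, h1] at this
  have e2 : c ε s (v • q) = c ε s' (v • q) * c ε (s'⁻¹ * s) q := by
    have := c_mul ε s' (s'⁻¹ * s) (v • q)
    rwa [mul_inv_cancel_left, h2, h3] at this
  rw [e1, e2, mul_mul_mul_comm, hA, mul_one]

theorem V_eq [Fintype (G ⧸ Y)] (hA : ∀ a : A, a * a = 1) (hSY : S ≤ Y)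
    (hloc : ∀ q : G ⧸ Y, q ≠ ((1 : G) : G ⧸ Y) → ∃ v, Good ε S q v) {x : G} (hx : x ∈ S) :
    V ε x = ext ε x := by
  classical
  set b : G ⧸ Y := ((1 : G) : G ⧸ Y) with hb
  have hfix : ∀ s ∈ S, s • b = b := fun s hs => by
    rw [hb, smul_mk_iff]
    simpa using hSY hs
  -- representatives
  have hp : ∃ p : G ⧸ Y → G ⧸ Y, (∀ q, ∃ s ∈ S, s • p q = q) ∧ ∀ s ∈ S, ∀ q, p (s • q) = p q := by
    refine ⟨fun q => (Quotient.mk (orbitRel S (G ⧸ Y)) q).out, ?_, ?_⟩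
    · intro q
      have h1 : (orbitRel S (G ⧸ Y)) q (Quotient.mk (orbitRel S (G ⧸ Y)) q).out :=
        (orbitRel S (G ⧸ Y)).symm (Quotient.mk_out q)
      rw [orbitRel_apply] at h1
      obtain ⟨s, hs⟩ := h1
      exact ⟨s, s.2, hs⟩
    · intro s hs q
      have h1 : Quotient.mk (orbitRel S (G ⧸ Y)) (s • q) = Quotient.mk (orbitRel S (G ⧸ Y)) q := by
        apply Quotient.sound
        change (orbitRel S (G ⧸ Y)) (s • q) q
        rw [orbitRel_apply]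
        exact ⟨⟨s, hs⟩, rfl⟩
      simp only [h1]
  obtain ⟨p, hp1, hp2⟩ := hp
  choose σ hσ hσp using hp1
  have hpb : ∀ q, q ≠ b → p q ≠ b := by
    intro q hq h
    apply hq
    rw [← hσp q, h, hfix _ (hσ q)]
  have hv : ∃ v : G ⧸ Y → G, ∀ q, q ≠ b → Good ε S q (v q) := by
    refine ⟨fun q => if h : q ≠ b then (hloc q h).choose else 1, fun q hq => ?_⟩
    simp only [hq, ne_eq, not_false_eq_true, dite_true]
    exact (hloc q hq).choose_spec
  obtain ⟨v, hv⟩ := hv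
  let T : G ⧸ Y → G ⧸ Y := fun q => σ q • v (p q) • p q
  let d : G ⧸ Y → A := fun q => c ε (σ q) (p q) * c ε (σ q) (v (p q) • p q)
  have hT : ∀ q, q ≠ b → ∀ s ∈ S, s • p q = q → T q = s • v (p q) • p q := by
    intro q hq s hs h
    exact (hv _ (hpb q hq)).smul_eq' (hσ q) hs (by rw [hσp, h])
  have hd : ∀ q, q ≠ b → ∀ s ∈ S, s • p q = q → d q = c ε s (p q) * c ε s (v (p q) • p q) := by
    intro q hq s hs h
    exact (hv _ (hpb q hq)).c_eq' hA (hσ q) hs (by rw [hσp, h])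
  have hxb : ∀ s ∈ S, ∀ q, q ≠ b → s • q ≠ b := by
    intro s hs q hq h
    apply hq
    rw [← hfix s hs] at h
    exact smul_left_cancel s h
  -- `T` and `d` under `S`
  have hT1 : ∀ s ∈ S, ∀ q, q ≠ b → T (s • q) = s • T q := by
    intro s hs q hq
    rw [hT (s • q) (hxb s hs q hq) (s * σ q) (S.mul_mem hs (hσ q)) (by rw [hp2 s hs, mul_smul, hσp]),
      hp2 s hs, mul_smul]
  have hd1 : ∀ s ∈ S, ∀ q, q ≠ b → c ε s q * c ε s (T q) * d q = d (s • q) := by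
    intro s hs q hq
    rw [hd (s • q) (hxb s hs q hq) (s * σ q) (S.mul_mem hs (hσ q)) (by rw [hp2 s hs, mul_smul, hσp]),
      hp2 s hs, c_mul, c_mul, hσp, mul_mul_mul_comm]
  have hpT : ∀ q, q ≠ b → p (T q) = p q := by
    intro q hq
    have hg := hv _ (hpb q hq)
    change p (σ q • v (p q) • p q) = p q
    rw [hp2 _ (hσ q), hp2 _ hg.mem]
    conv_rhs => rw [← hσp q, hp2 _ (hσ q)]
  have hTb : ∀ q, q ≠ b → T q ≠ b := by
    intro q hq
    have hg := hv _ (hpb q hq)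
    exact hxb _ (hσ q) _ (hxb _ hg.mem _ (hpb q hq))
  have hTT : ∀ q, q ≠ b → T (T q) = q := by
    intro q hq
    have hg := hv _ (hpb q hq)
    rw [hT (T q) (hTb q hq) (σ q * v (p q)) (S.mul_mem (hσ q) hg.mem) (by rw [hpT q hq, mul_smul]),
      hpT q hq, mul_smul, ← mul_smul (v (p q)) (v (p q)), hg.sq, hσp]
  have hdT : ∀ q, q ≠ b → d (T q) = d q := by
    intro q hq
    have hg := hv _ (hpb q hq)
    rw [hd (T q) (hTb q hq) (σ q * v (p q)) (S.mul_mem (hσ q) hg.mem) (by rw [hpT q hq, mul_smul]),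
      hpT q hq, c_mul, c_mul, ← mul_smul (v (p q)) (v (p q)), hg.sq]
    have h1 := hg.sq1
    rw [c_mul] at h1
    change c ε (σ q) (v (p q) • p q) * c ε (v (p q)) (p q) * (c ε (σ q) (p q) * c ε (v (p q)) (v (p q) • p q)) =
      c ε (σ q) (p q) * c ε (σ q) (v (p q) • p q)
    calc _ = c ε (σ q) (p q) * c ε (σ q) (v (p q) • p q) * (c ε (v (p q)) (v (p q) • p q) * c ε (v (p q)) (p q)) := by
          ac_rfl
      _ = _ := by rw [h1, mul_one]
  have hTne : ∀ q, q ≠ b → T q ≠ q := by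
    intro q hq h
    have hg := hv _ (hpb q hq)
    apply hg.ne
    have h1 : σ q • v (p q) • p q = σ q • p q := by rw [hσp]; exact h
    exact smul_left_cancel _ h1
  -- the product
  let π : Equiv.Perm {q : G ⧸ Y // q ≠ b} :=
    { toFun := fun q => ⟨x • q.1, hxb x hx _ q.2⟩
      invFun := fun q => ⟨x⁻¹ • q.1, hxb _ (S.inv_mem hx) _ q.2⟩
      left_inv := fun q => Subtype.ext (inv_smul_smul x q.1)
      right_inv := fun q => Subtype.ext (smul_inv_smul x q.1) }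
  let τ : Equiv.Perm {q : G ⧸ Y // q ≠ b} :=
    { toFun := fun q => ⟨T q.1, hTb _ q.2⟩
      invFun := fun q => ⟨T q.1, hTb _ q.2⟩
      left_inv := fun q => Subtype.ext (hTT _ q.2)
      right_inv := fun q => Subtype.ext (hTT _ q.2) }
  have key := prod_pair π τ (fun q => c ε x q.1) (fun q => d q.1)
    (fun q => Subtype.ext (hTT _ q.2)) (fun q h => hTne _ q.2 (congrArg Subtype.val h))
    (fun q => Subtype.ext (hT1 x hx _ q.2)) (fun q => hd1 x hx _ q.2) (fun q => hdT _ q.2)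
  have hsplit : V ε x = c ε x b * ∏ q : {q : G ⧸ Y // q ≠ b}, c ε x q.1 := by
    change ∏ q, c ε x q = _
    rw [← Finset.mul_prod_erase Finset.univ _ (Finset.mem_univ b)]
    congr 1
    exact Finset.prod_subtype (Finset.univ.erase b) (fun q => by simp) _
  rw [hsplit, key, mul_one, hb, c_mk ε (by simpa using hSY hx)]
  simp

theorem exists_hom [Finite G] (hA : ∀ a : A, a * a = 1) (hSY : S ≤ Y)
    (hloc : ∀ q : G ⧸ Y, q ≠ ((1 : G) : G ⧸ Y) → ∃ v, Good ε S q v) :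
    ∃ f : G →* A, ∀ x ∈ S, f x = ext ε x := by
  classical
  have : Fintype (G ⧸ Y) := Fintype.ofFinite _
  exact ⟨V ε, fun x hx => V_eq hA hSY hloc hx⟩

/-- `Good` in terms of elements. -/
theorem Good.mk' (hSY : S ≤ Y) {g v : G} (hv : v ∈ S) (h1 : g⁻¹ * v * g ∉ Y)
    (h2 : ∀ s ∈ S, g⁻¹ * s * g ∈ Y → g⁻¹ * (v⁻¹ * s * v) * g ∈ Y)
    (h3 : g⁻¹ * (v * v) * g ∈ Y) (h4 : ext ε (g⁻¹ * (v * v) * g) = 1)
    (h5 : ∀ s ∈ S, g⁻¹ * s * g ∈ Y →
      ext ε (g⁻¹ * (v⁻¹ * s * v) * g) = ext ε (g⁻¹ * s * g)) :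
    Good ε S (g : G ⧸ Y) v where
  mem := hv
  ne := fun h => h1 (smul_mk_iff.1 h)
  nrm := fun s hs h => smul_mk_iff.2 (h2 s hs (smul_mk_iff.1 h))
  sq := smul_mk_iff.2 h3
  sq1 := by rw [c_mk ε h3, h4]
  comm := fun s hs h => by
    have h' := smul_mk_iff.1 h
    rw [c_mk ε h', c_mk ε (h2 s hs h'), h5 s hs h']

end main

/-- A normal subgroup `W` of the 2-group `S` which is not in `Q ≤ S` has an element outside `Q` normalising `Q`. -/
theorem exists_nrm {G : Type*} [Group G] [Finite G] {S Q W : Subgroup G} (hS : IsPGroup 2 S)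
    (hQ : Q ≤ S) (hW : W ≤ S) (hn : ∀ s ∈ S, ∀ w ∈ W, s * w * s⁻¹ ∈ W) (hWQ : ¬ W ≤ Q) :
    ∃ v ∈ W, v ∉ Q ∧ ∀ q ∈ Q, v⁻¹ * q * v ∈ Q := by
  have : Fact (Nat.Prime 2) := ⟨Nat.prime_two⟩
  have hWn : (W.subgroupOf S).Normal := ⟨fun w hw s => by
    rw [mem_subgroupOf] at hw ⊢
    exact hn _ s.2 _ hw⟩
  set Q' := Q.subgroupOf S
  set K := Q' ⊔ W.subgroupOf S with hK
  have hQK : Q' ≤ K := le_sup_left
  obtain ⟨w, hw, hwQ⟩ := SetLike.not_le_iff_exists.1 hWQ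
  have hwK : (⟨w, hW hw⟩ : S) ∈ K := by
    apply (le_sup_right : W.subgroupOf S ≤ K)
    rw [mem_subgroupOf]
    exact hw
  have hlt : Q'.subgroupOf K < ⊤ := by
    rw [lt_top_iff_ne_top]
    intro h
    have h1 : (⟨⟨w, hW hw⟩, hwK⟩ : K) ∈ Q'.subgroupOf K := by
      rw [h]
      exact mem_top _
    rw [mem_subgroupOf] at h1
    exact hwQ (by simpa [Q', mem_subgroupOf] using h1)
  have : Group.IsNilpotent K := (hS.to_subgroup K).isNilpotent
  obtain ⟨n, hn1, hn2⟩ := SetLike.exists_of_lt (Group.normalizerCondition_of_isNilpotent (Q'.subgroupOf K) hlt)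
  obtain ⟨q, hq, v, hv, hqv⟩ := mem_sup_of_normal_right.1 n.2
  have hq' : (q : G) ∈ Q := by simpa [Q', mem_subgroupOf] using hq
  have hv' : (v : G) ∈ W := by simpa [mem_subgroupOf] using hv
  have hnv : ((n : S) : G) = q * v := by rw [← hqv]; rfl
  refine ⟨v, hv', fun h => hn2 ?_, fun a ha => ?_⟩
  · rw [mem_subgroupOf, ← hqv]
    refine Q'.mul_mem hq ?_
    rw [mem_subgroupOf]
    exact h
  · -- `n` normalises `Q`
    have h1 : ∀ a ∈ Q, ((n : S) : G)⁻¹ * a * ((n : S) : G) ∈ Q := by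
      intro a ha
      have haK : (⟨a, hQ ha⟩ : S) ∈ K := hQK (by rw [mem_subgroupOf]; exact ha)
      have h2 := (mem_normalizer_iff''.1 hn1 ⟨⟨a, hQ ha⟩, haK⟩).1 (by
        rw [mem_subgroupOf, mem_subgroupOf]; exact ha)
      rw [mem_subgroupOf, mem_subgroupOf] at h2
      exact h2
    have h3 := h1 ((q : G) * a * (q : G)⁻¹) (Q.mul_mem (Q.mul_mem hq' ha) (Q.inv_mem hq'))
    rw [hnv] at h3
    have e : ((q : G) * v)⁻¹ * ((q : G) * a * (q : G)⁻¹) * (q * v) = (v : G)⁻¹ * a * v := by group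
    rwa [e] at h3

section index

variable {G : Type*} [Group G] {Y Y1 : Subgroup G}

open Classical in
/-- The character of `Y` with kernel `Y1`. -/
noncomputable def chi (hY1 : Y1 ≤ Y) (h2 : ∀ a ∈ Y, ∀ b ∈ Y, a ∉ Y1 → b ∉ Y1 → a * b ∈ Y1) : Y →* ℤˣ where
  toFun y := if (y : G) ∈ Y1 then 1 else -1
  map_one' := by simp
  map_mul' a b := by
    have ha := a.2
    have hb := b.2
    by_cases h1 : (a : G) ∈ Y1 <;> by_cases h3 : (b : G) ∈ Y1
    · simp [h1, h3, Y1.mul_mem h1 h3]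
    · have h4 : (a : G) * b ∉ Y1 := fun h => h3 (by
        have := Y1.mul_mem (Y1.inv_mem h1) h
        rwa [inv_mul_cancel_left] at this)
      simp [h1, h3, h4]
    · have h4 : (a : G) * b ∉ Y1 := fun h => h1 (by
        have := Y1.mul_mem h (Y1.inv_mem h3)
        rwa [mul_inv_cancel_right] at this)
      simp [h1, h3, h4]
    · simp [h1, h3, h2 _ ha _ hb h1 h3]

variable (hY1 : Y1 ≤ Y) (h2 : ∀ a ∈ Y, ∀ b ∈ Y, a ∉ Y1 → b ∉ Y1 → a * b ∈ Y1)

theorem ext_chi_of_mem {g : G} (h : g ∈ Y1) : ext (chi hY1 h2) g = 1 := by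
  rw [ext_of _ (hY1 h)]
  simp [chi, h]

theorem ext_chi_of_not_mem {g : G} (hg : g ∈ Y) (h : g ∉ Y1) : ext (chi hY1 h2) g = -1 := by
  rw [ext_of _ hg]
  simp [chi, h]

end index

/-- **Lemma W'.**  `S` a 2-subgroup of `Y`, `U` and `Z ≤ U` normal in `S`, `Z` of exponent 2, squares of `U` in `Z`.
Only the base point is a fixed point of `U` on `G/Y`; no element of `Z` lies in `Y^g - Y1^g` for `g ∉ Y`; if `Z ≤ Y^g`
then no element of `U` lies in `Y^g - Y1^g`.  Then there is a homomorphism `G → {±1}` which on `S` has kernel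
`S ∩ Y1`. -/
theorem exists_sign {G : Type*} [Group G] [Finite G] {Y Y1 S U Z : Subgroup G} (hY1 : Y1 ≤ Y)
    (h2 : ∀ a ∈ Y, ∀ b ∈ Y, a ∉ Y1 → b ∉ Y1 → a * b ∈ Y1)
    (hS : IsPGroup 2 S) (hSY : S ≤ Y) (hUS : U ≤ S) (hSU : ∀ s ∈ S, ∀ u ∈ U, s * u * s⁻¹ ∈ U)
    (hZU : Z ≤ U) (hSZ : ∀ s ∈ S, ∀ z ∈ Z, s * z * s⁻¹ ∈ Z) (hZ : ∀ z ∈ Z, z * z = 1)
    (hsq : ∀ u ∈ U, u * u ∈ Z) (hfix : ∀ g : G, (∀ u ∈ U, g⁻¹ * u * g ∈ Y) → g ∈ Y)
    (Fa : ∀ g : G, g ∉ Y → ∀ z ∈ Z, g⁻¹ * z * g ∈ Y → g⁻¹ * z * g ∈ Y1)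
    (Fb : ∀ g : G, g ∉ Y → (∀ z ∈ Z, g⁻¹ * z * g ∈ Y) → ∀ u ∈ U, g⁻¹ * u * g ∈ Y →
      g⁻¹ * u * g ∈ Y1) :
    ∃ f : G →* ℤˣ, ∀ x ∈ S, (f x = 1 ↔ x ∈ Y1) := by
  have hA : ∀ a : ℤˣ, a * a = 1 := Int.units_mul_self
  obtain ⟨f, hf⟩ := exists_hom (ε := chi hY1 h2) (S := S) hA hSY (by
    intro q hq
    obtain ⟨g, rfl⟩ := QuotientGroup.mk_surjective q
    have hg : g ∉ Y := by
      intro h
      apply hq
      rw [eq_comm, QuotientGroup.eq]
      simpa using h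
    -- the stabiliser
    let Q : Subgroup G := S ⊓ Y.comap (MulAut.conj g⁻¹).toMonoidHom
    have hQ : ∀ s, s ∈ Q ↔ s ∈ S ∧ g⁻¹ * s * g ∈ Y := by
      intro s
      simp [Q, mem_inf, mem_comap]
    have hQS : Q ≤ S := inf_le_left
    have main : ∀ W : Subgroup G, W ≤ U → (∀ s ∈ S, ∀ w ∈ W, s * w * s⁻¹ ∈ W) →
        (∀ w ∈ W, g⁻¹ * w * g ∈ Y → g⁻¹ * w * g ∈ Y1) → (∀ w ∈ W, g⁻¹ * (w * w) * g ∈ Y1) → ¬ W ≤ Q →
        ∃ v, Good (chi hY1 h2) S (g : G ⧸ Y) v := by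
      intro W hWU hSW hW1 hW2 hWQ
      obtain ⟨v, hvW, hvQ, hv⟩ := exists_nrm hS hQS (hWU.trans hUS) hSW hWQ
      have hvS := hUS (hWU hvW)
      refine ⟨v, Good.mk' hSY hvS (fun h => hvQ ((hQ v).2 ⟨hvS, h⟩))
        (fun s hs h => ((hQ _).1 (hv s ((hQ s).2 ⟨hs, h⟩))).2) (hY1 (hW2 v hvW))
        (ext_chi_of_mem hY1 h2 (hW2 v hvW)) fun s hs h => ?_⟩
      have h3 := ((hQ _).1 (hv s ((hQ s).2 ⟨hs, h⟩))).2
      -- the commutator
      have h4 : s⁻¹ * (v⁻¹ * s * v) ∈ W := by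
        have h5 := hSW s⁻¹ (S.inv_mem hs) _ (W.inv_mem hvW)
        rw [inv_inv] at h5
        have h6 := W.mul_mem h5 hvW
        have e : s⁻¹ * v⁻¹ * s * v = s⁻¹ * (v⁻¹ * s * v) := by group
        rwa [e] at h6
      have h5 : g⁻¹ * (s⁻¹ * (v⁻¹ * s * v)) * g ∈ Y := by
        have h6 := Y.mul_mem (Y.inv_mem h) h3
        have e : (g⁻¹ * s * g)⁻¹ * (g⁻¹ * (v⁻¹ * s * v) * g) = g⁻¹ * (s⁻¹ * (v⁻¹ * s * v)) * g := by group
        rwa [e] at h6
      have h6 : g⁻¹ * (v⁻¹ * s * v) * g = (g⁻¹ * s * g) * (g⁻¹ * (s⁻¹ * (v⁻¹ * s * v)) * g) := by group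
      rw [h6, ext_mul _ h h5, ext_chi_of_mem hY1 h2 (hW1 _ h4 h5), mul_one]
    by_cases hZQ : Z ≤ Q
    · have hZY : ∀ z ∈ Z, g⁻¹ * z * g ∈ Y := fun z hz => ((hQ z).1 (hZQ hz)).2
      refine main U le_rfl hSU (Fb g hg hZY) (fun w hw => Fa g hg _ (hsq w hw) (hZY _ (hsq w hw))) ?_
      intro hUQ
      exact hg (hfix g fun u hu => ((hQ u).1 (hUQ hu)).2)
    · refine main Z hZU hSZ (Fa g hg) (fun w hw => ?_) hZQ
      rw [hZ w hw]
      simp)
  refine ⟨f, fun x hx => ?_⟩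
  rw [hf x hx]
  by_cases h : x ∈ Y1
  · simp [ext_chi_of_mem hY1 h2 h, h]
  · rw [ext_chi_of_not_mem hY1 h2 (hSY hx) h]
    simp [h]

/-- **Lemma W'**, for a perfect subgroup. -/
theorem mem_of_perfect {G : Type*} [Group G] [Finite G] {Y Y1 S U Z L : Subgroup G} (hY1 : Y1 ≤ Y)
    (h2 : ∀ a ∈ Y, ∀ b ∈ Y, a ∉ Y1 → b ∉ Y1 → a * b ∈ Y1)
    (hS : IsPGroup 2 S) (hSY : S ≤ Y) (hUS : U ≤ S) (hSU : ∀ s ∈ S, ∀ u ∈ U, s * u * s⁻¹ ∈ U)
    (hZU : Z ≤ U) (hSZ : ∀ s ∈ S, ∀ z ∈ Z, s * z * s⁻¹ ∈ Z) (hZ : ∀ z ∈ Z, z * z = 1)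
    (hsq : ∀ u ∈ U, u * u ∈ Z) (hfix : ∀ g : G, (∀ u ∈ U, g⁻¹ * u * g ∈ Y) → g ∈ Y)
    (Fa : ∀ g : G, g ∉ Y → ∀ z ∈ Z, g⁻¹ * z * g ∈ Y → g⁻¹ * z * g ∈ Y1)
    (Fb : ∀ g : G, g ∉ Y → (∀ z ∈ Z, g⁻¹ * z * g ∈ Y) → ∀ u ∈ U, g⁻¹ * u * g ∈ Y →
      g⁻¹ * u * g ∈ Y1) (hL : commutator L = ⊤) {x : G} (hx : x ∈ S) (hxL : x ∈ L) : x ∈ Y1 := by
  obtain ⟨f, hf⟩ := exists_sign hY1 h2 hS hSY hUS hSU hZU hSZ hZ hsq hfix Fa Fb
  rw [← hf x hx]
  have h1 : commutator L ≤ (f.comp L.subtype).ker := Abelianization.commutator_subset_ker _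
  rw [hL] at h1
  exact h1 (mem_top (⟨x, hxL⟩ : L))

end Cfsg.Agent.StdRank2.LemmaWp
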