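import Cfsg.Agent.StdRank2.FrameLift
import Cfsg.Agent.ClassicalGeometry.AutPSL.SylowU

/-!
# Explicit calculations in `SL 3 F`, `F` of characteristic 2

Relations between the elementary matrices, monomial matrices, the Borel subgroup, and the statement that
the normaliser of a root group is a Borel subgroup.
-/

set_option autoImplicit false
set_option linter.unusedSimpArgs false

namespace Cfsg.Agent.StdRank2.ModelL3

open Matrix
open Matrix.SpecialLinearGroup (transvection)
open Cfsg.Agent.ClassicalGeometry.AutPSL.Root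
open Cfsg.Agent.ClassicalGeometry.AutPSL.SylowU

section General

variable {ι F : Type*} [Fintype ι] [DecidableEq ι] [Field F]

theorem coe_transvection {i j : ι} (h : i ≠ j) (s : F) :
    (transvection h s : Matrix ι ι F) = 1 + single i j s := rfl

theorem tv_comm {i j k l : ι} (hij : i ≠ j) (hkl : k ≠ l) (hjk : j ≠ k) (hil : i ≠ l) (s t : F) :
    transvection hij s * transvection hkl t = transvection hkl t * transvection hij s := by
  apply Subtype.ext
  simp only [Matrix.SpecialLinearGroup.coe_mul, coe_transvection, mul_add, add_mul, mul_one,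
    one_mul, single_mul_single_of_ne _ _ _ _ hjk, single_mul_single_of_ne _ _ _ _ hil.symm,
    add_zero]
  abel

theorem tv_mul {i j k : ι} (hij : i ≠ j) (hjk : j ≠ k) (hik : i ≠ k) (s t : F) :
    transvection hij s * transvection hjk t
      = transvection hik (s * t) * (transvection hjk t * transvection hij s) := by
  apply Subtype.ext
  simp only [Matrix.SpecialLinearGroup.coe_mul, coe_transvection, mul_add, add_mul, mul_one,
    one_mul, single_mul_single_same, single_mul_single_of_ne _ _ _ _ hik.symm,
    single_mul_single_of_ne _ _ _ _ hjk.symm, single_mul_single_of_ne _ _ _ _ hij.symm, add_zero,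
    zero_mul, mul_zero]
  abel

theorem tv_conj {i j k : ι} (hij : i ≠ j) (hjk : j ≠ k) (hik : i ≠ k) (s t : F) :
    transvection hij s * transvection hjk t * (transvection hij s)⁻¹
      = transvection hik (s * t) * transvection hjk t := by
  rw [tv_mul hij hjk hik, mul_assoc, mul_assoc, mul_inv_cancel, mul_one]

theorem tv_conj' {i j k : ι} (hij : i ≠ j) (hjk : j ≠ k) (hik : i ≠ k) (s t : F) :
    transvection hjk t * transvection hij s * (transvection hjk t)⁻¹
      = transvection hik (-(s * t)) * transvection hij s := by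
  have h := tv_mul hij hjk hik s t
  have h1 : transvection hjk t * transvection hij s
      = (transvection hik (s * t))⁻¹ * (transvection hij s * transvection hjk t) := by
    rw [h, inv_mul_cancel_left]
  rw [h1, Matrix.SpecialLinearGroup.transvection_inv hik]
  simp only [mul_assoc, mul_inv_cancel, mul_one]

/-- Conjugation by a monomial matrix. -/
theorem conj_of_mono {M : Matrix.SpecialLinearGroup ι F} {σ : Equiv.Perm ι} {c : ι → F}
    (hM : ∀ a b, (M : Matrix ι ι F) a b = if a = σ b then c b else 0) (hc : ∀ a, c a ≠ 0)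
    {i j : ι} (hij : i ≠ j) (s : F) :
    M * transvection hij s * M⁻¹ = transvection (σ.injective.ne hij) (c i * s * (c j)⁻¹) := by
  rw [mul_inv_eq_iff_eq_mul]
  apply Subtype.ext
  rw [Matrix.SpecialLinearGroup.coe_mul, Matrix.SpecialLinearGroup.coe_mul, coe_transvection,
    coe_transvection, mul_add, add_mul, mul_one, one_mul]
  congr 1
  ext a b
  rw [Matrix.mul_apply, Matrix.mul_apply, Finset.sum_eq_single i, Finset.sum_eq_single (σ j)]
  · rw [hM, hM, single_apply, single_apply]
    by_cases h1 : a = σ i
    · subst h1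
      by_cases h2 : j = b
      · subst h2
        simp [hc]
      · have h3 : σ j ≠ σ b := fun h => h2 (σ.injective h)
        simp [h2, h3]
    · have h3 : ¬ (σ i = a ∧ σ j = σ j) := fun h => h1 h.1.symm
      rw [if_neg h1, if_neg h3, zero_mul, zero_mul]
  · intro k _ hk
    rw [single_apply, if_neg (fun h => hk h.2.symm), zero_mul]
  · intro h
    exact absurd (Finset.mem_univ _) h
  · intro k _ hk
    rw [single_apply, if_neg (fun h => hk h.1.symm), mul_zero]
  · intro h
    exact absurd (Finset.mem_univ _) h

end General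

theorem exists_third : ∀ i j : Fin 3, ∃ k : Fin 3, k ≠ i ∧ k ≠ j := by decide

variable {F : Type*} [Field F]

/-- Diagonal matrices in `SL 3`. -/
def dg (c : Fin 3 → F) (h : c 0 * c 1 * c 2 = 1) : Matrix.SpecialLinearGroup (Fin 3) F :=
  ⟨diagonal c, by rw [det_diagonal, Fin.prod_univ_three, h]⟩

theorem ne_zero_of_prod {c : Fin 3 → F} (h : c 0 * c 1 * c 2 = 1) (i : Fin 3) : c i ≠ 0 := by
  intro h0
  have h1 : c 0 * c 1 * c 2 = 0 := by
    fin_cases i
    · have : c 0 = 0 := h0
      rw [this, zero_mul, zero_mul]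
    · have : c 1 = 0 := h0
      rw [this, mul_zero, zero_mul]
    · have : c 2 = 0 := h0
      rw [this, mul_zero]
  rw [h] at h1
  exact one_ne_zero h1

theorem dg_apply (c : Fin 3 → F) (h : c 0 * c 1 * c 2 = 1) (a b : Fin 3) :
    (dg c h : Matrix (Fin 3) (Fin 3) F) a b = if a = (1 : Equiv.Perm (Fin 3)) b then c b else 0 := by
  change diagonal c a b = _
  rw [diagonal_apply, Equiv.Perm.one_apply]
  by_cases hab : a = b
  · subst hab; simp
  · simp [hab]

theorem dg_conj (c : Fin 3 → F) (h : c 0 * c 1 * c 2 = 1) {i j : Fin 3} (hij : i ≠ j) (s : F) :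
    dg c h * transvection hij s * (dg c h)⁻¹ = transvection hij (c i * s * (c j)⁻¹) :=
  conj_of_mono (dg_apply c h) (ne_zero_of_prod h) hij s

theorem dg_mul (c d : Fin 3 → F) (h : c 0 * c 1 * c 2 = 1) (h' : d 0 * d 1 * d 2 = 1) :
    dg c h * dg d h' = dg (fun i => c i * d i)
      (by rw [show c 0 * d 0 * (c 1 * d 1) * (c 2 * d 2) = (c 0 * c 1 * c 2) * (d 0 * d 1 * d 2) by
        ring, h, h', one_mul]) := by
  apply Subtype.ext
  exact diagonal_mul_diagonal _ _

theorem dg_one : dg (fun _ : Fin 3 => (1 : F)) (by norm_num) = 1 := by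
  apply Subtype.ext
  exact diagonal_one

/-- The Weyl elements in characteristic 2. -/
def wl {i j : Fin 3} (h : i ≠ j) (u : F) : Matrix.SpecialLinearGroup (Fin 3) F :=
  transvection h u * transvection h.symm u⁻¹ * transvection h u

theorem wl_apply [CharP F 2] {i j : Fin 3} (h : i ≠ j) {u : F} (hu : u ≠ 0) (a b : Fin 3) :
    (wl h u : Matrix (Fin 3) (Fin 3) F) a b
      = if a = (Equiv.swap i j) b then (if b = i then u⁻¹ else if b = j then u else 1) else 0 := by
  have h2 : (1 : F) + 1 = 0 := by
    have := CharTwo.add_self_eq_zero (1 : F)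
    exact this
  have h2' : u + u = 0 := CharTwo.add_self_eq_zero u
  change ((1 + single i j u) * (1 + single j i u⁻¹) * (1 + single i j u) :
    Matrix (Fin 3) (Fin 3) F) a b = _
  have e1 : ((1 + single i j u) * (1 + single j i u⁻¹) * (1 + single i j u) :
      Matrix (Fin 3) (Fin 3) F)
      = 1 + single i i 1 + single j j 1 + single j i u⁻¹ + single i j (u + u + u) := by
    simp only [mul_add, add_mul, mul_one, one_mul, single_mul_single_same,
      single_mul_single_of_ne _ _ _ _ h, single_mul_single_of_ne _ _ _ _ h.symm,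
      mul_inv_cancel₀ hu, inv_mul_cancel₀ hu, add_zero, zero_mul, single_add]
    abel
  rw [e1, h2', zero_add]
  simp only [Matrix.add_apply, Matrix.one_apply, single_apply]
  by_cases hbi : b = i
  · subst hbi
    rw [Equiv.swap_apply_left, if_pos rfl]
    by_cases haj : a = j
    · subst haj
      simp [h, h.symm]
    · by_cases hab : a = b
      · subst hab
        simp [haj, Ne.symm haj, h, h2, h.symm]
      · simp [hab, haj, Ne.symm hab, Ne.symm haj, h.symm]
  · by_cases hbj : b = j
    · subst hbj
      rw [Equiv.swap_apply_right, if_neg hbi, if_pos rfl]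
      by_cases hai : a = i
      · subst hai
        simp [h, h.symm]
      · by_cases hab : a = b
        · subst hab
          simp [hai, Ne.symm hai, h, h2]
        · simp [hab, hai, Ne.symm hab, Ne.symm hai, h]
    · rw [Equiv.swap_apply_of_ne_of_ne hbi hbj, if_neg hbi, if_neg hbj]
      simp [Ne.symm hbi, Ne.symm hbj]

theorem wl_conj [CharP F 2] {i j : Fin 3} (h : i ≠ j) {k l : Fin 3} (hkl : k ≠ l) (s : F) :
    wl h (1 : F) * transvection hkl s * (wl h 1)⁻¹
      = transvection ((Equiv.swap i j).injective.ne hkl) s := by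
  have hM : ∀ a b, (wl h (1 : F) : Matrix (Fin 3) (Fin 3) F) a b
      = if a = (Equiv.swap i j) b then (fun _ => (1 : F)) b else 0 := by
    intro a b
    rw [wl_apply h one_ne_zero]
    simp
  have := conj_of_mono hM (fun _ => one_ne_zero) hkl s
  rw [this]
  congr 1
  simp

/-- `wl u` for general `u` acts with the coefficients `c i = u⁻¹`, `c j = u`. -/
theorem wl_conj' [CharP F 2] {i j : Fin 3} (h : i ≠ j) {u : F} (hu : u ≠ 0) {k l : Fin 3}
    (hkl : k ≠ l) (s : F) :
    wl h u * transvection hkl s * (wl h u)⁻¹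
      = transvection ((Equiv.swap i j).injective.ne hkl)
        ((if k = i then u⁻¹ else if k = j then u else 1) * s *
          (if l = i then u⁻¹ else if l = j then u else 1)⁻¹) := by
  have hM := wl_apply h hu
  exact conj_of_mono (c := fun b => if b = i then u⁻¹ else if b = j then u else 1) hM
    (fun a => by
      split_ifs
      · exact inv_ne_zero hu
      · exact hu
      · exact one_ne_zero) hkl s

/-- An element whose conjugate of a root element lies in the same root group, up to the centre, is
upper triangular with respect to the order `i < k < j`. -/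
theorem entries_of_conj {i j : Fin 3} (hij : i ≠ j) {s t : F} (hs : s ≠ 0)
    {M : Matrix.SpecialLinearGroup (Fin 3) F}
    (h : pr (M * transvection hij s * M⁻¹) = pr (transvection hij t)) :
    (∀ k, k ≠ i → (M : Matrix (Fin 3) (Fin 3) F) k i = 0) ∧
      (∀ k, k ≠ j → (M : Matrix (Fin 3) (Fin 3) F) j k = 0) ∧
      (M : Matrix (Fin 3) (Fin 3) F) i i * s = t * (M : Matrix (Fin 3) (Fin 3) F) j j := by
  obtain ⟨c, hc⟩ := exists_smul_of_pr_eq h
  -- c • (M T M⁻¹) = T'
  have h1 : (transvection hij t : Matrix (Fin 3) (Fin 3) F) * M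
      = c • ((M : Matrix (Fin 3) (Fin 3) F) * transvection hij s) := by
    rw [hc, smul_mul_assoc]
    congr 1
    rw [← Matrix.SpecialLinearGroup.coe_mul, ← Matrix.SpecialLinearGroup.coe_mul,
      inv_mul_cancel_right]
  rw [coe_transvection, coe_transvection, mul_add, add_mul, mul_one, one_mul] at h1
  have hdet : c ^ 3 = 1 := by
    have := congrArg Matrix.det hc
    rw [det_smul, Matrix.SpecialLinearGroup.det_coe, Matrix.SpecialLinearGroup.det_coe,
      Fintype.card_fin, mul_one] at this
    exact this.symm
  -- entries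
  have hent : ∀ a b, (M : Matrix (Fin 3) (Fin 3) F) a b
      + (if a = i then t * (M : Matrix (Fin 3) (Fin 3) F) j b else 0)
      = c * ((M : Matrix (Fin 3) (Fin 3) F) a b
        + (if b = j then (M : Matrix (Fin 3) (Fin 3) F) a i * s else 0)) := by
    intro a b
    have h2 := congrFun (congrFun h1 a) b
    rw [Matrix.smul_apply, Matrix.add_apply, Matrix.add_apply, smul_eq_mul] at h2
    have e1 : (single i j t * (M : Matrix (Fin 3) (Fin 3) F)) a b
        = if a = i then t * (M : Matrix (Fin 3) (Fin 3) F) j b else 0 := by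
      rw [Matrix.mul_apply, Finset.sum_eq_single j]
      · rw [single_apply]
        by_cases ha : a = i
        · subst ha; simp
        · simp [ha, Ne.symm ha]
      · intro k _ hk
        rw [single_apply, if_neg (fun h => hk h.2.symm), zero_mul]
      · intro h; exact absurd (Finset.mem_univ _) h
    have e2 : ((M : Matrix (Fin 3) (Fin 3) F) * single i j s) a b
        = if b = j then (M : Matrix (Fin 3) (Fin 3) F) a i * s else 0 := by
      rw [Matrix.mul_apply, Finset.sum_eq_single i]
      · rw [single_apply]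
        by_cases hb : b = j
        · subst hb; simp
        · simp [hb, Ne.symm hb]
      · intro k _ hk
        rw [single_apply, if_neg (fun h => hk h.1.symm), mul_zero]
      · intro h; exact absurd (Finset.mem_univ _) h
    rw [e1, e2] at h2
    exact h2
  -- c = 1
  have hc1 : c = 1 := by
    by_contra hc1
    -- row a ≠ i, column b ≠ j: M a b = c * M a b hence M a b = 0
    have hz : ∀ a b, a ≠ i → b ≠ j → (M : Matrix (Fin 3) (Fin 3) F) a b = 0 := by
      intro a b ha hb
      have h3 := hent a b
      rw [if_neg ha, if_neg hb, add_zero] at h3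
      have h4 : (1 - c) * (M : Matrix (Fin 3) (Fin 3) F) a b = 0 := by
        rw [sub_mul, one_mul, sub_eq_zero]
        exact h3
      rcases mul_eq_zero.1 h4 with h5 | h5
      · exact absurd (sub_eq_zero.1 h5).symm hc1
      · exact h5
    -- then rank ≤ 2
    obtain ⟨k, hki, hkj⟩ := exists_third i j
    have hdetM : (M : Matrix (Fin 3) (Fin 3) F).det = 1 := Matrix.SpecialLinearGroup.det_coe M
    -- rows j and k are both multiples of e_j
    have hrow : ∀ a, a ≠ i → (M : Matrix (Fin 3) (Fin 3) F) a
        = ((M : Matrix (Fin 3) (Fin 3) F) a j) • Pi.single j (1 : F) := by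
      intro a ha
      funext b
      by_cases hb : b = j
      · subst hb; simp
      · rw [hz a b ha hb, Pi.smul_apply, Pi.single_eq_of_ne hb, smul_zero]
    have hjne : (M : Matrix (Fin 3) (Fin 3) F) j j ≠ 0 := by
      intro h0
      have h5 : (M : Matrix (Fin 3) (Fin 3) F) j = 0 := by
        rw [hrow j hij.symm, h0, zero_smul]
      have := Matrix.det_eq_zero_of_row_eq_zero (A := (M : Matrix (Fin 3) (Fin 3) F)) j
        (fun b => congrFun h5 b)
      rw [hdetM] at this
      exact one_ne_zero this
    have h6 : ((M : Matrix (Fin 3) (Fin 3) F).updateRow k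
        ((M : Matrix (Fin 3) (Fin 3) F) k
          + (-((M : Matrix (Fin 3) (Fin 3) F) k j / (M : Matrix (Fin 3) (Fin 3) F) j j)) •
            (M : Matrix (Fin 3) (Fin 3) F) j)).det = (M : Matrix (Fin 3) (Fin 3) F).det :=
      Matrix.det_updateRow_add_smul_self _ hkj _
    have h7 : (M : Matrix (Fin 3) (Fin 3) F) k
          + (-((M : Matrix (Fin 3) (Fin 3) F) k j / (M : Matrix (Fin 3) (Fin 3) F) j j)) •
            (M : Matrix (Fin 3) (Fin 3) F) j = 0 := by
      funext b
      rw [Pi.add_apply, Pi.smul_apply, smul_eq_mul, Pi.zero_apply]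
      by_cases hb : b = j
      · subst hb
        rw [neg_mul, div_mul_cancel₀ _ hjne, add_neg_cancel]
      · rw [hz k b hki hb, hz j b hij.symm hb, mul_zero, add_zero]
    rw [h7, hdetM] at h6
    have h8 := Matrix.det_eq_zero_of_row_eq_zero
      (A := (M : Matrix (Fin 3) (Fin 3) F).updateRow k 0) k (fun b => by simp)
    rw [h8] at h6
    exact zero_ne_one h6
  subst hc1
  have hent' : ∀ a b, (if a = i then t * (M : Matrix (Fin 3) (Fin 3) F) j b else 0)
      = (if b = j then (M : Matrix (Fin 3) (Fin 3) F) a i * s else 0) := by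
    intro a b
    have h3 := hent a b
    rw [one_mul] at h3
    exact add_left_cancel h3
  have hcol : ∀ k, k ≠ i → (M : Matrix (Fin 3) (Fin 3) F) k i = 0 := by
    intro k hk
    have h3 := hent' k j
    rw [if_neg hk, if_pos rfl] at h3
    rcases mul_eq_zero.1 h3.symm with h4 | h4
    · exact h4
    · exact absurd h4 hs
  refine ⟨hcol, ?_, ?_⟩
  · have ht : t ≠ 0 := by
      intro h0
      have h3 := hent' i j
      rw [if_pos rfl, if_pos rfl, h0, zero_mul] at h3
      rcases mul_eq_zero.1 h3.symm with h4 | h4
      · have := Matrix.det_eq_zero_of_column_eq_zero (A := (M : Matrix (Fin 3) (Fin 3) F)) i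
          (fun b => by
            by_cases hb : b = i
            · subst hb; exact h4
            · exact hcol b hb)
        rw [Matrix.SpecialLinearGroup.det_coe M] at this
        exact one_ne_zero this
      · exact hs h4
    intro k hk
    have h3 := hent' i k
    rw [if_pos rfl, if_neg hk] at h3
    rcases mul_eq_zero.1 h3 with h4 | h4
    · exact absurd h4 ht
    · exact h4
  · have h3 := hent' i j
    rw [if_pos rfl, if_pos rfl] at h3
    exact h3.symm

/-- The explicit Borel decomposition for the order `i < k < j`. -/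
theorem borel_decomp {i j k : Fin 3} (hij : i ≠ j) (hik : i ≠ k) (hkj : k ≠ j)
    {M : Matrix.SpecialLinearGroup (Fin 3) F}
    (h1 : ∀ k, k ≠ i → (M : Matrix (Fin 3) (Fin 3) F) k i = 0)
    (h2 : ∀ k, k ≠ j → (M : Matrix (Fin 3) (Fin 3) F) j k = 0) :
    ∃ (c : Fin 3 → F) (hc : c 0 * c 1 * c 2 = 1) (a b d : F),
      M = transvection hij d * transvection hik a * transvection hkj b * dg c hc := by
  have hdet : (M : Matrix (Fin 3) (Fin 3) F) i i * (M : Matrix (Fin 3) (Fin 3) F) j j
      * (M : Matrix (Fin 3) (Fin 3) F) k k = 1 := by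
    have h3 : (M : Matrix (Fin 3) (Fin 3) F).det = 1 := Matrix.SpecialLinearGroup.det_coe M
    rw [det_fin_three] at h3
    have e1 := h1 j hij.symm
    have e2 := h1 k hik.symm
    have e3 := h2 i hij
    have e4 := h2 k hkj
    fin_cases i <;> fin_cases j <;> fin_cases k <;> simp_all <;> linear_combination h3
  have hprod : (M : Matrix (Fin 3) (Fin 3) F) 0 0 * (M : Matrix (Fin 3) (Fin 3) F) 1 1
      * (M : Matrix (Fin 3) (Fin 3) F) 2 2 = 1 := by
    fin_cases i <;> fin_cases j <;> fin_cases k <;> simp_all <;> linear_combination hdet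
  have hkk : (M : Matrix (Fin 3) (Fin 3) F) k k ≠ 0 := by
    intro h0; rw [h0, mul_zero] at hdet; exact zero_ne_one hdet
  have hjj : (M : Matrix (Fin 3) (Fin 3) F) j j ≠ 0 := by
    intro h0; rw [h0, mul_zero, zero_mul] at hdet; exact zero_ne_one hdet
  refine ⟨fun a => (M : Matrix (Fin 3) (Fin 3) F) a a, hprod,
    (M : Matrix (Fin 3) (Fin 3) F) i k / (M : Matrix (Fin 3) (Fin 3) F) k k,
    (M : Matrix (Fin 3) (Fin 3) F) k j / (M : Matrix (Fin 3) (Fin 3) F) j j,
    (M : Matrix (Fin 3) (Fin 3) F) i j / (M : Matrix (Fin 3) (Fin 3) F) j j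
      - (M : Matrix (Fin 3) (Fin 3) F) i k / (M : Matrix (Fin 3) (Fin 3) F) k k *
        ((M : Matrix (Fin 3) (Fin 3) F) k j / (M : Matrix (Fin 3) (Fin 3) F) j j), ?_⟩
  apply Subtype.ext
  change (M : Matrix (Fin 3) (Fin 3) F) = (1 + single i j _) * (1 + single i k _) *
    (1 + single k j _) * diagonal (fun a => (M : Matrix (Fin 3) (Fin 3) F) a a)
  simp only [mul_add, add_mul, mul_one, one_mul, single_mul_single_same,
    single_mul_single_of_ne _ _ _ _ hik.symm, single_mul_single_of_ne _ _ _ _ hkj.symm,
    single_mul_single_of_ne _ _ _ _ hij.symm, add_zero, zero_mul]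
  ext a b
  have hM : ∀ a b, a ≠ b → ¬ (a = i ∧ b = k) → ¬ (a = k ∧ b = j) → ¬ (a = i ∧ b = j) →
      (M : Matrix (Fin 3) (Fin 3) F) a b = 0 := by
    intro a b hab n1 n2 n3
    by_cases hb : b = i
    · subst hb; exact h1 a hab
    · by_cases ha : a = j
      · subst ha; exact h2 b (Ne.symm hab)
      · exfalso
        clear hprod hdet hkk hjj h1 h2
        revert n1 n2 n3 hab hb ha
        revert a b i j k
        decide
  simp only [Matrix.add_apply, Matrix.mul_apply, diagonal_apply, single_apply,
    mul_ite, mul_zero, Finset.sum_ite_eq', Finset.mem_univ, if_true]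
  by_cases hab : a = b
  · subst hab
    have n1 : ¬ (i = a ∧ k = a) := fun h => hik (h.1.trans h.2.symm)
    have n2 : ¬ (k = a ∧ j = a) := fun h => hkj (h.1.trans h.2.symm)
    have n3 : ¬ (i = a ∧ j = a) := fun h => hij (h.1.trans h.2.symm)
    simp [n1, n2, n3]
  · by_cases n1 : a = i ∧ b = k
    · obtain ⟨rfl, rfl⟩ := n1
      simp [hij, hik, hkj, hkj.symm, hik.symm, hkk]
    · by_cases n2 : a = k ∧ b = j
      · obtain ⟨rfl, rfl⟩ := n2
        simp [hij, hik, hkj, hkj.symm, hjj]
      · by_cases n3 : a = i ∧ b = j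
        · obtain ⟨rfl, rfl⟩ := n3
          simp [hij, hik, hkj, hkj.symm, hik.symm]
          field_simp
          ring
        · rw [hM a b hab n1 n2 n3]
          have m1 : ¬ (i = a ∧ k = b) := fun h => n1 ⟨h.1.symm, h.2.symm⟩
          have m2 : ¬ (k = a ∧ j = b) := fun h => n2 ⟨h.1.symm, h.2.symm⟩
          have m3 : ¬ (i = a ∧ j = b) := fun h => n3 ⟨h.1.symm, h.2.symm⟩
          simp [hab, m1, m2, m3]

end Cfsg.Agent.StdRank2.ModelL3
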