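import Mathlib

/-!
# Lifting 2-elements through a central kernel of odd order

`f : A →* L` onto, `A` finite, `f.ker ≤ Z(A)`, `|f.ker|` odd.  `lift f : L → A` sends a 2-element `g`
to the unique 2-element over `g`; it commutes with conjugation and is multiplicative on
2-subgroups.
-/

set_option autoImplicit false
set_option linter.unusedSectionVars false

namespace Cfsg.Agent.StdRank2.OddLift

open Subgroup
open scoped commutatorElement

variable {A L : Type*} [Group A] [Group L]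

/-- The hypothesis: onto with central kernel of odd order. -/
structure Cov (f : A →* L) : Prop where
  surj : Function.Surjective f
  central : f.ker ≤ Subgroup.center A
  odd : Odd (Nat.card f.ker)

/-- `g` is a 2-element -/
def IsTwo {X : Type*} [Group X] (g : X) : Prop := ∃ k : ℕ, g ^ (2 ^ k) = 1

/-- the exponent: `0` modulo the odd order of the kernel, `1` modulo `2 ^ |A|` -/
noncomputable def ex (f : A →* L) : ℕ := Nat.card f.ker ^ (2 ^ Nat.card A)

/-- the lifting map -/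
noncomputable def lift {f : A →* L} (h : Cov f) (g : L) : A := Function.surjInv h.surj g ^ ex f

theorem IsTwo.map {X Y : Type*} [Group X] [Group Y] (φ : X →* Y) {g : X} (h : IsTwo g) :
    IsTwo (φ g) := by
  obtain ⟨k, hk⟩ := h
  exact ⟨k, by rw [← map_pow, hk, map_one]⟩

theorem isTwo_of_mem {X : Type*} [Group X] {P : Subgroup X} (hP : IsPGroup 2 P) {g : X}
    (hg : g ∈ P) : IsTwo g := by
  obtain ⟨k, hk⟩ := hP ⟨g, hg⟩
  exact ⟨k, by simpa using congrArg Subtype.val hk⟩

theorem IsTwo.conj {X : Type*} [Group X] {g : X} (h : IsTwo g) (b : X) : IsTwo (b * g * b⁻¹) := by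
  obtain ⟨k, hk⟩ := h
  exact ⟨k, by rw [conj_pow, hk, mul_one, mul_inv_cancel]⟩

theorem IsTwo.inv {X : Type*} [Group X] {g : X} (h : IsTwo g) : IsTwo g⁻¹ := by
  obtain ⟨k, hk⟩ := h
  exact ⟨k, by rw [inv_pow, hk, inv_one]⟩

theorem IsTwo.one {X : Type*} [Group X] : IsTwo (1 : X) := ⟨0, one_pow _⟩

theorem IsTwo.isPGroup_zpowers {X : Type*} [Group X] {g : X} (h : IsTwo g) :
    IsPGroup 2 (Subgroup.zpowers g) := by
  obtain ⟨k, hk⟩ := h
  rintro ⟨x, hx⟩
  obtain ⟨n, rfl⟩ := mem_zpowers_iff.1 hx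
  refine ⟨k, Subtype.ext ?_⟩
  change (g ^ n) ^ (2 ^ k) = 1
  rw [← zpow_natCast, ← zpow_mul, mul_comm, zpow_mul, zpow_natCast, hk, one_zpow]

theorem IsTwo.pow_card {X : Type*} [Group X] [Finite X] {g : X} (h : IsTwo g) {n : ℕ}
    (hn : Nat.card X ≤ n) : g ^ (2 ^ n) = 1 := by
  obtain ⟨k, hk⟩ := h
  obtain ⟨j, hj, hj'⟩ := (Nat.dvd_prime_pow Nat.prime_two).1 (orderOf_dvd_of_pow_eq_one hk)
  have h1 : 2 ^ j ≤ Nat.card X := by
    rw [← hj']; exact Nat.le_of_dvd Nat.card_pos (orderOf_dvd_natCard g)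
  have h2 : j < 2 ^ j := Nat.lt_two_pow_self
  rw [← orderOf_dvd_iff_pow_eq_one, hj']
  exact pow_dvd_pow 2 (by omega)

section

variable [Finite A] {f : A →* L} (h : Cov f)
include h

theorem ex_modEq : ex f ≡ 1 [MOD 2 ^ Nat.card A] := by
  have hc : Nat.Coprime (Nat.card f.ker) (2 ^ Nat.card A) :=
    Nat.Coprime.pow_right _ (Nat.coprime_two_right.mpr h.odd)
  have hpos : 0 < Nat.card A := Nat.card_pos
  have h1 : Nat.card f.ker ^ Nat.totient (2 ^ Nat.card A) ≡ 1 [MOD 2 ^ Nat.card A] :=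
    Nat.ModEq.pow_totient hc
  rw [Nat.totient_prime_pow Nat.prime_two hpos] at h1
  have h2 : (2 : ℕ) ^ Nat.card A = 2 ^ (Nat.card A - 1) * (2 - 1) * 2 := by
    rw [Nat.succ_sub_one, mul_one, ← pow_succ, Nat.sub_add_cancel hpos]
  have h3 : ex f = (Nat.card f.ker ^ (2 ^ (Nat.card A - 1) * (2 - 1))) ^ 2 := by
    unfold ex
    rw [← pow_mul, ← h2]
  rw [h3]
  exact (h1.pow 2).trans (by rw [one_pow])

theorem pow_ex {X : Type*} [Group X] {g : X} (hg : g ^ (2 ^ Nat.card A) = 1) : g ^ ex f = g := by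
  have h1 := ex_modEq h
  have h2 : g ^ ex f = g ^ 1 := by
    rw [pow_eq_pow_iff_modEq]
    exact h1.of_dvd (orderOf_dvd_of_pow_eq_one hg)
  rw [h2, pow_one]

theorem pow_ex_ker {z : A} (hz : z ∈ f.ker) : z ^ ex f = 1 := by
  have h1 : (⟨z, hz⟩ : f.ker) ^ Nat.card f.ker = 1 := pow_card_eq_one'
  have h2 : z ^ Nat.card f.ker = 1 := by simpa using congrArg Subtype.val h1
  have h3 : Nat.card f.ker ∣ ex f := by
    unfold ex
    exact dvd_pow_self _ (by positivity)
  obtain ⟨c, hc⟩ := h3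
  rw [hc, pow_mul, h2, one_pow]

theorem lift_apply (a : A) : lift h (f a) = a ^ ex f := by
  unfold lift
  set b := Function.surjInv h.surj (f a) with hb
  have hbf : f b = f a := Function.surjInv_eq h.surj (f a)
  have hz : a⁻¹ * b ∈ f.ker := by
    rw [MonoidHom.mem_ker, map_mul, map_inv, hbf, inv_mul_cancel]
  have hc : Commute a (a⁻¹ * b) := ((mem_center_iff.1 (h.central hz)) a)
  have h1 : b = a * (a⁻¹ * b) := by group
  rw [h1, hc.mul_pow, pow_ex_ker h hz, mul_one]

theorem finite_target : Finite L := Finite.of_surjective f h.surj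

theorem card_le : Nat.card L ≤ Nat.card A := Nat.card_le_card_of_surjective f h.surj

/-- the lift of a 2-element lies over it -/
theorem map_lift {g : L} (hg : IsTwo g) : f (lift h g) = g := by
  obtain ⟨a, rfl⟩ := h.surj g
  have := finite_target h
  rw [lift_apply, map_pow]
  exact pow_ex h (hg.pow_card (card_le h))

/-- a 2-element is the lift of its image -/
theorem lift_map {a : A} (ha : IsTwo a) : lift h (f a) = a := by
  rw [lift_apply]
  exact pow_ex h (ha.pow_card le_rfl)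

theorem eq_lift {a : A} (ha : IsTwo a) {g : L} (hg : f a = g) : a = lift h g := by
  rw [← hg, lift_map h ha]

theorem inj {a b : A} (ha : IsTwo a) (hb : IsTwo b) (hab : f a = f b) : a = b := by
  rw [eq_lift h ha hab, lift_map h hb]

theorem isTwo_lift {g : L} (hg : IsTwo g) : IsTwo (lift h g) := by
  obtain ⟨a, rfl⟩ := h.surj g
  have := finite_target h
  have h1 : (f a) ^ (2 ^ Nat.card A) = 1 := hg.pow_card (card_le h)
  refine ⟨Nat.card A, ?_⟩
  rw [lift_apply, ← pow_mul, mul_comm, pow_mul]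
  apply pow_ex_ker h
  rw [MonoidHom.mem_ker, map_pow, h1]

theorem lift_one : lift h (1 : L) = 1 := by
  rw [← map_one f, lift_map h IsTwo.one]

/-- equivariance -/
theorem lift_conj (b : A) (g : L) : lift h (f b * g * (f b)⁻¹) = b * lift h g * b⁻¹ := by
  obtain ⟨a, rfl⟩ := h.surj g
  rw [← map_inv, ← map_mul, ← map_mul, lift_apply, lift_apply, conj_pow]

theorem lift_inv (g : L) : lift h g⁻¹ = (lift h g)⁻¹ := by
  obtain ⟨a, rfl⟩ := h.surj g
  rw [← map_inv, lift_apply, lift_apply, inv_pow]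

/-- multiplicativity on 2-subgroups -/
theorem lift_mul {P : Subgroup L} (hP : IsPGroup 2 P) {g k : L} (hg : g ∈ P) (hk : k ∈ P) :
    lift h (g * k) = lift h g * lift h k := by
  classical
  have := finite_target h
  let Q : Subgroup A := P.comap f
  let φ : ↥Q →* ↥P := f.subgroupComap P
  have hφ : Function.Surjective φ := by
    rintro ⟨x, hx⟩
    obtain ⟨a, rfl⟩ := h.surj x
    exact ⟨⟨a, hx⟩, rfl⟩
  obtain ⟨S⟩ : Nonempty (Sylow 2 ↥Q) := inferInstance
  have : Fact (Nat.Prime 2) := ⟨Nat.prime_two⟩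
  -- the image of `S` is everything
  have hS : (S : Subgroup ↥Q).map φ = ⊤ := by
    have h1 : ((S.mapSurjective hφ : Sylow 2 ↥P) : Subgroup ↥P) = ⊤ := by
      have h2 : IsPGroup 2 (⊤ : Subgroup ↥P) := hP.to_subgroup ⊤
      exact ((S.mapSurjective hφ).is_maximal' h2 le_top).symm
    rw [Sylow.coe_mapSurjective] at h1
    exact h1
  have key : ∀ x ∈ P, ∃ s : ↥Q, s ∈ (S : Subgroup ↥Q) ∧ f (s : A) = x ∧ lift h x = (s : A) := by
    intro x hx
    have h1 : (⟨x, hx⟩ : ↥P) ∈ (S : Subgroup ↥Q).map φ := by rw [hS]; exact mem_top _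
    obtain ⟨s, hs, hs'⟩ := h1
    have h2 : f (s : A) = x := congrArg Subtype.val hs'
    refine ⟨s, hs, h2, ?_⟩
    have h3 : IsTwo (s : A) := (isTwo_of_mem S.isPGroup' hs).map Q.subtype
    exact (eq_lift h h3 h2).symm
  obtain ⟨s, hs, hs1, hs2⟩ := key g hg
  obtain ⟨t, ht, ht1, ht2⟩ := key k hk
  have h3 : IsTwo ((s * t : ↥Q) : A) :=
    (isTwo_of_mem S.isPGroup' (mul_mem hs ht)).map Q.subtype
  rw [hs2, ht2, ← hs1, ← ht1, ← map_mul]
  exact (eq_lift h h3 rfl).symm

/-- The lift of a 2-subgroup, as a homomorphism. -/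
noncomputable def liftHom {P : Subgroup L} (hP : IsPGroup 2 P) : ↥P →* A where
  toFun x := lift h (x : L)
  map_one' := lift_one h
  map_mul' x y := lift_mul h hP x.2 y.2

theorem liftHom_apply {P : Subgroup L} (hP : IsPGroup 2 P) (x : ↥P) :
    liftHom h hP x = lift h (x : L) := rfl

theorem map_liftHom {P : Subgroup L} (hP : IsPGroup 2 P) (x : ↥P) :
    f (liftHom h hP x) = (x : L) := map_lift h (isTwo_of_mem hP x.2)

theorem liftHom_injective {P : Subgroup L} (hP : IsPGroup 2 P) :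
    Function.Injective (liftHom h hP) := by
  intro x y hxy
  apply Subtype.ext
  rw [← map_liftHom h hP x, hxy, map_liftHom h hP y]

theorem lift_commutator {P : Subgroup L} (hP : IsPGroup 2 P) {g k : L} (hg : g ∈ P) (hk : k ∈ P) :
    lift h ⁅g, k⁆ = ⁅lift h g, lift h k⁆ := by
  rw [commutatorElement_def, commutatorElement_def,
    lift_mul h hP (mul_mem (mul_mem hg hk) (inv_mem hg)) (inv_mem hk),
    lift_mul h hP (mul_mem hg hk) (inv_mem hg), lift_mul h hP hg hk, lift_inv, lift_inv]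

/-- equivariance, form with a preimage of the conjugating element -/
theorem lift_conj' {b : A} {n g g' : L} (hb : f b = n) (hg : n * g * n⁻¹ = g') :
    b * lift h g * b⁻¹ = lift h g' := by
  rw [← hg, ← hb, lift_conj]

/-- The kernel together with a subgroup of full image which is everything: a perfect group is
generated by any subgroup mapping onto the quotient. -/
theorem eq_top_of_map_eq_top (hA : commutator A = ⊤) {H : Subgroup A} (hH : H.map f = ⊤) :
    H = ⊤ := by
  have h1 : H ⊔ f.ker = ⊤ := by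
    rw [eq_top_iff]
    intro a _
    have h2 : f a ∈ H.map f := by rw [hH]; exact mem_top _
    obtain ⟨b, hb, hb'⟩ := h2
    have h3 : b⁻¹ * a ∈ f.ker := by rw [MonoidHom.mem_ker, map_mul, map_inv, hb', inv_mul_cancel]
    have h4 : a = b * (b⁻¹ * a) := by group
    rw [h4]
    exact mul_mem ((le_sup_left : H ≤ H ⊔ f.ker) hb) ((le_sup_right : f.ker ≤ H ⊔ f.ker) h3)
  rw [eq_top_iff, ← hA, commutator_def, Subgroup.commutator_le]
  intro a _ b _
  have key : ∀ a : A, ∃ x ∈ H, ∃ z ∈ Subgroup.center A, a = x * z := by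
    intro a
    have h2 : f a ∈ H.map f := by rw [hH]; exact mem_top _
    obtain ⟨x, hx, hx'⟩ := h2
    refine ⟨x, hx, x⁻¹ * a, h.central ?_, by group⟩
    rw [MonoidHom.mem_ker, map_mul, map_inv, hx', inv_mul_cancel]
  obtain ⟨x, hx, z, hz, rfl⟩ := key a
  obtain ⟨y, hy, w, hw, rfl⟩ := key b
  have hz' : ∀ g : A, g * z = z * g := fun g => mem_center_iff.1 hz g
  have hw' : ∀ g : A, g * w = w * g := fun g => mem_center_iff.1 hw g
  have e : ⁅x * z, y * w⁆ = ⁅x, y⁆ := by
    rw [commutatorElement_def, commutatorElement_def, mul_inv_rev, mul_inv_rev]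
    calc x * z * (y * w) * (z⁻¹ * x⁻¹) * (w⁻¹ * y⁻¹)
        = x * (z * (y * w)) * z⁻¹ * x⁻¹ * w⁻¹ * y⁻¹ := by group
      _ = x * ((y * w) * z) * z⁻¹ * x⁻¹ * w⁻¹ * y⁻¹ := by rw [hz']
      _ = x * y * (w * x⁻¹) * w⁻¹ * y⁻¹ := by group
      _ = x * y * (x⁻¹ * w) * w⁻¹ * y⁻¹ := by rw [hw']
      _ = x * y * x⁻¹ * y⁻¹ := by group
  rw [e, commutatorElement_def]
  exact mul_mem (mul_mem (mul_mem hx hy) (inv_mem hx)) (inv_mem hy)

end

end Cfsg.Agent.StdRank2.OddLift
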