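import Cfsg.Agent.StdRank2.OutB2Ident
import Cfsg.Agent.StdRank2.B2Self

/-!
# Field and diagonal automorphisms of a simple group with a `B₂` package

`Std.tw S t`: the twisted package is again a nondegenerate generating package.  `auto S t`: the automorphism carrying
`S.m` to the twisted package.  `FData D`: the action of field automorphisms on `V`.  `fd`, `dg`, `Diag`, `Psi`.
-/

set_option autoImplicit false
set_option linter.unusedSectionVars false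

namespace Cfsg.Agent.StdRank2.OutB2Aut

open Subgroup
open Cfsg.Agent.TitsThree.B2Pkg Cfsg.Agent.TitsThree.RankTwoIdentB2
  Cfsg.Agent.TitsThree.CoreB2 Cfsg.Agent.TitsThree.RankTwoIdx Cfsg.Agent.TitsThree.RankTwoRGD
  Cfsg.Agent.TitsThree.StdData
open Cfsg.Agent.StdRank2.OddLift Cfsg.Agent.StdRank2.B2Lift Cfsg.Agent.StdRank2.B2Std
  Cfsg.Agent.StdRank2.B2Torus Cfsg.Agent.StdRank2.B2Act Cfsg.Agent.StdRank2.B2Act.Std
  Cfsg.Agent.StdRank2.B2Par Cfsg.Agent.StdRank2.B2Par.Std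
open Cfsg.Agent.StdRank2.OutB2Tw Cfsg.Agent.StdRank2.OutB2Ident

universe u

variable {F : Type*} [Field F] {V : Type*} [AddCommGroup V] [Module F V] {D : PQDatum F V}

section maps

variable {Y : Type*} (t : Tw D) [Group Y] (m : B2Maps D Y)

theorem exists_mul {c : F} (hc : c ≠ 0) (ρ : F ≃+* F) (a : F) : ∃ b, a = c * ρ b :=
  ⟨ρ.symm (c⁻¹ * a), by rw [RingEquiv.apply_symm_apply, mul_inv_cancel_left₀ hc]⟩

theorem exists_sc (t : Tw D) {c : F} (hc : c ≠ 0) (p : D.T) : ∃ q, p = D.sc c (t.rT q) := by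
  obtain ⟨q, hq⟩ := t.rT_surjective (D.sc c⁻¹ p)
  refine ⟨q, ?_⟩
  rw [hq, D.sc_sc, mul_inv_cancel₀ hc, D.sc_one]

theorem genSet_tw : genSet (t.maps m) = genSet m := by
  ext g
  constructor
  · rintro (⟨a, rfl | rfl⟩ | ⟨p, rfl | rfl⟩)
    · exact Or.inl ⟨_, Or.inl rfl⟩
    · exact Or.inl ⟨_, Or.inr rfl⟩
    · exact Or.inr ⟨_, Or.inl rfl⟩
    · exact Or.inr ⟨_, Or.inr rfl⟩
  · rintro (⟨a, rfl | rfl⟩ | ⟨p, rfl | rfl⟩)
    · obtain ⟨b, hb⟩ := exists_mul t.lm_ne t.ρ a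
      exact Or.inl ⟨b, Or.inl (by rw [t.maps_x, ← hb])⟩
    · obtain ⟨b, hb⟩ := exists_mul (mul_ne_zero t.mu_ne (inv_ne_zero t.lam_ne)) t.ρ a
      exact Or.inl ⟨b, Or.inr (by rw [t.maps_x', ← hb])⟩
    · obtain ⟨q, hq⟩ := exists_sc t t.mu_ne p
      exact Or.inr ⟨q, Or.inl (by rw [t.maps_z₂, ← hq])⟩
    · obtain ⟨q, hq⟩ := exists_sc t (inv_ne_zero (D.σ_ne t.mu_ne)) p
      exact Or.inr ⟨q, Or.inr (by rw [t.maps_z₂', ← hq])⟩

theorem posSet_tw : posSet (t.maps m) = posSet m := by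
  ext g
  constructor
  · rintro (⟨a, rfl | rfl⟩ | ⟨p, rfl | rfl⟩)
    · exact Or.inl ⟨_, Or.inl rfl⟩
    · exact Or.inl ⟨_, Or.inr rfl⟩
    · exact Or.inr ⟨_, Or.inl rfl⟩
    · exact Or.inr ⟨_, Or.inr rfl⟩
  · rintro (⟨a, rfl | rfl⟩ | ⟨p, rfl | rfl⟩)
    · obtain ⟨b, hb⟩ := exists_mul t.lm_ne t.ρ a
      exact Or.inl ⟨b, Or.inl (by rw [t.maps_x, ← hb])⟩
    · obtain ⟨b, hb⟩ := exists_mul (mul_ne_zero t.lam_ne (D.σ_ne t.mu_ne)) t.ρ a
      exact Or.inl ⟨b, Or.inr (by rw [t.maps_y, ← hb])⟩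
    · obtain ⟨q, hq⟩ := exists_sc t t.lam_ne p
      exact Or.inr ⟨q, Or.inl (by rw [t.maps_z₁, ← hq])⟩
    · obtain ⟨q, hq⟩ := exists_sc t t.mu_ne p
      exact Or.inr ⟨q, Or.inr (by rw [t.maps_z₂, ← hq])⟩

theorem UU_tw : UU (t.maps m) = UU m := by
  unfold UU
  rw [posSet_tw]

end maps

variable {A : Type u} [Group A]

/-- The twisted package. -/
def tw (S : Std D A) (t : Tw D) : Std D A where
  m := t.maps S.m
  rel := t.rel S.rel S.hp₀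
  p₀ := S.p₀
  hp₀ := S.hp₀
  gen := by rw [genSet_tw]; exact S.gen
  ndI := by
    obtain ⟨a, ha⟩ := S.ndI
    obtain ⟨b, hb⟩ := exists_mul (mul_ne_zero t.mu_ne (inv_ne_zero t.lam_ne)) t.ρ a
    exact ⟨b, by rw [UU_tw, t.maps_x', ← hb]; exact ha⟩
  ndJ := by
    obtain ⟨p, hp⟩ := S.ndJ
    obtain ⟨q, hq⟩ := exists_sc t (inv_ne_zero (D.σ_ne t.mu_ne)) p
    exact ⟨q, by rw [UU_tw, t.maps_z₂', ← hq]; exact hp⟩

theorem tw_m (S : Std D A) (t : Tw D) : (tw S t).m = t.maps S.m := rfl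

theorem tw_U (S : Std D A) (t : Tw D) : (tw S t).U = S.U := UU_tw t S.m

/-- Automorphisms are determined on the generators. -/
theorem aut_ext (S : Std D A) {φ ψ : MulAut A} (hx : ∀ a, φ (S.m.x a) = ψ (S.m.x a))
    (hx' : ∀ a, φ (S.m.x' a) = ψ (S.m.x' a)) (hz : ∀ q, φ (S.m.z₂ q) = ψ (S.m.z₂ q))
    (hz' : ∀ q, φ (S.m.z₂' q) = ψ (S.m.z₂' q)) : φ = ψ := by
  have h1 : φ.toMonoidHom = ψ.toMonoidHom := by
    apply MonoidHom.eq_of_eqOn_dense S.gen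
    rintro k (⟨a, rfl | rfl⟩ | ⟨p, rfl | rfl⟩)
    · exact hx a
    · exact hx' a
    · exact hz p
    · exact hz' p
  exact MulEquiv.ext fun g => DFunLike.congr_fun h1 g

section simple

variable [IsSimpleGroup A] (S : Std D A)

/-- The automorphism carrying `S.m` to its twist. -/
noncomputable def auto (t : Tw D) : MulAut A := (exists_equiv S (tw S t)).choose

theorem auto_spec (t : Tw D) : Carries (auto S t).toMonoidHom S.m (t.maps S.m) :=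
  (exists_equiv S (tw S t)).choose_spec

theorem auto_x (t : Tw D) (a : F) : auto S t (S.m.x a) = S.m.x (t.lam * t.mu⁻¹ * t.ρ a) := (auto_spec S t).x a
theorem auto_x' (t : Tw D) (a : F) : auto S t (S.m.x' a) = S.m.x' (t.mu * t.lam⁻¹ * t.ρ a) := (auto_spec S t).x' a
theorem auto_y (t : Tw D) (a : F) : auto S t (S.m.y a) = S.m.y (t.lam * D.σ t.mu * t.ρ a) := (auto_spec S t).y a
theorem auto_y' (t : Tw D) (a : F) : auto S t (S.m.y' a) = S.m.y' ((D.σ t.lam * t.mu)⁻¹ * t.ρ a) :=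
  (auto_spec S t).y' a
theorem auto_z₁ (t : Tw D) (p : D.T) : auto S t (S.m.z₁ p) = S.m.z₁ (D.sc t.lam (t.rT p)) := (auto_spec S t).z₁ p
theorem auto_z₂ (t : Tw D) (p : D.T) : auto S t (S.m.z₂ p) = S.m.z₂ (D.sc t.mu (t.rT p)) := (auto_spec S t).z₂ p
theorem auto_z₁' (t : Tw D) (p : D.T) : auto S t (S.m.z₁' p) = S.m.z₁' (D.sc (D.σ t.lam)⁻¹ (t.rT p)) :=
  (auto_spec S t).z₁' p
theorem auto_z₂' (t : Tw D) (p : D.T) : auto S t (S.m.z₂' p) = S.m.z₂' (D.sc (D.σ t.mu)⁻¹ (t.rT p)) :=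
  (auto_spec S t).z₂' p

end simple

/-- Field automorphisms act on `V`. -/
structure FData (D : PQDatum F V) where
  r : (F ≃+* F) → (V ≃+ V)
  r_one : ∀ v, r 1 v = v
  r_mul : ∀ ρ τ v, r (ρ * τ) v = r ρ (r τ v)
  ρσ : ∀ (ρ : F ≃+* F) a, ρ (D.σ a) = D.σ (ρ a)
  ρε : ∀ ρ : F ≃+* F, ρ D.ε = D.ε
  r_smul : ∀ ρ (a : F) v, r ρ (a • v) = ρ a • r ρ v
  r_h : ∀ ρ v w, D.h (r ρ v) (r ρ w) = ρ (D.h v w)
  r_ok : ∀ ρ w c, D.ok (r ρ w) (ρ c) ↔ D.ok w c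

variable (N : FData D)

/-- Pure field twists. -/
def FData.tw (ρ : F ≃+* F) : Tw D where
  ρ := ρ
  r := N.r ρ
  lam := 1
  mu := 1
  lam_ne := one_ne_zero
  mu_ne := one_ne_zero
  ρσ := N.ρσ ρ
  ρε := N.ρε ρ
  r_smul := N.r_smul ρ
  r_h := N.r_h ρ
  r_ok := N.r_ok ρ

/-- the twist `(ρ, lam, mu)` -/
def FData.tww (ρ : F ≃+* F) {l m : F} (hl : l ≠ 0) (hm : m ≠ 0) : Tw D where
  ρ := ρ
  r := N.r ρ
  lam := l
  mu := m
  lam_ne := hl
  mu_ne := hm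
  ρσ := N.ρσ ρ
  ρε := N.ρε ρ
  r_smul := N.r_smul ρ
  r_h := N.r_h ρ
  r_ok := N.r_ok ρ

/-- Diagonal twists. -/
def dtw (D : PQDatum F V) {l m : F} (hl : l ≠ 0) (hm : m ≠ 0) : Tw D where
  ρ := 1
  r := AddEquiv.refl V
  lam := l
  mu := m
  lam_ne := hl
  mu_ne := hm
  ρσ _ := rfl
  ρε := rfl
  r_smul _ _ := rfl
  r_h _ _ := rfl
  r_ok _ _ := Iff.rfl

/-- the action on the parameter group -/
def FData.T (ρ : F ≃+* F) (p : D.T) : D.T := ⟨N.r ρ p.w, ρ p.c, (N.r_ok ρ _ _).2 p.ok⟩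

@[simp] theorem FData.T_w (ρ : F ≃+* F) (p : D.T) : (N.T ρ p).w = N.r ρ p.w := rfl
@[simp] theorem FData.T_c (ρ : F ≃+* F) (p : D.T) : (N.T ρ p).c = ρ p.c := rfl

theorem FData.T_mul (ρ τ : F ≃+* F) (p : D.T) : N.T (ρ * τ) p = N.T ρ (N.T τ p) := by
  ext
  · exact N.r_mul ρ τ _
  · rfl

theorem FData.T_one (p : D.T) : N.T 1 p = p := by
  ext
  · exact N.r_one _
  · rfl

theorem FData.T_sc (ρ : F ≃+* F) (a : F) (p : D.T) : N.T ρ (D.sc a p) = D.sc (ρ a) (N.T ρ p) :=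
  (N.tw ρ).rT_sc a p

theorem dtw_rT {l m : F} (hl : l ≠ 0) (hm : m ≠ 0) (p : D.T) : (dtw D hl hm).rT p = p := rfl

/-! ### The groups `Diag` and `Psi` -/

section groups

variable [IsSimpleGroup A] (S : Std D A)

/-- Diagonal automorphisms. -/
noncomputable def dg : Fˣ × Fˣ →* MulAut A where
  toFun c := auto S (dtw D c.1.ne_zero c.2.ne_zero)
  map_one' := by
    apply aut_ext S
    · intro a
      rw [auto_x, MulAut.one_apply]
      congr 1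
      show ((1 : Fˣ) : F) * ((1 : Fˣ) : F)⁻¹ * a = a
      simp
    · intro a
      rw [auto_x', MulAut.one_apply]
      congr 1
      show ((1 : Fˣ) : F) * ((1 : Fˣ) : F)⁻¹ * a = a
      simp
    · intro q
      rw [auto_z₂, MulAut.one_apply, dtw_rT]
      congr 1
      show D.sc ((1 : Fˣ) : F) q = q
      rw [Units.val_one, D.sc_one]
    · intro q
      rw [auto_z₂', MulAut.one_apply, dtw_rT]
      congr 1
      show D.sc (D.σ ((1 : Fˣ) : F))⁻¹ q = q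
      rw [Units.val_one, map_one, inv_one, D.sc_one]
  map_mul' c d := by
    apply aut_ext S
    · intro a
      rw [auto_x, MulAut.mul_apply, auto_x, auto_x]
      congr 1
      show ((c.1 * d.1 : Fˣ) : F) * ((c.2 * d.2 : Fˣ) : F)⁻¹ * a =
        (c.1 : F) * ((c.2 : Fˣ) : F)⁻¹ * ((d.1 : F) * ((d.2 : Fˣ) : F)⁻¹ * a)
      simp only [Units.val_mul, _root_.mul_inv_rev]
      ring
    · intro a
      rw [auto_x', MulAut.mul_apply, auto_x', auto_x']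
      congr 1
      show ((c.2 * d.2 : Fˣ) : F) * ((c.1 * d.1 : Fˣ) : F)⁻¹ * a =
        (c.2 : F) * ((c.1 : Fˣ) : F)⁻¹ * ((d.2 : F) * ((d.1 : Fˣ) : F)⁻¹ * a)
      simp only [Units.val_mul, _root_.mul_inv_rev]
      ring
    · intro q
      rw [auto_z₂, MulAut.mul_apply, auto_z₂, auto_z₂, dtw_rT, dtw_rT, dtw_rT, D.sc_sc]
      congr 2
    · intro q
      rw [auto_z₂', MulAut.mul_apply, auto_z₂', auto_z₂', dtw_rT, dtw_rT, dtw_rT, D.sc_sc]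
      congr 2
      show (D.σ ((c.2 * d.2 : Fˣ) : F))⁻¹ = (D.σ (c.2 : F))⁻¹ * (D.σ (d.2 : F))⁻¹
      rw [Units.val_mul, map_mul, mul_inv]

/-- Field automorphisms. -/
noncomputable def fd : (F ≃+* F) →* MulAut A where
  toFun ρ := auto S (N.tw ρ)
  map_one' := by
    apply aut_ext S
    · intro a
      rw [auto_x, MulAut.one_apply]
      congr 1
      show (1 : F) * (1 : F)⁻¹ * a = a
      simp
    · intro a
      rw [auto_x', MulAut.one_apply]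
      congr 1
      show (1 : F) * (1 : F)⁻¹ * a = a
      simp
    · intro q
      rw [auto_z₂, MulAut.one_apply]
      congr 1
      show D.sc 1 (N.T 1 q) = q
      rw [N.T_one, D.sc_one]
    · intro q
      rw [auto_z₂', MulAut.one_apply]
      congr 1
      show D.sc (D.σ 1)⁻¹ (N.T 1 q) = q
      rw [N.T_one, map_one, inv_one, D.sc_one]
  map_mul' ρ τ := by
    apply aut_ext S
    · intro a
      rw [auto_x, MulAut.mul_apply, auto_x, auto_x]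
      congr 1
      show (1 : F) * (1 : F)⁻¹ * ρ (τ a) = (1 : F) * (1 : F)⁻¹ * ρ ((1 : F) * (1 : F)⁻¹ * τ a)
      simp
    · intro a
      rw [auto_x', MulAut.mul_apply, auto_x', auto_x']
      congr 1
      show (1 : F) * (1 : F)⁻¹ * ρ (τ a) = (1 : F) * (1 : F)⁻¹ * ρ ((1 : F) * (1 : F)⁻¹ * τ a)
      simp
    · intro q
      rw [auto_z₂, MulAut.mul_apply, auto_z₂, auto_z₂]
      congr 1
      show D.sc 1 (N.T (ρ * τ) q) = D.sc 1 (N.T ρ (D.sc 1 (N.T τ q)))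
      rw [D.sc_one, D.sc_one, D.sc_one, N.T_mul]
    · intro q
      rw [auto_z₂', MulAut.mul_apply, auto_z₂', auto_z₂']
      congr 1
      show D.sc (D.σ 1)⁻¹ (N.T (ρ * τ) q) = D.sc (D.σ 1)⁻¹ (N.T ρ (D.sc (D.σ 1)⁻¹ (N.T τ q)))
      rw [map_one, inv_one, D.sc_one, D.sc_one, D.sc_one, N.T_mul]

theorem fd_x (ρ : F ≃+* F) (a : F) : fd N S ρ (S.m.x a) = S.m.x (ρ a) := by
  show auto S (N.tw ρ) _ = _
  rw [auto_x]
  congr 1
  show (1 : F) * (1 : F)⁻¹ * ρ a = ρ a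
  simp

theorem fd_x' (ρ : F ≃+* F) (a : F) : fd N S ρ (S.m.x' a) = S.m.x' (ρ a) := by
  show auto S (N.tw ρ) _ = _
  rw [auto_x']
  congr 1
  show (1 : F) * (1 : F)⁻¹ * ρ a = ρ a
  simp

theorem fd_y (ρ : F ≃+* F) (a : F) : fd N S ρ (S.m.y a) = S.m.y (ρ a) := by
  show auto S (N.tw ρ) _ = _
  rw [auto_y]
  congr 1
  show (1 : F) * D.σ 1 * ρ a = ρ a
  simp

theorem fd_y' (ρ : F ≃+* F) (a : F) : fd N S ρ (S.m.y' a) = S.m.y' (ρ a) := by
  show auto S (N.tw ρ) _ = _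
  rw [auto_y']
  congr 1
  show (D.σ 1 * 1)⁻¹ * ρ a = ρ a
  simp

theorem fd_z₁ (ρ : F ≃+* F) (p : D.T) : fd N S ρ (S.m.z₁ p) = S.m.z₁ (N.T ρ p) := by
  show auto S (N.tw ρ) _ = _
  rw [auto_z₁]
  congr 1
  show D.sc 1 (N.T ρ p) = _
  rw [D.sc_one]

theorem fd_z₂ (ρ : F ≃+* F) (p : D.T) : fd N S ρ (S.m.z₂ p) = S.m.z₂ (N.T ρ p) := by
  show auto S (N.tw ρ) _ = _
  rw [auto_z₂]
  congr 1
  show D.sc 1 (N.T ρ p) = _
  rw [D.sc_one]

theorem fd_z₁' (ρ : F ≃+* F) (p : D.T) : fd N S ρ (S.m.z₁' p) = S.m.z₁' (N.T ρ p) := by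
  show auto S (N.tw ρ) _ = _
  rw [auto_z₁']
  congr 1
  show D.sc (D.σ 1)⁻¹ (N.T ρ p) = _
  rw [map_one, inv_one, D.sc_one]

theorem fd_z₂' (ρ : F ≃+* F) (p : D.T) : fd N S ρ (S.m.z₂' p) = S.m.z₂' (N.T ρ p) := by
  show auto S (N.tw ρ) _ = _
  rw [auto_z₂']
  congr 1
  show D.sc (D.σ 1)⁻¹ (N.T ρ p) = _
  rw [map_one, inv_one, D.sc_one]

theorem dg_x (c : Fˣ × Fˣ) (a : F) : dg S c (S.m.x a) = S.m.x (c.1 * (c.2 : F)⁻¹ * a) := auto_x S _ a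
theorem dg_x' (c : Fˣ × Fˣ) (a : F) : dg S c (S.m.x' a) = S.m.x' (c.2 * (c.1 : F)⁻¹ * a) := auto_x' S _ a
theorem dg_y (c : Fˣ × Fˣ) (a : F) : dg S c (S.m.y a) = S.m.y (c.1 * D.σ c.2 * a) := auto_y S _ a
theorem dg_z₁ (c : Fˣ × Fˣ) (q : D.T) : dg S c (S.m.z₁ q) = S.m.z₁ (D.sc c.1 q) := auto_z₁ S _ q
theorem dg_z₂ (c : Fˣ × Fˣ) (q : D.T) : dg S c (S.m.z₂ q) = S.m.z₂ (D.sc c.2 q) := auto_z₂ S _ q
theorem dg_z₂' (c : Fˣ × Fˣ) (q : D.T) : dg S c (S.m.z₂' q) = S.m.z₂' (D.sc (D.σ c.2)⁻¹ q) := auto_z₂' S _ q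

theorem fd_mul_dg (ρ : F ≃+* F) (c : Fˣ × Fˣ) :
    fd N S ρ * dg S c = dg S (Units.map (ρ : F →* F) c.1, Units.map (ρ : F →* F) c.2) * fd N S ρ := by
  apply aut_ext S
  · intro a
    rw [MulAut.mul_apply, MulAut.mul_apply, dg_x, fd_x, fd_x, dg_x]
    congr 1
    simp
  · intro a
    rw [MulAut.mul_apply, MulAut.mul_apply, dg_x', fd_x', fd_x', dg_x']
    congr 1
    simp
  · intro a
    rw [MulAut.mul_apply, MulAut.mul_apply, dg_z₂, fd_z₂, fd_z₂, dg_z₂, N.T_sc]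
    congr 1
  · intro a
    rw [MulAut.mul_apply, MulAut.mul_apply, dg_z₂', fd_z₂', fd_z₂', dg_z₂', N.T_sc, map_inv₀, N.ρσ]
    congr 1

/-- The automorphism of the twist `(ρ, lam, mu)`. -/
theorem auto_tww (ρ : F ≃+* F) {l m : F} (hl : l ≠ 0) (hm : m ≠ 0) :
    auto S (N.tww ρ hl hm) = dg S (Units.mk0 l hl, Units.mk0 m hm) * fd N S ρ := by
  apply aut_ext S
  · intro a
    rw [MulAut.mul_apply, fd_x, dg_x, auto_x]
    rfl
  · intro a
    rw [MulAut.mul_apply, fd_x', dg_x', auto_x']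
    rfl
  · intro a
    rw [MulAut.mul_apply, fd_z₂, dg_z₂, auto_z₂]
    rfl
  · intro a
    rw [MulAut.mul_apply, fd_z₂', dg_z₂', auto_z₂']
    rfl

theorem odd_card_dg [Finite F] [CharP F 2] : Odd (Nat.card (dg S).range) := by
  have h1 : Nat.card (dg S).range ∣ Nat.card (Fˣ × Fˣ) :=
    Subgroup.card_dvd_of_surjective (dg S).rangeRestrict (dg S).rangeRestrict_surjective
  have h2 : Nat.card Fˣ = Nat.card F - 1 := by
    classical
    have := Fintype.ofFinite F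
    rw [Nat.card_eq_fintype_card, Nat.card_eq_fintype_card, Fintype.card_units]
  rw [Nat.card_prod, h2] at h1
  exact Odd.of_dvd_nat ((B2Self.odd_card_sub_one F).mul (B2Self.odd_card_sub_one F)) h1

end groups

end Cfsg.Agent.StdRank2.OutB2Aut
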