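import Cfsg.Agent.StdRank2.OutSpCyc

/-!
# `Out₂` of `U₄(q)`, `U₅(q)` is cyclic
-/

set_option autoImplicit false
set_option linter.unusedSectionVars false

namespace Cfsg.Agent.StdRank2.OutB2Cyc

open Subgroup
open scoped commutatorElement
open Cfsg.Agent.TitsThree.B2Pkg Cfsg.Agent.TitsThree.RankTwoIdentB2
  Cfsg.Agent.TitsThree.CoreB2 Cfsg.Agent.TitsThree.RankTwoIdx Cfsg.Agent.TitsThree.RankTwoRGD
  Cfsg.Agent.TitsThree.StdData
open Cfsg.Agent.StdRank2.OddLift Cfsg.Agent.StdRank2.B2Lift Cfsg.Agent.StdRank2.B2Std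
  Cfsg.Agent.StdRank2.B2Torus Cfsg.Agent.StdRank2.B2Act Cfsg.Agent.StdRank2.B2Act.Std
  Cfsg.Agent.StdRank2.B2Par Cfsg.Agent.StdRank2.B2Par.Std Cfsg.Agent.StdRank2.B2Self
  Cfsg.Agent.StdRank2.OutB2Par Cfsg.Agent.StdRank2.OutB2G Cfsg.Agent.StdRank2.OutL3Outer
  Cfsg.Agent.StdRank2.OutB2Grade Cfsg.Agent.StdRank2.OutB2Aut Cfsg.Agent.StdRank2.OutB2Tw
  Cfsg.Agent.StdRank2.OutB2Data Cfsg.Agent.StdRank2.OutB2Decomp Cfsg.Agent.StdRank2.OutB2Inv
  Cfsg.Agent.StdRank2.OutField Cfsg.Agent.StdRank2.OutB2Good Cfsg.Agent.StdRank2.OutB2Ident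
  Cfsg.Agent.StdRank2.OutAct Cfsg.Agent.StdRank2.OutSpCyc

universe u

variable {F : Type*} [Field F] [Finite F] [CharP F 2] {V : Type*} [AddCommGroup V] [Module F V] {D : PQDatum F V}
  {N : FData D} {G : Type u} [Group G] [Finite G] {A : Subgroup G} (S : Std D ↥A) {T : Subgroup G}

/-- the type of an element is unique -/
theorem type_unique (hZ : Odd (Nat.card (center ↥A))) {y u u' : G} (hu : u ∈ UG S) (hu' : u' ∈ UG S)
    {ρ ρ' : F ≃+* F} (h : Fld N S (u * y) ρ) (h' : Fld N S (u' * y) ρ') : ρ = ρ' := by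
  have hinv : Fld N S (u' * y)⁻¹ ρ'⁻¹ := by
    have key : ∀ {a b : G}, u' * y * b * (u' * y)⁻¹ = a → (u' * y)⁻¹ * a * (u' * y)⁻¹⁻¹ = b := by
      rintro a b rfl
      group
    have hρ : ∀ a, ρ' (ρ'⁻¹ a) = a := fun a => RingEquiv.apply_symm_apply ρ' a
    have hT : ∀ p, N.T ρ' (N.T ρ'⁻¹ p) = p := fun p => by rw [← N.T_mul, mul_inv_cancel, N.T_one]
    exact
      { x := fun a => key (by rw [h'.x, hρ])
        x' := fun a => key (by rw [h'.x', hρ])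
        y := fun a => key (by rw [h'.y, hρ])
        y' := fun a => key (by rw [h'.y', hρ])
        z₁ := fun a => key (by rw [h'.z₁, hT])
        z₂ := fun a => key (by rw [h'.z₂, hT])
        z₁' := fun a => key (by rw [h'.z₁', hT])
        z₂' := fun a => key (by rw [h'.z₂', hT]) }
  have h1 := fld_mul h hinv
  have e : u * y * (u' * y)⁻¹ = u * u'⁻¹ := by group
  rw [e] at h1
  exact mul_inv_eq_one.1 (eq_one_of_fld hZ (mul_mem hu (inv_mem hu')) h1).2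

/-- **`Out₂` is cyclic** -/
theorem exists_theta (hZ : Odd (Nat.card (center ↥A))) (had : Adapted N S T)
    (hTU : ∀ y ∈ T, ∀ u ∈ UG S, y * u * y⁻¹ ∈ UG S) :
    ∃ θ : ↥T →* (F ≃+* F), ∀ y : ↥T, θ y = 1 ↔ InU A (UG S) y := by
  choose u hu p hk h using fun y : ↥T => had y y.2
  have hmul : ∀ y z, p (y * z) = p y * p z := by
    intro y z
    have e1 : u y * (y * u z * (y : G)⁻¹) * ((y * z : ↥T) : G) = (u y * y) * (u z * z) := by
      push_cast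
      group
    have hm : u y * ((y : G) * u z * (y : G)⁻¹) ∈ UG S := mul_mem (hu y) (hTU y y.2 _ (hu z))
    refine type_unique S hZ (hu (y * z)) hm (h (y * z)) ?_
    rw [e1]
    exact fld_mul (h y) (h z)
  refine ⟨MonoidHom.mk' p hmul, fun y => ?_⟩
  show p y = 1 ↔ _
  constructor
  · intro e
    refine ⟨(u y)⁻¹, inv_mem (hu y), fun a ha => ?_⟩
    have hy := h y
    rw [e] at hy
    have h1 := mem_centralizer_iff.1 (fld_cent hy) a ha
    have h2 : u y * y * a * (u y * (y : G))⁻¹ = a := by rw [← h1, mul_inv_cancel_right]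
    calc (y : G) * a * (y : G)⁻¹ = (u y)⁻¹ * (u y * y * a * (u y * (y : G))⁻¹) * u y := by group
      _ = _ := by rw [h2, inv_inv]
  · rintro ⟨s, hs, hc⟩
    refine type_unique S hZ (hu y) (inv_mem hs) (h y) ?_
    have key : ∀ a : ↥A, s⁻¹ * (y : G) * a * (s⁻¹ * y)⁻¹ = a := by
      intro a
      have : s⁻¹ * (y : G) * a * (s⁻¹ * y)⁻¹ = s⁻¹ * (y * a * (y : G)⁻¹) * s := by group
      rw [this, hc a a.2]
      group
    exact
      { x := fun a => key _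
        x' := fun a => key _
        y := fun a => key _
        y' := fun a => key _
        z₁ := fun a => by rw [N.T_one]; exact key _
        z₂ := fun a => by rw [N.T_one]; exact key _
        z₁' := fun a => by rw [N.T_one]; exact key _
        z₂' := fun a => by rw [N.T_one]; exact key _ }

/-- elements of `T` whose square lies in `U` -/
theorem exists_sq_one (hZ : Odd (Nat.card (center ↥A))) (had : Adapted N S T)
    (hTU : ∀ y ∈ T, ∀ u ∈ UG S, y * u * y⁻¹ ∈ UG S) {x : G} (hx : x ∈ T) (hxx : x * x ∈ UG S) :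
    ∃ u ∈ UG S, x * u * (x * u) = 1 := by
  obtain ⟨u, hu, ρ, -, h⟩ := had x hx
  have hmem : u * x * (u * x) ∈ UG S := by
    have e : u * x * (u * x) = u * (x * u * x⁻¹) * (x * x) := by group
    rw [e]
    exact mul_mem (mul_mem hu (hTU x hx u hu)) hxx
  have hone : u * x * (u * x) = 1 := (eq_one_of_fld hZ hmem (fld_mul h h)).1
  refine ⟨x⁻¹ * u * x, ?_, ?_⟩
  · have e : x⁻¹ * u * x = (x * x)⁻¹ * (x * u * x⁻¹) * (x * x) := by group
    rw [e]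
    exact mul_mem (mul_mem (inv_mem hxx) (hTU x hx u hu)) hxx
  · rw [← hone]
    group

section final

variable [Finite D.T] [IsSimpleGroup (↥A ⧸ center ↥A)] (hZ : Odd (Nat.card (center ↥A))) (hN : Ty.{u} N)
  (hcard : Nat.card D.T ≠ Nat.card F) (hTA : T ≤ normalizer (A : Set G)) (hT : IsPGroup 2 T)
  (hTU : ∀ y ∈ T, ∀ u ∈ UG S, y * u * y⁻¹ ∈ UG S)

include hZ hN hcard hT hTA hTU

/-- **`T` modulo the elements inducing an element of `U` embeds in `Aut(F)`.** -/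
theorem exists_cyclic : ∃ θ : ↥T →* (F ≃+* F), ∀ y : ↥T, θ y = 1 ↔ InU A (UG S) y := by
  obtain ⟨c, hc⟩ := exists_adapted hZ S hN hcard T hT hTA hTU
  obtain ⟨θ, hθ⟩ := exists_theta _ hZ hc (by rw [UG_tw]; exact hTU)
  rw [UG_tw] at hθ
  exact ⟨θ, hθ⟩

theorem comm_mem {g h : G} (hg : g ∈ T) (hh : h ∈ T) : InU A (UG S) ⁅g, h⁆ := by
  obtain ⟨θ, hθ⟩ := exists_cyclic S hZ hN hcard hTA hT hTU
  exact (hθ ⁅(⟨g, hg⟩ : ↥T), (⟨h, hh⟩ : ↥T)⁆).1 (by
    rw [map_commutatorElement, commutatorElement_eq_one_iff_mul_comm]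
    exact OutField.comm _ _)

theorem unique_two {g y : G} (hg : g ∈ T) (hy : y ∈ T) (hgg : InU A (UG S) (g * g)) (hg1 : ¬ InU A (UG S) g)
    (hyy : InU A (UG S) (y * y)) (hy1 : ¬ InU A (UG S) y) : InU A (UG S) (y * g) := by
  obtain ⟨θ, hθ⟩ := exists_cyclic S hZ hN hcard hTA hT hTU
  have e1 : θ ⟨g, hg⟩ * θ ⟨g, hg⟩ = 1 := by rw [← map_mul]; exact (hθ _).2 hgg
  have e2 : θ ⟨y, hy⟩ * θ ⟨y, hy⟩ = 1 := by rw [← map_mul]; exact (hθ _).2 hyy
  have e3 : θ ⟨g, hg⟩ ≠ 1 := fun h => hg1 ((hθ _).1 h)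
  have e4 : θ ⟨y, hy⟩ ≠ 1 := fun h => hy1 ((hθ _).1 h)
  have e5 := unique_invol e1 e2 e3 e4
  refine (hθ (⟨y, hy⟩ * ⟨g, hg⟩)).1 ?_
  rw [map_mul, e5, e2]

/-- **a generator** -/
theorem exists_gen : ∃ f ∈ T, ∀ x ∈ T, ∃ n : ℕ, InU A (UG S) (f ^ n * x) := by
  obtain ⟨θ, hθ⟩ := exists_cyclic S hZ hN hcard hTA hT hTU
  have hC := isCyclic (F := F)
  have hfin := finite_aut (F := F)
  have hcyc : IsCyclic θ.range := inferInstance
  obtain ⟨⟨_, f, rfl⟩, hf⟩ := hcyc.exists_generator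
  refine ⟨f, f.2, fun x hx => ?_⟩
  have h1 := hf ⟨θ ⟨x, hx⟩⁻¹, ⟨⟨x, hx⟩⁻¹, rfl⟩⟩
  rw [← mem_powers_iff_mem_zpowers] at h1
  obtain ⟨n, hn⟩ := h1
  have hn' : θ f ^ n = θ ⟨x, hx⟩⁻¹ := congrArg Subtype.val hn
  refine ⟨n, (hθ (f ^ n * ⟨x, hx⟩)).1 ?_⟩
  rw [map_mul, map_pow, hn', map_inv, inv_mul_cancel]

/-- **(YS)** -/
theorem exists_sq_one' {x : G} (hx : x ∈ T) (hxx : x * x ∈ UG S) : ∃ u ∈ UG S, x * u * (x * u) = 1 := by
  obtain ⟨c, hc⟩ := exists_adapted hZ S hN hcard T hT hTA hTU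
  have := exists_sq_one _ hZ hc (by rw [UG_tw]; exact hTU) hx (by rw [UG_tw]; exact hxx)
  rw [UG_tw] at this
  exact this

end final

end Cfsg.Agent.StdRank2.OutB2Cyc
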