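import Cfsg.Agent.StdRank2.OutB2Grade
import Cfsg.Agent.StdRank2.OutField

/-!
# The three standard data, and the decomposition of automorphisms normalising `U`, `V_I`, `V_J`

`Ty N`: what is needed of a datum `D` with field automorphisms `N`.  `tySp`, `tyU0`, `tyU1`.
`Ty.decomp`: an automorphism `φ` of the simple group `A` which normalises `U`, `V_I`, `V_J` is
`conj u * dg c * fd ρ`.
-/

set_option autoImplicit false
set_option linter.unusedSectionVars false

namespace Cfsg.Agent.StdRank2.OutB2Data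

open Subgroup
open Cfsg.Agent.TitsThree.B2Pkg Cfsg.Agent.TitsThree.RankTwoIdentB2
  Cfsg.Agent.TitsThree.CoreB2 Cfsg.Agent.TitsThree.RankTwoIdx Cfsg.Agent.TitsThree.RankTwoRGD
  Cfsg.Agent.TitsThree.StdData
open Cfsg.Agent.StdRank2.OddLift Cfsg.Agent.StdRank2.B2Lift Cfsg.Agent.StdRank2.B2Std
  Cfsg.Agent.StdRank2.B2Torus Cfsg.Agent.StdRank2.B2Act Cfsg.Agent.StdRank2.B2Act.Std
  Cfsg.Agent.StdRank2.B2Par Cfsg.Agent.StdRank2.B2Par.Std Cfsg.Agent.StdRank2.B2Self
  Cfsg.Agent.StdRank2.OutB2Par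
  Cfsg.Agent.StdRank2.OutB2Grade Cfsg.Agent.StdRank2.OutB2Aut Cfsg.Agent.StdRank2.OutB2Tw
  Cfsg.Agent.StdRank2.OutField

universe u

section general

variable {F : Type*} [Field F] {V : Type*} [AddCommGroup V] [Module F V] {D : PQDatum F V}

/-- The scalar of a compatible endomorphism of the parameter group. -/
def Fit (N : FData D) : Prop :=
  ∀ (γ : F) (ρ : F ≃+* F) (g : D.T → D.T), γ ≠ 0 → (∀ p q, g (p * q) = g p * g q) →
    (∀ q : D.T, q.w = 0 → (g q).w = 0 ∧ (g q).c = γ * ρ q.c) →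
    (∀ a q, (g (D.sc a q)).w = D.σ (ρ a) • (g q).w) →
    ∃ m : F, m ≠ 0 ∧ ∀ q : D.T, (g q).w = D.σ m • N.r ρ q.w ∧ (q.w = 0 → g q = D.sc m (N.T ρ q))

/-- A datum with everything needed. -/
structure Ty (N : FData D) : Prop where
  gd : GD D
  scal : Scal D
  fit : Fit N
  lam : ∃ lam, Lam D lam
  hT : ∀ {A : Type u} [Group A] (S : Std D A), ∃ g ∈ S.H, ∃ β : F, β ≠ 1 ∧ ActT g S.m.z₂ β 1

end general

section instances

variable {F : Type*} [Field F] [Finite F] [CharP F 2]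

theorem neg_one_eq : (-1 : F) = 1 := by
  have : (1 : F) + 1 = 0 := CharTwo.add_self_eq_zero 1
  linear_combination -this

theorem exists_ne01 (h : 3 ≤ Nat.card F) : ∃ s : F, s ≠ 0 ∧ s ≠ 1 := by
  classical
  have := Fintype.ofFinite F
  by_contra hcon
  push Not at hcon
  have h1 : (Finset.univ : Finset F) ⊆ {0, 1} := by
    intro s _
    by_cases hs : s = 0
    · simp [hs]
    · simp [hcon s hs]
  have h2 := Finset.card_le_card h1
  rw [Finset.card_univ, ← Nat.card_eq_fintype_card] at h2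
  have h3 : ({0, 1} : Finset F).card ≤ 2 := Finset.card_le_two
  omega

/-- a fixed point `≠ 0, 1` -/
theorem exists_fix {σ : F ≃+* F} (h2 : σ * σ = 1) (h1 : σ ≠ 1) (hq : 5 ≤ Nat.card F) :
    ∃ s : F, σ s = s ∧ s ≠ 0 ∧ s ≠ 1 := by
  classical
  have := Fintype.ofFinite F
  by_contra hcon
  push Not at hcon
  have hc := card_fix h2 h1
  have h3 : Nat.card {x : F // σ x = x} ≤ 2 := by
    have h4 : Nat.card {x : F // σ x = x} = (Finset.univ.filter (fun x : F => σ x = x)).card := by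
      rw [Nat.card_eq_fintype_card, Fintype.card_subtype]
    rw [h4]
    have h5 : (Finset.univ.filter (fun x : F => σ x = x)) ⊆ {0, 1} := by
      intro s hs
      rw [Finset.mem_filter] at hs
      by_cases h0 : s = 0
      · simp [h0]
      · simp [hcon s hs.2 h0]
    exact (Finset.card_le_card h5).trans Finset.card_le_two
  have h6 : Nat.card {x : F // σ x = x} * Nat.card {x : F // σ x = x} ≤ 2 * 2 := Nat.mul_le_mul h3 h3
  omega

/-- square roots of fixed elements are fixed -/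
theorem exists_sqrt_fix (σ : F ≃+* F) {c : F} (hc : σ c = c) : ∃ s, s * σ s = c ∧ σ s = s := by
  obtain ⟨s, hs⟩ := exists_sqrt c
  have h1 : σ s = s := by
    have h2 : σ s * σ s = s * s := by rw [← map_mul, hs, hc]
    have h3 : (σ s + s) * (σ s + s) = 0 := by
      have h4 : (s * s) + (s * s) = 0 := CharTwo.add_self_eq_zero _
      have h5 : (σ s * s) + (σ s * s) = 0 := CharTwo.add_self_eq_zero _
      linear_combination h2 + h4 + h5
    have h4 := mul_self_eq_zero.1 h3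
    exact CharTwo.add_eq_zero.1 h4
  exact ⟨s, by rw [h1, hs], h1⟩

/-! ### Symplectic -/

/-- Field automorphisms, symplectic case. -/
def nSp : FData (stdSp F) where
  r _ := AddEquiv.refl Unit
  r_one _ := rfl
  r_mul _ _ _ := rfl
  ρσ _ _ := rfl
  ρε ρ := by
    show ρ (-1) = -1
    rw [map_neg, map_one]
  r_smul _ _ _ := rfl
  r_h ρ _ _ := (map_zero ρ).symm
  r_ok _ _ _ := Iff.rfl

theorem fit_unit {D : PQDatum F Unit} (N : FData D) (hσ : ∀ q : D.T, D.σ q.c = q.c) (hok : D.ok 0 1) : Fit N := by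
  intro γ ρ g hγ _ h2 _
  let one : D.T := ⟨0, 1, hok⟩
  have h3 := (h2 one rfl).2
  have h4 : ρ one.c = 1 := map_one ρ
  rw [h4, mul_one] at h3
  have h5 : D.σ γ = γ := by rw [← h3, hσ]
  obtain ⟨m, hm, -⟩ := exists_sqrt_fix D.σ h5
  refine ⟨m, ?_, fun q => ⟨rfl, fun hq => ?_⟩⟩
  · rintro rfl
    rw [zero_mul] at hm
    exact hγ hm.symm
  · ext
    rw [(h2 q hq).2, D.sc_c, hm]
    rfl

theorem hT_unit {D : PQDatum F Unit} {A : Type u} [Group A] (S : Std D A) :
    ∃ g ∈ S.H, ∃ β : F, β ≠ 1 ∧ ActT g S.m.z₂ β 1 :=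
  ⟨1, one_mem _, 0, zero_ne_one, fun q => ⟨q, rfl, (one_mul _).symm, by group⟩⟩

theorem tySp (hF : 3 ≤ Nat.card F) : Ty.{u} (nSp (F := F)) where
  gd := ⟨neg_one_eq, trivial, fun _ _ => rfl⟩
  scal := scal_Sp
  fit := fit_unit _ (fun _ => rfl) trivial
  lam := by
    obtain ⟨s, h0, h1⟩ := exists_ne01 (F := F) hF
    exact ⟨s, h0, h1, rfl, trivial, trivial⟩
  hT := hT_unit

/-! ### Unitary, even dimension -/

variable (σ : F ≃+* F) (hσ : ∀ x, σ (σ x) = x)

/-- Field automorphisms, unitary case, even dimension. -/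
def nU0 : FData (stdU0 F σ hσ) where
  r _ := AddEquiv.refl Unit
  r_one _ := rfl
  r_mul _ _ _ := rfl
  ρσ ρ a := by
    have := congrArg (fun τ : F ≃+* F => τ a) (OutField.comm ρ σ)
    exact this
  ρε ρ := map_one ρ
  r_smul _ _ _ := rfl
  r_h ρ _ _ := (map_zero ρ).symm
  r_ok ρ w c := by
    show ρ c + σ (ρ c) = 0 ↔ c + σ c = 0
    have h : σ (ρ c) = ρ (σ c) := by
      have := congrArg (fun τ : F ≃+* F => τ c) (OutField.comm σ ρ)
      exact this
    rw [h, ← map_add, map_eq_zero_iff ρ ρ.injective]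

theorem tyU0 (h1 : σ ≠ 1) (hF : 5 ≤ Nat.card F) : Ty.{u} (nU0 σ hσ) where
  gd := ⟨rfl, by
    show (1 : F) + σ 1 = 0
    rw [map_one, CharTwo.add_self_eq_zero], fun _ _ => rfl⟩
  scal := scal_U0 σ hσ
  fit := fit_unit _ (fun q => by
    have h := q.ok
    change q.c + σ q.c = 0 at h
    exact (CharTwo.add_eq_zero.1 h).symm) (by
    show (1 : F) + σ 1 = 0
    rw [map_one, CharTwo.add_self_eq_zero])
  lam := by
    obtain ⟨s, hs, h2, h3⟩ := exists_fix (σ := σ) (RingEquiv.ext hσ) h1 hF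
    refine ⟨s, h2, h3, hs, ?_, ?_⟩
    · show s + σ s = 0
      rw [hs, CharTwo.add_self_eq_zero]
    · show (1 : F) + σ 1 = 0
      rw [map_one, CharTwo.add_self_eq_zero]
  hT := hT_unit

/-! ### Unitary, odd dimension -/

/-- Field automorphisms, unitary case, odd dimension. -/
def nU1 : FData (stdU1 F σ hσ) where
  r ρ := ρ.toAddEquiv
  r_one _ := rfl
  r_mul _ _ _ := rfl
  ρσ ρ a := by
    have := congrArg (fun τ : F ≃+* F => τ a) (OutField.comm ρ σ)
    exact this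
  ρε ρ := map_one ρ
  r_smul ρ a v := by
    show ρ (a * v) = ρ a * ρ v
    rw [map_mul]
  r_h ρ v w := by
    show ρ v * σ (ρ w) = ρ (v * σ w)
    have h : σ (ρ w) = ρ (σ w) := by
      have := congrArg (fun τ : F ≃+* F => τ w) (OutField.comm σ ρ)
      exact this
    rw [h, map_mul]
  r_ok ρ w c := by
    show ρ c + σ (ρ c) = -(ρ w * σ (ρ w)) ↔ c + σ c = -(w * σ w)
    have h : ∀ c, σ (ρ c) = ρ (σ c) := by
      intro c
      have := congrArg (fun τ : F ≃+* F => τ c) (OutField.comm σ ρ)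
      exact this
    rw [h, h, ← map_add, ← map_mul, ← map_neg]
    exact ρ.injective.eq_iff

/-- an element of the parameter group with `w = 1` -/
theorem exists_w (h1 : σ ≠ 1) (w : F) : ∃ q : (stdU1 F σ hσ).T, q.w = w := by
  obtain ⟨c, hc⟩ := exists_trace (σ := σ) (RingEquiv.ext hσ) h1 (a := -(w * σ w)) (by
    rw [map_neg, map_mul, hσ, mul_comm])
  exact ⟨⟨w, c, hc⟩, rfl⟩

theorem fitU1 (h1 : σ ≠ 1) : Fit (nU1 σ hσ) := by
  intro γ ρ g hγ hm h2 h3
  obtain ⟨q₁, hq₁⟩ := exists_w σ hσ h1 1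
  have hε : (stdU1 F σ hσ).ε = 1 := rfl
  -- the square of `q₁`
  have e1 : (q₁ * q₁).w = 0 := by
    rw [PQDatum.T.mul_w]
    exact CharTwo.add_self_eq_zero _
  have e2 : (q₁ * q₁).c = 1 := by
    rw [PQDatum.T.mul_c, CharTwo.add_self_eq_zero, hq₁]
    show (0 : F) - 1 * σ 1 = 1
    rw [map_one, mul_one, zero_sub, neg_one_eq]
  have e3 := (h2 _ e1).2
  rw [e2, map_one, mul_one, hm, PQDatum.T.mul_c, CharTwo.add_self_eq_zero] at e3
  have e4 : (g q₁).w * σ (g q₁).w = γ := by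
    have e5 : (0 : F) - (g q₁).w * σ (g q₁).w = γ := e3
    have e6 : (g q₁).w * σ (g q₁).w + (g q₁).w * σ (g q₁).w = 0 := CharTwo.add_self_eq_zero _
    linear_combination e5 + e6
  refine ⟨σ (g q₁).w, ?_, ?_⟩
  · intro h0
    rw [h0, mul_zero] at e4
    exact hγ e4.symm
  intro q
  have hw : (g q).w = ρ q.w * (g q₁).w := by
    -- `q = sc (σ q.w) q₁ * r`
    have k1 : ((stdU1 F σ hσ).sc (σ q.w) q₁).w = q.w := by
      show σ (σ q.w) * q₁.w = q.w
      rw [hσ, hq₁, mul_one]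
    have k2 := h3 (σ q.w) q₁
    have k3 : (((stdU1 F σ hσ).sc (σ q.w) q₁)⁻¹ * q).w = 0 := by
      rw [PQDatum.T.mul_w, PQDatum.T.inv_w, k1, neg_add_cancel]
    have k4 := (h2 _ k3).1
    have k5 : g q = g ((stdU1 F σ hσ).sc (σ q.w) q₁) * g (((stdU1 F σ hσ).sc (σ q.w) q₁)⁻¹ * q) := by
      rw [← hm, mul_inv_cancel_left]
    rw [k5, PQDatum.T.mul_w, k4, add_zero, k2]
    show σ (ρ (σ q.w)) * (g q₁).w = _
    have h : σ (ρ (σ q.w)) = ρ (σ (σ q.w)) := by
      have := congrArg (fun τ : F ≃+* F => τ (σ q.w)) (OutField.comm σ ρ)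
      exact this
    rw [h, hσ]
  refine ⟨?_, fun hq => ?_⟩
  · rw [hw]
    show _ = σ (σ (g q₁).w) * ρ q.w
    rw [hσ, mul_comm]
  · ext
    · rw [(h2 q hq).1]
      show (0 : F) = σ (σ (g q₁).w) * ρ q.w
      rw [hq, map_zero, mul_zero]
    · rw [(h2 q hq).2]
      show γ * ρ q.c = σ (g q₁).w * σ (σ (g q₁).w) * ρ q.c
      rw [hσ, mul_comm (σ _), e4]

theorem tyU1 (h1 : σ ≠ 1) (hF : 5 ≤ Nat.card F) : Ty.{u} (nU1 σ hσ) where
  gd := ⟨rfl, by
    show (1 : F) + σ 1 = -(0 * σ 0)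
    rw [map_one, CharTwo.add_self_eq_zero, zero_mul, neg_zero], fun w hw => by
      obtain ⟨q₁, hq₁⟩ := exists_w σ hσ h1 1
      have h := hw q₁
      change w * σ q₁.w = 0 at h
      rw [hq₁, map_one, mul_one] at h
      exact h⟩
  scal := scal_U1 σ hσ
  fit := fitU1 σ hσ h1
  lam := by
    obtain ⟨s, hs, h2, h3⟩ := exists_fix (σ := σ) (RingEquiv.ext hσ) h1 hF
    refine ⟨s, h2, h3, hs, ?_, ?_⟩
    · show s + σ s = -(0 * σ 0)
      rw [hs, CharTwo.add_self_eq_zero, zero_mul, neg_zero]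
    · show (1 : F) + σ 1 = -(0 * σ 0)
      rw [map_one, CharTwo.add_self_eq_zero, zero_mul, neg_zero]
  hT := by
    intro A _ S
    obtain ⟨x, hx⟩ : ∃ x, σ x ≠ x := by
      by_contra h
      push Not at h
      exact h1 (RingEquiv.ext h)
    have hx0 : x ≠ 0 := by
      rintro rfl
      exact hx (map_zero σ)
    have hσx : σ x ≠ 0 := (map_ne_zero_iff σ σ.injective).2 hx0
    have hs0 : x * (σ x)⁻¹ ≠ 0 := mul_ne_zero hx0 (inv_ne_zero hσx)
    have hN : (x * (σ x)⁻¹) * σ (x * (σ x)⁻¹) = 1 := by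
      rw [map_mul, map_inv₀, hσ]
      field_simp
    have ht := (tact_hI S.rel S.hp₀ hs0).z₂
    refine ⟨hI S.m (x * (σ x)⁻¹), hI_mem_H hs0, x * (σ x)⁻¹, ?_, ?_⟩
    · intro h
      apply hx
      rw [mul_inv_eq_one₀ hσx] at h
      exact h.symm
    · refine congrT ht ?_ ?_
      · show σ (x * (σ x)⁻¹)⁻¹ * 1 = _
        rw [mul_one, map_inv₀]
        exact (eq_inv_of_mul_eq_one_left hN).symm
      · show (x * (σ x)⁻¹)⁻¹ * σ (x * (σ x)⁻¹)⁻¹ = 1
        rw [map_inv₀, ← mul_inv, hN, inv_one]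

end instances

end Cfsg.Agent.StdRank2.OutB2Data
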