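import Cfsg.Agent.StdRank2.OutB2Data
import Cfsg.Agent.StdRank2.OutSylow

/-!
# Decomposition of the automorphisms normalising `U`, `V_I`, `V_J`
-/

set_option autoImplicit false
set_option linter.unusedSectionVars false

namespace Cfsg.Agent.StdRank2.OutB2Decomp

open Subgroup
open Cfsg.Agent.TitsThree.B2Pkg Cfsg.Agent.TitsThree.RankTwoIdentB2
  Cfsg.Agent.TitsThree.CoreB2 Cfsg.Agent.TitsThree.RankTwoIdx Cfsg.Agent.TitsThree.RankTwoRGD
open Cfsg.Agent.StdRank2.OddLift Cfsg.Agent.StdRank2.B2Lift Cfsg.Agent.StdRank2.B2Std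
  Cfsg.Agent.StdRank2.B2Torus Cfsg.Agent.StdRank2.B2Act Cfsg.Agent.StdRank2.B2Act.Std
  Cfsg.Agent.StdRank2.B2Par Cfsg.Agent.StdRank2.B2Par.Std Cfsg.Agent.StdRank2.B2Self
  Cfsg.Agent.StdRank2.OutB2Par
  Cfsg.Agent.StdRank2.OutB2Grade Cfsg.Agent.StdRank2.OutB2Aut Cfsg.Agent.StdRank2.OutB2Tw
  Cfsg.Agent.StdRank2.OutB2Data

universe u

variable {F : Type*} [Field F] {V : Type*} [AddCommGroup V] [Module F V] {D : PQDatum F V} {N : FData D}
variable {A : Type u} [Group A]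

section

variable [IsSimpleGroup A] (S : Std D A)

include S in
theorem center_eq_bot : Subgroup.center A = ⊥ := by
  rcases (inferInstance : (Subgroup.center A).Normal).eq_bot_or_eq_top with h | h
  · exact h
  · exfalso
    obtain ⟨a, ha⟩ := S.ndI
    apply ha
    have h1 := S.rel.nI_x (-a)
    rw [neg_neg] at h1
    have h2 : S.m.nI ∈ Subgroup.center A := by rw [h]; trivial
    rw [← h1, ← mem_center_iff.1 h2, mul_inv_cancel_right]
    exact x_mem _

theorem auto_nf (t : Tw D) (a : F) (p : D.T) (b : F) (q : D.T) :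
    auto S t (nf S.m a p b q) = nf S.m (t.lam * t.mu⁻¹ * t.ρ a) (D.sc t.lam (t.rT p))
      (t.lam * D.σ t.mu * t.ρ b) (D.sc t.mu (t.rT q)) := by
  unfold nf
  rw [map_mul, map_mul, map_mul, auto_x, auto_z₁, auto_y, auto_z₂]

theorem auto_U (t : Tw D) {v : A} (hv : v ∈ S.U) : auto S t v ∈ S.U := by
  obtain ⟨a, p, b, q, rfl⟩ := exists_nf S.rel hv
  rw [auto_nf]
  exact nf_mem _ _ _ _

theorem auto_PX (t : Tw D) {g : A} {a : F} (h : PX S g a) : PX S (auto S t g) (t.lam * t.mu⁻¹ * t.ρ a) := by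
  obtain ⟨p, b, q, rfl⟩ := h
  rw [auto_nf]
  exact ⟨_, _, _, rfl⟩

theorem auto_PZ (t : Tw D) {g : A} {q : D.T} (h : PZ S g q) : PZ S (auto S t g) (D.sc t.mu (t.rT q)) := by
  obtain ⟨a, p, b, rfl⟩ := h
  rw [auto_nf]
  exact ⟨_, _, _, rfl⟩

end

variable [Finite F] [CharP F 2] [Finite A] [Finite D.T] [IsSimpleGroup A] {S : Std D A} {φ : MulAut A}

/-- **Decomposition of the automorphisms normalising `U`, `V_I`, `V_J`.** -/
theorem decomp (hN : Ty.{u} N) (hU : ∀ v ∈ S.U, φ v ∈ S.U) (hVI : ∀ v ∈ S.VI, φ v ∈ S.VI)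
    (hVJ : ∀ v ∈ S.VJ, φ v ∈ S.VJ) :
    ∃ u ∈ S.U, ∃ (c : Fˣ × Fˣ) (ρ : F ≃+* F), φ = MulAut.conj u * (dg S c * fd N S ρ) := by
  obtain ⟨k, γ, ρ, hk, hγ, h1, h2, h3⟩ := graded hN.gd hU hVI hVJ hN.scal
  choose g hg using fun q : D.T => exists_PZ (hU _ (z₂_mem (m := S.m) q))
  have hm : ∀ p q, g (p * q) = g p * g q := by
    intro p q
    have i1 := (hg p).mul (hg q)
    rw [← map_mul, ← S.rel.z₂_mul] at i1
    exact (hg _).uniq i1
  have h2' : ∀ q : D.T, q.w = 0 → (g q).w = 0 ∧ (g q).c = γ * ρ q.c := by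
    intro q hq
    obtain ⟨q', i1, i2, i3⟩ := h2 q hq
    rw [(hg q).uniq i3]
    exact ⟨i1, i2⟩
  have h3' : ∀ a q, (g (D.sc a q)).w = D.σ (ρ a) • (g q).w := fun a q => h3 a q _ _ (hg q) (hg _)
  obtain ⟨m, hm0, hfit⟩ := hN.fit γ ρ g hγ hm h2' h3'
  have hkm : k * m ≠ 0 := mul_ne_zero hk hm0
  let t : Tw D := N.tww ρ hkm hm0
  have ht1 : t.lam * t.mu⁻¹ = k := by
    show k * m * m⁻¹ = k
    rw [mul_assoc, mul_inv_cancel₀ hm0, mul_one]
  have hτU : ∀ v ∈ S.U, (auto S t)⁻¹ v ∈ S.U := by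
    intro v hv
    obtain ⟨w, hw, e⟩ := exists_preimage (fun v hv => auto_U S t hv) hv
    have : (auto S t)⁻¹ v = w := by
      rw [← e]
      exact MulEquiv.symm_apply_apply _ _
    rw [this]
    exact hw
  have hττ : ∀ v, auto S t ((auto S t)⁻¹ v) = v := fun v => MulEquiv.apply_symm_apply _ _
  have hT : Triv S ((auto S t)⁻¹ * φ) := by
    refine ⟨fun a => ?_, fun q => ?_, fun q hq => ?_⟩
    · rw [MulAut.mul_apply]
      obtain ⟨c, hc⟩ := exists_PX (hτU _ (hU _ (x_mem (m := S.m) a)))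
      have i1 := auto_PX S t hc
      rw [hττ, ht1] at i1
      have i2 := (h1 a).uniq i1
      have i3 : ρ a = ρ c := mul_left_cancel₀ hk i2
      have i4 := ρ.injective i3
      rwa [← i4] at hc
    · rw [MulAut.mul_apply]
      obtain ⟨c, hc⟩ := exists_PZ (hτU _ (hU _ (z₂_mem (m := S.m) q)))
      have i1 := auto_PZ S t hc
      rw [hττ] at i1
      have i2 := (hg q).uniq i1
      have i3 := congrArg PQDatum.T.w i2
      rw [(hfit q).1] at i3
      have i4 : D.σ m • N.r ρ q.w = D.σ m • N.r ρ c.w := i3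
      have i5 := congrArg (fun v => (D.σ m)⁻¹ • v) i4
      simp only [smul_smul, inv_mul_cancel₀ (D.σ_ne hm0), one_smul] at i5
      have i6 := (N.r ρ).injective i5
      refine ⟨q⁻¹ * c, ?_, ?_⟩
      · rw [PQDatum.T.mul_w, PQDatum.T.inv_w, i6, neg_add_cancel]
      · rw [mul_inv_cancel_left]
        exact hc
    · rw [MulAut.mul_apply]
      obtain ⟨c, hc⟩ := exists_PZ (hτU _ (hU _ (z₂_mem (m := S.m) q)))
      have i1 := auto_PZ S t hc
      rw [hττ] at i1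
      have i2 := (hg q).uniq i1
      rw [(hfit q).2 hq] at i2
      have i3 : D.sc m (N.T ρ q) = D.sc m (N.T ρ c) := i2
      have i4 := congrArg (D.sc m⁻¹) i3
      rw [D.sc_sc, D.sc_sc, inv_mul_cancel₀ hm0, D.sc_one, D.sc_one] at i4
      have i5 : q = c := t.rT_injective i4
      rw [i5] at hc ⊢
      exact hc
  obtain ⟨lam, hL⟩ := hN.lam
  obtain ⟨u, hu, e⟩ := inner_of_triv hL hN.scal (hN.hT S) (center_eq_bot S) hT
  refine ⟨auto S t u, auto_U S t hu, (Units.mk0 _ hkm, Units.mk0 _ hm0), ρ, ?_⟩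
  have e1 : φ = auto S t * MulAut.conj u := by
    rw [← e, mul_inv_cancel_left]
  have e2 : auto S t * MulAut.conj u = MulAut.conj (auto S t u) * auto S t := by
    apply MulEquiv.ext
    intro x
    show auto S t (u * x * u⁻¹) = auto S t u * auto S t x * (auto S t u)⁻¹
    rw [map_mul, map_mul, map_inv]
  rw [e1, e2, ← auto_tww N S ρ hkm hm0]

end Cfsg.Agent.StdRank2.OutB2Decomp
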