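import Cfsg.Agent.StdRank2.OutB2Decomp
import Cfsg.Agent.StdRank2.OutAct

/-!
# 2-elements of the normaliser of `A` in adapted coordinates, types `B₂`

`A ≤ G`, `S : Std D ↥A`, `Z(A)` of odd order, `A / Z(A)` simple.  `quotStd`: the package of `A / Z(A)`.
`Fld N S y ρ`: `y` acts on the package as the field automorphism `ρ`.
`exists_adapted`: if `T` is a 2-group normalising `A` and `U` then, after a diagonal twist of the package, every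
element of `T` is in `U f` with `f` a field automorphism (`|T| ≠ |F|`, types `U₄`, `U₅`).
-/

set_option autoImplicit false
set_option linter.unusedSectionVars false

namespace Cfsg.Agent.StdRank2.OutB2G

open Subgroup
open Cfsg.Agent.TitsThree.B2Pkg Cfsg.Agent.TitsThree.RankTwoIdentB2
  Cfsg.Agent.TitsThree.CoreB2 Cfsg.Agent.TitsThree.RankTwoIdx Cfsg.Agent.TitsThree.RankTwoRGD
open Cfsg.Agent.StdRank2.OddLift Cfsg.Agent.StdRank2.B2Lift Cfsg.Agent.StdRank2.B2Std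
  Cfsg.Agent.StdRank2.B2Torus Cfsg.Agent.StdRank2.B2Act Cfsg.Agent.StdRank2.B2Act.Std
  Cfsg.Agent.StdRank2.B2Par Cfsg.Agent.StdRank2.B2Par.Std Cfsg.Agent.StdRank2.B2Self
  Cfsg.Agent.StdRank2.OutB2Par Cfsg.Agent.StdRank2.OutAct
  Cfsg.Agent.StdRank2.OutB2Grade Cfsg.Agent.StdRank2.OutB2Aut Cfsg.Agent.StdRank2.OutB2Tw
  Cfsg.Agent.StdRank2.OutB2Data Cfsg.Agent.StdRank2.OutB2Decomp

universe u

variable {F : Type*} [Field F] {V : Type*} [AddCommGroup V] [Module F V] {D : PQDatum F V}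

section quot

variable {A : Type u} [Group A]

theorem posSet_map {Z : Type*} [Group Z] (f : A →* Z) (m : B2Maps D A) : posSet (m.map f) = f '' posSet m := by
  ext g
  constructor
  · rintro (⟨a, rfl | rfl⟩ | ⟨p, rfl | rfl⟩)
    · exact ⟨m.x a, Or.inl ⟨a, Or.inl rfl⟩, rfl⟩
    · exact ⟨m.y a, Or.inl ⟨a, Or.inr rfl⟩, rfl⟩
    · exact ⟨m.z₁ p, Or.inr ⟨p, Or.inl rfl⟩, rfl⟩
    · exact ⟨m.z₂ p, Or.inr ⟨p, Or.inr rfl⟩, rfl⟩
  · rintro ⟨g, (⟨a, rfl | rfl⟩ | ⟨p, rfl | rfl⟩), rfl⟩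
    · exact Or.inl ⟨a, Or.inl rfl⟩
    · exact Or.inl ⟨a, Or.inr rfl⟩
    · exact Or.inr ⟨p, Or.inl rfl⟩
    · exact Or.inr ⟨p, Or.inr rfl⟩

theorem genSet_map {Z : Type*} [Group Z] (f : A →* Z) (m : B2Maps D A) : genSet (m.map f) = f '' genSet m := by
  ext g
  constructor
  · rintro (⟨a, rfl | rfl⟩ | ⟨p, rfl | rfl⟩)
    · exact ⟨m.x a, Or.inl ⟨a, Or.inl rfl⟩, rfl⟩
    · exact ⟨m.x' a, Or.inl ⟨a, Or.inr rfl⟩, rfl⟩
    · exact ⟨m.z₂ p, Or.inr ⟨p, Or.inl rfl⟩, rfl⟩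
    · exact ⟨m.z₂' p, Or.inr ⟨p, Or.inr rfl⟩, rfl⟩
  · rintro ⟨g, (⟨a, rfl | rfl⟩ | ⟨p, rfl | rfl⟩), rfl⟩
    · exact Or.inl ⟨a, Or.inl rfl⟩
    · exact Or.inl ⟨a, Or.inr rfl⟩
    · exact Or.inr ⟨p, Or.inl rfl⟩
    · exact Or.inr ⟨p, Or.inr rfl⟩

theorem UU_map {Z : Type*} [Group Z] (f : A →* Z) (m : B2Maps D A) : UU (m.map f) = (UU m).map f := by
  unfold UU
  rw [MonoidHom.map_closure, posSet_map]

/-- 2-elements of `A` which are equal modulo an odd centre are equal. -/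
theorem eq_of_mk [Finite A] (hZ : Odd (Nat.card (center A))) {a b : A} (ha : IsTwo a) (hb : IsTwo b)
    (h : (QuotientGroup.mk a : A ⧸ center A) = QuotientGroup.mk b) : a = b := by
  obtain ⟨k, ha⟩ := ha
  obtain ⟨l, hb⟩ := hb
  rw [QuotientGroup.eq] at h
  set z : A := a⁻¹ * b with hz
  have hb' : b = a * z := by rw [hz]; group
  have hc : Commute a z := (mem_center_iff.1 h a)
  have h1 : z ^ 2 ^ (k + l) = 1 := by
    have h2 : b ^ 2 ^ (k + l) = 1 := by rw [add_comm, pow_add, pow_mul, hb, one_pow]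
    have h3 : a ^ 2 ^ (k + l) = 1 := by rw [pow_add, pow_mul, ha, one_pow]
    rw [hb', hc.mul_pow, h3, one_mul] at h2
    exact h2
  have h4 : z ^ Nat.card (center A) = 1 := by
    have := pow_card_eq_one' (x := (⟨z, h⟩ : center A))
    exact congrArg Subtype.val this
  have h5 : orderOf z ∣ 1 := by
    have hcop : Nat.Coprime (2 ^ (k + l)) (Nat.card (center A)) :=
      Nat.Coprime.pow_left _ (Nat.coprime_two_left.2 hZ)
    rw [← hcop.gcd_eq_one]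
    exact Nat.dvd_gcd (orderOf_dvd_of_pow_eq_one h1) (orderOf_dvd_of_pow_eq_one h4)
  have h6 : z = 1 := orderOf_eq_one_iff.1 (Nat.dvd_one.1 h5)
  rw [hb', h6, mul_one]

/-- The package of `A / Z(A)`. -/
def quotStd [Finite A] [CharP F 2] (hZ : Odd (Nat.card (center A))) (S : Std D A) : Std D (A ⧸ center A) where
  m := S.m.map (QuotientGroup.mk' (center A))
  rel := S.rel.map _
  p₀ := S.p₀
  hp₀ := S.hp₀
  gen := by
    rw [genSet_map, ← MonoidHom.map_closure, S.gen, ← MonoidHom.range_eq_map,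
      MonoidHom.range_eq_top.2 (QuotientGroup.mk'_surjective _)]
  ndI := by
    obtain ⟨a, ha⟩ := S.ndI
    refine ⟨a, fun h => ha ?_⟩
    rw [UU_map] at h
    obtain ⟨u, hu, e⟩ := h
    have h1 : u = S.m.x' a := eq_of_mk hZ (isTwo_of_mem_UU S.rel hu) ((isTwo_all S.rel).2.1 a) e
    rw [← h1]
    exact hu
  ndJ := by
    obtain ⟨a, ha⟩ := S.ndJ
    refine ⟨a, fun h => ha ?_⟩
    rw [UU_map] at h
    obtain ⟨u, hu, e⟩ := h
    have h1 : u = S.m.z₂' a := eq_of_mk hZ (isTwo_of_mem_UU S.rel hu) ((isTwo_all S.rel).2.2.2.2.2.2.2 a) e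
    rw [← h1]
    exact hu

theorem quotStd_U [Finite A] [CharP F 2] (hZ : Odd (Nat.card (center A))) (S : Std D A) :
    (quotStd hZ S).U = S.U.map (QuotientGroup.mk' (center A)) := UU_map _ _

end quot

variable {G : Type u} [Group G] {A : Subgroup G}

/-- The positive part as a subgroup of `G`. -/
def UG (S : Std D ↥A) : Subgroup G := S.U.map A.subtype

theorem mem_UG {S : Std D ↥A} {g : G} : g ∈ UG S ↔ ∃ u ∈ S.U, (u : G) = g := Iff.rfl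

theorem UG_le (S : Std D ↥A) : UG S ≤ A := by
  rintro _ ⟨u, -, rfl⟩
  exact u.2

theorem UG_tw (S : Std D ↥A) (t : Tw D) : UG (tw S t) = UG S := by
  unfold UG
  rw [tw_U]

/-- `y` acts on the package as the field automorphism `ρ`. -/
structure Fld (N : FData D) (S : Std D ↥A) (f : G) (ρ : F ≃+* F) : Prop where
  x : ∀ a, f * S.m.x a * f⁻¹ = S.m.x (ρ a)
  x' : ∀ a, f * S.m.x' a * f⁻¹ = S.m.x' (ρ a)
  y : ∀ a, f * S.m.y a * f⁻¹ = S.m.y (ρ a)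
  y' : ∀ a, f * S.m.y' a * f⁻¹ = S.m.y' (ρ a)
  z₁ : ∀ p, f * S.m.z₁ p * f⁻¹ = S.m.z₁ (N.T ρ p)
  z₂ : ∀ p, f * S.m.z₂ p * f⁻¹ = S.m.z₂ (N.T ρ p)
  z₁' : ∀ p, f * S.m.z₁' p * f⁻¹ = S.m.z₁' (N.T ρ p)
  z₂' : ∀ p, f * S.m.z₂' p * f⁻¹ = S.m.z₂' (N.T ρ p)

/-- Every element of `T` is of field type modulo `U`. -/
def Adapted (N : FData D) (S : Std D ↥A) (T : Subgroup G) : Prop :=
  ∀ y ∈ T, ∃ u ∈ UG S, ∃ ρ : F ≃+* F, (∃ k : ℕ, ρ ^ 2 ^ k = 1) ∧ Fld N S (u * y) ρ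

/-- the action on `A / Z(A)` -/
noncomputable abbrev ac (A : Subgroup G) : ↥(normalizer (A : Set G)) →* MulAut (↥A ⧸ center ↥A) :=
  act A (MulEquiv.refl _)

theorem ac_mk {y : G} (hy : y ∈ normalizer (A : Set G)) (a : A) :
    ac A ⟨y, hy⟩ (QuotientGroup.mk a) = QuotientGroup.mk (cj hy a) :=
  act_mk (MulEquiv.refl _) ⟨y, hy⟩ a

theorem conj_of_ac [Finite G] (hZ : Odd (Nat.card (center ↥A))) {y : G} (hy : y ∈ normalizer (A : Set G))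
    {a b : A} (ha : IsTwo a) (hb : IsTwo b)
    (h : ac A ⟨y, hy⟩ (QuotientGroup.mk a) = QuotientGroup.mk b) : y * a * y⁻¹ = b := by
  rw [ac_mk] at h
  have h1 : cj hy a = b := by
    refine eq_of_mk hZ ?_ hb h
    obtain ⟨k, hk⟩ := ha
    refine ⟨k, Subtype.ext ?_⟩
    show (y * a * y⁻¹) ^ 2 ^ k = 1
    rw [conj_pow]
    have : (a : G) ^ 2 ^ k = 1 := congrArg Subtype.val hk
    rw [this, mul_one, mul_inv_cancel]
  exact congrArg Subtype.val h1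

section adapted

variable [Finite G] [CharP F 2] (hZ : Odd (Nat.card (center ↥A))) (S : Std D ↥A) {N : FData D}

theorem injective_fd [IsSimpleGroup (↥A ⧸ center ↥A)] [Finite F] : Function.Injective (fd N (quotStd hZ S)) := by
  intro ρ τ h
  ext a
  have h1 : fd N (quotStd hZ S) ρ ((quotStd hZ S).m.x a) = fd N (quotStd hZ S) τ ((quotStd hZ S).m.x a) := by rw [h]
  rw [fd_x, fd_x] at h1
  exact (quotStd hZ S).x_injective h1

/-- Transport of field automorphisms to `G`. -/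
theorem fld_of_act [IsSimpleGroup (↥A ⧸ center ↥A)] (c : Fˣ × Fˣ) (ρ : F ≃+* F) {y : G}
    (hy : y ∈ normalizer (A : Set G))
    (h : ac A ⟨y, hy⟩ = dg (quotStd hZ S) c * fd N (quotStd hZ S) ρ * (dg (quotStd hZ S) c)⁻¹) :
    Fld N (tw S (dtw D c.1.ne_zero c.2.ne_zero)) y ρ := by
  set Q := quotStd hZ S with hQ
  set S' := tw S (dtw D c.1.ne_zero c.2.ne_zero) with hS'
  have hc := auto_spec Q (dtw D c.1.ne_zero c.2.ne_zero)
  obtain ⟨i1, i2, i3, i4, i5, i6, i7, i8⟩ := isTwo_all S'.rel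
  have key : ∀ {a b : ↥A} {a' b' : ↥A ⧸ center ↥A}, IsTwo a → IsTwo b →
      auto Q (dtw D c.1.ne_zero c.2.ne_zero) a' = QuotientGroup.mk a →
      auto Q (dtw D c.1.ne_zero c.2.ne_zero) b' = QuotientGroup.mk b → fd N Q ρ a' = b' → y * a * y⁻¹ = b := by
    intro a b a' b' ha hb h1 h2 h3
    apply conj_of_ac hZ hy ha hb
    rw [h, ← h1, ← h2, ← h3, MulAut.mul_apply, MulAut.mul_apply]
    congr 2
    exact MulEquiv.symm_apply_apply _ _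
  exact
    { x := fun a => key (i1 _) (i1 _) (hc.x a) (hc.x _) (fd_x N Q ρ a)
      x' := fun a => key (i2 _) (i2 _) (hc.x' a) (hc.x' _) (fd_x' N Q ρ a)
      y := fun a => key (i3 _) (i3 _) (hc.y a) (hc.y _) (fd_y N Q ρ a)
      y' := fun a => key (i4 _) (i4 _) (hc.y' a) (hc.y' _) (fd_y' N Q ρ a)
      z₁ := fun a => key (i5 _) (i5 _) (hc.z₁ a) (hc.z₁ _) (fd_z₁ N Q ρ a)
      z₂ := fun a => key (i6 _) (i6 _) (hc.z₂ a) (hc.z₂ _) (fd_z₂ N Q ρ a)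
      z₁' := fun a => key (i7 _) (i7 _) (hc.z₁' a) (hc.z₁' _) (fd_z₁' N Q ρ a)
      z₂' := fun a => key (i8 _) (i8 _) (hc.z₂' a) (hc.z₂' _) (fd_z₂' N Q ρ a) }

variable [Finite F] [Finite D.T]

/-- The subgroup of inner automorphisms induced by `U`. -/
def innU : Subgroup (MulAut (↥A ⧸ center ↥A)) := (quotStd hZ S).U.map MulAut.conj

theorem innU_two : IsPGroup 2 (innU hZ S) := (isPGroup_pos (quotStd hZ S).rel).map _

theorem conj_innU {φ : MulAut (↥A ⧸ center ↥A)} (h : ∀ v ∈ (quotStd hZ S).U, φ v ∈ (quotStd hZ S).U) :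
    ∀ v ∈ innU hZ S, φ * v * φ⁻¹ ∈ innU hZ S := by
  rintro _ ⟨v, hv, rfl⟩
  refine ⟨φ v, h v hv, ?_⟩
  apply MulEquiv.ext
  intro x
  show φ v * x * (φ v)⁻¹ = φ (v * φ⁻¹ x * v⁻¹)
  rw [map_mul, map_mul, map_inv]
  congr 2
  exact (MulEquiv.apply_symm_apply _ _).symm

omit [Finite F] [Finite D.T] in
/-- elements normalising `U` induce automorphisms normalising the image -/
theorem map_mem_quot {y : G} (hy : y ∈ normalizer (A : Set G)) (h : ∀ u ∈ UG S, y * u * y⁻¹ ∈ UG S) :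
    ∀ v ∈ (quotStd hZ S).U, ac A ⟨y, hy⟩ v ∈ (quotStd hZ S).U := by
  rw [quotStd_U]
  rintro _ ⟨u, hu, rfl⟩
  obtain ⟨u', hu', e⟩ := h u ⟨u, hu, rfl⟩
  refine ⟨u', hu', ?_⟩
  show (QuotientGroup.mk u' : ↥A ⧸ center ↥A) = ac A ⟨y, hy⟩ (QuotientGroup.mk u)
  rw [ac_mk]
  congr 1
  exact Subtype.ext e

/-- **Common part of the construction of adapted coordinates.** -/
theorem exists_coord [IsSimpleGroup (↥A ⧸ center ↥A)] (Ψ : Subgroup (MulAut (↥A ⧸ center ↥A)))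
    (hΨU : ∀ p ∈ Ψ, ∀ v ∈ (quotStd hZ S).U, p v ∈ (quotStd hZ S).U)
    (hΨT : ∀ p ∈ Ψ, ∀ t ∈ (dg (quotStd hZ S)).range, p * t * p⁻¹ ∈ (dg (quotStd hZ S)).range)
    (hΨ : ∀ a ∈ Ψ, ∀ b ∈ Ψ, a * b = b * a) (T : Subgroup G) (hT : IsPGroup 2 T)
    (hTA : T ≤ normalizer (A : Set G))
    (hTΨ : ∀ y (hy : y ∈ T), ∃ u ∈ (quotStd hZ S).U, ∃ c, ∃ p ∈ Ψ,
      ac A ⟨y, hTA hy⟩ = MulAut.conj u * (dg (quotStd hZ S) c * p)) :
    ∃ c : Fˣ × Fˣ, ∀ y ∈ T, ∃ u ∈ UG S, ∃ p ∈ Ψ, (∃ k, p ^ 2 ^ k = 1) ∧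
      ∃ hy : u * y ∈ normalizer (A : Set G),
        ac A ⟨u * y, hy⟩ = dg (quotStd hZ S) c * p * (dg (quotStd hZ S) c)⁻¹ := by
  set Q := quotStd hZ S with hQ
  set Dd : Subgroup (MulAut (↥A ⧸ center ↥A)) := (T.subgroupOf (normalizer (A : Set G))).map (ac A) with hD
  have hD2 : IsPGroup 2 Dd := by
    apply IsPGroup.map
    exact hT.comap_of_injective (normalizer (A : Set G)).subtype (Subtype.val_injective)
  have hfinM : Finite (MulAut (↥A ⧸ center ↥A)) := inferInstance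
  obtain ⟨t, ⟨c, rfl⟩, hc⟩ := OutSylow.exists_conj (innU hZ S) (dg Q).range Ψ (innU_two hZ S) (odd_card_dg Q)
    (by
      rintro _ ⟨c, rfl⟩
      exact conj_innU hZ S (fun v hv => auto_U Q _ hv))
    (fun p hp => conj_innU hZ S (hΨU p hp)) hΨT hΨ Dd hD2 (by
      rintro _ ⟨⟨y, hyA⟩, hy, rfl⟩
      obtain ⟨u, hu, c, p, hp, e⟩ := hTΨ y hy
      refine ⟨MulAut.conj u, ⟨u, hu, rfl⟩, dg Q c, ⟨c, rfl⟩, p, hp, ?_⟩
      rw [mul_assoc]
      exact e)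
  refine ⟨c, fun y hy => ?_⟩
  have hyA := hTA hy
  obtain ⟨v, ⟨w, hw, rfl⟩, p, hp, hk, h⟩ := hc (ac A ⟨y, hyA⟩) ⟨⟨y, hyA⟩, hy, rfl⟩
  have hw' : w ∈ (quotStd hZ S).U := hw
  rw [quotStd_U] at hw'
  obtain ⟨u, hu, rfl⟩ := hw'
  have huN : ((u⁻¹ : ↥A) : G) ∈ normalizer (A : Set G) := le_normalizer (u⁻¹).2
  have huy : ((u⁻¹ : ↥A) : G) * y ∈ normalizer (A : Set G) := mul_mem huN hyA
  refine ⟨((u⁻¹ : ↥A) : G), ⟨u⁻¹, inv_mem hu, rfl⟩, p, hp, hk, huy, ?_⟩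
  have h2 : (⟨((u⁻¹ : ↥A) : G) * y, huy⟩ : ↥(normalizer (A : Set G))) = ⟨_, huN⟩ * ⟨y, hyA⟩ := rfl
  rw [h2, map_mul, h]
  have h3 : ac A ⟨((u⁻¹ : ↥A) : G), huN⟩ = (MulAut.conj ((QuotientGroup.mk' (center ↥A)) u))⁻¹ := by
    have := act_conj_mem (MulEquiv.refl (↥A ⧸ center ↥A)) (u⁻¹).2 huN
    rw [this, ← map_inv]
    rfl
  rw [h3, inv_mul_cancel_left]

include hZ in
/-- **Adapted coordinates, no graph automorphism.** -/
theorem exists_adapted [hs : IsSimpleGroup (↥A ⧸ center ↥A)] (hN : Ty.{u} N) (hcard : Nat.card D.T ≠ Nat.card F)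
    (T : Subgroup G) (hT : IsPGroup 2 T) (hTA : T ≤ normalizer (A : Set G))
    (hTU : ∀ y ∈ T, ∀ u ∈ UG S, y * u * y⁻¹ ∈ UG S) :
    ∃ c : Fˣ × Fˣ, Adapted N (tw S (dtw D c.1.ne_zero c.2.ne_zero)) T := by
  obtain ⟨c, hc⟩ := exists_coord hZ S (fd N (quotStd hZ S)).range
    (by
      rintro _ ⟨ρ, rfl⟩ v hv
      exact auto_U _ _ hv)
    (by
      rintro _ ⟨ρ, rfl⟩ _ ⟨c, rfl⟩
      refine ⟨(Units.map (ρ : F →* F) c.1, Units.map (ρ : F →* F) c.2), ?_⟩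
      rw [eq_mul_inv_iff_mul_eq, fd_mul_dg])
    (by
      rintro _ ⟨ρ, rfl⟩ _ ⟨τ, rfl⟩
      rw [← map_mul, OutField.comm, map_mul])
    T hT hTA (by
      intro y hy
      have hU := map_mem_quot hZ S (hTA hy) (hTU y hy)
      rcases par_or hU with ⟨h1, h2⟩ | ⟨h1, h2⟩
      · obtain ⟨u, hu, c, ρ, e⟩ := decomp hN hU h1 h2
        exact ⟨u, hu, c, _, ⟨ρ, rfl⟩, e⟩
      · exact absurd (card_of_swap hU h1 h2) hcard)
  refine ⟨c, fun y hy => ?_⟩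
  obtain ⟨u, hu, _, ⟨ρ, rfl⟩, ⟨k, hk⟩, hn, h⟩ := hc y hy
  refine ⟨u, by rw [UG_tw]; exact hu, ρ, ⟨k, ?_⟩, fld_of_act hZ S c ρ hn h⟩
  apply injective_fd hZ S (N := N)
  rw [map_pow, hk, map_one]

end adapted

end Cfsg.Agent.StdRank2.OutB2G
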