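import Cfsg.Agent.StdRank2.OutB2Inv

/-!
# `StepFour.Outer` for field type involutions, types `Sp₄`, `U₅`

`good_of_braid`: four involutions with the relations of the Coxeter group `A₄` generate a group whose rotation subgroup
is perfect.  `good_H1`: every involution `f₀` of field type is `Good` if `H1 N ρ`.
-/

set_option autoImplicit false
set_option linter.unusedSectionVars false

namespace Cfsg.Agent.StdRank2.OutB2Good

open Subgroup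
open Cfsg.Agent.TitsThree.B2Pkg Cfsg.Agent.TitsThree.RankTwoIdentB2
  Cfsg.Agent.TitsThree.CoreB2 Cfsg.Agent.TitsThree.RankTwoIdx Cfsg.Agent.TitsThree.RankTwoRGD
  Cfsg.Agent.TitsThree.StdData
open Cfsg.Agent.StdRank2.OddLift Cfsg.Agent.StdRank2.B2Lift Cfsg.Agent.StdRank2.B2Std
  Cfsg.Agent.StdRank2.B2Torus Cfsg.Agent.StdRank2.B2Act Cfsg.Agent.StdRank2.B2Act.Std
  Cfsg.Agent.StdRank2.B2Par Cfsg.Agent.StdRank2.B2Par.Std Cfsg.Agent.StdRank2.B2Self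
  Cfsg.Agent.StdRank2.OutB2Par Cfsg.Agent.StdRank2.OutB2G Cfsg.Agent.StdRank2.OutL3Outer
  Cfsg.Agent.StdRank2.OutB2Grade Cfsg.Agent.StdRank2.OutB2Aut Cfsg.Agent.StdRank2.OutB2Tw
  Cfsg.Agent.StdRank2.OutB2Data Cfsg.Agent.StdRank2.OutB2Decomp Cfsg.Agent.StdRank2.OutB2Inv
  Cfsg.Agent.StdRank2.OutField

universe u

/-- Perfect groups from the braid relations of type `A₄`. -/
theorem perfect_of_braid {H : Type*} [Group H] {a b c : H} (ha : a ^ 3 = 1) (hb : b ^ 3 = 1) (hc : c ^ 3 = 1)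
    (hab : (a * b) ^ 2 = 1) (hbc : (b * c) ^ 2 = 1) (habc : (a * b * c) ^ 2 = 1)
    (htop : closure {a, b, c} = ⊤) : _root_.commutator H = ⊤ := by
  let π : H →* Abelianization H := Abelianization.of
  have k1 : π a * π b = 1 := by
    have h2 : (π a * π b) ^ 2 = 1 := by rw [← map_mul, ← map_pow, hab, map_one]
    have h3 : (π a * π b) ^ 3 = 1 := by rw [mul_pow, ← map_pow, ← map_pow, ha, hb, map_one, mul_one]
    rw [pow_succ, h2, one_mul] at h3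
    exact h3
  have k2 : π b * π c = 1 := by
    have h2 : (π b * π c) ^ 2 = 1 := by rw [← map_mul, ← map_pow, hbc, map_one]
    have h3 : (π b * π c) ^ 3 = 1 := by rw [mul_pow, ← map_pow, ← map_pow, hb, hc, map_one, mul_one]
    rw [pow_succ, h2, one_mul] at h3
    exact h3
  have k3 : π a = 1 := by
    have h2 : (π a) ^ 2 = 1 := by
      have h4 : (π a * π b * π c) ^ 2 = 1 := by rw [← map_mul, ← map_mul, ← map_pow, habc, map_one]
      rwa [mul_assoc, k2, mul_one] at h4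
    have h3 : (π a) ^ 3 = 1 := by rw [← map_pow, ha, map_one]
    rw [pow_succ, h2, one_mul] at h3
    exact h3
  have k4 : π b = 1 := by rwa [k3, one_mul] at k1
  have k5 : π c = 1 := by rwa [k4, one_mul] at k2
  rw [eq_top_iff, ← htop, closure_le]
  have hker : ∀ x, π x = 1 → x ∈ _root_.commutator H := by
    intro x hx
    rw [← Abelianization.ker_of]
    exact hx
  rintro x (rfl | rfl | rfl)
  · exact hker _ k3
  · exact hker _ k4
  · exact hker _ k5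

theorem good_of_braid {G : Type*} [Group G] {f s₁ s₂ s₃ s₄ : G} (h1 : s₁ * s₁ = 1) (h2 : s₂ * s₂ = 1)
    (h3 : s₃ * s₃ = 1) (h4 : s₄ * s₄ = 1) (h12 : (s₁ * s₂) ^ 3 = 1) (h23 : (s₂ * s₃) ^ 3 = 1)
    (h34 : (s₃ * s₄) ^ 3 = 1) (h13 : s₁ * s₃ = s₃ * s₁) (h24 : s₂ * s₄ = s₄ * s₂) (h14 : s₁ * s₄ = s₄ * s₁)
    (f1 : s₁ * f = f * s₁) (f2 : s₂ * f = f * s₂) (f3 : s₃ * f = f * s₃) (f4 : s₄ * f = f * s₄)
    (hne : s₁ * s₃ ≠ 1) (hc : ∃ c, c * f * c⁻¹ = f * (s₁ * s₃)) : Good f := by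
  set B : Subgroup G := closure {s₁ * s₂, s₂ * s₃, s₃ * s₄} with hB
  have m1 : s₁ * s₂ ∈ B := subset_closure (by simp)
  have m2 : s₂ * s₃ ∈ B := subset_closure (by simp)
  have m3 : s₃ * s₄ ∈ B := subset_closure (by simp)
  have e13 : s₁ * s₂ * (s₂ * s₃) = s₁ * s₃ := by
    rw [mul_assoc, ← mul_assoc s₂ s₂, h2, one_mul]
  have e24 : s₂ * s₃ * (s₃ * s₄) = s₂ * s₄ := by
    rw [mul_assoc, ← mul_assoc s₃ s₃, h3, one_mul]
  have e14 : s₁ * s₂ * (s₂ * s₃) * (s₃ * s₄) = s₁ * s₄ := by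
    rw [e13, mul_assoc, ← mul_assoc s₃ s₃, h3, one_mul]
  have sq : ∀ {a b : G}, a * a = 1 → b * b = 1 → a * b = b * a → (a * b) ^ 2 = 1 := by
    intro a b ha hb hab
    rw [pow_two, mul_assoc, ← mul_assoc b, ← hab, mul_assoc a b, hb, mul_one, ha]
  have q13 := sq h1 h3 h13
  have q24 := sq h2 h4 h24
  have q14 := sq h1 h4 h14
  have hper : ⁅B, B⁆ = B := by
    have htop : closure {(⟨s₁ * s₂, m1⟩ : B), ⟨s₂ * s₃, m2⟩, ⟨s₃ * s₄, m3⟩} = ⊤ := by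
      have := closure_closure_coe_preimage (k := ({s₁ * s₂, s₂ * s₃, s₃ * s₄} : Set G))
      rw [← this]
      congr 1
      ext x
      simp only [Set.mem_insert_iff, Set.mem_singleton_iff, Set.mem_preimage]
      rw [Subtype.ext_iff, Subtype.ext_iff, Subtype.ext_iff]
    have hcomm := perfect_of_braid (H := B) (a := ⟨s₁ * s₂, m1⟩) (b := ⟨s₂ * s₃, m2⟩) (c := ⟨s₃ * s₄, m3⟩)
      (Subtype.ext h12) (Subtype.ext h23) (Subtype.ext h34)
      (Subtype.ext (by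
        show (s₁ * s₂ * (s₂ * s₃)) ^ 2 = 1
        rw [e13, q13]))
      (Subtype.ext (by
        show (s₂ * s₃ * (s₃ * s₄)) ^ 2 = 1
        rw [e24, q24]))
      (Subtype.ext (by
        show (s₁ * s₂ * (s₂ * s₃) * (s₃ * s₄)) ^ 2 = 1
        rw [e14, q14])) htop
    have h := Subgroup.map_subtype_commutator B
    rw [hcomm, ← MonoidHom.range_eq_map, Subgroup.range_subtype] at h
    exact h.symm
  refine ⟨B, hper, centralizes_closure ?_, ?_, s₁ * s₃, ?_, ?_, hne, hc⟩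
  · have key : ∀ {a b : G}, a * f = f * a → b * f = f * b → a * b * f = f * (a * b) := by
      intro a b ha hb
      rw [mul_assoc, hb, ← mul_assoc, ha, mul_assoc]
    rintro s (rfl | rfl | rfl)
    · exact key f1 f2
    · exact key f2 f3
    · exact key f3 f4
  · set C : Subgroup G := closure {x | x ∈ B ∧ ∃ k : ℕ, x ^ 2 ^ k = 1} with hC
    have n13 : s₁ * s₃ ∈ C := subset_closure ⟨by rw [← e13]; exact mul_mem m1 m2, 1, q13⟩
    have n24 : s₂ * s₄ ∈ C := subset_closure ⟨by rw [← e24]; exact mul_mem m2 m3, 1, q24⟩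
    have n14 : s₁ * s₄ ∈ C := subset_closure ⟨by rw [← e14]; exact mul_mem (mul_mem m1 m2) m3, 1, q14⟩
    rw [hB, closure_le]
    have i2 : s₂⁻¹ = s₂ := inv_eq_of_mul_eq_one_left h2
    have i1 : s₁⁻¹ = s₁ := inv_eq_of_mul_eq_one_left h1
    have i3 : s₃⁻¹ = s₃ := inv_eq_of_mul_eq_one_left h3
    have t1 : s₁ * s₂ = (s₁ * s₄) * (s₂ * s₄)⁻¹ := by rw [mul_inv_rev, i2]; group
    rintro s (rfl | rfl | rfl)
    · rw [t1]
      exact mul_mem n14 (inv_mem n24)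
    · have t2 : s₂ * s₃ = (s₁ * s₂)⁻¹ * (s₁ * s₃) := by rw [mul_inv_rev, i2]; group
      rw [t2, t1]
      exact mul_mem (inv_mem (mul_mem n14 (inv_mem n24))) n13
    · have t3 : s₃ * s₄ = (s₁ * s₃)⁻¹ * (s₁ * s₄) := by rw [mul_inv_rev, i3]; group
      rw [t3]
      exact mul_mem (inv_mem n13) n14
  · rw [← e13]
    exact mul_mem m1 m2
  · rw [← pow_two, q13]

variable {F : Type*} [Field F] {V : Type*} [AddCommGroup V] [Module F V] {D : PQDatum F V}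

section rel

variable [CharP F 2] {Y : Type*} [Group Y] {m : B2Maps D Y} (h : B2Rel m) {p₀ : D.T} (hp : p₀.c ≠ 0)

theorem two_one {o : D.T} (hw : o.w = 0) (hc : o.c = 1) : o * o = 1 := by
  ext
  · rw [PQDatum.T.mul_w, hw, add_zero]; rfl
  · rw [PQDatum.T.mul_c, hw, D.zero_left, hc, CharTwo.add_self_eq_zero, sub_zero]; rfl

theorem sc_neg_one {o : D.T} (hw : o.w = 0) (a : F) (ha : a * D.σ a = 1) : D.sc a o = o := by
  ext
  · rw [D.sc_w, hw, smul_zero]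
  · rw [D.sc_c, ha, one_mul]

include h

/-- `(z₂ z₂')³ = 1` -/
theorem braid {o : D.T} (hw : o.w = 0) (hc : o.c = 1) (hε : D.ε = 1) : (m.z₂ o * m.z₂' o) ^ 3 = 1 := by
  have hc0 : o.c ≠ 0 := by rw [hc]; exact one_ne_zero
  have hn : (-1 : F) = 1 := by
    have : (1 : F) + 1 = 0 := CharTwo.add_self_eq_zero 1
    linear_combination -this
  have e1 : m.nII o = m.z₂' o * m.z₂ o * m.z₂' o := by
    unfold B2Maps.nII
    rw [hε, hc, map_one, inv_one, mul_one, hn, sc_neg_one hw 1 (by simp)]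
  have e2 := h.nII_z₂ o hc0 o
  have e0 : D.refl o hc0 o = o := by
    ext
    · rw [D.refl_w, hw, D.zero_left, mul_zero, zero_smul, add_zero]
    · rfl
  rw [e0, hc, map_one, inv_one, D.sc_one, mul_inv_eq_iff_eq_mul] at e2
  rw [e1] at e2
  have hz : m.z₂ o * m.z₂ o = 1 := by rw [← h.z₂_mul, two_one hw hc, mul_one' h.z₂_mul]
  have hz' : m.z₂' o * m.z₂' o = 1 := by rw [← h.z₂'_mul, two_one hw hc, mul_one' h.z₂'_mul]
  -- `z' z z' z = z' z' z z' = z z'`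
  have e3 : m.z₂' o * m.z₂ o * m.z₂' o * m.z₂ o = m.z₂ o * m.z₂' o := by
    rw [e2]
    calc m.z₂' o * (m.z₂' o * m.z₂ o * m.z₂' o) = (m.z₂' o * m.z₂' o) * m.z₂ o * m.z₂' o := by group
      _ = _ := by rw [hz', one_mul]
  calc (m.z₂ o * m.z₂' o) ^ 3 = m.z₂ o * (m.z₂' o * m.z₂ o * m.z₂' o * m.z₂ o) * m.z₂' o := by
        rw [pow_succ, pow_two]; group
    _ = (m.z₂ o * m.z₂ o) * (m.z₂' o * m.z₂' o) := by rw [e3]; group
    _ = 1 := by rw [hz, hz', one_mul]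

end rel

section

variable [Finite F] [CharP F 2] {G : Type u} [Group G] {A : Subgroup G} {N : FData D} {S : Std D ↥A}

theorem conj_pow3 {Y : Type*} [Group Y] {n a b : Y} (h : (a * b) ^ 3 = 1) :
    (n * a * n⁻¹ * (n * b * n⁻¹)) ^ 3 = 1 := by
  have : n * a * n⁻¹ * (n * b * n⁻¹) = n * (a * b) * n⁻¹ := by group
  rw [this, conj_pow, h, mul_one, mul_inv_cancel]

/-- **`Good` for field type involutions of `Sp₄`, `U₅`.** -/
theorem good_H1 (hG : GD D) {f₀ : G} {ρ : F ≃+* F} (h1 : ρ ≠ 1) (h2 : ρ * ρ = 1) (hf₀ : Fld N S f₀ ρ)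
    (hff : f₀ * f₀ = 1) (hH : H1 N ρ) : Good f₀ := by
  let o : D.T := ⟨0, 1, hG.ok1⟩
  have ow : o.w = 0 := rfl
  have oc : o.c = 1 := rfl
  have hr := S.rel
  have hp := S.hp₀
  have oo : o * o = 1 := two_one ow oc
  have hTo : N.T ρ o = o := by
    ext
    · show N.r ρ 0 = 0
      exact map_zero _
    · show ρ 1 = 1
      exact map_one ρ
  have hn : (-1 : F) = 1 := neg_one_eq
  have hx1 : S.m.x 1 * S.m.x 1 = 1 := by rw [← hr.x_add, CharTwo.add_self_eq_zero, add_zero' hr.x_add]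
  have hz₂ : S.m.z₂ o * S.m.z₂ o = 1 := by rw [← hr.z₂_mul, oo, mul_one' hr.z₂_mul]
  have hz₂' : S.m.z₂' o * S.m.z₂' o = 1 := by rw [← hr.z₂'_mul, oo, mul_one' hr.z₂'_mul]
  have hz₁' : S.m.z₁' o * S.m.z₁' o = 1 := by rw [← hr.z₁'_mul, oo, mul_one' hr.z₁'_mul]
  -- `x(1) z₂ x(1)⁻¹ = z₁ y(1) z₂ = x'(1) z₁ x'(1)⁻¹`
  have c1 : S.m.x 1 * S.m.z₂ o * (S.m.x 1)⁻¹ = S.m.z₁ o * S.m.y 1 * S.m.z₂ o := by
    have e := hr.x_z₂ 1 o
    rw [commutatorElement_def, D.sc_one, oc, map_one, hG.ε1, mul_one, mul_one, hn] at e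
    rw [← e]; group
  have c2 : S.m.x' 1 * S.m.z₁ o * (S.m.x' 1)⁻¹ = S.m.z₁ o * S.m.y 1 * S.m.z₂ o := by
    have e := hr.x'_z₁ 1 o
    rw [commutatorElement_def, D.sc_one, oc, map_one, mul_one] at e
    have e' : S.m.x' 1 * S.m.z₁ o * (S.m.x' 1)⁻¹ = S.m.z₂ o * S.m.y 1 * S.m.z₁ o := by
      rw [← e]; group
    rw [e']
    have k1 : S.m.z₁ o * S.m.z₂ o = S.m.z₂ o * S.m.z₁ o := by
      have := hr.z₁_z₂ o o
      rw [ow, D.zero_left, neg_zero, add_zero' hr.y_add, commutatorElement_eq_one_iff_mul_comm] at this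
      exact this
    have k2 := (hr.y_z₂ 1 o).eq
    calc S.m.z₂ o * S.m.y 1 * S.m.z₁ o = S.m.z₂ o * (S.m.y 1 * S.m.z₁ o) := by group
      _ = S.m.z₂ o * (S.m.z₁ o * S.m.y 1) := by rw [(hr.y_z₁ 1 o).eq]
      _ = (S.m.z₂ o * S.m.z₁ o) * S.m.y 1 := by group
      _ = S.m.z₁ o * (S.m.z₂ o * S.m.y 1) := by rw [← k1]; group
      _ = _ := by rw [← k2]; group
  obtain ⟨s₃, hs₃⟩ : ∃ s : ↥A, s = S.m.x 1 * S.m.z₂ o * (S.m.x 1)⁻¹ := ⟨_, rfl⟩
  have r12 : (S.m.z₂ o * S.m.z₂' o) ^ 3 = 1 := braid hr ow oc hG.ε1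
  have r23 : (S.m.z₂' o * s₃) ^ 3 = 1 := by
    have e1 : S.m.x 1 * S.m.z₂' o * (S.m.x 1)⁻¹ = S.m.z₂' o := by
      rw [(hr.x_z₂' hp 1 o).eq, mul_inv_cancel_right]
    have e2 := conj_pow3 (n := S.m.x 1) (show (S.m.z₂' o * S.m.z₂ o) ^ 3 = 1 by
      have e3 : S.m.z₂' o * S.m.z₂ o = (S.m.z₂ o * S.m.z₂' o)⁻¹ := by
        rw [mul_inv_rev, inv_eq_of_mul_eq_one_left hz₂, inv_eq_of_mul_eq_one_left hz₂']
      rw [e3, inv_pow, r12, inv_one])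
    rwa [e1, ← hs₃] at e2
  have r34 : (s₃ * S.m.z₁' o) ^ 3 = 1 := by
    have e1 : S.m.x' 1 * S.m.z₁' o * (S.m.x' 1)⁻¹ = S.m.z₁' o := by
      rw [(hr.x'_z₁' hp 1 o).eq, mul_inv_cancel_right]
    have e2 : (S.m.z₁ o * S.m.z₁' o) ^ 3 = 1 := by
      have := conj_pow3 (n := S.m.nI) r12
      rwa [hr.nI_z₂, hr.nI_z₂'] at this
    have e3 := conj_pow3 (n := S.m.x' 1) e2
    rw [e1, c2, ← c1, ← hs₃] at e3
    exact e3
  have r13 : S.m.z₂ o * s₃ = s₃ * S.m.z₂ o := by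
    have h3 : s₃ ∈ S.VI := by
      rw [hs₃, c1]
      exact mul_mem (mul_mem (S.z₁_mem_VI _) (S.y_mem_VI _)) (S.z₂_mem_VI _)
    exact z₂_comm_VI ow h3
  have r24 : S.m.z₂' o * S.m.z₁' o = S.m.z₁' o * S.m.z₂' o := by
    have := hr.z₂'_z₁' hp o o
    rw [ow, D.zero_left, mul_zero, add_zero' hr.y'_add, commutatorElement_eq_one_iff_mul_comm] at this
    exact this
  have r14 : S.m.z₂ o * S.m.z₁' o = S.m.z₁' o * S.m.z₂ o := by
    have := hr.z₂_z₁' hp o o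
    rw [ow, D.zero_left, neg_zero, add_zero' hr.x'_add, commutatorElement_eq_one_iff_mul_comm] at this
    exact this
  have r33 : s₃ * s₃ = 1 := by
    have : s₃ * s₃ = S.m.x 1 * (S.m.z₂ o * S.m.z₂ o) * (S.m.x 1)⁻¹ := by rw [hs₃]; group
    rw [this, hz₂, mul_one, mul_inv_cancel]
  -- commuting with `f₀`
  have comm : ∀ {a b : G}, f₀ * a * f₀⁻¹ = b → a = b → a * f₀ = f₀ * a := by
    intro a b e1 e2
    rw [← e2, mul_inv_eq_iff_eq_mul] at e1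
    exact e1.symm
  have f1 : (S.m.z₂ o : G) * f₀ = f₀ * S.m.z₂ o := comm (hf₀.z₂ o) (by rw [hTo])
  have f2 : (S.m.z₂' o : G) * f₀ = f₀ * S.m.z₂' o := comm (hf₀.z₂' o) (by rw [hTo])
  have f4 : (S.m.z₁' o : G) * f₀ = f₀ * S.m.z₁' o := comm (hf₀.z₁' o) (by rw [hTo])
  have fx : (S.m.x 1 : G) * f₀ = f₀ * S.m.x 1 := comm (hf₀.x 1) (by rw [map_one])
  have f3 : (s₃ : G) * f₀ = f₀ * s₃ := by
    have h3 : (s₃ : G) = S.m.x 1 * S.m.z₂ o * (S.m.x 1 : G)⁻¹ := by rw [hs₃]; push_cast; rfl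
    rw [h3]
    have fxi : (S.m.x 1 : G)⁻¹ * f₀ = f₀ * (S.m.x 1 : G)⁻¹ := by
      rw [inv_mul_eq_iff_eq_mul, ← mul_assoc, fx, mul_assoc, mul_inv_cancel, mul_one]
    calc (S.m.x 1 : G) * S.m.z₂ o * (S.m.x 1 : G)⁻¹ * f₀ = S.m.x 1 * (S.m.z₂ o * ((S.m.x 1 : G)⁻¹ * f₀)) := by group
      _ = S.m.x 1 * ((S.m.z₂ o * f₀) * (S.m.x 1 : G)⁻¹) := by rw [fxi]; group
      _ = (S.m.x 1 * f₀) * S.m.z₂ o * (S.m.x 1 : G)⁻¹ := by rw [f1]; group
      _ = _ := by rw [fx]; group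
  have h13U : ((S.m.z₂ o * s₃ : ↥A) : G) ∈ UG S :=
    ⟨S.m.z₂ o * s₃, mul_mem (z₂_mem _) (by
      rw [hs₃]
      exact mul_mem (mul_mem (x_mem _) (z₂_mem _)) (inv_mem (x_mem _))), rfl⟩
  have q13 : (S.m.z₂ o * s₃) * (S.m.z₂ o * s₃) = 1 := by
    calc (S.m.z₂ o * s₃) * (S.m.z₂ o * s₃) = S.m.z₂ o * (s₃ * S.m.z₂ o) * s₃ := by group
      _ = (S.m.z₂ o * S.m.z₂ o) * (s₃ * s₃) := by rw [← r13]; group
      _ = 1 := by rw [hz₂, r33, one_mul]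
  have hcoe : ∀ {a b : ↥A}, a = b → (a : G) = b := fun e => congrArg Subtype.val e
  have f13 : ((S.m.z₂ o * s₃ : ↥A) : G) * f₀ = f₀ * ((S.m.z₂ o * s₃ : ↥A) : G) := by
    push_cast
    rw [mul_assoc, f3, ← mul_assoc, f1, mul_assoc]
  refine good_of_braid (s₁ := (S.m.z₂ o : G)) (s₂ := (S.m.z₂' o : G)) (s₃ := (s₃ : G)) (s₄ := (S.m.z₁' o : G))
    (hcoe hz₂) (hcoe hz₂') (hcoe r33) (hcoe hz₁') (hcoe r12) (hcoe r23) (hcoe r34) (hcoe r13) (hcoe r24) (hcoe r14)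
    f1 f2 f3 f4 ?_ ?_
  · intro h0
    have h0' : S.m.z₂ o * s₃ = 1 := Subtype.ext h0
    rw [hs₃, c1] at h0'
    have e2 : S.m.z₂ o * (S.m.z₁ o * S.m.y 1 * S.m.z₂ o) = nf S.m 0 o 1 1 := by
      rw [z₂_eq_nf hr, z₁_eq_nf hr, y_eq_nf hr, mul_nf hr, mul_nf hr, mul_nf hr]
      have e1 : D.tr 0 0 = 1 := by ext <;> simp
      have e2 : D.tr 0 1 = 1 := by ext <;> simp
      simp [ow, D.zero_left, D.zero_right, oo, e1, e2, D.sc_zero]
    rw [e2, ← nf_one hr] at h0'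
    exact one_ne_zero (S.nf_inj h0').2.2.1
  · have hv : ((S.m.z₂ o * s₃ : ↥A) : G) * f₀ * (((S.m.z₂ o * s₃ : ↥A) : G) * f₀) = 1 := by
      have q13' := hcoe q13
      rw [Subgroup.coe_mul] at q13'
      generalize ((S.m.z₂ o * s₃ : ↥A) : G) = g at q13' f13 ⊢
      calc g * f₀ * (g * f₀) = g * (f₀ * g) * f₀ := by group
        _ = (g * g) * (f₀ * f₀) := by rw [← f13]; group
        _ = 1 := by rw [hff, mul_one]; exact q13'
    obtain ⟨w, -, hw⟩ := conj_of_H1 h1 h2 hf₀ hff hH h13U hv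
    refine ⟨w⁻¹, ?_⟩
    have : w⁻¹ * f₀ * w⁻¹⁻¹ = ((S.m.z₂ o * s₃ : ↥A) : G) * f₀ := by
      calc w⁻¹ * f₀ * w⁻¹⁻¹ = w⁻¹ * (w * (((S.m.z₂ o * s₃ : ↥A) : G) * f₀) * w⁻¹) * w⁻¹⁻¹ := by rw [hw]
        _ = _ := by group
    rw [this, f13]
    push_cast
    rfl

end

end Cfsg.Agent.StdRank2.OutB2Good
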