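import Cfsg.Agent.StdRank2.OutB2Par

/-!
# The action of an automorphism normalising `U`, `V_I`, `V_J` on the graded pieces of `U`

`graded`: there are a field automorphism `ρ` and scalars `k`, `γ` such that `φ` acts as `k ρ` on `x(F)`, `γ ρ` on
`z₂(0,·)` and `ρ`-semilinearly on the `w`-part of `z₂(T)`.
-/

set_option autoImplicit false
set_option linter.unusedSectionVars false

namespace Cfsg.Agent.StdRank2.OutB2Grade

open Subgroup
open Cfsg.Agent.TitsThree.B2Pkg Cfsg.Agent.TitsThree.RankTwoIdentB2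
  Cfsg.Agent.TitsThree.CoreB2 Cfsg.Agent.TitsThree.RankTwoIdx Cfsg.Agent.TitsThree.RankTwoRGD
  Cfsg.Agent.TitsThree.StdData
open Cfsg.Agent.StdRank2.OddLift Cfsg.Agent.StdRank2.B2Lift Cfsg.Agent.StdRank2.B2Std
  Cfsg.Agent.StdRank2.B2Torus Cfsg.Agent.StdRank2.B2Act Cfsg.Agent.StdRank2.B2Act.Std
  Cfsg.Agent.StdRank2.B2Par Cfsg.Agent.StdRank2.B2Par.Std Cfsg.Agent.StdRank2.OutB2Par

universe u

/-- An injective additive map which is semilinear up to characters is a multiple of a field automorphism. -/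
theorem exists_ring {F : Type*} [Field F] [Finite F] {f : F → F} (hadd : ∀ a b, f (a + b) = f a + f b)
    (h0 : ∀ a, f a = 0 → a = 0) (hsc : ∀ α, α ≠ 0 → ∃ χ, ∀ a, f (α * a) = χ * f a) :
    ∃ ρ : F ≃+* F, ∀ a, f a = f 1 * ρ a := by
  have hz : f 0 = 0 := by
    have := hadd 0 0
    rw [add_zero] at this
    exact left_eq_add.1 this
  have h1 : f 1 ≠ 0 := fun h => one_ne_zero (h0 1 h)
  have hmul : ∀ a b, f (a * b) * f 1 = f a * f b := by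
    intro a b
    by_cases ha : a = 0
    · rw [ha, zero_mul, hz, zero_mul, zero_mul]
    · obtain ⟨χ, hχ⟩ := hsc a ha
      have h2 := hχ 1
      rw [mul_one] at h2
      rw [hχ b, h2]
      ring
  let g : F →+* F :=
    { toFun := fun a => (f 1)⁻¹ * f a
      map_one' := inv_mul_cancel₀ h1
      map_mul' := fun a b => by
        have := hmul a b
        field_simp
        linear_combination this
      map_zero' := by rw [hz, mul_zero]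
      map_add' := fun a b => by rw [hadd]; ring }
  have hbij : Function.Bijective g := ⟨g.injective, Finite.surjective_of_injective g.injective⟩
  refine ⟨RingEquiv.ofBijective g hbij, fun a => ?_⟩
  show f a = f 1 * ((f 1)⁻¹ * f a)
  rw [mul_inv_cancel_left₀ h1]

variable {F : Type*} [Field F] {V : Type*} [AddCommGroup V] [Module F V] {D : PQDatum F V}
variable {A : Type u} [Group A]

/-- Properties of the standard data in characteristic two. -/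
structure GD (D : PQDatum F V) : Prop where
  ε1 : D.ε = 1
  ok1 : D.ok 0 1
  nd : ∀ w, (∀ p : D.T, D.h w p.w = 0) → w = 0

variable {S : Std D A} {φ : MulAut A} [Finite F] [CharP F 2] [Finite A] [Finite D.T]

theorem exists_f (hU : ∀ v ∈ S.U, φ v ∈ S.U) (hVI : ∀ v ∈ S.VI, φ v ∈ S.VI) (hD : Scal D) :
    ∃ (k : F) (ρ : F ≃+* F), k ≠ 0 ∧ ∀ a, PX S (φ (S.m.x a)) (k * ρ a) := by
  choose f hf using fun a : F => exists_PX (hU _ (x_mem (m := S.m) a))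
  have hadd : ∀ a b, f (a + b) = f a + f b := by
    intro a b
    have h1 := (hf a).mul (hf b)
    rw [← map_mul, ← S.rel.x_add] at h1
    exact (hf (a + b)).uniq h1
  have h0 : ∀ a, f a = 0 → a = 0 := by
    intro a ha
    have h1 := hf a
    rw [ha] at h1
    exact S.x_mem_VI_iff.1 (mem_of_map_mem hVI (mem_VI_iff.2 h1))
  have hsc : ∀ α, α ≠ 0 → ∃ χ, ∀ a, f (α * a) = χ * f a := by
    intro α hα
    have := Fintype.ofFinite F
    obtain ⟨s, hs⟩ := FiniteField.isSquare_of_char_two (F := F)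
      (CharP.ringChar_of_prime_eq_zero Nat.prime_two (by exact_mod_cast CharP.cast_eq_zero F 2)) α
    have hs0 : s ≠ 0 := by
      rintro rfl
      rw [mul_zero] at hs
      exact hα hs
    have h1 : φ (hI S.m s) ∈ S.U ⊔ S.H :=
      (map_B hU).2 ((le_sup_right : S.H ≤ S.U ⊔ S.H) (hI_mem_H hs0))
    obtain ⟨u, hu, h, hh, e⟩ := mem_B.1 h1
    obtain ⟨l, μ, ν, ht⟩ := exists_tact S.rel S.hp₀ hD hh
    refine ⟨l * μ⁻¹, fun a => ?_⟩
    have h2 := (PX.tact ht (hf a)).conj hu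
    have e2 : u * (h * φ (S.m.x a) * h⁻¹) * u⁻¹ = φ (S.m.x (α * a)) := by
      rw [hs, ← B2Torus.hI_x S.rel S.hp₀ hs0, map_mul, map_mul, map_inv, e]
      group
    rw [e2] at h2
    exact (hf _).uniq h2
  obtain ⟨ρ, hρ⟩ := exists_ring hadd h0 hsc
  refine ⟨f 1, ρ, fun h => one_ne_zero (h0 1 h), fun a => ?_⟩
  rw [← hρ]
  exact hf a

theorem tr_zero_left (b : F) : D.tr 0 b = 1 := by ext <;> simp

theorem sc_zero' (q : D.T) : D.sc (-0) q = 1 := by ext <;> simp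

/-- product of normal forms without `x` in the second factor -/
theorem mul_nf' (a : F) (p : D.T) (b : F) (q : D.T) (p' : D.T) (b' : F) (q' : D.T) :
    nf S.m a p b q * nf S.m 0 p' b' q' = nf S.m a (p * p') (b + D.h q.w p'.w + b') (q * q') := by
  rw [mul_nf S.rel, tr_zero_left, sc_zero']
  simp

/-- elements of `V_I ∩ V_J` -/
theorem mem_W {v : A} (h1 : v ∈ S.VI) (h2 : v ∈ S.VJ) : ∃ p b, v = nf S.m 0 p b 1 := by
  obtain ⟨p, b, q, rfl⟩ := mem_VI_iff.1 h1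
  have h3 := (mem_VJ_iff.1 h2).uniq ⟨_, _, _, rfl⟩
  exact ⟨p, b, by rw [← h3]⟩

/-- elements of the centre of `V_I` -/
theorem central_VI (hG : GD D) {p : D.T} {b : F} {q : D.T}
    (h : ∀ v ∈ S.VI, nf S.m 0 p b q * v = v * nf S.m 0 p b q) : p.w = 0 ∧ q.w = 0 := by
  have h0 : ∀ w, D.h w 0 = 0 := fun w => D.zero_right w
  constructor
  · apply hG.nd
    intro r
    have h1 := h _ (S.z₂_mem_VI r)
    rw [z₂_eq_nf S.rel, mul_nf', mul_nf'] at h1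
    have h2 := (S.nf_inj h1).2.2.1
    simp only [PQDatum.T.one_w, D.zero_right, add_zero, zero_add] at h2
    have h3 : D.h r.w p.w = 0 := by
      have := h2
      linear_combination -this
    have h4 := D.swap r.w p.w
    rw [h3, map_zero, mul_zero] at h4
    exact h4
  · apply hG.nd
    intro r
    have h1 := h _ (S.z₁_mem_VI r)
    rw [z₁_eq_nf S.rel, mul_nf', mul_nf'] at h1
    have h2 := (S.nf_inj h1).2.2.1
    simp only [PQDatum.T.one_w, D.zero_left, add_zero, zero_add] at h2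
    linear_combination h2


theorem refl_of_w {p : D.T} (hp : p.c ≠ 0) {q : D.T} (hq : q.w = 0) : D.refl p hp q = q := by
  ext
  · rw [D.refl_w, hq, D.zero_left, mul_zero, zero_smul, add_zero]
  · rfl

theorem eq_of_w {p q : D.T} (hp : p.w = 0) (hq : q.w = 0) (h : p.c = q.c) : p = q := by
  ext
  · rw [hp, hq]
  · exact h

section

variable (hG : GD D) (hU : ∀ v ∈ S.U, φ v ∈ S.U) (hVI : ∀ v ∈ S.VI, φ v ∈ S.VI)
  (hVJ : ∀ v ∈ S.VJ, φ v ∈ S.VJ)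
include hVI

/-- images of central elements of `V_I` are central -/
theorem central_map {v : A} (hv : ∀ w ∈ S.VI, v * w = w * v) : ∀ w ∈ S.VI, φ v * w = w * φ v := by
  intro w hw
  obtain ⟨w', hw', rfl⟩ := exists_preimage hVI hw
  rw [← map_mul, hv w' hw', map_mul]

include hG

/-- `z₂(0,·)` -/
theorem map_z₂ {q : D.T} (hq : q.w = 0) :
    ∃ p b q', p.w = 0 ∧ q'.w = 0 ∧ φ (S.m.z₂ q) = nf S.m 0 p b q' := by
  obtain ⟨p, b, q', e⟩ := mem_VI_iff.1 (hVI _ (S.z₂_mem_VI q))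
  have h1 := central_map hVI (v := S.m.z₂ q) (fun w hw => z₂_comm_VI hq hw)
  rw [e] at h1
  obtain ⟨h2, h3⟩ := central_VI hG h1
  exact ⟨p, b, q', h2, h3, e⟩

include hVJ

/-- `y` -/
theorem map_y (b : F) : ∃ p b', p.w = 0 ∧ φ (S.m.y b) = nf S.m 0 p b' 1 := by
  obtain ⟨p, b', e⟩ := mem_W (hVI _ (S.y_mem_VI b)) (hVJ _ (S.y_mem_VJ b))
  have h1 := central_map hVI (v := S.m.y b) (fun w hw => y_comm_VI b hw)
  rw [e] at h1
  exact ⟨p, b', (central_VI hG h1).1, e⟩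

include hU

/-- `z₁(0,·)` -/
theorem map_z₁ {q : D.T} (hq : q.w = 0) : ∃ p, p.w = 0 ∧ φ (S.m.z₁ q) = S.m.z₁ p := by
  obtain ⟨p, b, e⟩ := mem_W (hVI _ (S.z₁_mem_VI q)) (hVJ _ (S.z₁_mem_VJ q))
  have h1 := central_map hVI (v := S.m.z₁ q) (fun w hw => z₁_comm_U hq (S.VI_le hw))
  rw [e] at h1
  have hpw := (central_VI hG h1).1
  refine ⟨p, hpw, ?_⟩
  have hb : b = 0 := by
    obtain ⟨b₀, hb₀, r, hn⟩ := exists_nJ hU hVJ
    -- `φ(n_J)` commutes with the image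
    have h2 : φ (S.m.nII S.p₀) * φ (S.m.z₁ q) * (φ (S.m.nII S.p₀))⁻¹ = φ (S.m.z₁ q) := by
      rw [← map_inv, ← map_mul, ← map_mul, S.rel.nII_z₁ S.p₀ S.hp₀, refl_of_w S.hp₀ hq]
    have h3 : S.m.z₂ r * φ (S.m.z₁ q) * (S.m.z₂ r)⁻¹ = φ (S.m.z₁ q) := by
      obtain ⟨w, hw, hw'⟩ := exists_preimage hU (z₂_mem (m := S.m) r)
      rw [← hw', ← map_inv, ← map_mul, ← map_mul, ← z₁_comm_U hq hw, mul_inv_cancel_right]
    have h4 : S.m.nII S.p₀ * φ (S.m.z₁ q) * (S.m.nII S.p₀)⁻¹ = b₀⁻¹ * φ (S.m.z₁ q) * b₀ := by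
      rw [hn] at h2
      have h5 : b₀⁻¹ * (b₀ * S.m.nII S.p₀ * S.m.z₂ r * φ (S.m.z₁ q) * (b₀ * S.m.nII S.p₀ * S.m.z₂ r)⁻¹) * b₀ =
          S.m.nII S.p₀ * (S.m.z₂ r * φ (S.m.z₁ q) * (S.m.z₂ r)⁻¹) * (S.m.nII S.p₀)⁻¹ := by group
      rw [h2, h3] at h5
      exact h5.symm
    have h5 : b₀⁻¹ * φ (S.m.z₁ q) * b₀ ∈ S.VI := by
      rw [VI_normal_B hb₀ (v := b₀⁻¹ * φ (S.m.z₁ q) * b₀)]
      have : b₀ * (b₀⁻¹ * φ (S.m.z₁ q) * b₀) * b₀⁻¹ = φ (S.m.z₁ q) := by group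
      rw [this]
      exact hVI _ (S.z₁_mem_VI q)
    rw [← h4, e] at h5
    have h6 : S.m.nII S.p₀ * nf S.m 0 p b 1 * (S.m.nII S.p₀)⁻¹ =
        S.m.z₁ (D.refl S.p₀ S.hp₀ p) * S.m.x (S.p₀.c⁻¹ * b) := by
      rw [← S.rel.nII_z₁ S.p₀ S.hp₀, ← S.rel.nII_y S.p₀ S.hp₀]
      unfold B2Std.nf
      rw [add_zero' S.rel.x_add, mul_one' S.rel.z₂_mul]
      group
    rw [h6] at h5
    have h7 := mul_mem (inv_mem (S.z₁_mem_VI (D.refl S.p₀ S.hp₀ p))) h5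
    rw [inv_mul_cancel_left, S.x_mem_VI_iff] at h7
    exact (mul_eq_zero.1 h7).resolve_left (inv_ne_zero S.hp₀)
  rw [e, hb, z₁_eq_nf S.rel]

/-- **The action on the graded pieces.** -/
theorem graded (hD : Scal D) : ∃ (k γ : F) (ρ : F ≃+* F), k ≠ 0 ∧ γ ≠ 0 ∧
    (∀ a, PX S (φ (S.m.x a)) (k * ρ a)) ∧
    (∀ q : D.T, q.w = 0 → ∃ q' : D.T, q'.w = 0 ∧ q'.c = γ * ρ q.c ∧ PZ S (φ (S.m.z₂ q)) q') ∧
    (∀ (a : F) (q q' q'' : D.T), PZ S (φ (S.m.z₂ q)) q' → PZ S (φ (S.m.z₂ (D.sc a q))) q'' →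
      q''.w = D.σ (ρ a) • q'.w) := by
  obtain ⟨k, ρ, hk, hf⟩ := exists_f hU hVI hD
  -- `x a`
  have hx : ∀ a, ∃ p b, φ (S.m.x a) = nf S.m (k * ρ a) p b 1 := by
    intro a
    obtain ⟨p, b, q, e⟩ := hf a
    have h1 := (mem_VJ_iff.1 (hVJ _ (S.x_mem_VJ a))).uniq ⟨_, _, _, e⟩
    exact ⟨p, b, by rw [h1]; exact e⟩
  -- the relation
  have hrel : ∀ (q : D.T) (a : F), φ (S.m.z₂ q) * φ (S.m.x a) =
      φ (S.m.x a) * φ (S.m.z₁ (D.sc (-a) q)) * φ (S.m.y (D.ε * a * D.σ q.c)) * φ (S.m.z₂ q) := by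
    intro q a
    rw [← map_mul, ← map_mul, ← map_mul, ← map_mul, z₂_x S.rel]
  -- the main computation
  have key : ∀ (q : D.T) (a : F) (p₂ : D.T) (b₂ : F) (q' p₃ : D.T) (b₃ : F) (p₄ : D.T) (b₄ : F),
      φ (S.m.z₂ q) = nf S.m 0 p₂ b₂ q' → φ (S.m.z₁ (D.sc (-a) q)) = nf S.m 0 p₃ b₃ 1 →
      φ (S.m.y (D.ε * a * D.σ q.c)) = nf S.m 0 p₄ b₄ 1 → p₄.w = 0 →
      p₃.w = D.σ (-(k * ρ a)) • q'.w ∧ (p₃.w = 0 → q'.w = 0 → b₃ + b₄ = k * ρ a * D.σ q'.c) := by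
    intro q a p₂ b₂ q' p₃ b₃ p₄ b₄ e2 e3 e4 hp4
    obtain ⟨p₁, b₁, e1⟩ := hx a
    have h1 := hrel q a
    rw [e1, e2, e3, e4, mul_nf', mul_nf', mul_nf', mul_nf S.rel] at h1
    obtain ⟨-, j1, j2, -⟩ := S.nf_inj h1
    have j3 := congrArg PQDatum.T.w j1
    simp only [PQDatum.T.mul_w, PQDatum.T.inv_w, D.sc_w, D.tr_w, neg_zero, add_zero, hp4] at j3
    have j4 : p₃.w = D.σ (-(k * ρ a)) • q'.w := by
      have h2 : p₁.w + p₂.w + p₃.w = p₁.w + p₂.w + D.σ (-(k * ρ a)) • q'.w := by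
        calc p₁.w + p₂.w + p₃.w = p₁.w + p₃.w + p₂.w := by abel
          _ = p₂.w + D.σ (-(k * ρ a)) • q'.w + p₁.w := j3.symm
          _ = _ := by abel
      exact add_left_cancel h2
    refine ⟨j4, fun h3 h5 => ?_⟩
    simp only [PQDatum.T.one_w, PQDatum.T.mul_w, D.zero_left, D.zero_right, h3, h5, hp4, add_zero,
      one_mul, mul_one, hG.ε1, zero_add] at j2
    linear_combination -j2
  -- the element `z₂(0,1)`
  let one : D.T := ⟨0, 1, hG.ok1⟩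
  obtain ⟨p₂, b₂, q₁, hp2, hq1, e1⟩ := map_z₂ hG hVI (q := one) rfl
  -- σ q.c = q.c
  have hσ : ∀ q : D.T, q.w = 0 → D.σ q.c = q.c := by
    intro q hq
    have h1 := q.rel
    rw [hq, D.zero_left, neg_zero, hG.ε1, one_mul] at h1
    have h2 : q.c + q.c = 0 := CharTwo.add_self_eq_zero _
    linear_combination h1 - h2
  -- `z₁(sc (-a) q)`
  have hz : ∀ (a : F) (q q' : D.T) (p₂ : D.T) (b₂ : F), q.w = 0 → q'.w = 0 →
      φ (S.m.z₂ q) = nf S.m 0 p₂ b₂ q' → ∀ b₄ p₄, p₄.w = 0 → φ (S.m.y (a * q.c)) = nf S.m 0 p₄ b₄ 1 →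
      b₄ = k * ρ a * q'.c := by
    intro a q q' p₂ b₂ hq hq' e b₄ p₄ hp4 e4
    obtain ⟨p₃, hp3, e3⟩ := map_z₁ hG hU hVI hVJ (q := D.sc (-a) q) (by rw [D.sc_w, hq, smul_zero])
    rw [z₁_eq_nf S.rel p₃] at e3
    have h1 := key q a p₂ b₂ q' p₃ 0 p₄ b₄ e e3 (by rw [hG.ε1, one_mul, hσ q hq]; exact e4) hp4
    have h2 := h1.2 hp3 hq'
    rw [zero_add, hσ q' hq'] at h2
    exact h2
  -- `y a`
  have hy : ∀ a, ∃ p, p.w = 0 ∧ φ (S.m.y a) = nf S.m 0 p (k * ρ a * q₁.c) 1 := by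
    intro a
    obtain ⟨p₄, b₄, hp4, e4⟩ := map_y hG hVI hVJ a
    have h1 := hz a one q₁ p₂ b₂ rfl hq1 e1 b₄ p₄ hp4 (by
      have : a * one.c = a := mul_one a
      rw [this]; exact e4)
    exact ⟨p₄, hp4, by rw [← h1]; exact e4⟩
  have hγ : q₁.c ≠ 0 := by
    intro h0
    have h1 : q₁ = 1 := PQDatum.T.c_eq_zero_iff.1 h0
    rw [h1] at e1
    have h2 : S.m.z₂ one ∈ S.VJ := mem_of_map_mem hVJ (mem_VJ_iff.2 ⟨_, _, _, e1⟩)
    have h3 := S.z₂_mem_VJ_iff.1 h2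
    have h4 := congrArg PQDatum.T.c h3
    exact one_ne_zero h4
  refine ⟨k, q₁.c, ρ, hk, hγ, hf, ?_, ?_⟩
  · intro q hq
    obtain ⟨p₅, b₅, q', hp5, hq', e5⟩ := map_z₂ hG hVI hq
    refine ⟨q', hq', ?_, ⟨_, _, _, e5⟩⟩
    obtain ⟨p₄, hp4, e4⟩ := hy (1 * q.c)
    have h1 := hz 1 q q' p₅ b₅ hq hq' e5 _ p₄ hp4 e4
    rw [one_mul, map_one, mul_one] at h1
    have h2 : k * (q₁.c * ρ q.c) = k * q'.c := by linear_combination h1
    exact (mul_left_cancel₀ hk h2).symm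
  · intro a q q' q'' h' h''
    -- the `w`-part of the image of `z₁ (sc (-a) q)`
    have main : ∀ (a : F) (q q' : D.T), PZ S (φ (S.m.z₂ q)) q' →
        ∃ p b, φ (S.m.z₁ (D.sc (-a) q)) = nf S.m 0 p b 1 ∧ p.w = D.σ (-(k * ρ a)) • q'.w := by
      intro a q q' h
      obtain ⟨p₃, b₃, e3⟩ := mem_W (hVI _ (S.z₁_mem_VI (D.sc (-a) q))) (hVJ _ (S.z₁_mem_VJ (D.sc (-a) q)))
      obtain ⟨p₄, b₄, hp4, e4⟩ := map_y hG hVI hVJ (D.ε * a * D.σ q.c)
      obtain ⟨p₆, b₆, q₆, e6⟩ := mem_VI_iff.1 (hVI _ (S.z₂_mem_VI q))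
      have hq6 : q₆ = q' := PZ.uniq ⟨_, _, _, e6⟩ h
      rw [hq6] at e6
      exact ⟨p₃, b₃, e3, (key q a p₆ b₆ q' p₃ b₃ p₄ b₄ e6 e3 e4 hp4).1⟩
    obtain ⟨p, b, e, hp⟩ := main a q q' h'
    obtain ⟨p', b', e', hp'⟩ := main 1 (D.sc a q) q'' h''
    have hsc : D.sc (-1) (D.sc a q) = D.sc (-a) q := by
      rw [D.sc_sc]
      congr 1
      ring
    rw [hsc, e] at e'
    obtain ⟨-, hpp, -, -⟩ := S.nf_inj e'
    rw [← hpp, hp, map_one, mul_one, map_neg, map_neg, map_mul, neg_smul, neg_smul, neg_inj, mul_smul] at hp'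
    have hσk := D.σ_ne hk
    have h3 := congrArg (fun v => (D.σ k)⁻¹ • v) hp'
    simp only [smul_smul, inv_mul_cancel₀ hσk, one_smul] at h3
    rw [← h3, ← mul_assoc, inv_mul_cancel₀ hσk, one_mul]

end

end Cfsg.Agent.StdRank2.OutB2Grade
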