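import Cfsg.Agent.TitsThree.B2NI
import Cfsg.Agent.TitsThree.StdData

/-!
# Twists of a package of type `B₂`: semilinear maps and scalings

A twist `t : Tw D` consists of a field automorphism `ρ`, a `ρ`-semilinear isometry `r` and two scalars `lam`, `mu`.
`tw t m` satisfies the relations of type `B₂` if `m` does.
-/

set_option autoImplicit false

namespace Cfsg.Agent.StdRank2.OutB2Tw

open Cfsg.Agent.TitsThree Cfsg.Agent.TitsThree.B2Pkg Cfsg.Agent.TitsThree.CoreB2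

variable {F : Type*} [Field F] {V : Type*} [AddCommGroup V] [Module F V]

/-- A twist of the datum `D`. -/
structure Tw (D : PQDatum F V) where
  ρ : F ≃+* F
  r : V ≃+ V
  lam : F
  mu : F
  lam_ne : lam ≠ 0
  mu_ne : mu ≠ 0
  ρσ : ∀ a, ρ (D.σ a) = D.σ (ρ a)
  ρε : ρ D.ε = D.ε
  r_smul : ∀ (a : F) v, r (a • v) = ρ a • r v
  r_h : ∀ v w, D.h (r v) (r w) = ρ (D.h v w)
  r_ok : ∀ w c, D.ok (r w) (ρ c) ↔ D.ok w c

namespace Tw

variable {D : PQDatum F V} (t : Tw D)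

/-- The action on the parameter group. -/
def rT (p : D.T) : D.T := ⟨t.r p.w, t.ρ p.c, (t.r_ok _ _).2 p.ok⟩

@[simp] theorem rT_w (p : D.T) : (t.rT p).w = t.r p.w := rfl
@[simp] theorem rT_c (p : D.T) : (t.rT p).c = t.ρ p.c := rfl

theorem rT_mul (p q : D.T) : t.rT (p * q) = t.rT p * t.rT q := by
  ext
  · simp
  · simp only [rT_c, PQDatum.T.mul_c, rT_w, t.r_h, map_add, map_sub]

theorem rT_sc (a : F) (p : D.T) : t.rT (D.sc a p) = D.sc (t.ρ a) (t.rT p) := by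
  ext
  · simp only [rT_w, PQDatum.sc_w, t.r_smul, t.ρσ]
  · simp only [rT_c, PQDatum.sc_c, map_mul, t.ρσ]

theorem rT_c_ne {p : D.T} (hp : p.c ≠ 0) : (t.rT p).c ≠ 0 := by
  rw [rT_c]
  simpa using hp

theorem rT_refl (p : D.T) (hp : p.c ≠ 0) (q : D.T) :
    t.rT (D.refl p hp q) = D.refl (t.rT p) (t.rT_c_ne hp) (t.rT q) := by
  ext
  · simp only [rT_w, PQDatum.refl_w, map_add, t.r_smul, rT_c, map_mul, map_inv₀, t.r_h]
  · rfl

theorem rT_injective : Function.Injective t.rT := by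
  intro p q h
  ext
  · exact t.r.injective (congrArg PQDatum.T.w h)
  · exact t.ρ.injective (congrArg PQDatum.T.c h)

theorem rT_surjective : Function.Surjective t.rT := by
  intro p
  refine ⟨⟨t.r.symm p.w, t.ρ.symm p.c, ?_⟩, ?_⟩
  · rw [← t.r_ok, t.r.apply_symm_apply, t.ρ.apply_symm_apply]
    exact p.ok
  · ext
    · exact t.r.apply_symm_apply _
    · exact t.ρ.apply_symm_apply _

/-- the parameter of the image of `z₂ p` -/
def P (p : D.T) : D.T := D.sc t.mu (t.rT p)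

theorem P_c_ne {p : D.T} (hp : p.c ≠ 0) : (t.P p).c ≠ 0 := by
  rw [P, PQDatum.sc_c]
  exact mul_ne_zero (mul_ne_zero t.mu_ne (D.σ_ne t.mu_ne)) (t.rT_c_ne hp)

theorem P_c (p : D.T) : (t.P p).c = t.mu * D.σ t.mu * t.ρ p.c := rfl

theorem refl_P (p : D.T) (hp : p.c ≠ 0) (q : D.T) :
    D.refl (t.P p) (t.P_c_ne hp) (t.rT q) = t.rT (D.refl p hp q) := by
  have h1 := D.σ_ne t.mu_ne
  have h2 := t.mu_ne
  have h3 := t.rT_c_ne hp
  rw [rT_c] at h3
  rw [rT_refl]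
  ext
  · simp only [PQDatum.refl_w, rT_w, rT_c, P, PQDatum.sc_w, PQDatum.sc_c, D.smul_right, smul_smul, D.σσ]
    congr 2
    field_simp
  · rfl

variable {Y : Type*} [Group Y] (m : B2Maps D Y)

/-- The twisted package. -/
def maps : B2Maps D Y where
  x a := m.x (t.lam * t.mu⁻¹ * t.ρ a)
  x' a := m.x' (t.mu * t.lam⁻¹ * t.ρ a)
  y b := m.y (t.lam * D.σ t.mu * t.ρ b)
  y' b := m.y' ((D.σ t.lam * t.mu)⁻¹ * t.ρ b)
  z₁ p := m.z₁ (D.sc t.lam (t.rT p))
  z₂ p := m.z₂ (D.sc t.mu (t.rT p))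
  z₁' p := m.z₁' (D.sc (D.σ t.lam)⁻¹ (t.rT p))
  z₂' p := m.z₂' (D.sc (D.σ t.mu)⁻¹ (t.rT p))

theorem maps_x (a : F) : (t.maps m).x a = m.x (t.lam * t.mu⁻¹ * t.ρ a) := rfl
theorem maps_x' (a : F) : (t.maps m).x' a = m.x' (t.mu * t.lam⁻¹ * t.ρ a) := rfl
theorem maps_y (a : F) : (t.maps m).y a = m.y (t.lam * D.σ t.mu * t.ρ a) := rfl
theorem maps_y' (a : F) : (t.maps m).y' a = m.y' ((D.σ t.lam * t.mu)⁻¹ * t.ρ a) := rfl
theorem maps_z₁ (p : D.T) : (t.maps m).z₁ p = m.z₁ (D.sc t.lam (t.rT p)) := rfl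
theorem maps_z₂ (p : D.T) : (t.maps m).z₂ p = m.z₂ (D.sc t.mu (t.rT p)) := rfl
theorem maps_z₁' (p : D.T) : (t.maps m).z₁' p = m.z₁' (D.sc (D.σ t.lam)⁻¹ (t.rT p)) := rfl
theorem maps_z₂' (p : D.T) : (t.maps m).z₂' p = m.z₂' (D.sc (D.σ t.mu)⁻¹ (t.rT p)) := rfl

theorem lm_ne : t.lam * t.mu⁻¹ ≠ 0 := mul_ne_zero t.lam_ne (inv_ne_zero t.mu_ne)

theorem maps_nI : (t.maps m).nI = nt m (t.lam * t.mu⁻¹) := by
  have h1 := t.lam_ne
  have h2 := t.mu_ne
  rw [B2Maps.nI, maps_x, maps_x', nt, nn, map_neg, map_one, mul_one]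
  congr 3
  field_simp

theorem maps_nII (p : D.T) : (t.maps m).nII p = m.nII (t.P p) := by
  have h1 := D.σ_ne t.mu_ne
  have h2 := t.mu_ne
  rw [B2Maps.nII, B2Maps.nII, maps_z₂', maps_z₂', maps_z₂, rT_sc, rT_sc, P, D.sc_sc, D.sc_sc, D.sc_sc, D.sc_sc]
  congr 2
  · congr 2
    simp only [PQDatum.sc_c, rT_c, map_mul, map_inv₀, map_neg, t.ρσ, mul_inv_rev, D.σσ]
    field_simp
  · congr 1
    simp only [PQDatum.sc_c, rT_c, map_mul, map_inv₀, map_neg, t.ρε, mul_inv_rev]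
    field_simp

/-- **The twisted package satisfies the relations.** -/
theorem rel {m : B2Maps D Y} (h : B2Rel m) {p₀ : D.T} (hp₀ : p₀.c ≠ 0) : B2Rel (t.maps m) := by
  have hl := t.lam_ne
  have hm := t.mu_ne
  have hσl := D.σ_ne t.lam_ne
  have hσm := D.σ_ne t.mu_ne
  have he := D.ε_ne
  have hlm := t.lm_ne
  refine
    { x_add := fun a b => by simp only [maps_x, map_add, mul_add, h.x_add]
      x'_add := fun a b => by simp only [maps_x', map_add, mul_add, h.x'_add]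
      y_add := fun a b => by simp only [maps_y, map_add, mul_add, h.y_add]
      y'_add := fun a b => by simp only [maps_y', map_add, mul_add, h.y'_add]
      z₁_mul := fun p q => by simp only [maps_z₁, rT_mul, D.sc_mul, h.z₁_mul]
      z₂_mul := fun p q => by simp only [maps_z₂, rT_mul, D.sc_mul, h.z₂_mul]
      z₁'_mul := fun p q => by simp only [maps_z₁', rT_mul, D.sc_mul, h.z₁'_mul]
      z₂'_mul := fun p q => by simp only [maps_z₂', rT_mul, D.sc_mul, h.z₂'_mul]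
      x_z₂ := fun a p => ?_
      z₁_z₂ := fun p q => ?_
      x_y := fun a b => ?_
      x_z₁ := fun a p => h.x_z₁ _ _
      y_z₁ := fun b p => h.y_z₁ _ _
      y_z₂ := fun b p => h.y_z₂ _ _
      nI_x := fun a => ?_
      nI_x' := fun a => ?_
      nI_y := fun b => ?_
      nI_y' := fun b => ?_
      nI_z₁ := fun p => ?_
      nI_z₂ := fun p => ?_
      nI_z₁' := fun p => ?_
      nI_z₂' := fun p => ?_
      nII_x := fun p hp a => ?_
      nII_y := fun p hp b => ?_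
      nII_x' := fun p hp a => ?_
      nII_y' := fun p hp b => ?_
      nII_z₁ := fun p hp q => ?_
      nII_z₁' := fun p hp q => ?_
      nII_z₂ := fun p hp q => ?_
      nII_z₂' := fun p hp q => ?_ }
  · rw [maps_x, maps_z₂, h.x_z₂, maps_z₁, maps_y, rT_sc, D.sc_sc, D.sc_sc]
    congr 2
    · congr 1
      field_simp
    · simp only [PQDatum.sc_c, rT_c, map_mul, map_neg, t.ρσ, t.ρε, D.σσ]
      field_simp
  · rw [maps_z₁, maps_z₂, h.z₁_z₂, maps_y]
    congr 1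
    simp only [PQDatum.sc_w, rT_w, D.smul_left, D.smul_right, t.r_h, D.σσ, map_neg]
    ring
  · rw [maps_x, maps_y, h.x_y, maps_z₁]
    congr 1
    ext
    · simp
    · simp only [PQDatum.sc_c, rT_c, PQDatum.tr_c, map_mul, map_sub, map_inv₀, t.ρσ, t.ρε, D.σσ]
      field_simp
  · rw [maps_nI, maps_x, h.nn_x hp₀ hlm, maps_x']
    congr 1
    rw [map_neg]
    field_simp
  · rw [maps_nI, maps_x', h.nn_x' hp₀ hlm, maps_x]
    congr 1
    rw [map_neg]
    field_simp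
  · rw [maps_nI, maps_y, h.nn_y hlm, maps_y]
    congr 1
    simp only [map_mul, map_inv₀, t.ρσ, t.ρε, D.σσ]
    field_simp
  · rw [maps_nI, maps_y', h.nn_y' hp₀ hlm, maps_y']
    congr 1
    simp only [map_mul, map_inv₀, t.ρσ, t.ρε, D.σσ]
    field_simp
  · rw [maps_nI, maps_z₁, h.nn_z₁ hlm, maps_z₂, rT_sc, D.sc_sc, D.sc_sc]
    congr 2
    rw [map_neg, map_one]
    field_simp
  · rw [maps_nI, maps_z₂, h.nn_z₂ hlm, maps_z₁, D.sc_sc]
    congr 2
    field_simp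
  · rw [maps_nI, maps_z₁', h.nn_z₁' hp₀ hlm, maps_z₂', rT_sc, D.sc_sc, D.sc_sc]
    congr 2
    rw [map_neg, map_one, map_mul, map_inv₀]
    field_simp
  · rw [maps_nI, maps_z₂', h.nn_z₂' hp₀ hlm, maps_z₁', D.sc_sc]
    congr 2
    rw [map_mul, map_inv₀]
    field_simp
  · rw [maps_nII, maps_x, h.nII_x _ (t.P_c_ne hp), maps_y]
    congr 1
    simp only [P_c, map_mul, t.ρσ, t.ρε, D.σσ]
    field_simp
  · rw [maps_nII, maps_y, h.nII_y _ (t.P_c_ne hp), maps_x]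
    congr 1
    simp only [P_c, map_mul, map_inv₀]
    field_simp
  · rw [maps_nII, maps_x', h.nII_x' _ (t.P_c_ne hp), maps_y']
    congr 1
    simp only [P_c, map_mul, map_inv₀, map_neg, t.ρσ]
    field_simp
  · rw [maps_nII, maps_y', h.nII_y' _ (t.P_c_ne hp), maps_x']
    congr 1
    simp only [P_c, map_mul, map_inv₀, map_neg, t.ρσ, t.ρε, D.σσ]
    field_simp
  · rw [maps_nII, maps_z₁, h.nII_z₁ _ (t.P_c_ne hp), maps_z₁, D.refl_sc, t.refl_P p hp]
  · rw [maps_nII, maps_z₁', h.nII_z₁' _ (t.P_c_ne hp), maps_z₁', D.refl_sc, t.refl_P p hp]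
  · rw [maps_nII, maps_z₂, h.nII_z₂ _ (t.P_c_ne hp), maps_z₂', rT_sc, D.refl_sc, t.refl_P p hp, D.sc_sc, D.sc_sc]
    congr 2
    simp only [P_c, map_mul, map_inv₀, t.ρσ, D.σσ]
    field_simp
  · rw [maps_nII, maps_z₂', h.nII_z₂' _ (t.P_c_ne hp), maps_z₂, rT_sc, D.refl_sc, t.refl_P p hp, D.sc_sc, D.sc_sc]
    congr 2
    simp only [P_c, map_mul, map_inv₀, t.ρε]
    field_simp

end Tw

end Cfsg.Agent.StdRank2.OutB2Tw
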