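import Cfsg.Agent.StdRank2.B2Std
import Cfsg.Agent.StdRank2.OutB2Tw

/-!
# Two nondegenerate packages of type `B₂` in a simple group are conjugate under an automorphism
-/

set_option autoImplicit false
set_option linter.unusedSectionVars false

namespace Cfsg.Agent.StdRank2.OutB2Ident

open Cfsg.Agent.TitsThree.B2Pkg Cfsg.Agent.TitsThree.RankTwoRGD Cfsg.Agent.TitsThree.RankTwoIdx
  Cfsg.Agent.TitsThree.RankTwoIdent Cfsg.Agent.TitsThree.RankTwoIdentB2 Cfsg.Agent.TitsThree.CoreB2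
open Cfsg.Agent.StdRank2.B2Std Cfsg.Agent.StdRank2.OutB2Tw

universe u v

/-- Graph argument. -/
theorem equiv_of_graph {G : Type u} {K : Type v} [Group G] [Group K] [IsSimpleGroup G] [IsSimpleGroup K]
    (Γ : Subgroup (G × K)) (hG : Γ.map (MonoidHom.fst G K) = ⊤) (hK : Γ.map (MonoidHom.snd G K) = ⊤)
    (B : Subgroup K) (hB : B ≠ ⊤) (h : ∀ k : K, ((1 : G), k) ∈ Γ → k ∈ B) :
    ∃ e : G ≃* K, ∀ g k, (g, k) ∈ Γ → e g = k := by
  have hG' : ∀ g : G, ∃ k : K, (g, k) ∈ Γ := by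
    intro g
    have : g ∈ Γ.map (MonoidHom.fst G K) := by rw [hG]; trivial
    obtain ⟨⟨g', k⟩, h1, h2⟩ := this
    exact ⟨k, by rw [← h2]; exact h1⟩
  have hK' : ∀ k : K, ∃ g : G, (g, k) ∈ Γ := by
    intro k
    have : k ∈ Γ.map (MonoidHom.snd G K) := by rw [hK]; trivial
    obtain ⟨⟨g, k'⟩, h1, h2⟩ := this
    exact ⟨g, by rw [← h2]; exact h1⟩
  let L : Subgroup K := Γ.comap (MonoidHom.inr G K)
  have hL : L.Normal := by
    constructor
    intro k hk k'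
    obtain ⟨g', h'⟩ := hK' k'
    have h1 := mul_mem (mul_mem h' hk) (inv_mem h')
    change ((1 : G), k' * k * k'⁻¹) ∈ Γ
    convert h1 using 1
    simp [MonoidHom.inr]
  have hL1 : L = ⊥ := by
    rcases hL.eq_bot_or_eq_top with h1 | h1
    · exact h1
    · exfalso
      apply hB
      rw [eq_top_iff]
      intro k _
      have : k ∈ L := by rw [h1]; trivial
      exact h k this
  have hL2 : ∀ k : K, ((1 : G), k) ∈ Γ → k = 1 := by
    intro k hk
    have : k ∈ L := hk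
    rw [hL1] at this
    exact this
  let L' : Subgroup G := Γ.comap (MonoidHom.inl G K)
  have hL' : L'.Normal := by
    constructor
    intro g hg g'
    obtain ⟨k', h'⟩ := hG' g'
    have h1 := mul_mem (mul_mem h' hg) (inv_mem h')
    change (g' * g * g'⁻¹, (1 : K)) ∈ Γ
    convert h1 using 1
    simp [MonoidHom.inl]
  have hL'1 : ∀ g : G, (g, (1 : K)) ∈ Γ → g = 1 := by
    intro g hg
    rcases hL'.eq_bot_or_eq_top with h1 | h1
    · have : g ∈ L' := hg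
      rw [h1] at this
      exact this
    · exfalso
      obtain ⟨k, hk⟩ := exists_ne (1 : K)
      obtain ⟨g', h'⟩ := hK' k
      have h2 : g' ∈ L' := by rw [h1]; trivial
      have h3 := mul_mem h' (inv_mem h2)
      apply hk
      apply hL2
      convert h3 using 1
      simp [MonoidHom.inl]
  have e1 : Function.Bijective ((MonoidHom.fst G K).comp Γ.subtype) := by
    constructor
    · rw [injective_iff_map_eq_one]
      rintro ⟨⟨g, k⟩, hγ⟩ h1
      have h2 : g = 1 := h1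
      subst h2
      have h3 := hL2 k hγ
      subst h3
      rfl
    · intro g
      obtain ⟨k, hk⟩ := hG' g
      exact ⟨⟨(g, k), hk⟩, rfl⟩
  have e2 : Function.Bijective ((MonoidHom.snd G K).comp Γ.subtype) := by
    constructor
    · rw [injective_iff_map_eq_one]
      rintro ⟨⟨g, k⟩, hγ⟩ h1
      have h2 : k = 1 := h1
      subst h2
      have h3 := hL'1 g hγ
      subst h3
      rfl
    · intro k
      obtain ⟨g, hg⟩ := hK' k
      exact ⟨⟨(g, k), hg⟩, rfl⟩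
  refine ⟨(MulEquiv.ofBijective _ e1).symm.trans (MulEquiv.ofBijective _ e2), ?_⟩
  intro g k hgk
  have h1 : (MulEquiv.ofBijective _ e1).symm g = (⟨(g, k), hgk⟩ : Γ) := by
    rw [MulEquiv.symm_apply_eq]
    rfl
  show (MulEquiv.ofBijective _ e2) ((MulEquiv.ofBijective _ e1).symm g) = k
  rw [h1]
  rfl

variable {F : Type*} [Field F] {V : Type*} [AddCommGroup V] [Module F V] {D : PQDatum F V}

section gen

variable {Y : Type u} [Group Y] {m : B2Maps D Y} (h : B2Rel m) {p₀ : D.T} (hp₀ : p₀.c ≠ 0)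

theorem x_mem_gen (a : F) : m.x a ∈ Subgroup.closure (genSet m) := Subgroup.subset_closure (Or.inl ⟨a, Or.inl rfl⟩)
theorem x'_mem_gen (a : F) : m.x' a ∈ Subgroup.closure (genSet m) := Subgroup.subset_closure (Or.inl ⟨a, Or.inr rfl⟩)
theorem z₂_mem_gen (p : D.T) : m.z₂ p ∈ Subgroup.closure (genSet m) := Subgroup.subset_closure (Or.inr ⟨p, Or.inl rfl⟩)
theorem z₂'_mem_gen (p : D.T) : m.z₂' p ∈ Subgroup.closure (genSet m) :=
  Subgroup.subset_closure (Or.inr ⟨p, Or.inr rfl⟩)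

theorem nI_mem_gen : m.nI ∈ Subgroup.closure (genSet m) :=
  mul_mem (mul_mem (x_mem_gen _) (x'_mem_gen _)) (x_mem_gen _)

theorem nII_mem_gen (p : D.T) : m.nII p ∈ Subgroup.closure (genSet m) :=
  mul_mem (mul_mem (z₂'_mem_gen _) (z₂_mem_gen _)) (z₂'_mem_gen _)

include h

theorem z₁_mem_gen (p : D.T) : m.z₁ p ∈ Subgroup.closure (genSet m) := by
  rw [← h.nI_z₂]
  exact mul_mem (mul_mem nI_mem_gen (z₂_mem_gen _)) (inv_mem nI_mem_gen)

theorem z₁'_mem_gen (p : D.T) : m.z₁' p ∈ Subgroup.closure (genSet m) := by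
  rw [← h.nI_z₂']
  exact mul_mem (mul_mem nI_mem_gen (z₂'_mem_gen _)) (inv_mem nI_mem_gen)

include hp₀

theorem y_mem_gen (b : F) : m.y b ∈ Subgroup.closure (genSet m) := by
  have h1 := h.nII_x p₀ hp₀ ((D.ε * D.σ p₀.c)⁻¹ * b)
  rw [mul_inv_cancel_left₀ (mul_ne_zero D.ε_ne (D.σ_ne hp₀))] at h1
  rw [← h1]
  exact mul_mem (mul_mem (nII_mem_gen _) (x_mem_gen _)) (inv_mem (nII_mem_gen _))

theorem y'_mem_gen (b : F) : m.y' b ∈ Subgroup.closure (genSet m) := by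
  have h1 := h.nII_x' p₀ hp₀ (D.σ (-(p₀.c * b)))
  have h2 : -(p₀.c⁻¹ * D.σ (D.σ (-(p₀.c * b)))) = b := by
    rw [D.σσ]
    field_simp
  rw [h2] at h1
  rw [← h1]
  exact mul_mem (mul_mem (nII_mem_gen _) (x'_mem_gen _)) (inv_mem (nII_mem_gen _))

end gen

/-- `e` carries the package `m` to `k`. -/
structure Carries {Y : Type*} {Z : Type*} [Group Y] [Group Z] (e : Y →* Z) (m : B2Maps D Y) (k : B2Maps D Z) :
    Prop where
  x : ∀ a, e (m.x a) = k.x a
  x' : ∀ a, e (m.x' a) = k.x' a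
  y : ∀ a, e (m.y a) = k.y a
  y' : ∀ a, e (m.y' a) = k.y' a
  z₁ : ∀ p, e (m.z₁ p) = k.z₁ p
  z₂ : ∀ p, e (m.z₂ p) = k.z₂ p
  z₁' : ∀ p, e (m.z₁' p) = k.z₁' p
  z₂' : ∀ p, e (m.z₂' p) = k.z₂' p

/-- **Two nondegenerate packages over the same datum are conjugate.** -/
theorem exists_equiv {G K : Type u} [Group G] [Group K] [IsSimpleGroup G] [IsSimpleGroup K]
    (S : Std D G) (S' : Std D K) : ∃ e : G ≃* K, Carries e.toMonoidHom S.m S'.m := by
  have h := S.rel.prod S'.rel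
  have hn : NIRel (S.m.prod S'.m) := Cfsg.Agent.TitsThree.B2NI.nirel h S.hp₀
  have hr := S.hp₀
  set r := S.p₀
  have hU := Cfsg.Agent.TitsThree.RankTwoIdentB2.U_le h hn r hr
  have hGen := Cfsg.Agent.TitsThree.RankTwoIdentB2.gen_le h hn r hr
  have hUG : ((r2 h hn r hr).core.U).map (MonoidHom.fst G K) ≤ Subgroup.closure (posSet S.m) := by
    refine (Subgroup.map_mono hU).trans ?_
    rw [MonoidHom.map_closure, Subgroup.closure_le]
    rintro _ ⟨g, (⟨a, rfl | rfl⟩ | ⟨p, rfl | rfl⟩), rfl⟩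
    · exact Subgroup.subset_closure (Or.inl ⟨a, Or.inl rfl⟩)
    · exact Subgroup.subset_closure (Or.inl ⟨a, Or.inr rfl⟩)
    · exact Subgroup.subset_closure (Or.inr ⟨p, Or.inl rfl⟩)
    · exact Subgroup.subset_closure (Or.inr ⟨p, Or.inr rfl⟩)
  have hUK : ((r2 h hn r hr).core.U).map (MonoidHom.snd G K) ≤ Subgroup.closure (posSet S'.m) := by
    refine (Subgroup.map_mono hU).trans ?_
    rw [MonoidHom.map_closure, Subgroup.closure_le]
    rintro _ ⟨g, (⟨a, rfl | rfl⟩ | ⟨p, rfl | rfl⟩), rfl⟩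
    · exact Subgroup.subset_closure (Or.inl ⟨a, Or.inl rfl⟩)
    · exact Subgroup.subset_closure (Or.inl ⟨a, Or.inr rfl⟩)
    · exact Subgroup.subset_closure (Or.inr ⟨p, Or.inl rfl⟩)
    · exact Subgroup.subset_closure (Or.inr ⟨p, Or.inr rfl⟩)
  set c := (r2 h hn r hr).core with hc
  have hGI : ∃ a ∈ c.AI', a.1 ∉ c.U.map (MonoidHom.fst G K) := by
    obtain ⟨a, ha⟩ := S.ndI
    exact ⟨(S.m.x' a, S'.m.x' a), ⟨a, rfl⟩, fun h' => ha (hUG h')⟩
  have hGJ : ∃ a ∈ c.AJ', a.1 ∉ c.U.map (MonoidHom.fst G K) := by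
    obtain ⟨p, hp⟩ := S.ndJ
    exact ⟨(S.m.z₂' p, S'.m.z₂' p), ⟨p, rfl⟩, fun h' => hp (hUG h')⟩
  have hKI : ∃ a ∈ c.AI', a.2 ∉ c.U.map (MonoidHom.snd G K) := by
    obtain ⟨a, ha⟩ := S'.ndI
    exact ⟨(S.m.x' a, S'.m.x' a), ⟨a, rfl⟩, fun h' => ha (hUK h')⟩
  obtain ⟨e, he⟩ := equiv_of_graph c.G (by
      rw [eq_top_iff, ← S.gen, Subgroup.closure_le]
      rintro g (⟨a, rfl | rfl⟩ | ⟨p, rfl | rfl⟩)
      · exact ⟨(S.m.x a, S'.m.x a), hGen (Subgroup.subset_closure (Or.inl ⟨a, Or.inl rfl⟩)), rfl⟩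
      · exact ⟨(S.m.x' a, S'.m.x' a), hGen (Subgroup.subset_closure (Or.inl ⟨a, Or.inr rfl⟩)), rfl⟩
      · exact ⟨(S.m.z₂ p, S'.m.z₂ p), hGen (Subgroup.subset_closure (Or.inr ⟨p, Or.inl rfl⟩)), rfl⟩
      · exact ⟨(S.m.z₂' p, S'.m.z₂' p), hGen (Subgroup.subset_closure (Or.inr ⟨p, Or.inr rfl⟩)), rfl⟩)
    (by
      rw [eq_top_iff, ← S'.gen, Subgroup.closure_le]
      rintro g (⟨a, rfl | rfl⟩ | ⟨p, rfl | rfl⟩)
      · exact ⟨(S.m.x a, S'.m.x a), hGen (Subgroup.subset_closure (Or.inl ⟨a, Or.inl rfl⟩)), rfl⟩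
      · exact ⟨(S.m.x' a, S'.m.x' a), hGen (Subgroup.subset_closure (Or.inl ⟨a, Or.inr rfl⟩)), rfl⟩
      · exact ⟨(S.m.z₂ p, S'.m.z₂ p), hGen (Subgroup.subset_closure (Or.inr ⟨p, Or.inl rfl⟩)), rfl⟩
      · exact ⟨(S.m.z₂' p, S'.m.z₂' p), hGen (Subgroup.subset_closure (Or.inr ⟨p, Or.inr rfl⟩)), rfl⟩)
    (Subgroup.normalizer (c.U.map (MonoidHom.snd G K) : Set K)) (by
      intro h
      have h1 := nI_not_mem c (MonoidHom.snd G K) hKI
      rw [h] at h1
      exact h1 trivial)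
    (by
      intro k hk
      have h1 := nI_not_mem c (MonoidHom.fst G K) hGI
      have h2 := nI_not_mem c.symm (MonoidHom.fst G K) hGJ
      have e := c.eq_D (by norm_num)
        (S := c.G ⊓ (Subgroup.normalizer (c.U.map (MonoidHom.fst G K) : Set G)).comap
          (MonoidHom.fst G K)) inf_le_left
        (fun d hd => ⟨c.D_le hd, map_normalizer c (MonoidHom.fst G K) hd⟩)
        (fun h => h1 h.2) (fun h => h2 h.2)
      have h3 : ((1 : G), k) ∈ c.G ⊓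
          (Subgroup.normalizer (c.U.map (MonoidHom.fst G K) : Set G)).comap (MonoidHom.fst G K) :=
        ⟨hk, one_mem (Subgroup.normalizer (c.U.map (MonoidHom.fst G K) : Set G))⟩
      rw [e] at h3
      exact map_normalizer c (MonoidHom.snd G K) h3)
  refine ⟨e, ⟨fun a => ?_, fun a => ?_, fun a => ?_, fun a => ?_, fun a => ?_, fun a => ?_, fun a => ?_, fun a => ?_⟩⟩
  · exact he _ _ (hGen (x_mem_gen (m := S.m.prod S'.m) a))
  · exact he _ _ (hGen (x'_mem_gen (m := S.m.prod S'.m) a))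
  · exact he _ _ (hGen (y_mem_gen h hr a))
  · exact he _ _ (hGen (y'_mem_gen h hr a))
  · exact he _ _ (hGen (z₁_mem_gen h a))
  · exact he _ _ (hGen (z₂_mem_gen (m := S.m.prod S'.m) a))
  · exact he _ _ (hGen (z₁'_mem_gen h a))
  · exact he _ _ (hGen (z₂'_mem_gen (m := S.m.prod S'.m) a))

end Cfsg.Agent.StdRank2.OutB2Ident
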