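import Cfsg.Agent.StdRank2.OutB2G
import Cfsg.Agent.StdRank2.OutL3Outer

/-!
# Involutions of field type, `B₂` types

`invol`: an involution of an adapted 2-group induces an inner automorphism or is `v f₀` with `v ∈ U` and `f₀` an
involution of field type.  `conj_of_H1`: if `H1 N ρ` (types `Sp₄`, `U₅`) all involutions of `U f₀` are conjugate under `U`.
-/

set_option autoImplicit false
set_option linter.unusedSectionVars false

namespace Cfsg.Agent.StdRank2.OutB2Inv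

open Subgroup
open Cfsg.Agent.TitsThree.B2Pkg Cfsg.Agent.TitsThree.RankTwoIdentB2
  Cfsg.Agent.TitsThree.CoreB2 Cfsg.Agent.TitsThree.RankTwoIdx Cfsg.Agent.TitsThree.RankTwoRGD
open Cfsg.Agent.StdRank2.OddLift Cfsg.Agent.StdRank2.B2Lift Cfsg.Agent.StdRank2.B2Std
  Cfsg.Agent.StdRank2.B2Torus Cfsg.Agent.StdRank2.B2Act Cfsg.Agent.StdRank2.B2Act.Std
  Cfsg.Agent.StdRank2.B2Par Cfsg.Agent.StdRank2.B2Par.Std Cfsg.Agent.StdRank2.B2Self
  Cfsg.Agent.StdRank2.OutB2Par Cfsg.Agent.StdRank2.OutB2G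
  Cfsg.Agent.StdRank2.OutB2Grade Cfsg.Agent.StdRank2.OutB2Aut Cfsg.Agent.StdRank2.OutB2Tw
  Cfsg.Agent.StdRank2.OutB2Data Cfsg.Agent.StdRank2.OutB2Decomp

universe u

variable {F : Type*} [Field F] {V : Type*} [AddCommGroup V] [Module F V] {D : PQDatum F V}
variable {G : Type u} [Group G] {A : Subgroup G} {N : FData D} {S : Std D ↥A}

/-- normal forms in `G` -/
def nG (S : Std D ↥A) (a : F) (p : D.T) (b : F) (q : D.T) : G := (nf S.m a p b q : ↥A)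

theorem nG_mem (a : F) (p : D.T) (b : F) (q : D.T) : nG S a p b q ∈ UG S := ⟨_, nf_mem _ _ _ _, rfl⟩

theorem exists_nG {g : G} (hg : g ∈ UG S) : ∃ a p b q, g = nG S a p b q := by
  obtain ⟨u, hu, rfl⟩ := hg
  obtain ⟨a, p, b, q, rfl⟩ := exists_nf S.rel hu
  exact ⟨a, p, b, q, rfl⟩

theorem nG_mul (a : F) (p : D.T) (b : F) (q : D.T) (a' : F) (p' : D.T) (b' : F) (q' : D.T) :
    nG S a p b q * nG S a' p' b' q' =
      nG S (a + a') (p * (D.tr a' b)⁻¹ * D.sc (-a') q * p')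
        (b + D.ε * a' * D.σ q.c + D.h q.w p'.w + b') (q * q') := by
  unfold nG
  rw [← Subgroup.coe_mul, mul_nf S.rel]

theorem nG_mul' (a : F) (p : D.T) (b : F) (q : D.T) (p' : D.T) (b' : F) (q' : D.T) :
    nG S a p b q * nG S 0 p' b' q' = nG S a (p * p') (b + D.h q.w p'.w + b') (q * q') := by
  rw [nG_mul]
  have e1 : D.tr 0 b = 1 := by ext <;> simp
  have e2 : D.sc (-0) q = 1 := by ext <;> simp
  rw [e1, e2]
  simp

theorem nG_one : nG S 0 1 0 1 = 1 := by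
  unfold nG
  rw [nf_one S.rel]
  rfl

theorem nG_inj [Finite F] [CharP F 2] {a : F} {p : D.T} {b : F} {q : D.T} {a' : F} {p' : D.T}
    {b' : F} {q' : D.T} (h : nG S a p b q = nG S a' p' b' q') : a = a' ∧ p = p' ∧ b = b' ∧ q = q' :=
  S.nf_inj (Subtype.ext h)

theorem nG_x (a : F) : nG S a 1 0 1 = S.m.x a := by
  unfold nG
  rw [← x_eq_nf S.rel]

theorem nG_y (a : F) : nG S 0 1 a 1 = S.m.y a := by
  unfold nG
  rw [← y_eq_nf S.rel]

theorem nG_z₁ (p : D.T) : nG S 0 p 0 1 = S.m.z₁ p := by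
  unfold nG
  rw [← z₁_eq_nf S.rel]

theorem nG_z₂ (q : D.T) : nG S 0 1 0 q = S.m.z₂ q := by
  unfold nG
  rw [← z₂_eq_nf S.rel]

/-- generation of `A` -/
theorem A_le {P : Subgroup G} (hx : ∀ a, (S.m.x a : G) ∈ P) (hx' : ∀ a, (S.m.x' a : G) ∈ P)
    (hz : ∀ a, (S.m.z₂ a : G) ∈ P) (hz' : ∀ a, (S.m.z₂' a : G) ∈ P) : A ≤ P := by
  intro g hg
  have h1 : (⟨g, hg⟩ : ↥A) ∈ Subgroup.closure (genSet S.m) := by rw [S.gen]; trivial
  have h2 : Subgroup.closure (genSet S.m) ≤ P.subgroupOf A := by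
    rw [closure_le]
    rintro k (⟨a, rfl | rfl⟩ | ⟨p, rfl | rfl⟩)
    · exact hx a
    · exact hx' a
    · exact hz p
    · exact hz' p
  exact h2 h1

section fld

variable {f g : G} {ρ τ : F ≃+* F}

theorem fld_mul (h : Fld N S f ρ) (h' : Fld N S g τ) : Fld N S (f * g) (ρ * τ) := by
  have key : ∀ {a b c : G}, g * a * g⁻¹ = b → f * b * f⁻¹ = c → f * g * a * (f * g)⁻¹ = c := by
    rintro a b c rfl rfl
    group
  exact
    { x := fun a => key (h'.x a) (h.x _)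
      x' := fun a => key (h'.x' a) (h.x' _)
      y := fun a => key (h'.y a) (h.y _)
      y' := fun a => key (h'.y' a) (h.y' _)
      z₁ := fun a => key (h'.z₁ a) (by rw [h.z₁, N.T_mul])
      z₂ := fun a => key (h'.z₂ a) (by rw [h.z₂, N.T_mul])
      z₁' := fun a => key (h'.z₁' a) (by rw [h.z₁', N.T_mul])
      z₂' := fun a => key (h'.z₂' a) (by rw [h.z₂', N.T_mul]) }

theorem fld_nG (h : Fld N S f ρ) (a : F) (p : D.T) (b : F) (q : D.T) :
    f * nG S a p b q * f⁻¹ = nG S (ρ a) (N.T ρ p) (ρ b) (N.T ρ q) := by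
  show f * ((S.m.x a * S.m.z₁ p * S.m.y b * S.m.z₂ q : ↥A) : G) * f⁻¹ =
    ((S.m.x (ρ a) * S.m.z₁ (N.T ρ p) * S.m.y (ρ b) * S.m.z₂ (N.T ρ q) : ↥A) : G)
  push_cast
  rw [← h.x, ← h.z₁, ← h.y, ← h.z₂]
  group

theorem fld_norm (h : Fld N S f ρ) {u : G} (hu : u ∈ UG S) : f * u * f⁻¹ ∈ UG S := by
  obtain ⟨a, p, b, q, rfl⟩ := exists_nG hu
  rw [fld_nG h]
  exact nG_mem _ _ _ _

theorem fld_cent (h : Fld N S f 1) : f ∈ centralizer (A : Set G) := by
  have h1 : A ≤ centralizer ({f} : Set G) := by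
    apply A_le (S := S)
    · intro a
      rw [mem_centralizer_singleton_iff]
      have := h.x a
      rw [mul_inv_eq_iff_eq_mul] at this
      exact this.symm
    · intro a
      rw [mem_centralizer_singleton_iff]
      have := h.x' a
      rw [mul_inv_eq_iff_eq_mul] at this
      exact this.symm
    · intro a
      rw [mem_centralizer_singleton_iff]
      have := h.z₂ a
      rw [mul_inv_eq_iff_eq_mul, N.T_one] at this
      exact this.symm
    · intro a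
      rw [mem_centralizer_singleton_iff]
      have := h.z₂' a
      rw [mul_inv_eq_iff_eq_mul, N.T_one] at this
      exact this.symm
  rw [mem_centralizer_iff]
  intro a ha
  exact mem_centralizer_singleton_iff.1 (h1 ha)

end fld

section

variable [Finite G] [Finite F] [CharP F 2] (hZ : Odd (Nat.card (center ↥A)))
include hZ

/-- `U ∩ C(A) = 1` -/
theorem eq_one_of_centralizer {u : G} (hu : u ∈ UG S) (hc : u ∈ centralizer (A : Set G)) : u = 1 := by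
  obtain ⟨v, hv, rfl⟩ := hu
  have h1 : v ∈ center ↥A := by
    rw [mem_center_iff]
    intro g
    apply Subtype.ext
    exact mem_centralizer_iff.1 hc g g.2
  have h2 : v = 1 := by
    refine eq_of_mk hZ (isTwo_of_mem_UU S.rel hv) IsTwo.one ?_
    rw [QuotientGroup.mk_one, QuotientGroup.eq_one_iff]
    exact h1
  rw [h2]
  rfl

/-- an element of `U` of field type is trivial -/
theorem eq_one_of_fld {u : G} (hu : u ∈ UG S) {ρ : F ≃+* F} (h : Fld N S u ρ) : u = 1 ∧ ρ = 1 := by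
  have h1 : ρ = 1 := by
    ext a
    have h2 := h.x a
    obtain ⟨c, p, b, q, rfl⟩ := exists_nG hu
    rw [mul_inv_eq_iff_eq_mul, ← nG_x, ← nG_x, nG_mul, nG_mul] at h2
    have h3 := (nG_inj h2).1
    rw [add_comm] at h3
    exact (add_right_cancel h3).symm
  subst h1
  exact ⟨eq_one_of_centralizer hZ hu (fld_cent h), rfl⟩

/-- **Involutions of an adapted 2-group.** -/
theorem invol {T : Subgroup G} (had : Adapted N S T) {f : G} (hf : f ∈ T) (hff : f * f = 1) :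
    (∃ v ∈ UG S, v⁻¹ * f ∈ centralizer (A : Set G)) ∨
      ∃ v ∈ UG S, ∃ ρ : F ≃+* F, ρ ≠ 1 ∧ ρ * ρ = 1 ∧ Fld N S (v⁻¹ * f) ρ ∧ v⁻¹ * f * (v⁻¹ * f) = 1 := by
  obtain ⟨u, hu, ρ, -, h⟩ := had f hf
  have h2 := fld_mul h h
  have hmem : u * f * (u * f) ∈ UG S := by
    have h3 : u * f * (u * f) = u * (u⁻¹ * (u * f * u * (u * f)⁻¹) * u) := by
      have : u * f * (u * f) = u * (f * u * f) := by group
      rw [this]
      congr 1
      have hf' : f⁻¹ = f := inv_eq_of_mul_eq_one_left hff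
      rw [mul_inv_rev, hf']
      group
    rw [h3]
    exact mul_mem hu (mul_mem (mul_mem (inv_mem hu) (fld_norm h hu)) hu)
  obtain ⟨h3, h4⟩ := eq_one_of_fld hZ hmem h2
  by_cases h1 : ρ = 1
  · left
    subst h1
    exact ⟨u⁻¹, inv_mem hu, by rw [inv_inv]; exact fld_cent h⟩
  · right
    exact ⟨u⁻¹, inv_mem hu, ρ, h1, h4, by rw [inv_inv]; exact h, by rw [inv_inv]; exact h3⟩

end

/-- Vanishing of the first cohomology of `⟨ρ⟩` on the parameter group. -/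
def H1 (N : FData D) (ρ : F ≃+* F) : Prop := ∀ q : D.T, q * N.T ρ q = 1 → ∃ r, r * q * (N.T ρ r)⁻¹ = 1

section cocycle

variable [Finite F] [CharP F 2] {f₀ : G} {ρ : F ≃+* F} (h1 : ρ ≠ 1) (h2 : ρ * ρ = 1) (hf₀ : Fld N S f₀ ρ)
  (hff : f₀ * f₀ = 1)

omit [Finite F] [CharP F 2] in
/-- one conjugation step -/
theorem step {w v : G} : w * (v * f₀) * w⁻¹ = w * v * (f₀ * w * f₀⁻¹)⁻¹ * f₀ := by group

include hff

omit [CharP F 2] [Finite F] in
theorem cocycle_iff {v : G} : v * f₀ * (v * f₀) = 1 ↔ v * (f₀ * v * f₀⁻¹) = 1 := by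
  have hf' : f₀⁻¹ = f₀ := inv_eq_of_mul_eq_one_left hff
  rw [hf']
  constructor
  · intro h; rw [← h]; group
  · intro h; rw [← h]; group

include hf₀

/-- the coordinates of a cocycle -/
theorem cocycle {a : F} {p : D.T} {b : F} {q : D.T} (h : nG S a p b q * f₀ * (nG S a p b q * f₀) = 1) :
    a + ρ a = 0 ∧ q * N.T ρ q = 1 ∧ (a = 0 → p * N.T ρ p = 1 ∧ b + D.h q.w (N.T ρ p).w + ρ b = 0) := by
  rw [cocycle_iff hff, fld_nG hf₀, nG_mul, ← nG_one (S := S)] at h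
  obtain ⟨i1, i2, i3, i4⟩ := nG_inj h
  refine ⟨i1, i4, fun ha => ?_⟩
  rw [ha, map_zero] at i2 i3
  have e1 : D.tr 0 b = 1 := by ext <;> simp
  have e2 : D.sc (-0) q = 1 := by ext <;> simp
  rw [e1, e2, inv_one, mul_one, mul_one] at i2
  rw [mul_zero, zero_mul, add_zero] at i3
  exact ⟨i2, i3⟩

include h1 h2

/-- First reduction: the involution is conjugate to `v f₀` with `v ∈ V_I`. -/
theorem conj_step1 {v : G} (hv : v ∈ UG S) (hvf : v * f₀ * (v * f₀) = 1) :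
    ∃ w ∈ UG S, ∃ p b q, w * (v * f₀) * w⁻¹ = nG S 0 p b q * f₀ := by
  obtain ⟨a, p, b, q, rfl⟩ := exists_nG hv
  obtain ⟨i1, -, -⟩ := cocycle hf₀ hff hvf
  obtain ⟨s, hs⟩ := OutField.exists_trace h2 h1 (a := a) (by
    have := CharTwo.add_eq_zero.1 i1
    exact this.symm)
  refine ⟨nG S s 1 0 1, nG_mem _ _ _ _, ?_⟩
  have e1 : (f₀ * nG S s 1 0 1 * f₀⁻¹)⁻¹ = nG S (ρ s) 1 0 1 := by
    rw [nG_x, hf₀.x, nG_x]
    apply inv_eq_of_mul_eq_one_left
    rw [← Subgroup.coe_mul, ← S.rel.x_add, CharTwo.add_self_eq_zero, add_zero' S.rel.x_add]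
    rfl
  rw [step, e1, nG_mul, nG_mul]
  have e2 : s + a + ρ s = 0 := by
    have : s + ρ s + a = 0 := by rw [hs, CharTwo.add_self_eq_zero]
    linear_combination this
  rw [e2]
  exact ⟨_, _, _, rfl⟩

/-- Last reduction: kill the `y` coordinate. -/
theorem conj_step4 {p : D.T} {b : F} {q : D.T} (hb : ρ b = b) :
    ∃ w ∈ UG S, w * (nG S 0 p b q * f₀) * w⁻¹ = nG S 0 p 0 q * f₀ := by
  obtain ⟨s, hs⟩ := OutField.exists_trace h2 h1 hb
  refine ⟨nG S 0 1 s 1, nG_mem _ _ _ _, ?_⟩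
  have e1 : (f₀ * nG S 0 1 s 1 * f₀⁻¹)⁻¹ = nG S 0 1 (ρ s) 1 := by
    rw [nG_y, hf₀.y, nG_y]
    apply inv_eq_of_mul_eq_one_left
    rw [← Subgroup.coe_mul, ← S.rel.y_add, CharTwo.add_self_eq_zero, add_zero' S.rel.y_add]
    rfl
  rw [step, e1, nG_mul', nG_mul']
  have e2 : s + D.h (1 : D.T).w p.w + b + D.h (1 * q : D.T).w (1 : D.T).w + ρ s = 0 := by
    rw [PQDatum.T.one_w, D.zero_left, D.zero_right]
    have : s + ρ s + b = 0 := by rw [hs, CharTwo.add_self_eq_zero]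
    linear_combination this
  rw [e2, one_mul, one_mul, mul_one, mul_one]

/-- **All involutions of `U f₀` are conjugate under `U`.** -/
theorem conj_of_H1 (hH : H1 N ρ) {v : G} (hv : v ∈ UG S) (hvf : v * f₀ * (v * f₀) = 1) :
    ∃ w ∈ UG S, w * (v * f₀) * w⁻¹ = f₀ := by
  obtain ⟨w, hw, p, b, q, e⟩ := conj_step1 h1 h2 hf₀ hff hv hvf
  have hsq : ∀ {w x : G}, x * x = 1 → w * x * w⁻¹ * (w * x * w⁻¹) = 1 := by
    intro w x hx
    have : w * x * w⁻¹ * (w * x * w⁻¹) = w * (x * x) * w⁻¹ := by group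
    rw [this, hx, mul_one, mul_inv_cancel]
  have c1 := hsq (w := w) hvf
  rw [e] at c1
  obtain ⟨-, i2, -⟩ := cocycle hf₀ hff c1
  obtain ⟨r, hr⟩ := hH q i2
  have e2 : nG S 0 1 0 r * (nG S 0 p b q * f₀) * (nG S 0 1 0 r)⁻¹ =
      nG S 0 p (D.h r.w p.w + b) 1 * f₀ := by
    have e3 : (f₀ * nG S 0 1 0 r * f₀⁻¹)⁻¹ = nG S 0 1 0 (N.T ρ r)⁻¹ := by
      rw [nG_z₂, hf₀.z₂, nG_z₂, mul_inv' S.rel.z₂_mul]
      rfl
    rw [step, e3, nG_mul', nG_mul', hr]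
    simp [D.zero_right]
  have c2 := hsq (w := nG S 0 1 0 r) c1
  rw [e2] at c2
  obtain ⟨-, -, i3⟩ := cocycle hf₀ hff c2
  obtain ⟨i4, i5⟩ := i3 rfl
  obtain ⟨r', hr'⟩ := hH p i4
  have e4 : nG S 0 r' 0 1 * (nG S 0 p (D.h r.w p.w + b) 1 * f₀) * (nG S 0 r' 0 1)⁻¹ =
      nG S 0 1 (D.h r.w p.w + b) 1 * f₀ := by
    have e3 : (f₀ * nG S 0 r' 0 1 * f₀⁻¹)⁻¹ = nG S 0 (N.T ρ r')⁻¹ 0 1 := by
      rw [nG_z₁, hf₀.z₁, nG_z₁, mul_inv' S.rel.z₁_mul]
      rfl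
    rw [step, e3, nG_mul', nG_mul', hr']
    simp [D.zero_left]
  have hb : ρ (D.h r.w p.w + b) = D.h r.w p.w + b := by
    rw [PQDatum.T.one_w, D.zero_left, add_zero] at i5
    exact (CharTwo.add_eq_zero.1 i5).symm
  obtain ⟨w', hw', e5⟩ := conj_step4 (S := S) (p := 1) (q := 1) h1 h2 hf₀ hff hb
  refine ⟨w' * nG S 0 r' 0 1 * nG S 0 1 0 r * w, mul_mem (mul_mem (mul_mem hw' (nG_mem _ _ _ _)) (nG_mem _ _ _ _)) hw, ?_⟩
  calc w' * nG S 0 r' 0 1 * nG S 0 1 0 r * w * (v * f₀) * (w' * nG S 0 r' 0 1 * nG S 0 1 0 r * w)⁻¹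
      = w' * (nG S 0 r' 0 1 * (nG S 0 1 0 r * (w * (v * f₀) * w⁻¹) * (nG S 0 1 0 r)⁻¹) * (nG S 0 r' 0 1)⁻¹) * w'⁻¹ := by
        group
    _ = f₀ := by rw [e, e2, e4, e5, nG_one, one_mul]

end cocycle

end Cfsg.Agent.StdRank2.OutB2Inv
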