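import Cfsg.Agent.StdRank2.OutB2Good

/-!
# `StepFour.Outer` for types `U₄` and `U₅`, and for the field type involutions of `Sp₄`
-/

set_option autoImplicit false
set_option linter.unusedSectionVars false

namespace Cfsg.Agent.StdRank2.OutB2Outer

open Subgroup
open Cfsg.Agent.TitsThree.B2Pkg Cfsg.Agent.TitsThree.RankTwoIdentB2
  Cfsg.Agent.TitsThree.CoreB2 Cfsg.Agent.TitsThree.RankTwoIdx Cfsg.Agent.TitsThree.RankTwoRGD
  Cfsg.Agent.TitsThree.StdData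
open Cfsg.Agent.StdRank2.OddLift Cfsg.Agent.StdRank2.B2Lift Cfsg.Agent.StdRank2.B2Std
  Cfsg.Agent.StdRank2.B2Torus Cfsg.Agent.StdRank2.B2Act Cfsg.Agent.StdRank2.B2Act.Std
  Cfsg.Agent.StdRank2.B2Par Cfsg.Agent.StdRank2.B2Par.Std Cfsg.Agent.StdRank2.B2Self
  Cfsg.Agent.StdRank2.OutB2Par Cfsg.Agent.StdRank2.OutB2G Cfsg.Agent.StdRank2.OutL3Outer
  Cfsg.Agent.StdRank2.OutB2Grade Cfsg.Agent.StdRank2.OutB2Aut Cfsg.Agent.StdRank2.OutB2Tw
  Cfsg.Agent.StdRank2.OutB2Data Cfsg.Agent.StdRank2.OutB2Decomp Cfsg.Agent.StdRank2.OutB2Inv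
  Cfsg.Agent.StdRank2.OutField Cfsg.Agent.StdRank2.OutB2Good

universe u

section h1

variable {F : Type*} [Field F] [Finite F] [CharP F 2]

theorem H1_sp {ρ : F ≃+* F} (h1 : ρ ≠ 1) (h2 : ρ * ρ = 1) : H1 (nSp (F := F)) ρ := by
  intro q hq
  have h3 := congrArg PQDatum.T.c hq
  have h4 : q.c + ρ q.c = 0 := by
    have : q.c + ρ q.c - 0 = 0 := h3
    rwa [sub_zero] at this
  obtain ⟨s, hs⟩ := exists_trace h2 h1 (CharTwo.add_eq_zero.1 h4).symm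
  refine ⟨⟨(), s, trivial⟩, ?_⟩
  ext
  show (s + q.c - 0) + (-1 : F) * ρ s - 0 = 0
  rw [neg_one_eq, one_mul, sub_zero, sub_zero]
  have : s + ρ s + q.c = 0 := by rw [hs, CharTwo.add_self_eq_zero]
  linear_combination this

variable (σ : F ≃+* F) (hσ : ∀ x, σ (σ x) = x)

theorem H1_U1 (h1 : σ ≠ 1) : H1 (nU1 σ hσ) σ := by
  intro q hq
  have h3 := congrArg PQDatum.T.c hq
  have h3w := congrArg PQDatum.T.w hq
  have h4 : q.w + σ q.w = 0 := h3w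
  have hw : σ q.w = q.w := (CharTwo.add_eq_zero.1 h4).symm
  have h5 : q.c + σ q.c - σ q.w * σ q.w = 0 := h3
  rw [hw] at h5
  obtain ⟨w, hww⟩ := exists_sqrt (σ q.c)
  have htr : w + σ w = q.w := by
    have e1 : (w + σ w) * (w + σ w) = q.w * q.w := by
      have e2 : σ w * σ w = q.c := by rw [← map_mul, hww, hσ]
      have e3 : (w * σ w) + (w * σ w) = 0 := CharTwo.add_self_eq_zero _
      linear_combination hww + e2 + e3 + h5
    have e2 : (w + σ w + q.w) * (w + σ w + q.w) = 0 := by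
      have e3 : ((w + σ w) * q.w) + ((w + σ w) * q.w) = 0 := CharTwo.add_self_eq_zero _
      have e4 : (q.w * q.w) + (q.w * q.w) = 0 := CharTwo.add_self_eq_zero _
      linear_combination e1 + e3 + e4
    exact CharTwo.add_eq_zero.1 (mul_self_eq_zero.1 e2)
  obtain ⟨r, hr⟩ := exists_w σ hσ h1 w
  have hrc : r.c + σ r.c = -(r.w * σ r.w) := r.ok
  rw [hr] at hrc
  refine ⟨r, ?_⟩
  rw [mul_inv_eq_one]
  have hσw : σ w = w + q.w := by
    have := CharTwo.add_self_eq_zero w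
    linear_combination htr - this
  ext
  · show r.w + q.w = σ r.w
    rw [hr, hσw]
  · show r.c + q.c - q.w * σ r.w = σ r.c
    rw [hr]
    have e2 : σ w * σ w = q.c := by rw [← map_mul, hww, hσ]
    have e5 : r.c + σ r.c = w * σ w := by
      have := CharTwo.add_self_eq_zero (w * σ w)
      linear_combination hrc - this
    have e6 := CharTwo.add_self_eq_zero (σ r.c)
    have e7 := CharTwo.add_self_eq_zero (w * σ w)
    rw [← e2]
    have e8 : q.w = w + σ w := htr.symm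
    rw [e8]
    linear_combination e5 - e6

end h1

section outer

variable {F : Type*} [Field F] [Finite F] [CharP F 2] {G : Type u} [Group G] [Finite G] {A : Subgroup G}
variable (hZ : Odd (Nat.card (center ↥A)))

/-- **Type `U₅`.** -/
theorem good_U5 {σ : F ≃+* F} {hσ : ∀ x, σ (σ x) = x} (hσ1 : σ ≠ 1) (hG : GD (stdU1 F σ hσ)) (hZ : Odd (Nat.card (center ↥A)))
    {S : Std (stdU1 F σ hσ) ↥A} {T : Subgroup G} (had : Adapted (nU1 σ hσ) S T) {f : G} (hfT : f ∈ T)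
    (hff : f * f = 1) (hout : ¬ ∃ a ∈ A, a⁻¹ * f ∈ centralizer (A : Set G)) :
    Good f ∧ ∃ w ∈ UG S, Fld (nU1 σ hσ) S (w * f * w⁻¹) σ := by
  rcases invol hZ had hfT hff with ⟨v, hv, h⟩ | ⟨v, hv, ρ, h1, h2, h, hvv⟩
  · exact absurd ⟨v, UG_le S hv, h⟩ hout
  · have hρ : ρ = σ := unique_invol h2 (RingEquiv.ext hσ) h1 hσ1
    subst hρ
    have hH := H1_U1 ρ hσ hσ1
    have hfe : v * (v⁻¹ * f) = f := by group
    obtain ⟨w, hw, e⟩ := conj_of_H1 h1 h2 h hvv hH hv (by rw [hfe]; exact hff)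
    rw [hfe] at e
    refine ⟨Good.conj w ?_, w, hw, ?_⟩
    · rw [e]
      exact good_H1 hG h1 h2 h hvv hH
    · rw [e]; exact h

/-- **`StepFour.Outer` for type `U₅`.** -/
theorem outer_U5 {σ : F ≃+* F} {hσ : ∀ x, σ (σ x) = x} (hσ1 : σ ≠ 1) (hG : GD (stdU1 F σ hσ)) (hZ : Odd (Nat.card (center ↥A)))
    {S : Std (stdU1 F σ hσ) ↥A} {T : Subgroup G} (had : Adapted (nU1 σ hσ) S T) (t : G) :
    StdEven.StepFour.Outer A t T := fun _ hfT hff hout _ => (good_U5 hσ1 hG hZ had hfT hff hout).1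

end outer

/-! ### Type `U₄` -/

section u4

variable {F : Type*} [Field F] [Finite F] [CharP F 2] {G : Type u} [Group G] {A : Subgroup G}
  {σ : F ≃+* F} {hσ : ∀ x, σ (σ x) = x} {S : Std (stdU0 F σ hσ) ↥A} {f₀ : G}

theorem u4_σ (q : (stdU0 F σ hσ).T) : σ q.c = q.c := (CharTwo.add_eq_zero.1 q.ok).symm

theorem u4_T (q : (stdU0 F σ hσ).T) : (nU0 σ hσ).T σ q = q := by
  ext
  exact u4_σ q

theorem u4_ok {c : F} (hc : σ c = c) : (stdU0 F σ hσ).ok () c := by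
  show c + σ c = 0
  rw [hc, CharTwo.add_self_eq_zero]

/-- an element fixed by `f₀` commutes with it -/
theorem comm_of {a b : G} (e1 : f₀ * a * f₀⁻¹ = b) (e2 : a = b) : a * f₀ = f₀ * a := by
  rw [← e2, mul_inv_eq_iff_eq_mul] at e1
  exact e1.symm

/-- `T m` for a unit -/
def tt' {c : F} (hc : σ c = c) : (stdU0 F σ hσ).T := ⟨(), c, u4_ok hc⟩

variable (h1 : σ ≠ 1) (hf₀ : Fld (nU0 σ hσ) S f₀ σ) (hff : f₀ * f₀ = 1)
include hf₀

theorem nt_comm {s : F} (hs : σ s = s) : ((nt S.m s : ↥A) : G) * f₀ = f₀ * (nt S.m s : ↥A) := by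
  have e1 : (S.m.x s : G) * f₀ = f₀ * S.m.x s := comm_of (hf₀.x s) (by rw [hs])
  have e2 : (S.m.x' (-s⁻¹) : G) * f₀ = f₀ * S.m.x' (-s⁻¹) :=
    comm_of (hf₀.x' _) (by rw [map_neg, map_inv₀, hs])
  have e3 : ((nt S.m s : ↥A) : G) = S.m.x s * S.m.x' (-s⁻¹) * S.m.x s := by
    show ((S.m.x s * S.m.x' _ * S.m.x s : ↥A) : G) = _
    push_cast
    simp
  rw [e3]
  calc (S.m.x s : G) * S.m.x' (-s⁻¹) * S.m.x s * f₀ = S.m.x s * S.m.x' (-s⁻¹) * (S.m.x s * f₀) := by group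
    _ = S.m.x s * (S.m.x' (-s⁻¹) * f₀) * S.m.x s := by rw [e1]; group
    _ = (S.m.x s * f₀) * S.m.x' (-s⁻¹) * S.m.x s := by rw [e2]; group
    _ = _ := by rw [e1]; group

theorem hI_comm {s : F} (hs : σ s = s) : ((hI S.m s : ↥A) : G) * f₀ = f₀ * (hI S.m s : ↥A) := by
  have e1 := nt_comm hf₀ hs
  have e2 := nt_comm hf₀ (map_one σ)
  have e3 : ((hI S.m s : ↥A) : G) = (nt S.m s : ↥A) * ((nt S.m 1 : ↥A) : G)⁻¹ := rfl
  rw [e3]
  have e4 : ((nt S.m 1 : ↥A) : G)⁻¹ * f₀ = f₀ * ((nt S.m 1 : ↥A) : G)⁻¹ := by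
    rw [inv_mul_eq_iff_eq_mul, ← mul_assoc, e2, mul_assoc, mul_inv_cancel, mul_one]
  rw [mul_assoc, e4, ← mul_assoc, e1, mul_assoc]

/-- conjugation of `v f₀` by an element commuting with `f₀` -/
theorem conj_comm {w v : G} (hw : w * f₀ = f₀ * w) : w * (v * f₀) * w⁻¹ = w * v * w⁻¹ * f₀ := by
  have : w⁻¹ * f₀ = f₀ * w⁻¹ := by
    rw [inv_mul_eq_iff_eq_mul, ← mul_assoc, hw, mul_assoc, mul_inv_cancel, mul_one]
  calc w * (v * f₀) * w⁻¹ = w * v * (f₀ * w⁻¹) := by group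
    _ = _ := by rw [← this]; group

include h1 hff

/-- the two classes of involutions of `U f₀` -/
theorem conj_U4 {v : G} (hv : v ∈ UG S) (hvf : v * f₀ * (v * f₀) = 1) :
    ∃ w ∈ A, w * (v * f₀) * w⁻¹ = f₀ ∨ w * (v * f₀) * w⁻¹ = S.m.z₁ (tt' (map_one σ)) * f₀ := by
  have h2 : σ * σ = 1 := RingEquiv.ext hσ
  have hr := S.rel
  obtain ⟨w₁, hw₁, p, b, q, e⟩ := conj_step1 h1 h2 hf₀ hff hv hvf
  have hsq : w₁ * (v * f₀) * w₁⁻¹ * (w₁ * (v * f₀) * w₁⁻¹) = 1 := by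
    have : w₁ * (v * f₀) * w₁⁻¹ * (w₁ * (v * f₀) * w₁⁻¹) = w₁ * (v * f₀ * (v * f₀)) * w₁⁻¹ := by group
    rw [this, hvf, mul_one, mul_inv_cancel]
  rw [e] at hsq
  obtain ⟨-, -, i3⟩ := cocycle hf₀ hff hsq
  have hb : σ b = b := by
    have i4 : b + 0 + σ b = 0 := (i3 rfl).2
    rw [add_zero] at i4
    exact (CharTwo.add_eq_zero.1 i4).symm
  obtain ⟨w₂, hw₂, e2⟩ := conj_step4 (S := S) (p := p) (q := q) h1 h2 hf₀ hff hb
  -- elements `z₁ p f₀`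
  have hz₁ : ∀ p : (stdU0 F σ hσ).T, ∃ w ∈ A, w * (nG S 0 p 0 1 * f₀) * w⁻¹ = f₀ ∨
      w * (nG S 0 p 0 1 * f₀) * w⁻¹ = S.m.z₁ (tt' (map_one σ)) * f₀ := by
    intro p
    by_cases hp : p.c = 0
    · refine ⟨1, one_mem _, Or.inl ?_⟩
      rw [PQDatum.T.c_eq_zero_iff.1 hp, nG_one]
      group
    · obtain ⟨s, hs, hs'⟩ := exists_sqrt_fix σ (c := p.c⁻¹) (by rw [map_inv₀, u4_σ])
      have hs0 : s ≠ 0 := by
        rintro rfl
        rw [zero_mul] at hs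
        exact inv_ne_zero hp hs.symm
      refine ⟨(hI S.m s : ↥A), (hI S.m s).2, Or.inr ?_⟩
      rw [conj_comm hf₀ (hI_comm hf₀ hs'), nG_z₁]
      congr 1
      rw [← Subgroup.coe_mul, ← Subgroup.coe_inv, ← Subgroup.coe_mul, B2Torus.hI_z₁ hr hs0]
      congr 2
      ext
      show s * σ s * p.c = 1
      rw [hs, inv_mul_cancel₀ hp]
  -- elements `z₂ q f₀`
  have hz₂ : ∀ q : (stdU0 F σ hσ).T, ∃ w ∈ A, w * (nG S 0 1 0 q * f₀) * w⁻¹ = f₀ ∨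
      w * (nG S 0 1 0 q * f₀) * w⁻¹ = S.m.z₁ (tt' (map_one σ)) * f₀ := by
    intro q
    obtain ⟨w, hw, e⟩ := hz₁ q
    have hn := nt_comm hf₀ (map_one σ)
    have e3 : (nt S.m 1 : ↥A) * (nG S 0 1 0 q * f₀) * ((nt S.m 1 : ↥A) : G)⁻¹ = nG S 0 q 0 1 * f₀ := by
      rw [conj_comm hf₀ hn, nG_z₂, nG_z₁]
      congr 1
      rw [nt_one, ← Subgroup.coe_mul, ← Subgroup.coe_inv, ← Subgroup.coe_mul, hr.nI_z₂]
    refine ⟨w * (nt S.m 1 : ↥A), mul_mem hw (nt S.m 1).2, ?_⟩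
    have e4 : w * (nt S.m 1 : ↥A) * (nG S 0 1 0 q * f₀) * (w * (nt S.m 1 : ↥A))⁻¹ =
        w * ((nt S.m 1 : ↥A) * (nG S 0 1 0 q * f₀) * ((nt S.m 1 : ↥A) : G)⁻¹) * w⁻¹ := by group
    rw [e4, e3]
    exact e
  -- elements `z₁ p z₂ q f₀`
  have hz : ∃ w ∈ A, w * (nG S 0 p 0 q * f₀) * w⁻¹ = f₀ ∨
      w * (nG S 0 p 0 q * f₀) * w⁻¹ = S.m.z₁ (tt' (map_one σ)) * f₀ := by
    by_cases hq : q.c = 0
    · rw [PQDatum.T.c_eq_zero_iff.1 hq]
      exact hz₁ p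
    · obtain ⟨a, ha, ha'⟩ := exists_sqrt_fix σ (c := p.c * q.c⁻¹) (by rw [map_mul, map_inv₀, u4_σ, u4_σ])
      have hx : (nG S a 1 0 1) * f₀ = f₀ * nG S a 1 0 1 := by
        rw [nG_x]
        exact comm_of (hf₀.x a) (by rw [ha'])
      have hxi : (nG S a 1 0 1)⁻¹ = nG S a 1 0 1 := by
        apply inv_eq_of_mul_eq_one_left
        rw [nG_x, ← Subgroup.coe_mul, ← hr.x_add, CharTwo.add_self_eq_zero, add_zero' hr.x_add]
        rfl
      have e5 : ∃ b', σ b' = b' ∧ nG S a 1 0 1 * (nG S 0 p 0 q * f₀) * (nG S a 1 0 1)⁻¹ = nG S 0 1 b' q * f₀ := by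
        refine ⟨a * q.c, by rw [map_mul, ha', u4_σ], ?_⟩
        have z0 : (0 + (stdU0 F σ hσ).h (1 : (stdU0 F σ hσ).T).w p.w + 0 : F) = 0 := by
          show (0 : F) + 0 + 0 = 0
          ring
        have t0 : (stdU0 F σ hσ).tr a 0 = 1 := by
          ext
          show σ a * 0 - 1 * a * σ 0 = 0
          rw [map_zero]; ring
        rw [conj_comm hf₀ hx, hxi, nG_mul', z0, nG_mul, t0, inv_one, one_mul, one_mul, mul_one, mul_one, mul_one]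
        congr 2
        · exact CharTwo.add_self_eq_zero a
        · ext
          show p.c + (-a * σ (-a) * q.c) - 0 = 0
          rw [map_neg, neg_mul_neg, ha, inv_mul_cancel_right₀ hq, CharTwo.add_self_eq_zero, sub_zero]
        · show (0 : F) + 1 * a * σ q.c + 0 + 0 = a * q.c
          rw [u4_σ]
          ring
      obtain ⟨b', hb', e5⟩ := e5
      obtain ⟨w₃, hw₃, e6⟩ := conj_step4 (S := S) (p := 1) (q := q) h1 h2 hf₀ hff hb'
      obtain ⟨w₄, hw₄, e7⟩ := hz₂ q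
      refine ⟨w₄ * w₃ * nG S a 1 0 1, mul_mem (mul_mem hw₄ (UG_le S hw₃)) (UG_le S (nG_mem _ _ _ _)), ?_⟩
      have e8 : w₄ * w₃ * nG S a 1 0 1 * (nG S 0 p 0 q * f₀) * (w₄ * w₃ * nG S a 1 0 1)⁻¹ =
          w₄ * (w₃ * (nG S a 1 0 1 * (nG S 0 p 0 q * f₀) * (nG S a 1 0 1)⁻¹) * w₃⁻¹) * w₄⁻¹ := by group
      rw [e8, e5, e6]
      exact e7
  obtain ⟨w, hw, e3⟩ := hz
  refine ⟨w * w₂ * w₁, mul_mem (mul_mem hw (UG_le S hw₂)) (UG_le S hw₁), ?_⟩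
  have e8 : w * w₂ * w₁ * (v * f₀) * (w * w₂ * w₁)⁻¹ =
      w * (w₂ * (w₁ * (v * f₀) * w₁⁻¹) * w₂⁻¹) * w⁻¹ := by group
  rw [e8, e, e2]
  exact e3

end u4

end Cfsg.Agent.StdRank2.OutB2Outer
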