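import Cfsg.Agent.StdRank2.OutB2Outer

/-!
# `StepFour.Outer` for type `U₄(q)`, `q ≥ 4`
-/

set_option autoImplicit false
set_option linter.unusedSectionVars false

namespace Cfsg.Agent.StdRank2.OutB2OuterU4

open Subgroup
open Cfsg.Agent.TitsThree.B2Pkg Cfsg.Agent.TitsThree.RankTwoIdentB2
  Cfsg.Agent.TitsThree.CoreB2 Cfsg.Agent.TitsThree.RankTwoIdx Cfsg.Agent.TitsThree.RankTwoRGD
  Cfsg.Agent.TitsThree.StdData
open Cfsg.Agent.StdRank2.OddLift Cfsg.Agent.StdRank2.B2Lift Cfsg.Agent.StdRank2.B2Std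
  Cfsg.Agent.StdRank2.B2Torus Cfsg.Agent.StdRank2.B2Act Cfsg.Agent.StdRank2.B2Act.Std
  Cfsg.Agent.StdRank2.B2Par Cfsg.Agent.StdRank2.B2Par.Std Cfsg.Agent.StdRank2.B2Self
  Cfsg.Agent.StdRank2.OutB2Par Cfsg.Agent.StdRank2.OutB2G Cfsg.Agent.StdRank2.OutL3Outer
  Cfsg.Agent.StdRank2.OutB2Grade Cfsg.Agent.StdRank2.OutB2Aut Cfsg.Agent.StdRank2.OutB2Tw
  Cfsg.Agent.StdRank2.OutB2Data Cfsg.Agent.StdRank2.OutB2Decomp Cfsg.Agent.StdRank2.OutB2Inv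
  Cfsg.Agent.StdRank2.OutField Cfsg.Agent.StdRank2.OutB2Good Cfsg.Agent.StdRank2.OutB2Outer

universe u

variable {F : Type*} [Field F] [Finite F] [CharP F 2] {G : Type u} [Group G] {A : Subgroup G}
  {σ : F ≃+* F} {hσ : ∀ x, σ (σ x) = x} {S : Std (stdU0 F σ hσ) ↥A} {f₀ : G}

/-- conjugation `c a c⁻¹ = d` with `c, a ∈ P` gives `d a⁻¹ ∈ [P, P]` -/
theorem mem_comm {P : Subgroup G} {c a d : G} (hc : c ∈ P) (ha : a ∈ P) (e : c * a * c⁻¹ = d) :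
    d * a⁻¹ ∈ ⁅P, P⁆ := by
  rw [← e]
  have := Subgroup.commutator_mem_commutator hc ha
  rwa [commutatorElement_def] at this

theorem sub_eq {s a : F} (hs1 : s ≠ 1) : s * s * ((s * s + 1)⁻¹ * a) + (s * s + 1)⁻¹ * a = a := by
  have h : s * s + 1 ≠ 0 := by
    intro h
    have h2 : (s + 1) * (s + 1) = 0 := by
      have := CharTwo.add_self_eq_zero s
      linear_combination h + this
    exact hs1 (CharTwo.add_eq_zero.1 (mul_self_eq_zero.1 h2))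
  have : s * s * ((s * s + 1)⁻¹ * a) + (s * s + 1)⁻¹ * a = (s * s + 1) * (s * s + 1)⁻¹ * a := by ring
  rw [this, mul_inv_cancel₀ h, one_mul]

/-- the first class -/
theorem good_fst (h1 : σ ≠ 1) (hF : 5 ≤ Nat.card F) (hf₀ : Fld (nU0 σ hσ) S f₀ σ) (hff : f₀ * f₀ = 1) :
    Good f₀ := by
  have h2 : σ * σ = 1 := RingEquiv.ext hσ
  have hr := S.rel
  have hp := S.hp₀
  obtain ⟨s, hs, hs0, hs1⟩ := exists_fix (σ := σ) h2 h1 hF
  set X : Set G := {g | ∃ a : F, σ a = a ∧ (g = S.m.x a ∨ g = S.m.x' a)} with hX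
  have mx : ∀ {a : F}, σ a = a → (S.m.x a : G) ∈ closure X := fun ha => subset_closure ⟨_, ha, Or.inl rfl⟩
  have mx' : ∀ {a : F}, σ a = a → (S.m.x' a : G) ∈ closure X := fun ha => subset_closure ⟨_, ha, Or.inr rfl⟩
  have mnt : ∀ {a : F}, σ a = a → ((nt S.m a : ↥A) : G) ∈ closure X := by
    intro a ha
    have e3 : ((nt S.m a : ↥A) : G) = S.m.x a * S.m.x' (-a⁻¹) * S.m.x a := by
      show ((S.m.x a * S.m.x' _ * S.m.x a : ↥A) : G) = _
      push_cast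
      simp
    rw [e3]
    exact mul_mem (mul_mem (mx ha) (mx' (by rw [map_neg, map_inv₀, ha]))) (mx ha)
  have mh : ((hI S.m s : ↥A) : G) ∈ closure X := mul_mem (mnt hs) (inv_mem (mnt (map_one σ)))
  have hcoe : ∀ {a b : ↥A}, a = b → (a : G) = b := fun e => congrArg Subtype.val e
  have ix : ∀ a, (S.m.x a)⁻¹ = S.m.x a := fun a => inv_eq_of_mul_eq_one_left
    (by rw [← hr.x_add, CharTwo.add_self_eq_zero, add_zero' hr.x_add])
  have ix' : ∀ a, (S.m.x' a)⁻¹ = S.m.x' a := fun a => inv_eq_of_mul_eq_one_left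
    (by rw [← hr.x'_add, CharTwo.add_self_eq_zero, add_zero' hr.x'_add])
  have hper : ∀ g ∈ X, g ∈ ⁅closure X, closure X⁆ := by
    rintro _ ⟨a, ha, rfl | rfl⟩
    · have e := mem_comm mh (mx (a := (s * s + 1)⁻¹ * a) (by
        rw [map_mul, map_inv₀, map_add, map_mul, map_one, hs, ha])) (hcoe (hI_x hr hp hs0 ((s * s + 1)⁻¹ * a)))
      rwa [← Subgroup.coe_inv, ix, ← Subgroup.coe_mul, ← hr.x_add, sub_eq hs1] at e
    · have hs' : σ s⁻¹ = s⁻¹ := by rw [map_inv₀, hs]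
      have e := mem_comm mh (mx' (a := (s⁻¹ * s⁻¹ + 1)⁻¹ * a) (by
        rw [map_mul, map_inv₀, map_add, map_mul, map_one, hs', ha])) (hcoe (hI_x' hr hp hs0 ((s⁻¹ * s⁻¹ + 1)⁻¹ * a)))
      rwa [← Subgroup.coe_inv, ix', ← Subgroup.coe_mul, ← hr.x'_add, sub_eq (by
        intro h
        exact hs1 (inv_eq_one.1 h))] at e
  obtain ⟨r, hr1⟩ := exists_trace h2 h1 (map_one σ)
  refine ⟨closure X, perfect_closure hper, centralizes_closure ?_, closure_two ?_, S.m.x 1, mx (map_one σ), ?_, ?_,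
    S.m.x r, ?_⟩
  · rintro _ ⟨a, ha, rfl | rfl⟩
    · exact comm_of (hf₀.x a) (by rw [ha])
    · exact comm_of (hf₀.x' a) (by rw [ha])
  · rintro _ ⟨a, ha, rfl | rfl⟩
    · refine ⟨1, ?_⟩
      have := hcoe (show S.m.x a * S.m.x a = 1 by
        rw [← hr.x_add, CharTwo.add_self_eq_zero, add_zero' hr.x_add])
      rw [pow_one, pow_two]
      exact this
    · refine ⟨1, ?_⟩
      have := hcoe (show S.m.x' a * S.m.x' a = 1 by
        rw [← hr.x'_add, CharTwo.add_self_eq_zero, add_zero' hr.x'_add])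
      rw [pow_one, pow_two]
      exact this
  · exact hcoe (show S.m.x 1 * S.m.x 1 = 1 by
      rw [← hr.x_add, CharTwo.add_self_eq_zero, add_zero' hr.x_add])
  · intro h
    have h' : S.m.x 1 = 1 := Subtype.ext h
    rw [x_eq_nf hr, ← nf_one hr] at h'
    exact one_ne_zero (S.nf_inj h').1
  · have hf' : f₀⁻¹ = f₀ := inv_eq_of_mul_eq_one_left hff
    have e2 : (S.m.x r : G) * f₀ * (S.m.x r : G)⁻¹ = f₀ * ((f₀ * S.m.x r * f₀⁻¹) * (S.m.x r : G)⁻¹) := by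
      have : f₀ * ((f₀ * S.m.x r * f₀⁻¹) * (S.m.x r : G)⁻¹) = (f₀ * f₀) * S.m.x r * f₀⁻¹ * (S.m.x r : G)⁻¹ := by group
      rw [this, hff, one_mul, hf']
    rw [e2, hf₀.x, ← Subgroup.coe_inv, ix, ← Subgroup.coe_mul, ← hr.x_add, add_comm, hr1]

/-- the second class -/
theorem good_snd (h1 : σ ≠ 1) (hF : 5 ≤ Nat.card F) (hf₀ : Fld (nU0 σ hσ) S f₀ σ) (hff : f₀ * f₀ = 1) :
    Good (S.m.z₁ (tt' (map_one σ)) * f₀) := by
  have h2 : σ * σ = 1 := RingEquiv.ext hσ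
  have hr := S.rel
  have hp := S.hp₀
  obtain ⟨s, hs, hs0, hs1⟩ := exists_fix (σ := σ) h2 h1 hF
  set o : (stdU0 F σ hσ).T := tt' (map_one σ) with ho
  have ho0 : o.c ≠ 0 := one_ne_zero
  set ps : (stdU0 F σ hσ).T := tt' hs with hps
  have hps0 : ps.c ≠ 0 := hs0
  set X : Set G := {g | ∃ p : (stdU0 F σ hσ).T, (g = S.m.z₂ p ∨ g = S.m.z₂' p)} with hX
  have mx : ∀ p, (S.m.z₂ p : G) ∈ closure X := fun p => subset_closure ⟨_, Or.inl rfl⟩
  have mx' : ∀ p, (S.m.z₂' p : G) ∈ closure X := fun p => subset_closure ⟨_, Or.inr rfl⟩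
  have hw : ∀ p : (stdU0 F σ hσ).T, p.w = 0 := fun _ => rfl
  have mn : ∀ p, ((S.m.nII p : ↥A) : G) ∈ closure X := by
    intro p
    have : S.m.nII p = S.m.nII p := rfl
    unfold B2Maps.nII
    push_cast
    exact mul_mem (mul_mem (mx' _) (mx _)) (mx' _)
  have mh : ((hII S.m ps o : ↥A) : G) ∈ closure X := mul_mem (mn _) (inv_mem (mn _))
  have hcoe : ∀ {a b : ↥A}, a = b → (a : G) = b := fun e => congrArg Subtype.val e
  have z0 : ∀ p : (stdU0 F σ hσ).T, p * p = 1 := by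
    intro p
    ext
    show p.c + p.c - 0 = 0
    rw [CharTwo.add_self_eq_zero, sub_zero]
  have iz : ∀ p, (S.m.z₂ p)⁻¹ = S.m.z₂ p := fun p => inv_eq_of_mul_eq_one_left
    (by rw [← hr.z₂_mul, z0, mul_one' hr.z₂_mul])
  have iz' : ∀ p, (S.m.z₂' p)⁻¹ = S.m.z₂' p := fun p => inv_eq_of_mul_eq_one_left
    (by rw [← hr.z₂'_mul, z0, mul_one' hr.z₂'_mul])
  have hT : ∀ p q : (stdU0 F σ hσ).T, p.c = q.c → p = q := fun p q h => by ext; exact h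
  have hrr : ∀ p, (stdU0 F σ hσ).refl ps hps0 ((stdU0 F σ hσ).unrefl o ho0 p) = p := fun p => by
    ext; rfl
  have hk : ∀ {s : F}, s ≠ 1 → ∀ p : (stdU0 F σ hσ).T, σ s = s →
      (stdU0 F σ hσ).ok () ((s * s + 1)⁻¹ * p.c) := by
    intro s _ p hs
    exact u4_ok (by rw [map_mul, map_inv₀, map_add, map_mul, map_one, hs, u4_σ])
  have hper : ∀ g ∈ X, g ∈ ⁅closure X, closure X⁆ := by
    rintro _ ⟨p, rfl | rfl⟩
    · let q : (stdU0 F σ hσ).T := ⟨(), (s * s + 1)⁻¹ * p.c, hk hs1 p hs⟩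
      have e := mem_comm mh (mx q) (hcoe (hII_z₂ hr hps0 ho0 q))
      rw [← Subgroup.coe_inv, iz, ← Subgroup.coe_mul, ← hr.z₂_mul, hrr] at e
      have e2 : (stdU0 F σ hσ).sc (ps.c * o.c⁻¹) q * q = p := by
        apply hT
        show s * 1⁻¹ * σ (s * 1⁻¹) * ((s * s + 1)⁻¹ * p.c) + (s * s + 1)⁻¹ * p.c - 0 = p.c
        rw [inv_one, mul_one, hs, sub_zero, sub_eq hs1]
      rwa [e2] at e
    · have hs' : σ s⁻¹ = s⁻¹ := by rw [map_inv₀, hs]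
      have hs1' : s⁻¹ ≠ 1 := fun h => hs1 (inv_eq_one.1 h)
      let q : (stdU0 F σ hσ).T := ⟨(), (s⁻¹ * s⁻¹ + 1)⁻¹ * p.c, hk hs1' p hs'⟩
      have e := mem_comm mh (mx' q) (hcoe (hII_z₂' hr hps0 ho0 q))
      rw [← Subgroup.coe_inv, iz', ← Subgroup.coe_mul, ← hr.z₂'_mul, hrr] at e
      have e2 : (stdU0 F σ hσ).sc (((stdU0 F σ hσ).σ ps.c)⁻¹ * (stdU0 F σ hσ).σ o.c) q * q = p := by
        apply hT
        show (σ s)⁻¹ * σ 1 * σ ((σ s)⁻¹ * σ 1) * ((s⁻¹ * s⁻¹ + 1)⁻¹ * p.c) + (s⁻¹ * s⁻¹ + 1)⁻¹ * p.c - 0 = p.c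
        rw [map_one, mul_one, hs, hs', sub_zero, sub_eq hs1']
      rwa [e2] at e
  have hcz : ∀ p, S.m.z₂ p * S.m.z₁ o = S.m.z₁ o * S.m.z₂ p := by
    intro p
    have := hr.z₁_z₂ o p
    rw [(stdU0 F σ hσ).zero_left, neg_zero, add_zero' hr.y_add, commutatorElement_eq_one_iff_mul_comm] at this
    exact this.symm
  have hcz' : ∀ p, S.m.z₂' p * S.m.z₁ o = S.m.z₁ o * S.m.z₂' p := by
    intro p
    have := hr.z₁_z₂' hp o p
    rw [(stdU0 F σ hσ).zero_left, neg_zero, add_zero' hr.x_add, commutatorElement_eq_one_iff_mul_comm] at this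
    exact this.symm
  have hzo : S.m.z₁ o * S.m.z₁ o = 1 := by rw [← hr.z₁_mul, z0, mul_one' hr.z₁_mul]
  have hn : (-1 : F) = 1 := neg_one_eq
  have c1 : S.m.x 1 * S.m.z₂ o * (S.m.x 1)⁻¹ = S.m.z₁ o * S.m.y 1 * S.m.z₂ o := by
    have e := hr.x_z₂ 1 o
    have hoc : o.c = 1 := rfl
    rw [commutatorElement_def, (stdU0 F σ hσ).sc_one, hoc, map_one, show (stdU0 F σ hσ).ε = 1 from rfl, mul_one,
      mul_one, hn] at e
    rw [← e]; group
  have f₀z : ∀ p, (S.m.z₂ p : G) * f₀ = f₀ * S.m.z₂ p := fun p => comm_of (hf₀.z₂ p) (by rw [u4_T])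
  have f₀z' : ∀ p, (S.m.z₂' p : G) * f₀ = f₀ * S.m.z₂' p := fun p => comm_of (hf₀.z₂' p) (by rw [u4_T])
  have f₀x : (S.m.x 1 : G) * f₀ = f₀ * S.m.x 1 := comm_of (hf₀.x 1) (by rw [map_one])
  have f₀n := nt_comm hf₀ (map_one σ)
  have two : ∀ {a : ↥A}, a * a = 1 → (a : G) ^ 2 ^ 1 = 1 := by
    intro a ha
    rw [pow_one, pow_two]
    exact hcoe ha
  refine ⟨closure X, perfect_closure hper, centralizes_closure ?_, closure_two ?_, S.m.z₂ o, mx o, ?_, ?_, ?_⟩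
  · rintro _ ⟨p, rfl | rfl⟩
    · have e := hcoe (hcz p)
      rw [Subgroup.coe_mul, Subgroup.coe_mul] at e
      rw [← mul_assoc, e, mul_assoc, f₀z, ← mul_assoc]
    · have e := hcoe (hcz' p)
      rw [Subgroup.coe_mul, Subgroup.coe_mul] at e
      rw [← mul_assoc, e, mul_assoc, f₀z', ← mul_assoc]
  · rintro _ ⟨p, rfl | rfl⟩
    · exact ⟨1, two (by rw [← hr.z₂_mul, z0, mul_one' hr.z₂_mul])⟩
    · exact ⟨1, two (by rw [← hr.z₂'_mul, z0, mul_one' hr.z₂'_mul])⟩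
  · exact hcoe (show S.m.z₂ o * S.m.z₂ o = 1 by rw [← hr.z₂_mul, z0, mul_one' hr.z₂_mul])
  · intro h
    have h' : S.m.z₂ o = 1 := Subtype.ext h
    rw [z₂_eq_nf hr, ← nf_one hr] at h'
    exact one_ne_zero (congrArg PQDatum.T.c (S.nf_inj h').2.2.2)
  · obtain ⟨v, -, e4⟩ := conj_step4 (S := S) (p := o) (q := o) h1 h2 hf₀ hff (map_one σ)
    refine ⟨v * (S.m.x 1 * (nt S.m 1 : ↥A)), ?_⟩
    have e1 : (nt S.m 1 : ↥A) * (S.m.z₁ o * f₀) * ((nt S.m 1 : ↥A) : G)⁻¹ = S.m.z₂ o * f₀ := by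
      rw [conj_comm hf₀ f₀n]
      congr 1
      have e0 : (stdU0 F σ hσ).sc (-1) o = o := by
        apply hT
        show -1 * σ (-1) * 1 = (1 : F)
        rw [map_neg, map_one]; ring
      rw [nt_one, ← Subgroup.coe_inv, ← Subgroup.coe_mul, ← Subgroup.coe_mul, hr.nI_z₁, e0]
    have e2 : (S.m.x 1 : G) * (S.m.z₂ o * f₀) * (S.m.x 1 : G)⁻¹ = nG S 0 o 1 o * f₀ := by
      rw [conj_comm hf₀ f₀x]
      congr 1
      rw [← Subgroup.coe_inv, ← Subgroup.coe_mul, ← Subgroup.coe_mul, c1]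
      apply hcoe
      show _ = B2Std.nf S.m 0 o 1 o
      unfold B2Std.nf
      rw [x_zero hr, one_mul]
    have e3 : nG S 0 o 0 o = S.m.z₁ o * S.m.z₂ o := by
      show ((B2Std.nf S.m 0 o 0 o : ↥A) : G) = _
      unfold B2Std.nf
      rw [x_zero hr, y_zero hr, one_mul, mul_one]
      rfl
    have e5 : v * (S.m.x 1 * (nt S.m 1 : ↥A)) * (S.m.z₁ o * f₀) * (v * (S.m.x 1 * (nt S.m 1 : ↥A)))⁻¹ =
        v * (S.m.x 1 * ((nt S.m 1 : ↥A) * (S.m.z₁ o * f₀) * ((nt S.m 1 : ↥A) : G)⁻¹) * (S.m.x 1 : G)⁻¹) * v⁻¹ := by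
      group
    rw [e5, e1, e2, e4, e3, mul_assoc, mul_assoc, f₀z]

section main

variable [Finite G] (hZ : Odd (Nat.card (center ↥A)))

/-- **Type `U₄`.** -/
theorem good_U4 (h1 : σ ≠ 1) (hF : 5 ≤ Nat.card F) (hZ : Odd (Nat.card (center ↥A)))
    {T : Subgroup G} (had : Adapted (nU0 σ hσ) S T) {f : G} (hfT : f ∈ T)
    (hff : f * f = 1) (hout : ¬ ∃ a ∈ A, a⁻¹ * f ∈ centralizer (A : Set G)) : Good f := by
  rcases invol hZ had hfT hff with ⟨v, hv, h⟩ | ⟨v, hv, ρ, h1', h2, h, hvv⟩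
  · exact absurd ⟨v, UG_le S hv, h⟩ hout
  · have hρ : ρ = σ := unique_invol h2 (RingEquiv.ext hσ) h1' h1
    subst hρ
    have hfe : v * (v⁻¹ * f) = f := by group
    obtain ⟨w, -, e⟩ := conj_U4 h1 h hvv hv (by rw [hfe]; exact hff)
    rw [hfe] at e
    rcases e with e | e
    · refine Good.conj w ?_
      rw [e]
      exact good_fst h1 hF h hvv
    · refine Good.conj w ?_
      rw [e]
      exact good_snd h1 hF h hvv

/-- **`StepFour.Outer` for type `U₄`.** -/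
theorem outer_U4 (h1 : σ ≠ 1) (hF : 5 ≤ Nat.card F) (hZ : Odd (Nat.card (center ↥A)))
    {T : Subgroup G} (had : Adapted (nU0 σ hσ) S T) (t : G) :
    StdEven.StepFour.Outer A t T := fun _ hfT hff hout _ => good_U4 h1 hF hZ had hfT hff hout

end main

end Cfsg.Agent.StdRank2.OutB2OuterU4
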