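import Cfsg.Agent.StdRank2.OutB2Aut

/-!
# Automorphisms normalising the positive part permute the two parabolics

`par_or`: an automorphism `φ` with `φ(U) = U` maps `V_I`, `V_J` to themselves, or interchanges them (then `|T| = |F|`).
-/

set_option autoImplicit false
set_option linter.unusedSectionVars false

namespace Cfsg.Agent.StdRank2.OutB2Par

open Subgroup
open Cfsg.Agent.TitsThree.B2Pkg Cfsg.Agent.TitsThree.RankTwoIdentB2
  Cfsg.Agent.TitsThree.CoreB2 Cfsg.Agent.TitsThree.RankTwoIdx Cfsg.Agent.TitsThree.RankTwoRGD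
  Cfsg.Agent.TitsThree.StdData
open Cfsg.Agent.StdRank2.OddLift Cfsg.Agent.StdRank2.B2Lift Cfsg.Agent.StdRank2.B2Std
  Cfsg.Agent.StdRank2.B2Torus Cfsg.Agent.StdRank2.B2Act Cfsg.Agent.StdRank2.B2Act.Std
  Cfsg.Agent.StdRank2.B2Par Cfsg.Agent.StdRank2.B2Par.Std

universe u

variable {F : Type*} [Field F] {V : Type*} [AddCommGroup V] [Module F V] {D : PQDatum F V}
variable {A : Type u} [Group A]

/-- A map of a finite subgroup into itself is onto. -/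
theorem exists_preimage {P : Subgroup A} [Finite P] {φ : MulAut A} (h : ∀ v ∈ P, φ v ∈ P) {v : A} (hv : v ∈ P) :
    ∃ w ∈ P, φ w = v := by
  have hinj : Function.Injective (fun w : ↥P => (⟨φ w, h w w.2⟩ : ↥P)) := by
    intro w w' hw
    exact Subtype.ext (φ.injective (congrArg Subtype.val hw))
  obtain ⟨w, hw⟩ := Finite.surjective_of_injective hinj ⟨v, hv⟩
  exact ⟨w, w.2, congrArg Subtype.val hw⟩

theorem mem_of_map_mem {P : Subgroup A} [Finite P] {φ : MulAut A} (h : ∀ v ∈ P, φ v ∈ P) {v : A} (hv : φ v ∈ P) :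
    v ∈ P := by
  obtain ⟨w, hw, e⟩ := exists_preimage h hv
  rw [← φ.injective e]
  exact hw

variable (S : Std D A) [Finite F] [CharP F 2]

omit [Finite F] in
theorem x'_mem_U [Finite F] {c : F} (h : S.m.x' c ∈ S.U) : c = 0 := by
  by_contra h0
  obtain ⟨a', ha'⟩ := S.ndI
  apply ha'
  have := Fintype.ofFinite F
  obtain ⟨s, hs⟩ := FiniteField.isSquare_of_char_two (F := F)
    (CharP.ringChar_of_prime_eq_zero Nat.prime_two (by exact_mod_cast CharP.cast_eq_zero F 2)) (a' * c⁻¹)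
  by_cases hs0 : s = 0
  · rw [hs0, mul_zero] at hs
    have : a' = 0 := by
      rcases mul_eq_zero.1 hs with h | h
      · exact h
      · exact absurd h (inv_ne_zero h0)
    rw [this, add_zero' S.rel.x'_add]
    exact one_mem _
  have h6 := HU (S := S) (hI_mem_H (m := S.m) (inv_ne_zero hs0)) h
  rw [B2Torus.hI_x' S.rel S.hp₀ (inv_ne_zero hs0), inv_inv] at h6
  have e7 : s * s * c = a' := by
    rw [← hs]
    field_simp
  rw [← e7]
  exact h6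

theorem z₂'_mem_U {r : D.T} (h : S.m.z₂' r ∈ S.U) : r = 1 := by
  by_contra h0
  have hc : r.c ≠ 0 := fun h => h0 (PQDatum.T.c_eq_zero_iff.1 h)
  have hsc : ∀ s : F, S.m.z₂' (D.sc s r) ∈ S.U := by
    intro s
    by_cases hs : s = 0
    · rw [hs, D.sc_zero, mul_one' S.rel.z₂'_mul]; exact one_mem _
    · have hσ : D.σ s ≠ 0 := D.σ_ne hs
      have h1 := HU (S := S) (hI_mem_H (m := S.m) hσ) h
      rw [B2Torus.hI_z₂' S.rel S.hp₀ hσ] at h1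
      rw [D.σσ] at h1
      exact h1
  have hn : S.m.nII r ∈ S.U := mul_mem (mul_mem (hsc _) (z₂_mem _)) (hsc _)
  have h1 := (PX.x (S := S) 1).conj hn
  rw [S.rel.nII_x r hc] at h1
  exact one_ne_zero (h1.uniq (PX.y _))

/-- `B` normalises `U` -/
theorem conj_U {b : A} (hb : b ∈ S.U ⊔ S.H) {v : A} (hv : v ∈ S.U) : b⁻¹ * v * b ∈ S.U := by
  obtain ⟨u, hu, h, hh, rfl⟩ := mem_B.1 hb
  have h1 := HU (inv_mem hh) (mul_mem (mul_mem (inv_mem hu) hv) hu)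
  have e : h⁻¹ * (u⁻¹ * v * u) * h⁻¹⁻¹ = (u * h)⁻¹ * v * (u * h) := by group
  rwa [e] at h1

/-- `V_I = U ∩ g U g⁻¹` for `g ∈ N(V_I)`, `g ∉ B`. -/
theorem mem_VI_of_conj {g v : A} (hg : g ∈ Subgroup.normalizer (S.VI : Set A)) (hgB : g ∉ S.U ⊔ S.H)
    (hv : v ∈ S.U) (hv' : g⁻¹ * v * g ∈ S.U) : v ∈ S.VI := by
  rcases normalizer_VI hg with h | ⟨b, hb, a, rfl⟩
  · exact absurd h hgB
  have hnI : S.m.nI ∈ Subgroup.normalizer (S.VI : Set A) := by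
    have h1 : b ∈ Subgroup.normalizer (S.VI : Set A) := B_le_of_conj S.UVI S.HVI hb
    have h2 : S.m.x a ∈ Subgroup.normalizer (S.VI : Set A) :=
      B_le_of_conj S.UVI S.HVI ((le_sup_left : S.U ≤ S.U ⊔ S.H) (x_mem a))
    have h3 := mul_mem (mul_mem (inv_mem h1) hg) (inv_mem h2)
    have e : b⁻¹ * (b * S.m.nI * S.m.x a) * (S.m.x a)⁻¹ = S.m.nI := by group
    rwa [e] at h3
  obtain ⟨c, hc⟩ := exists_PX (conj_U S hb hv)
  obtain ⟨w, hw, e⟩ := PX.decomp hc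
  have h1 : S.m.nI⁻¹ * (b⁻¹ * v * b) * S.m.nI ∈ S.U := by
    have h2 := mul_mem (mul_mem (x_mem (m := S.m) a) hv') (inv_mem (x_mem (m := S.m) a))
    have e2 : S.m.x a * ((b * S.m.nI * S.m.x a)⁻¹ * v * (b * S.m.nI * S.m.x a)) * (S.m.x a)⁻¹ =
        S.m.nI⁻¹ * (b⁻¹ * v * b) * S.m.nI := by group
    exact e2 ▸ h2
  rw [e] at h1
  have h2 : S.m.nI⁻¹ * w * S.m.nI ∈ S.VI := by
    have := (mem_normalizer_iff.1 (inv_mem hnI) w).1 hw
    rwa [inv_inv] at this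
  have h3 : S.m.nI⁻¹ * S.m.x c * S.m.nI = S.m.x' (-c) := by
    have := S.rel.nI_x' (-c)
    rw [neg_neg] at this
    rw [← this]; group
  have h4 : S.m.x' (-c) ∈ S.U := by
    have h5 : S.m.nI⁻¹ * (S.m.x c * w) * S.m.nI = (S.m.nI⁻¹ * S.m.x c * S.m.nI) * (S.m.nI⁻¹ * w * S.m.nI) := by
      group
    rw [h5, h3] at h1
    have := mul_mem h1 (inv_mem (S.VI_le h2))
    rwa [mul_inv_cancel_right] at this
  have hc0 : c = 0 := neg_eq_zero.1 (x'_mem_U S h4)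
  rw [hc0, show S.m.x 0 = 1 from add_zero' S.rel.x_add, one_mul] at e
  have h6 := VI_normal_B (S := S) hb (v := b⁻¹ * v * b)
  have e7 : b * (b⁻¹ * v * b) * b⁻¹ = v := by group
  rw [e7, e] at h6
  exact h6.1 hw

/-- `V_J = U ∩ g U g⁻¹` for `g ∈ N(V_J)`, `g ∉ B`. -/
theorem mem_VJ_of_conj {g v : A} (hg : g ∈ Subgroup.normalizer (S.VJ : Set A)) (hgB : g ∉ S.U ⊔ S.H)
    (hv : v ∈ S.U) (hv' : g⁻¹ * v * g ∈ S.U) : v ∈ S.VJ := by
  rcases normalizer_VJ hg with h | ⟨b, hb, q, rfl⟩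
  · exact absurd h hgB
  have hnJ : S.m.nII S.p₀ ∈ Subgroup.normalizer (S.VJ : Set A) := by
    have h1 : b ∈ Subgroup.normalizer (S.VJ : Set A) := B_le_of_conj S.UVJ S.HVJ hb
    have h2 : S.m.z₂ q ∈ Subgroup.normalizer (S.VJ : Set A) :=
      B_le_of_conj S.UVJ S.HVJ ((le_sup_left : S.U ≤ S.U ⊔ S.H) (z₂_mem q))
    have h3 := mul_mem (mul_mem (inv_mem h1) hg) (inv_mem h2)
    have e : b⁻¹ * (b * S.m.nII S.p₀ * S.m.z₂ q) * (S.m.z₂ q)⁻¹ = S.m.nII S.p₀ := by group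
    rwa [e] at h3
  obtain ⟨c, hc⟩ := exists_PZ (conj_U S hb hv)
  obtain ⟨w, hw, e⟩ := PZ.decomp hc
  have h1 : (S.m.nII S.p₀)⁻¹ * (b⁻¹ * v * b) * S.m.nII S.p₀ ∈ S.U := by
    have h2 := mul_mem (mul_mem (z₂_mem (m := S.m) q) hv') (inv_mem (z₂_mem (m := S.m) q))
    have e2 : S.m.z₂ q * ((b * S.m.nII S.p₀ * S.m.z₂ q)⁻¹ * v * (b * S.m.nII S.p₀ * S.m.z₂ q)) * (S.m.z₂ q)⁻¹ =
        (S.m.nII S.p₀)⁻¹ * (b⁻¹ * v * b) * S.m.nII S.p₀ := by group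
    exact e2 ▸ h2
  rw [e] at h1
  have h2 : (S.m.nII S.p₀)⁻¹ * w * S.m.nII S.p₀ ∈ S.VJ := by
    have := (mem_normalizer_iff.1 (inv_mem hnJ) w).1 hw
    rwa [inv_inv] at this
  obtain ⟨c', hc'⟩ : ∃ c', (S.m.nII S.p₀)⁻¹ * S.m.z₂ c * S.m.nII S.p₀ = S.m.z₂' c' ∧ (c' = 1 → c = 1) := by
    refine ⟨D.unrefl S.p₀ S.hp₀ (D.sc (D.ε⁻¹ * S.p₀.c)⁻¹ c), ?_, ?_⟩
    · have := S.rel.nII_z₂' S.p₀ S.hp₀ (D.unrefl S.p₀ S.hp₀ (D.sc (D.ε⁻¹ * S.p₀.c)⁻¹ c))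
      rw [D.refl_unrefl, D.sc_sc, mul_inv_cancel₀ (mul_ne_zero (inv_ne_zero D.ε_ne) S.hp₀), D.sc_one] at this
      rw [← this]; group
    · intro h
      have h3 := congrArg (D.refl S.p₀ S.hp₀) h
      rw [D.refl_unrefl] at h3
      have h4 : D.refl S.p₀ S.hp₀ 1 = 1 := by
        apply PQDatum.T.c_eq_zero_iff.1
        rfl
      rw [h4] at h3
      have h5 := congrArg (D.sc (D.ε⁻¹ * S.p₀.c)) h3
      rw [D.sc_sc, mul_inv_cancel₀ (mul_ne_zero (inv_ne_zero D.ε_ne) S.hp₀), D.sc_one, D.sc_T_one] at h5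
      exact h5
  have h4 : S.m.z₂' c' ∈ S.U := by
    have h5 : (S.m.nII S.p₀)⁻¹ * (w * S.m.z₂ c) * S.m.nII S.p₀ =
        ((S.m.nII S.p₀)⁻¹ * w * S.m.nII S.p₀) * ((S.m.nII S.p₀)⁻¹ * S.m.z₂ c * S.m.nII S.p₀) := by
      group
    rw [h5, hc'.1] at h1
    have := mul_mem (inv_mem (S.VJ_le h2)) h1
    rwa [inv_mul_cancel_left] at this
  have hc0 : c = 1 := hc'.2 (z₂'_mem_U S h4)
  rw [hc0, show S.m.z₂ 1 = 1 from mul_one' S.rel.z₂_mul, mul_one] at e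
  have h6 := VJ_normal_B (S := S) hb (v := b⁻¹ * v * b)
  have e7 : b * (b⁻¹ * v * b) * b⁻¹ = v := by group
  rw [e7, e] at h6
  exact h6.1 hw

theorem nI_not_mem_B : S.m.nI ∉ S.U ⊔ S.H := by
  intro h
  have h1 := conj_U S (inv_mem h) (x_mem (m := S.m) 1)
  rw [inv_inv, S.rel.nI_x] at h1
  exact one_ne_zero (neg_eq_zero.1 (x'_mem_U S h1))

theorem nJ_not_mem_B : S.m.nII S.p₀ ∉ S.U ⊔ S.H := by
  intro h
  have h1 := conj_U S (inv_mem h) (z₂_mem (m := S.m) (D.unrefl S.p₀ S.hp₀ (D.sc (D.σ S.p₀.c) S.p₀)))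
  rw [inv_inv, S.rel.nII_z₂ S.p₀ S.hp₀, D.refl_unrefl, D.sc_sc, inv_mul_cancel₀ (D.σ_ne S.hp₀), D.sc_one] at h1
  have h2 := z₂'_mem_U S h1
  apply S.hp₀
  rw [h2]
  rfl

theorem B_le_VI : S.U ⊔ S.H ≤ Subgroup.normalizer (S.VI : Set A) := B_le_of_conj S.UVI S.HVI

theorem B_le_VJ : S.U ⊔ S.H ≤ Subgroup.normalizer (S.VJ : Set A) := B_le_of_conj S.UVJ S.HVJ

theorem nI_not_mem : S.m.nI ∉ Subgroup.normalizer (S.VJ : Set A) := by
  intro hn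
  have h2 := (mem_normalizer_iff.1 hn (S.m.z₁ S.p₀)).1 (S.z₁_mem_VJ _)
  rw [S.rel.nI_z₁, S.z₂_mem_VJ_iff] at h2
  have h3 := congrArg PQDatum.T.c h2
  rw [D.sc_c, PQDatum.T.one_c, map_neg, map_one] at h3
  apply S.hp₀
  linear_combination h3

theorem mem_B_of_mem {g : A} (h1 : g ∈ Subgroup.normalizer (S.VI : Set A))
    (h2 : g ∈ Subgroup.normalizer (S.VJ : Set A)) : g ∈ S.U ⊔ S.H := by
  rcases normalizer_VI h1 with h | ⟨b, hb, a, rfl⟩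
  · exact h
  · exfalso
    apply nI_not_mem S
    have h3 := mul_mem (mul_mem (inv_mem (B_le_VJ S hb)) h2)
      (inv_mem (B_le_VJ S ((le_sup_left : S.U ≤ S.U ⊔ S.H) (x_mem a))))
    have e : b⁻¹ * (b * S.m.nI * S.m.x a) * (S.m.x a)⁻¹ = S.m.nI := by group
    rwa [e] at h3

variable [Finite A]

theorem nI_mem_VI : S.m.nI ∈ Subgroup.normalizer (S.VI : Set A) := by
  apply mem_normalizer_of_conj
  intro v hv
  have := S.nVI v hv
  rwa [nt_one] at this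

theorem nJ_mem_VJ : S.m.nII S.p₀ ∈ Subgroup.normalizer (S.VJ : Set A) :=
  mem_normalizer_of_conj S.nVJ

variable {S} [Finite D.T] {φ : MulAut A}

theorem map_B (hU : ∀ v ∈ S.U, φ v ∈ S.U) {b : A} : φ b ∈ S.U ⊔ S.H ↔ b ∈ S.U ⊔ S.H := by
  rw [← B2Torus.Std.normalizer_U S, mem_normalizer_iff, mem_normalizer_iff]
  have key : ∀ v, φ v ∈ S.U ↔ v ∈ S.U := fun v => ⟨mem_of_map_mem hU, hU v⟩
  constructor
  · intro h v
    have := h (φ v)
    rw [← map_inv, ← map_mul, ← map_mul, key, key] at this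
    exact this
  · intro h v
    obtain ⟨w, rfl⟩ := φ.surjective v
    rw [← map_inv, ← map_mul, ← map_mul, key, key]
    exact h w

/-- A subgroup containing `B` properly contains `n_I` or `n_J`. -/
theorem mem_or_of_ne {P : Subgroup A} (hP : S.U ⊔ S.H ≤ P) {g : A} (hg : g ∈ P) (hgB : g ∉ S.U ⊔ S.H) :
    S.m.nI ∈ P ∨ S.m.nII S.p₀ ∈ P := by
  by_contra hcon
  push Not at hcon
  apply hgB
  have h1 := S.r2.core.eq_D (by norm_num) (S := P) (by rw [S.core_G]; exact le_top)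
    (by rw [core_D]; exact hP) (by rw [core_nI]; exact hcon.1) (by rw [core_nJ]; exact hcon.2)
  rw [h1, core_D] at hg
  exact hg

/-- **The two parabolics are permuted.** -/
theorem par_or (hU : ∀ v ∈ S.U, φ v ∈ S.U) :
    ((∀ v ∈ S.VI, φ v ∈ S.VI) ∧ ∀ v ∈ S.VJ, φ v ∈ S.VJ) ∨
      ((∀ v ∈ S.VI, φ v ∈ S.VJ) ∧ ∀ v ∈ S.VJ, φ v ∈ S.VI) := by
  have hU' : ∀ v ∈ S.U, φ v ∈ S.U := hU
  -- preimages of the parabolics
  have hP : ∀ (Q : Subgroup A), S.U ⊔ S.H ≤ Q → ∀ g ∈ Q, g ∉ S.U ⊔ S.H →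
      φ S.m.nI ∈ Q ∨ φ (S.m.nII S.p₀) ∈ Q := by
    intro Q hQ g hg hgB
    obtain ⟨g', rfl⟩ := φ.surjective g
    exact mem_or_of_ne (P := Q.comap φ.toMonoidHom) (fun b hb => hQ ((map_B hU).2 hb)) hg
      (fun h => hgB ((map_B hU).2 h))
  have h1 := hP _ (B_le_VI S) _ (nI_mem_VI S) (nI_not_mem_B S)
  have h2 := hP _ (B_le_VJ S) _ (nJ_mem_VJ S) (nJ_not_mem_B S)
  have hnI : φ S.m.nI ∉ S.U ⊔ S.H := fun h => nI_not_mem_B S ((map_B hU).1 h)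
  have hnJ : φ (S.m.nII S.p₀) ∉ S.U ⊔ S.H := fun h => nJ_not_mem_B S ((map_B hU).1 h)
  have hVI : ∀ v ∈ S.VI, S.m.nI⁻¹ * v * S.m.nI ∈ S.U := by
    intro v hv
    have := (mem_normalizer_iff.1 (inv_mem (nI_mem_VI S)) v).1 hv
    rw [inv_inv] at this
    exact S.VI_le this
  have hVJ : ∀ v ∈ S.VJ, (S.m.nII S.p₀)⁻¹ * v * S.m.nII S.p₀ ∈ S.U := by
    intro v hv
    have := (mem_normalizer_iff.1 (inv_mem (nJ_mem_VJ S)) v).1 hv
    rw [inv_inv] at this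
    exact S.VJ_le this
  have hVI' : ∀ v ∈ S.VI, (φ S.m.nI)⁻¹ * φ v * φ S.m.nI ∈ S.U := by
    intro v hv
    have := hU _ (hVI v hv)
    rwa [map_mul, map_mul, map_inv] at this
  have hVJ' : ∀ v ∈ S.VJ, (φ (S.m.nII S.p₀))⁻¹ * φ v * φ (S.m.nII S.p₀) ∈ S.U := by
    intro v hv
    have := hU _ (hVJ v hv)
    rwa [map_mul, map_mul, map_inv] at this
  rcases h1 with h1 | h1
  · rcases h2 with h2 | h2
    · exact absurd (mem_B_of_mem S h1 h2) hnI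
    · left
      exact ⟨fun v hv => mem_VI_of_conj S h1 hnI (hU v (S.VI_le hv)) (hVI' v hv),
        fun v hv => mem_VJ_of_conj S h2 hnJ (hU v (S.VJ_le hv)) (hVJ' v hv)⟩
  · rcases h2 with h2 | h2
    · right
      exact ⟨fun v hv => mem_VJ_of_conj S h2 hnI (hU v (S.VI_le hv)) (hVI' v hv),
        fun v hv => mem_VI_of_conj S h1 hnJ (hU v (S.VJ_le hv)) (hVJ' v hv)⟩
    · exact absurd (mem_B_of_mem S h1 h2) hnJ

/-- The image of the other Weyl element. -/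
theorem exists_nJ (hU : ∀ v ∈ S.U, φ v ∈ S.U) (hJ : ∀ v ∈ S.VJ, φ v ∈ S.VJ) :
    ∃ b ∈ S.U ⊔ S.H, ∃ q, φ (S.m.nII S.p₀) = b * S.m.nII S.p₀ * S.m.z₂ q := by
  have h1 : φ (S.m.nII S.p₀) ∈ Subgroup.normalizer (S.VJ : Set A) := by
    apply mem_normalizer_of_conj
    intro v hv
    obtain ⟨w, hw, rfl⟩ := exists_preimage hJ hv
    have := hJ _ ((mem_normalizer_iff.1 (nJ_mem_VJ S) w).1 hw)
    rwa [map_mul, map_mul, map_inv] at this
  rcases normalizer_VJ h1 with h2 | h2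
  · exact absurd ((map_B hU).1 h2) (nJ_not_mem_B S)
  · exact h2

/-- In the second case `|T| = |F|`. -/
theorem card_of_swap (hU : ∀ v ∈ S.U, φ v ∈ S.U) (hI : ∀ v ∈ S.VI, φ v ∈ S.VJ)
    (hJ : ∀ v ∈ S.VJ, φ v ∈ S.VI) : Nat.card D.T = Nat.card F := by
  have hII : ∀ v ∈ S.VI, (φ * φ) v ∈ S.VI := fun v hv => hJ _ (hI v hv)
  have hJJ : ∀ v ∈ S.VJ, (φ * φ) v ∈ S.VJ := fun v hv => hI _ (hJ v hv)
  apply le_antisymm
  · -- `q ↦` first coordinate of `φ (z₂ q)`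
    choose f hf using fun q : D.T => exists_PX (hU _ (z₂_mem (m := S.m) q))
    apply Nat.card_le_card_of_injective f
    intro q r h
    have h1 := (hf q).mul (hf r).inv
    rw [h, add_neg_cancel, ← map_inv, ← map_mul] at h1
    have h2 := mem_VI_iff.2 h1
    obtain ⟨w, hw, e⟩ := exists_preimage hII h2
    have h3 : φ w = S.m.z₂ q * (S.m.z₂ r)⁻¹ := φ.injective e
    have h4 : S.m.z₂ (q * r⁻¹) ∈ S.VJ := by
      rw [S.rel.z₂_mul, mul_inv' S.rel.z₂_mul, ← h3]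
      exact hI w hw
    exact mul_inv_eq_one.1 (S.z₂_mem_VJ_iff.1 h4)
  · choose f hf using fun a : F => exists_PZ (hU _ (x_mem (m := S.m) a))
    apply Nat.card_le_card_of_injective f
    intro a b h
    have h1 := (hf a).mul (hf b).inv
    rw [h, mul_inv_cancel, ← map_inv, ← map_mul] at h1
    have h2 := mem_VJ_iff.2 h1
    obtain ⟨w, hw, e⟩ := exists_preimage hJJ h2
    have h3 : φ w = S.m.x a * (S.m.x b)⁻¹ := φ.injective e
    have h4 : S.m.x (a - b) ∈ S.VI := by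
      rw [sub_eq_add_neg, S.rel.x_add, add_neg' S.rel.x_add, ← h3]
      exact hJ w hw
    exact sub_eq_zero.1 (S.x_mem_VI_iff.1 h4)

end Cfsg.Agent.StdRank2.OutB2Par
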