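import Cfsg.Agent.StdRank2.OutSpInv

/-!
# `Out₂` of `Sp₄(q)` is cyclic
-/

set_option autoImplicit false
set_option linter.unusedSectionVars false

namespace Cfsg.Agent.StdRank2.OutSpCyc

open Subgroup
open scoped commutatorElement
open Cfsg.Agent.TitsThree.B2Pkg Cfsg.Agent.TitsThree.RankTwoIdentB2
  Cfsg.Agent.TitsThree.CoreB2 Cfsg.Agent.TitsThree.RankTwoIdx Cfsg.Agent.TitsThree.RankTwoRGD
  Cfsg.Agent.TitsThree.StdData
open Cfsg.Agent.StdRank2.OddLift Cfsg.Agent.StdRank2.B2Lift Cfsg.Agent.StdRank2.B2Std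
  Cfsg.Agent.StdRank2.B2Torus Cfsg.Agent.StdRank2.B2Act Cfsg.Agent.StdRank2.B2Act.Std
  Cfsg.Agent.StdRank2.B2Par Cfsg.Agent.StdRank2.B2Par.Std Cfsg.Agent.StdRank2.B2Self
  Cfsg.Agent.StdRank2.OutB2Par Cfsg.Agent.StdRank2.OutB2G Cfsg.Agent.StdRank2.OutL3Outer
  Cfsg.Agent.StdRank2.OutB2Grade Cfsg.Agent.StdRank2.OutB2Aut Cfsg.Agent.StdRank2.OutB2Tw
  Cfsg.Agent.StdRank2.OutB2Data Cfsg.Agent.StdRank2.OutB2Decomp Cfsg.Agent.StdRank2.OutB2Inv
  Cfsg.Agent.StdRank2.OutField Cfsg.Agent.StdRank2.OutB2Good Cfsg.Agent.StdRank2.OutB2Ident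
  Cfsg.Agent.StdRank2.OutSpGraph Cfsg.Agent.StdRank2.OutSpG Cfsg.Agent.StdRank2.OutSpInv
  Cfsg.Agent.StdRank2.OutAct

universe u

variable {F : Type*} [Field F] [Finite F] [CharP F 2]

/-- every automorphism of a finite field of characteristic `2` is a power of the Frobenius -/
theorem exists_frob_pow (ρ : F ≃+* F) : ∃ n : ℕ, ρ = frob F ^ n := by
  have : Fact (Nat.Prime 2) := ⟨Nat.prime_two⟩
  letI : Algebra (ZMod 2) F := ZMod.algebra F 2
  obtain ⟨n, hn⟩ := (FiniteField.bijective_frobeniusAlgEquivOfAlgebraic_pow (ZMod 2) F).2 (toGal 2 ρ)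
  refine ⟨n.1, ?_⟩
  have h1 : toGal 2 (frob F) = FiniteField.frobeniusAlgEquivOfAlgebraic (ZMod 2) F := by
    ext x
    show frob F x = x ^ (Fintype.card (ZMod 2))
    rw [frob_apply, ZMod.card, pow_two]
  have hinj : Function.Injective (toGal (F := F) 2) := by
    intro a b h
    ext x
    exact congrArg (fun f : F ≃ₐ[ZMod 2] F => f x) h
  apply hinj
  rw [map_pow, h1]
  exact hn.symm

section Q

variable {Q : Type u} [Group Q] [IsSimpleGroup Q] [Finite Q] (S : Std (stdSp F) Q)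

theorem psi_pow {p : MulAut Q} (hp : p ∈ Psi S) : ∃ n : ℕ, p = gm S ^ n := by
  obtain ⟨ρ, rfl | rfl⟩ := hp
  · obtain ⟨n, rfl⟩ := exists_frob_pow ρ
    exact ⟨2 * n, by rw [map_pow, ← gm_mul_gm, pow_mul, pow_two]⟩
  · obtain ⟨n, rfl⟩ := exists_frob_pow ρ
    exact ⟨2 * n + 1, by rw [map_pow, ← gm_mul_gm, pow_succ', pow_mul, pow_two]⟩

theorem gm_mem : gm S ∈ Psi S := ⟨1, Or.inr (by rw [map_one, mul_one])⟩

instance psi_cyclic : IsCyclic (Psi S) := by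
  refine ⟨⟨⟨gm S, gm_mem S⟩, ?_⟩⟩
  rintro ⟨p, hp⟩
  obtain ⟨n, rfl⟩ := psi_pow S hp
  exact ⟨n, Subtype.ext (by simp)⟩

variable {S}

theorem inn_psi {v : Q} (hv : v ∈ S.U) {p : MulAut Q} (hp : p ∈ Psi S) (h : MulAut.conj v = p) : p = 1 := by
  obtain ⟨a, p', b, q, rfl⟩ := exists_nf S.rel hv
  obtain ⟨ρ, rfl | rfl⟩ := hp
  · have hρ : ρ = 1 := by
      ext c
      have h1 := congrArg (fun φ : MulAut Q => φ (S.m.x c)) h
      have h2 : B2Std.nf S.m a p' b q * S.m.x c = S.m.x (ρ c) * B2Std.nf S.m a p' b q := by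
        have h3 : B2Std.nf S.m a p' b q * S.m.x c * (B2Std.nf S.m a p' b q)⁻¹ = S.m.x (ρ c) := by
          rw [← fd_x nSp S]; exact h1
        exact mul_inv_eq_iff_eq_mul.1 h3
      rw [x_eq_nf S.rel, x_eq_nf S.rel, mul_nf S.rel, mul_nf S.rel] at h2
      have h4 := (S.nf_inj h2).1
      have : c = ρ c := by linear_combination h4
      exact this.symm
    rw [hρ, map_one]
  · exfalso
    have h1 := congrArg (fun φ : MulAut Q => φ (S.m.x 1)) h
    have h2 : B2Std.nf S.m a p' b q * S.m.x 1 = S.m.z₂ (tc 1) * B2Std.nf S.m a p' b q := by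
      have h3 : B2Std.nf S.m a p' b q * S.m.x 1 * (B2Std.nf S.m a p' b q)⁻¹ = S.m.z₂ (tc 1) := by
        have e : (gm S * fd nSp S ρ) (S.m.x 1) = S.m.z₂ (tc 1) := by
          rw [MulAut.mul_apply, fd_x, gm_x, map_one, mul_one]
        rw [← e]; exact h1
      exact mul_inv_eq_iff_eq_mul.1 h3
    rw [x_eq_nf S.rel, z₂_eq_nf S.rel, mul_nf S.rel, mul_nf S.rel] at h2
    have h4 := (S.nf_inj h2).1
    exact one_ne_zero (by linear_combination h4 : (1 : F) = 0)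

end Q

variable {G : Type u} [Group G] [Finite G] {A : Subgroup G} (hZ : Odd (Nat.card (center ↥A))) (S : Std (stdSp F) ↥A)

section act

variable [IsSimpleGroup (↥A ⧸ center ↥A)] {f : G} (hf : f ∈ normalizer (A : Set G)) {ρ : F ≃+* F}

theorem ac_fld (h : Fld nSp S f ρ) : ac A ⟨f, hf⟩ = fd nSp (quotStd hZ S) ρ := by
  have key : ∀ {a b : ↥A}, f * a * f⁻¹ = b → ac A ⟨f, hf⟩ (QuotientGroup.mk a) = QuotientGroup.mk b := by
    intro a b e
    rw [ac_mk]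
    congr 1
    exact Subtype.ext e
  apply aut_ext (quotStd hZ S)
  · intro a
    rw [fd_x]; exact key (h.x a)
  · intro a
    rw [fd_x']; exact key (h.x' a)
  · intro a
    rw [fd_z₂]; exact key (h.z₂ a)
  · intro a
    rw [fd_z₂']; exact key (h.z₂' a)

theorem ac_gr (h : Gr S f ρ) : ac A ⟨f, hf⟩ = gm (quotStd hZ S) * fd nSp (quotStd hZ S) ρ := by
  have key : ∀ {a b : ↥A}, f * a * f⁻¹ = b → ac A ⟨f, hf⟩ (QuotientGroup.mk a) = QuotientGroup.mk b := by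
    intro a b e
    rw [ac_mk]
    congr 1
    exact Subtype.ext e
  apply aut_ext (quotStd hZ S)
  · intro a
    rw [MulAut.mul_apply, fd_x, gm_x]; exact key (h.x a)
  · intro a
    rw [MulAut.mul_apply, fd_x', gm_x']; exact key (h.x' a)
  · intro a
    rw [MulAut.mul_apply, fd_z₂, gm_z₂]; exact key (h.z₂ a)
  · intro a
    rw [MulAut.mul_apply, fd_z₂', gm_z₂']; exact key (h.z₂' a)

omit [Finite G] [CharP F 2] [Finite F] [IsSimpleGroup (↥A ⧸ center ↥A)] in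
theorem ac_mem {u : G} (hu : u ∈ A) (hu' : u ∈ normalizer (A : Set G)) :
    ac A ⟨u, hu'⟩ = MulAut.conj (QuotientGroup.mk ⟨u, hu⟩) :=
  act_conj_mem (MulEquiv.refl (↥A ⧸ center ↥A)) hu hu'

end act

variable [IsSimpleGroup (↥A ⧸ center ↥A)] {T : Subgroup G} (hTA : T ≤ normalizer (A : Set G))

include hTA in
theorem exists_psi (had : AdaptedSp S T) {y : G} (hy : y ∈ T) : ∃ u ∈ UG S, ∃ p ∈ Psi (quotStd hZ S),
    ∃ hn : u * y ∈ normalizer (A : Set G), ac A ⟨u * y, hn⟩ = p := by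
  obtain ⟨u, hu, ρ, ⟨-, h⟩ | ⟨-, h⟩⟩ := had y hy
  · have hn : u * y ∈ normalizer (A : Set G) := mul_mem (le_normalizer (UG_le S hu)) (hTA hy)
    exact ⟨u, hu, _, ⟨ρ, Or.inl rfl⟩, hn, ac_fld hZ S hn h⟩
  · have hn : u * y ∈ normalizer (A : Set G) := mul_mem (le_normalizer (UG_le S hu)) (hTA hy)
    exact ⟨u, hu, _, ⟨ρ, Or.inr rfl⟩, hn, ac_gr hZ S hn h⟩

/-- **`Out₂` is cyclic**: a homomorphism of `T` to a cyclic group whose kernel consists of the elements inducing an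
element of `U`. -/
theorem exists_theta (hTA : T ≤ normalizer (A : Set G)) (hZ : Odd (Nat.card (center ↥A))) (had : AdaptedSp S T)
    (hTU : ∀ y ∈ T, ∀ u ∈ UG S, y * u * y⁻¹ ∈ UG S) :
    ∃ θ : ↥T →* Psi (quotStd hZ S), ∀ y : ↥T, θ y = 1 ↔ ∃ s ∈ UG S, ∀ a ∈ A, (y : G) * a * (y : G)⁻¹ = s * a * s⁻¹ := by
  set Q := quotStd hZ S with hQ
  have huniq : ∀ {y : G} {u u' : G}, u ∈ UG S → u' ∈ UG S → ∀ {p p' : MulAut (↥A ⧸ center ↥A)}, p ∈ Psi Q → p' ∈ Psi Q →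
      ∀ (hn : u * y ∈ normalizer (A : Set G)) (hn' : u' * y ∈ normalizer (A : Set G)),
      ac A ⟨u * y, hn⟩ = p → ac A ⟨u' * y, hn'⟩ = p' → p = p' := by
    intro y u u' hu hu' p p' hp hp' hn hn' h h'
    have h1 : u * u'⁻¹ ∈ UG S := mul_mem hu (inv_mem hu')
    have h1n : u * u'⁻¹ ∈ normalizer (A : Set G) := le_normalizer (UG_le S h1)
    have e : (⟨u * y, hn⟩ : ↥(normalizer (A : Set G))) = ⟨u * u'⁻¹, h1n⟩ * ⟨u' * y, hn'⟩ := by
      apply Subtype.ext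
      show u * y = u * u'⁻¹ * (u' * y)
      group
    rw [e, map_mul, h'] at h
    have e2 : ac A ⟨u * u'⁻¹, h1n⟩ = p * p'⁻¹ := by rw [← h, mul_inv_cancel_right]
    obtain ⟨w, hw, hwe⟩ := h1
    have e3 := ac_mem (A := A) (UG_le S ⟨w, hw, hwe⟩) h1n
    rw [e2] at e3
    have e4 : (QuotientGroup.mk (⟨u * u'⁻¹, UG_le S ⟨w, hw, hwe⟩⟩ : ↥A) : ↥A ⧸ center ↥A) ∈ Q.U := by
      rw [hQ, quotStd_U]
      refine ⟨w, hw, ?_⟩
      show QuotientGroup.mk w = _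
      congr 1
      exact Subtype.ext hwe
    have e5 := inn_psi e4 (mul_mem hp (inv_mem hp')) e3.symm
    exact mul_inv_eq_one.1 e5
  choose u hu p hp hn h using fun y : ↥T => exists_psi hZ S hTA had y.2
  have key : ∀ (y : ↥T) {v : G}, v ∈ UG S → ∀ {r : MulAut (↥A ⧸ center ↥A)}, r ∈ Psi Q →
      ∀ hv : v * y ∈ normalizer (A : Set G), ac A ⟨v * y, hv⟩ = r → p y = r :=
    fun y v hv r hr hvn e => huniq (hu y) hv (hp y) hr (hn y) hvn (h y) e
  have hmul : ∀ y z, p (y * z) = p y * p z := by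
    intro y z
    have e1 : u y * (y * u z * (y : G)⁻¹) * ((y * z : ↥T) : G) = (u y * y) * (u z * z) := by
      push_cast
      group
    have hm : u y * ((y : G) * u z * (y : G)⁻¹) ∈ UG S := mul_mem (hu y) (hTU y y.2 _ (hu z))
    refine key (y * z) hm (mul_mem (hp y) (hp z)) (by rw [e1]; exact mul_mem (hn y) (hn z)) ?_
    have e2 : (⟨u y * (y * u z * (y : G)⁻¹) * ((y * z : ↥T) : G), by rw [e1]; exact mul_mem (hn y) (hn z)⟩ :
        ↥(normalizer (A : Set G))) = ⟨u y * y, hn y⟩ * ⟨u z * z, hn z⟩ := Subtype.ext e1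
    rw [e2, map_mul, h y, h z]
  let θ : ↥T →* Psi Q := MonoidHom.mk' (fun y => ⟨p y, hp y⟩) (fun y z => Subtype.ext (hmul y z))
  refine ⟨θ, ?_⟩
  · intro y
    have e0 : θ y = 1 ↔ p y = 1 := ⟨fun e => congrArg Subtype.val e, fun e => Subtype.ext e⟩
    rw [e0]
    constructor
    · intro e
      refine ⟨(u y)⁻¹, inv_mem (hu y), ?_⟩
      have hy := h y
      rw [e] at hy
      have hc : ∀ a : ↥A, IsTwo a → (a : G) ∈ centralizer ({u y * (y : G)} : Set G) := by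
        intro a ha
        have := conj_of_ac hZ (hn y) ha ha (by rw [hy]; rfl)
        rw [mem_centralizer_singleton_iff]
        exact (mul_inv_eq_iff_eq_mul.1 this).symm
      obtain ⟨i1, i2, -, -, -, i6, -, i8⟩ := isTwo_all S.rel
      have hA : A ≤ centralizer ({u y * (y : G)} : Set G) :=
        A_le (S := S) (fun a => hc _ (i1 a)) (fun a => hc _ (i2 a)) (fun a => hc _ (i6 a)) (fun a => hc _ (i8 a))
      intro a ha
      have h1 := mem_centralizer_singleton_iff.1 (hA ha)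
      have h2 : u y * y * a * (u y * (y : G))⁻¹ = a := by rw [← h1, mul_inv_cancel_right]
      calc (y : G) * a * (y : G)⁻¹ = (u y)⁻¹ * (u y * y * a * (u y * (y : G))⁻¹) * u y := by group
        _ = _ := by rw [h2, inv_inv]
    · rintro ⟨s, hs, hc⟩
      have hsn : s⁻¹ ∈ UG S := inv_mem hs
      have hn1 : s⁻¹ * y ∈ normalizer (A : Set G) := mul_mem (le_normalizer (UG_le S hsn)) (hTA y.2)
      refine key y hsn (one_mem _) hn1 ?_
      apply MulEquiv.ext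
      intro x
      induction x using QuotientGroup.induction_on with
      | H a =>
        rw [ac_mk]
        congr 1
        apply Subtype.ext
        show s⁻¹ * y * a * (s⁻¹ * y)⁻¹ = a
        have : s⁻¹ * (y : G) * a * (s⁻¹ * y)⁻¹ = s⁻¹ * (y * a * (y : G)⁻¹) * s := by group
        rw [this, hc a a.2]
        group

/-- `x` induces an element of `U` on `A` -/
def InU {G : Type*} [Group G] (A U : Subgroup G) (x : G) : Prop := ∃ s ∈ U, ∀ a ∈ A, x * a * x⁻¹ = s * a * s⁻¹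

theorem unique_invol_cyc {C : Type*} [Group C] [Finite C] (hC : IsCyclic C) {r s : C}
    (hr2 : r * r = 1) (hs2 : s * s = 1) (hr1 : r ≠ 1) (hs1 : s ≠ 1) : r = s := by
  classical
  by_contra hne
  have : Fintype C := Fintype.ofFinite _
  have h1 := IsCyclic.card_pow_eq_one_le (α := C) (n := 2) (by norm_num)
  have h2 : ({1, r, s} : Finset C) ⊆ Finset.univ.filter (fun a : C => a ^ 2 = 1) := by
    intro a ha
    rw [Finset.mem_filter]
    refine ⟨Finset.mem_univ _, ?_⟩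
    simp only [Finset.mem_insert, Finset.mem_singleton] at ha
    rcases ha with rfl | rfl | rfl
    · exact one_pow 2
    · rw [pow_two, hr2]
    · rw [pow_two, hs2]
  have h3 := Finset.card_le_card h2
  rw [Finset.card_eq_three.2 ⟨1, r, s, hr1.symm, hs1.symm, hne, rfl⟩] at h3
  omega

omit [IsSimpleGroup (↥A ⧸ center ↥A)] in
/-- elements of `T` whose square lies in `U` -/
theorem exists_sq_one (hZ : Odd (Nat.card (center ↥A))) (had : AdaptedSp S T)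
    (hTU : ∀ y ∈ T, ∀ u ∈ UG S, y * u * y⁻¹ ∈ UG S) {x : G} (hx : x ∈ T) (hxx : x * x ∈ UG S) :
    ∃ u ∈ UG S, x * u * (x * u) = 1 := by
  obtain ⟨u, hu, ρ, h⟩ := had x hx
  have hmem : u * x * (u * x) ∈ UG S := by
    have e : u * x * (u * x) = u * (x * u * x⁻¹) * (x * x) := by group
    rw [e]
    exact mul_mem (mul_mem hu (hTU x hx u hu)) hxx
  have hone : u * x * (u * x) = 1 := by
    rcases h with ⟨-, h⟩ | ⟨-, h⟩
    · exact (eq_one_of_fld hZ hmem (fld_mul h h)).1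
    · exact (eq_one_of_fld hZ hmem (gr_mul h)).1
  refine ⟨x⁻¹ * u * x, ?_, ?_⟩
  · -- `x⁻¹ = x x⁻²`
    have e : x⁻¹ * u * x = (x * x)⁻¹ * (x * u * x⁻¹) * (x * x) := by group
    rw [e]
    exact mul_mem (mul_mem (inv_mem hxx) (hTU x hx u hu)) hxx
  · rw [← hone]
    group

section final

variable (hF : 3 ≤ Nat.card F) (hT : IsPGroup 2 T) (hTU : ∀ y ∈ T, ∀ u ∈ UG S, y * u * y⁻¹ ∈ UG S)

include hZ hF hT hTA hTU

/-- **`T` modulo the elements inducing an element of `U` is cyclic.** -/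
theorem exists_cyclic : ∃ (C : Type u) (_ : Group C) (_ : Finite C) (_ : IsCyclic C) (θ : ↥T →* C),
    ∀ y : ↥T, θ y = 1 ↔ InU A (UG S) y := by
  obtain ⟨c, hc⟩ := exists_adaptedSp hZ S hF T hT hTA hTU
  obtain ⟨θ, hθ⟩ := exists_theta _ hTA hZ hc (by rw [UG_tw]; exact hTU)
  rw [UG_tw] at hθ
  exact ⟨_, inferInstance, inferInstance, inferInstance, θ, hθ⟩

theorem comm_mem {g h : G} (hg : g ∈ T) (hh : h ∈ T) : InU A (UG S) ⁅g, h⁆ := by
  obtain ⟨C, _, _, hC, θ, hθ⟩ := exists_cyclic hZ S hTA hF hT hTU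
  have h1 := (hθ ⁅(⟨g, hg⟩ : ↥T), (⟨h, hh⟩ : ↥T)⁆).1 (by
    rw [map_commutatorElement, commutatorElement_eq_one_iff_mul_comm]
    exact (@IsCyclic.commGroup C _ hC).mul_comm _ _)
  exact h1

theorem unique_two {g y : G} (hg : g ∈ T) (hy : y ∈ T) (hgg : InU A (UG S) (g * g)) (hg1 : ¬ InU A (UG S) g)
    (hyy : InU A (UG S) (y * y)) (hy1 : ¬ InU A (UG S) y) : InU A (UG S) (y * g) := by
  obtain ⟨C, _, _, hC, θ, hθ⟩ := exists_cyclic hZ S hTA hF hT hTU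
  have e1 : θ ⟨g, hg⟩ * θ ⟨g, hg⟩ = 1 := by rw [← map_mul]; exact (hθ _).2 hgg
  have e2 : θ ⟨y, hy⟩ * θ ⟨y, hy⟩ = 1 := by rw [← map_mul]; exact (hθ _).2 hyy
  have e3 : θ ⟨g, hg⟩ ≠ 1 := fun h => hg1 ((hθ _).1 h)
  have e4 : θ ⟨y, hy⟩ ≠ 1 := fun h => hy1 ((hθ _).1 h)
  have e5 := unique_invol_cyc hC e1 e2 e3 e4
  refine (hθ (⟨y, hy⟩ * ⟨g, hg⟩)).1 ?_
  rw [map_mul, e5, e2]

/-- **a generator** -/
theorem exists_gen : ∃ f ∈ T, ∀ x ∈ T, ∃ n : ℕ, InU A (UG S) (f ^ n * x) := by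
  obtain ⟨C, _, _, hC, θ, hθ⟩ := exists_cyclic hZ S hTA hF hT hTU
  have hcyc : IsCyclic θ.range := inferInstance
  obtain ⟨⟨_, f, rfl⟩, hf⟩ := hcyc.exists_generator
  refine ⟨f, f.2, fun x hx => ?_⟩
  have h1 := hf ⟨θ ⟨x, hx⟩⁻¹, ⟨⟨x, hx⟩⁻¹, rfl⟩⟩
  rw [← mem_powers_iff_mem_zpowers] at h1
  obtain ⟨n, hn⟩ := h1
  have hn' : θ f ^ n = θ ⟨x, hx⟩⁻¹ := congrArg Subtype.val hn
  refine ⟨n, (hθ (f ^ n * ⟨x, hx⟩)).1 ?_⟩
  rw [map_mul, map_pow, hn', map_inv, inv_mul_cancel]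

/-- **(YS)** -/
theorem exists_sq_one' {x : G} (hx : x ∈ T) (hxx : x * x ∈ UG S) : ∃ u ∈ UG S, x * u * (x * u) = 1 := by
  obtain ⟨c, hc⟩ := exists_adaptedSp hZ S hF T hT hTA hTU
  have := exists_sq_one _ hZ hc (by rw [UG_tw]; exact hTU) hx (by rw [UG_tw]; exact hxx)
  rw [UG_tw] at this
  exact this

end final

end Cfsg.Agent.StdRank2.OutSpCyc
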