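import Cfsg.Agent.StdRank2.OutSpGraph

/-!
# Automorphisms of `Sp₄(q)` induced by `2`-elements, graph automorphisms included
-/

set_option autoImplicit false
set_option linter.unusedSectionVars false

namespace Cfsg.Agent.StdRank2.OutSpG

open Subgroup
open scoped commutatorElement
open Cfsg.Agent.TitsThree.B2Pkg Cfsg.Agent.TitsThree.RankTwoIdentB2
  Cfsg.Agent.TitsThree.CoreB2 Cfsg.Agent.TitsThree.RankTwoIdx Cfsg.Agent.TitsThree.RankTwoRGD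
  Cfsg.Agent.TitsThree.StdData
open Cfsg.Agent.StdRank2.OddLift Cfsg.Agent.StdRank2.B2Lift Cfsg.Agent.StdRank2.B2Std
  Cfsg.Agent.StdRank2.B2Torus Cfsg.Agent.StdRank2.B2Act Cfsg.Agent.StdRank2.B2Act.Std
  Cfsg.Agent.StdRank2.B2Par Cfsg.Agent.StdRank2.B2Par.Std Cfsg.Agent.StdRank2.B2Self
  Cfsg.Agent.StdRank2.OutB2Par Cfsg.Agent.StdRank2.OutB2G Cfsg.Agent.StdRank2.OutL3Outer
  Cfsg.Agent.StdRank2.OutB2Grade Cfsg.Agent.StdRank2.OutB2Aut Cfsg.Agent.StdRank2.OutB2Tw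
  Cfsg.Agent.StdRank2.OutB2Data Cfsg.Agent.StdRank2.OutB2Decomp Cfsg.Agent.StdRank2.OutB2Inv
  Cfsg.Agent.StdRank2.OutField Cfsg.Agent.StdRank2.OutB2Good Cfsg.Agent.StdRank2.OutB2Ident
  Cfsg.Agent.StdRank2.OutSpGraph

universe u

variable {F : Type*} [Field F] [Finite F] [CharP F 2] {G : Type u} [Group G] {A : Subgroup G}

/-- `f` acts as the graph automorphism followed by the field automorphism `ρ`. -/
structure Gr (S : Std (stdSp F) ↥A) (f : G) (ρ : F ≃+* F) : Prop where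
  x : ∀ a, f * S.m.x a * f⁻¹ = S.m.z₂ (tc (ρ a * ρ a))
  x' : ∀ a, f * S.m.x' a * f⁻¹ = S.m.z₂' (tc (ρ a * ρ a))
  y : ∀ a, f * S.m.y a * f⁻¹ = S.m.z₁ (tc (ρ a * ρ a))
  y' : ∀ a, f * S.m.y' a * f⁻¹ = S.m.z₁' (tc (ρ a * ρ a))
  z₁ : ∀ p, f * S.m.z₁ p * f⁻¹ = S.m.y (ρ p.c)
  z₂ : ∀ p, f * S.m.z₂ p * f⁻¹ = S.m.x (ρ p.c)
  z₁' : ∀ p, f * S.m.z₁' p * f⁻¹ = S.m.y' (ρ p.c)
  z₂' : ∀ p, f * S.m.z₂' p * f⁻¹ = S.m.x' (ρ p.c)

/-- Every element of `T` is of field or graph type modulo `U`. -/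
def AdaptedSp (S : Std (stdSp F) ↥A) (T : Subgroup G) : Prop :=
  ∀ y ∈ T, ∃ u ∈ UG S, ∃ ρ : F ≃+* F,
    ((∃ k : ℕ, ρ ^ 2 ^ k = 1) ∧ Fld nSp S (u * y) ρ) ∨ ((∃ k : ℕ, (frob F * ρ * ρ) ^ 2 ^ k = 1) ∧ Gr S (u * y) ρ)

section

variable [Finite G] (hZ : Odd (Nat.card (center ↥A))) (S : Std (stdSp F) ↥A)

/-- Transport of graph automorphisms to `G`. -/
theorem gr_of_act [IsSimpleGroup (↥A ⧸ center ↥A)] (c : Fˣ × Fˣ) (ρ : F ≃+* F) {y : G}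
    (hy : y ∈ normalizer (A : Set G))
    (h : ac A ⟨y, hy⟩ = dg (quotStd hZ S) c * (gm (quotStd hZ S) * fd nSp (quotStd hZ S) ρ) *
      (dg (quotStd hZ S) c)⁻¹) :
    Gr (tw S (dtw (stdSp F) c.1.ne_zero c.2.ne_zero)) y ρ := by
  set Q := quotStd hZ S with hQ
  set S' := tw S (dtw (stdSp F) c.1.ne_zero c.2.ne_zero) with hS'
  have hc := auto_spec Q (dtw (stdSp F) c.1.ne_zero c.2.ne_zero)
  obtain ⟨i1, i2, i3, i4, i5, i6, i7, i8⟩ := isTwo_all S'.rel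
  have key : ∀ {a b : ↥A} {a' b' : ↥A ⧸ center ↥A}, IsTwo a → IsTwo b →
      auto Q (dtw (stdSp F) c.1.ne_zero c.2.ne_zero) a' = QuotientGroup.mk a →
      auto Q (dtw (stdSp F) c.1.ne_zero c.2.ne_zero) b' = QuotientGroup.mk b →
      gm Q (fd nSp Q ρ a') = b' → y * a * y⁻¹ = b := by
    intro a b a' b' ha hb h1 h2 h3
    apply conj_of_ac hZ hy ha hb
    rw [h, ← h1, ← h2, ← h3, MulAut.mul_apply, MulAut.mul_apply, MulAut.mul_apply]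
    congr 3
    exact MulEquiv.symm_apply_apply _ _
  exact
    { x := fun a => key (i1 _) (i6 _) (hc.x a) (hc.z₂ _) (by rw [fd_x, gm_x])
      x' := fun a => key (i2 _) (i8 _) (hc.x' a) (hc.z₂' _) (by rw [fd_x', gm_x'])
      y := fun a => key (i3 _) (i5 _) (hc.y a) (hc.z₁ _) (by rw [fd_y, gm_y])
      y' := fun a => key (i4 _) (i7 _) (hc.y' a) (hc.z₁' _) (by rw [fd_y', gm_y'])
      z₁ := fun a => key (i5 _) (i3 _) (hc.z₁ a) (hc.y _) (by rw [fd_z₁, gm_z₁]; rfl)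
      z₂ := fun a => key (i6 _) (i1 _) (hc.z₂ a) (hc.x _) (by rw [fd_z₂, gm_z₂]; rfl)
      z₁' := fun a => key (i7 _) (i4 _) (hc.z₁' a) (hc.y' _) (by rw [fd_z₁', gm_z₁']; rfl)
      z₂' := fun a => key (i8 _) (i2 _) (hc.z₂' a) (hc.x' _) (by rw [fd_z₂', gm_z₂']; rfl) }

/-- The group of field and graph automorphisms. -/
noncomputable def Psi {A : Type u} [Group A] [IsSimpleGroup A] (S : Std (stdSp F) A) : Subgroup (MulAut A) where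
  carrier := {p | ∃ ρ : F ≃+* F, p = fd nSp S ρ ∨ p = gm S * fd nSp S ρ}
  mul_mem' := by
    rintro _ _ ⟨ρ, rfl | rfl⟩ ⟨τ, rfl | rfl⟩
    · exact ⟨ρ * τ, Or.inl (by rw [map_mul])⟩
    · exact ⟨ρ * τ, Or.inr (by rw [map_mul, ← mul_assoc, ← gm_mul_fd, mul_assoc])⟩
    · exact ⟨ρ * τ, Or.inr (by rw [map_mul, mul_assoc])⟩
    · refine ⟨frob F * ρ * τ, Or.inl ?_⟩
      calc gm S * fd nSp S ρ * (gm S * fd nSp S τ) = gm S * (fd nSp S ρ * gm S) * fd nSp S τ := by group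
        _ = gm S * (gm S * fd nSp S ρ) * fd nSp S τ := by rw [gm_mul_fd]
        _ = (gm S * gm S) * fd nSp S ρ * fd nSp S τ := by group
        _ = _ := by rw [gm_mul_gm, map_mul, map_mul]
  one_mem' := ⟨1, Or.inl (by rw [map_one])⟩
  inv_mem' := by
    rintro _ ⟨ρ, rfl | rfl⟩
    · exact ⟨ρ⁻¹, Or.inl (by rw [map_inv])⟩
    · refine ⟨(frob F)⁻¹ * ρ⁻¹, Or.inr ?_⟩
      rw [mul_inv_rev, map_mul, map_inv, map_inv, ← gm_mul_gm S, eq_comm]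
      calc gm S * ((gm S * gm S)⁻¹ * (fd nSp S ρ)⁻¹) = (fd nSp S ρ * gm S)⁻¹ := by group
        _ = (gm S * fd nSp S ρ)⁻¹ := by rw [gm_mul_fd]
        _ = _ := by group

theorem gm_ne {A : Type u} [Group A] [IsSimpleGroup A] [Finite A] (S : Std (stdSp F) A) (ρ : F ≃+* F) :
    gm S * fd nSp S ρ ≠ 1 := by
  intro h
  have h1 := congrArg (fun p : MulAut A => p (S.m.x 1)) h
  simp only [MulAut.mul_apply, MulAut.one_apply, fd_x, gm_x, map_one, mul_one] at h1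
  rw [z₂_eq_nf S.rel, x_eq_nf S.rel] at h1
  exact zero_ne_one (S.nf_inj h1).1

include hZ in
/-- **Adapted coordinates for `Sp₄`.** -/
theorem exists_adaptedSp [hs : IsSimpleGroup (↥A ⧸ center ↥A)] (hF : 3 ≤ Nat.card F)
    (T : Subgroup G) (hT : IsPGroup 2 T) (hTA : T ≤ normalizer (A : Set G))
    (hTU : ∀ y ∈ T, ∀ u ∈ UG S, y * u * y⁻¹ ∈ UG S) :
    ∃ c : Fˣ × Fˣ, AdaptedSp (tw S (dtw (stdSp F) c.1.ne_zero c.2.ne_zero)) T := by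
  have := finT (F := F)
  set Q := quotStd hZ S with hQ
  obtain ⟨c, hc⟩ := exists_coord hZ S (Psi Q)
    (by
      rintro _ ⟨ρ, rfl | rfl⟩ v hv
      · exact auto_U _ _ hv
      · rw [MulAut.mul_apply]
        exact gm_U _ (auto_U _ _ hv))
    (by
      have k1 : ∀ (ρ : F ≃+* F) (c : Fˣ × Fˣ), ∃ d, fd nSp Q ρ * dg Q c * (fd nSp Q ρ)⁻¹ = dg Q d := fun ρ c =>
        ⟨(Units.map (ρ : F →* F) c.1, Units.map (ρ : F →* F) c.2), by rw [mul_inv_eq_iff_eq_mul, fd_mul_dg]⟩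
      rintro _ ⟨ρ, rfl | rfl⟩ _ ⟨c, rfl⟩
      · obtain ⟨d, hd⟩ := k1 ρ c
        exact ⟨d, hd.symm⟩
      · obtain ⟨d, hd⟩ := k1 ρ c
        refine ⟨(d.1 * d.2, d.1 * d.2⁻¹), ?_⟩
        have e : gm Q * fd nSp Q ρ * dg Q c * (gm Q * fd nSp Q ρ)⁻¹ =
            gm Q * (fd nSp Q ρ * dg Q c * (fd nSp Q ρ)⁻¹) * (gm Q)⁻¹ := by group
        rw [e, hd, eq_mul_inv_iff_mul_eq, gm_mul_dg])
    (by
      rintro _ ⟨ρ, rfl | rfl⟩ _ ⟨τ, rfl | rfl⟩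
      · rw [← map_mul, OutField.comm, map_mul]
      · rw [← mul_assoc, ← gm_mul_fd, mul_assoc, ← map_mul, OutField.comm, map_mul, mul_assoc]
      · rw [mul_assoc, ← map_mul, OutField.comm, map_mul, ← mul_assoc, gm_mul_fd, mul_assoc]
      · calc gm Q * fd nSp Q ρ * (gm Q * fd nSp Q τ) = gm Q * (fd nSp Q ρ * gm Q) * fd nSp Q τ := by group
          _ = gm Q * gm Q * (fd nSp Q ρ * fd nSp Q τ) := by rw [← gm_mul_fd]; group
          _ = gm Q * gm Q * (fd nSp Q τ * fd nSp Q ρ) := by rw [← map_mul, OutField.comm, map_mul]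
          _ = gm Q * (gm Q * fd nSp Q τ) * fd nSp Q ρ := by group
          _ = gm Q * (fd nSp Q τ * gm Q) * fd nSp Q ρ := by rw [gm_mul_fd Q τ]
          _ = gm Q * fd nSp Q τ * (gm Q * fd nSp Q ρ) := by group)
    T hT hTA (by
      intro y hy
      have hU := map_mem_quot hZ S (hTA hy) (hTU y hy)
      obtain ⟨u, hu, c, ρ, e | e⟩ := decompSp Q hF hU
      · exact ⟨u, hu, c, _, ⟨ρ, Or.inl rfl⟩, e⟩
      · exact ⟨u, hu, c, _, ⟨ρ, Or.inr rfl⟩, e⟩)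
  refine ⟨c, fun y hy => ?_⟩
  obtain ⟨u, hu, _, ⟨ρ, rfl | rfl⟩, ⟨k, hk⟩, hn, h⟩ := hc y hy
  · refine ⟨u, by rw [UG_tw]; exact hu, ρ, Or.inl ⟨⟨k, ?_⟩, fld_of_act hZ S c ρ hn h⟩⟩
    apply injective_fd hZ S (N := nSp)
    rw [map_pow, hk, map_one]
  · refine ⟨u, by rw [UG_tw]; exact hu, ρ, Or.inr ⟨?_, gr_of_act hZ S c ρ hn h⟩⟩
    rcases Nat.eq_zero_or_pos k with rfl | hk0
    · rw [pow_zero, pow_one] at hk
      exact absurd hk (gm_ne Q ρ)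
    · obtain ⟨l, rfl⟩ : ∃ l, k = l + 1 := ⟨k - 1, by omega⟩
      refine ⟨l, ?_⟩
      apply injective_fd hZ S (N := nSp)
      have e : (gm Q * fd nSp Q ρ) ^ 2 = fd nSp Q (frob F * ρ * ρ) := by
        rw [pow_two]
        calc gm Q * fd nSp Q ρ * (gm Q * fd nSp Q ρ) = gm Q * (fd nSp Q ρ * gm Q) * fd nSp Q ρ := by group
          _ = (gm Q * gm Q) * fd nSp Q ρ * fd nSp Q ρ := by rw [← gm_mul_fd]; group
          _ = _ := by rw [gm_mul_gm, map_mul, map_mul]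
      rw [map_pow, map_one, ← e, ← pow_mul, ← pow_succ']
      exact hk

end

end Cfsg.Agent.StdRank2.OutSpG
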