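import Cfsg.Agent.StdRank2.OutSpG

/-!
# Graph type involutions of `Sp₄(q)`
-/

set_option autoImplicit false
set_option linter.unusedSectionVars false

namespace Cfsg.Agent.StdRank2.OutSpInv

open Subgroup
open scoped commutatorElement
open Cfsg.Agent.TitsThree.B2Pkg Cfsg.Agent.TitsThree.RankTwoIdentB2
  Cfsg.Agent.TitsThree.CoreB2 Cfsg.Agent.TitsThree.RankTwoIdx Cfsg.Agent.TitsThree.RankTwoRGD
  Cfsg.Agent.TitsThree.StdData
open Cfsg.Agent.StdRank2.OddLift Cfsg.Agent.StdRank2.B2Lift Cfsg.Agent.StdRank2.B2Std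
  Cfsg.Agent.StdRank2.B2Torus Cfsg.Agent.StdRank2.B2Act Cfsg.Agent.StdRank2.B2Act.Std
  Cfsg.Agent.StdRank2.B2Par Cfsg.Agent.StdRank2.B2Par.Std Cfsg.Agent.StdRank2.B2Self
  Cfsg.Agent.StdRank2.OutB2Par Cfsg.Agent.StdRank2.OutB2G Cfsg.Agent.StdRank2.OutL3Outer
  Cfsg.Agent.StdRank2.OutB2Grade Cfsg.Agent.StdRank2.OutB2Aut Cfsg.Agent.StdRank2.OutB2Tw
  Cfsg.Agent.StdRank2.OutB2Data Cfsg.Agent.StdRank2.OutB2Decomp Cfsg.Agent.StdRank2.OutB2Inv
  Cfsg.Agent.StdRank2.OutField Cfsg.Agent.StdRank2.OutB2Good Cfsg.Agent.StdRank2.OutB2Ident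
  Cfsg.Agent.StdRank2.OutSpGraph Cfsg.Agent.StdRank2.OutSpG

universe u

section cox

/-- `t s t = s t s` from `(s t)³ = 1`. -/
theorem braid_of {H : Type*} [Group H] {s t : H} (hs : s * s = 1) (ht : t * t = 1) (h : (s * t) ^ 3 = 1) :
    t * (s * t) = s * (t * s) := by
  have hs' : s⁻¹ = s := inv_eq_of_mul_eq_one_left hs
  have ht' : t⁻¹ = t := inv_eq_of_mul_eq_one_left ht
  have h2 : s * (t * s) = (t * (s * t))⁻¹ := by
    apply eq_inv_of_mul_eq_one_left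
    rw [← h, pow_succ, pow_two]
    group
  rw [h2, mul_inv_rev, mul_inv_rev, hs', ht', mul_assoc]

/-- The Coxeter element of type `A₄` has order dividing `5`. -/
theorem cox5 {H : Type*} [Group H] {a b c d : H} (ha : a * a = 1) (hb : b * b = 1) (hc : c * c = 1) (hd : d * d = 1)
    (hab : (a * b) ^ 3 = 1) (hbc : (b * c) ^ 3 = 1) (hcd : (c * d) ^ 3 = 1) (hac : a * c = c * a)
    (had : a * d = d * a) (hbd : b * d = d * b) : (b * d * (c * a)) ^ 5 = 1 := by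
  have l : ∀ {u v : H}, u = v → ∀ w, u * w = v * w := fun e w => by rw [e]
  have a2 : ∀ w, a * (a * w) = w := fun w => by rw [← mul_assoc, ha, one_mul]
  have b2 : ∀ w, b * (b * w) = w := fun w => by rw [← mul_assoc, hb, one_mul]
  have c2 : ∀ w, c * (c * w) = w := fun w => by rw [← mul_assoc, hc, one_mul]
  have d2 : ∀ w, d * (d * w) = w := fun w => by rw [← mul_assoc, hd, one_mul]
  have ca : ∀ w, c * (a * w) = a * (c * w) := fun w => by rw [← mul_assoc, ← hac, mul_assoc]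
  have da : ∀ w, d * (a * w) = a * (d * w) := fun w => by rw [← mul_assoc, ← had, mul_assoc]
  have db : ∀ w, d * (b * w) = b * (d * w) := fun w => by rw [← mul_assoc, ← hbd, mul_assoc]
  have e1 := braid_of ha hb hab
  have e2 := braid_of hb hc hbc
  have e3 := braid_of hc hd hcd
  have bab : ∀ w, b * (a * (b * w)) = a * (b * (a * w)) := fun w => by
    have := l e1 w
    simpa only [mul_assoc] using this
  have cbc : ∀ w, c * (b * (c * w)) = b * (c * (b * w)) := fun w => by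
    have := l e2 w
    simpa only [mul_assoc] using this
  have dcd : ∀ w, d * (c * (d * w)) = c * (d * (c * w)) := fun w => by
    have := l e3 w
    simpa only [mul_assoc] using this
  have cbac : ∀ w, c * (b * (a * (c * w))) = b * (c * (b * (a * w))) := fun w => by
    rw [← ca, cbc]
  have dcbd : ∀ w, d * (c * (b * (d * w))) = c * (d * (c * (b * w))) := fun w => by
    rw [← db, dcd]
  have dcbad : ∀ w, d * (c * (b * (a * (d * w)))) = c * (d * (c * (b * (a * w)))) := fun w => by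
    rw [← da, dcbd]
  have key : ∀ w, (b * d * (c * a)) * ((b * d * (c * a)) * ((b * d * (c * a)) * ((b * d * (c * a)) *
      ((b * d * (c * a)) * w)))) = w := by
    intro w
    simp only [mul_assoc, a2, b2, c2, d2, ca, da, db, bab, cbc, dcd, cbac, dcbd, dcbad]
  have := key 1
  rw [mul_one] at this
  simpa only [pow_succ, pow_zero, one_mul, mul_assoc] using this

end cox

section five

variable {F : Type*} [Field F] [CharP F 2] {Y : Type*} [Group Y] {m : B2Maps (stdSp F) Y} (h : B2Rel m)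
  {p₀ : (stdSp F).T} (hp : p₀.c ≠ 0)
include h hp

/-- `(y(1) z₁(1) y'(1) z₁'(1))⁵ = 1` -/
theorem five_one : (m.y 1 * m.z₁ (tc 1) * (m.y' 1 * m.z₁' (tc 1))) ^ 5 = 1 := by
  have hn : (-1 : F) = 1 := neg_eq 1
  set o : (stdSp F).T := tc 1 with ho
  have oo : o * o = 1 := two_eq o
  have ow : o.w = 0 := rfl
  have oc : o.c = 1 := rfl
  have sc1 : ∀ a : F, a * a = 1 → (stdSp F).sc a o = o := fun a ha => by
    rw [sc_eq, ha, one_mul]
    rfl
  have z1 : m.z₁ o * m.z₁ o = 1 := by rw [← h.z₁_mul, oo, mul_one' h.z₁_mul]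
  have z2 : m.z₂ o * m.z₂ o = 1 := by rw [← h.z₂_mul, oo, mul_one' h.z₂_mul]
  have z1' : m.z₁' o * m.z₁' o = 1 := by rw [← h.z₁'_mul, oo, mul_one' h.z₁'_mul]
  have z2' : m.z₂' o * m.z₂' o = 1 := by rw [← h.z₂'_mul, oo, mul_one' h.z₂'_mul]
  have hz12 : m.z₁ o * m.z₂ o = m.z₂ o * m.z₁ o := by
    have := h.z₁_z₂ o o
    have e : m.y (-(stdSp F).h o.w o.w) = 1 := by
      show m.y (-0) = 1
      rw [neg_zero, add_zero' h.y_add]
    rwa [e, commutatorElement_eq_one_iff_mul_comm] at this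
  have hz12' : m.z₁' o * m.z₂' o = m.z₂' o * m.z₁' o := by
    have := h.z₂'_z₁' hp o o
    have e : m.y' ((stdSp F).ε⁻¹ * (stdSp F).h o.w o.w) = 1 := by
      show m.y' (_ * 0) = 1
      rw [mul_zero, add_zero' h.y'_add]
    rw [e, commutatorElement_eq_one_iff_mul_comm] at this
    exact this.symm
  have hz21' : m.z₂ o * m.z₁' o = m.z₁' o * m.z₂ o := by
    have := h.z₂_z₁' hp o o
    have e : m.x' (-(stdSp F).h o.w o.w) = 1 := by
      show m.x' (-0) = 1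
      rw [neg_zero, add_zero' h.x'_add]
    rwa [e, commutatorElement_eq_one_iff_mul_comm] at this
  -- the two further reflections
  have c1 : m.x 1 * m.z₂ o * (m.x 1)⁻¹ = m.z₁ o * m.y 1 * m.z₂ o := by
    have e := h.x_z₂ 1 o
    rw [commutatorElement_def, (stdSp F).sc_one] at e
    have e2 : m.y (-((stdSp F).ε * 1 * (stdSp F).σ o.c)) = m.y 1 := by
      congr 1
      show -(-1 * 1 * 1 : F) = 1
      ring
    rw [e2] at e
    rw [← e]; group
  have c2 : m.x' 1 * m.z₂' o * (m.x' 1)⁻¹ = m.z₁' o * m.y' 1 * m.z₂' o := by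
    have e := h.x'_z₂' hp 1 o
    have e1 : (stdSp F).sc (-(stdSp F).σ 1) o = o := sc1 _ (by show -(1 : F) * -1 = 1; ring)
    have e2 : m.y' ((stdSp F).σ 1 * (stdSp F).σ o.c) = m.y' 1 := by
      congr 1
      show (1 * 1 : F) = 1
      ring
    rw [commutatorElement_def, e1, e2] at e
    rw [← e]; group
  have c3 : m.x 1 * m.z₁' o * (m.x 1)⁻¹ = m.z₂' o * m.y' 1 * m.z₁' o := by
    have e := h.x_z₁' hp 1 o
    have e1 : (stdSp F).sc (-(stdSp F).σ 1) o = o := sc1 _ (by show -(1 : F) * -1 = 1; ring)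
    have e2 : m.y' (-((stdSp F).ε⁻¹ * 1 * o.c)) = m.y' 1 := by
      congr 1
      show -((-1)⁻¹ * 1 * 1 : F) = 1
      rw [inv_neg, inv_one]; ring
    rw [commutatorElement_def, e1, e2] at e
    rw [← e]; group
  obtain ⟨s, hs⟩ : ∃ s : Y, s = m.x 1 * m.z₂ o * (m.x 1)⁻¹ := ⟨_, rfl⟩
  obtain ⟨t, ht⟩ : ∃ t : Y, t = m.x' 1 * m.z₂' o * (m.x' 1)⁻¹ := ⟨_, rfl⟩
  have ht3 : t = m.x 1 * m.z₁' o * (m.x 1)⁻¹ := by
    rw [ht, c2, c3]
    have k1 := (h.y'_z₂' hp 1 o).eq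
    have k2 := (h.y'_z₁' hp 1 o).eq
    calc m.z₁' o * m.y' 1 * m.z₂' o = m.z₁' o * (m.y' 1 * m.z₂' o) := by group
      _ = m.z₁' o * m.z₂' o * m.y' 1 := by rw [k1]; group
      _ = m.z₂' o * (m.z₁' o * m.y' 1) := by rw [hz12']; group
      _ = _ := by rw [← k2]; group
  have hss : s * s = 1 := by
    have : s * s = m.x 1 * (m.z₂ o * m.z₂ o) * (m.x 1)⁻¹ := by rw [hs]; group
    rw [this, z2, mul_one, mul_inv_cancel]
  have htt : t * t = 1 := by
    have : t * t = m.x' 1 * (m.z₂' o * m.z₂' o) * (m.x' 1)⁻¹ := by rw [ht]; group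
    rw [this, z2', mul_one, mul_inv_cancel]
  have hε : (stdSp F).ε = 1 := hn
  have r12 : (m.z₂ o * m.z₂' o) ^ 3 = 1 := OutB2Good.braid h ow oc hε
  have r21 : (m.z₂' o * m.z₂ o) ^ 3 = 1 := by
    have e3 : m.z₂' o * m.z₂ o = (m.z₂ o * m.z₂' o)⁻¹ := by
      rw [mul_inv_rev, inv_eq_of_mul_eq_one_left z2, inv_eq_of_mul_eq_one_left z2']
    rw [e3, inv_pow, r12, inv_one]
  have r23 : (m.z₂' o * s) ^ 3 = 1 := by
    have e1 : m.x 1 * m.z₂' o * (m.x 1)⁻¹ = m.z₂' o := by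
      rw [(h.x_z₂' hp 1 o).eq, mul_inv_cancel_right]
    have e2 := conj_pow3 (n := m.x 1) r21
    rwa [e1, ← hs] at e2
  have r01 : (t * m.z₂ o) ^ 3 = 1 := by
    have e1 : m.x' 1 * m.z₂ o * (m.x' 1)⁻¹ = m.z₂ o := by
      rw [(h.x'_z₂ 1 o).eq, mul_inv_cancel_right]
    have e2 := conj_pow3 (n := m.x' 1) r21
    rwa [e1, ← ht] at e2
  have r13 : m.z₂ o * s = s * m.z₂ o := by
    rw [hs, c1]
    calc m.z₂ o * (m.z₁ o * m.y 1 * m.z₂ o) = (m.z₂ o * m.z₁ o) * m.y 1 * m.z₂ o := by group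
      _ = m.z₁ o * (m.z₂ o * m.y 1) * m.z₂ o := by rw [← hz12]; group
      _ = _ := by rw [← (h.y_z₂ 1 o).eq]; group
  have r02 : t * m.z₂' o = m.z₂' o * t := by
    rw [ht, c2]
    calc m.z₁' o * m.y' 1 * m.z₂' o * m.z₂' o = m.z₁' o * (m.y' 1 * m.z₂' o) * m.z₂' o := by group
      _ = (m.z₁' o * m.z₂' o) * m.y' 1 * m.z₂' o := by rw [(h.y'_z₂' hp 1 o).eq]; group
      _ = _ := by rw [hz12']; group
  have r03 : t * s = s * t := by
    rw [ht3, hs]
    calc m.x 1 * m.z₁' o * (m.x 1)⁻¹ * (m.x 1 * m.z₂ o * (m.x 1)⁻¹) = m.x 1 * (m.z₁' o * m.z₂ o) * (m.x 1)⁻¹ := by group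
      _ = _ := by rw [← hz21']; group
  have e := cox5 htt z2 z2' hss r01 r12 r23 r02 r03 r13
  have e1 : m.y 1 * m.z₁ o = m.z₂ o * s := by
    rw [hs, c1]
    calc m.y 1 * m.z₁ o = m.z₁ o * m.y 1 * (m.z₂ o * m.z₂ o) := by rw [z2, mul_one]; exact (h.y_z₁ 1 o).eq
      _ = (m.z₁ o * (m.y 1 * m.z₂ o)) * m.z₂ o := by group
      _ = ((m.z₁ o * m.z₂ o) * m.y 1) * m.z₂ o := by rw [(h.y_z₂ 1 o).eq]; group
      _ = _ := by rw [hz12]; group
  have e2 : m.y' 1 * m.z₁' o = m.z₂' o * t := by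
    rw [← r02, ht, c2]
    calc m.y' 1 * m.z₁' o = m.z₁' o * m.y' 1 * (m.z₂' o * m.z₂' o) := by
          rw [z2', mul_one]; exact (h.y'_z₁' hp 1 o).eq
      _ = _ := by group
  rw [e1, e2]
  exact e

end five

section general

variable {F : Type*} [Field F] [CharP F 2] {Y : Type*} [Group Y] {m : B2Maps (stdSp F) Y} (h : B2Rel m)
  {p₀ : (stdSp F).T} (hp : p₀.c ≠ 0)

/-- the involutions centralised by a graph involution -/
def zz (m : B2Maps (stdSp F) Y) (ρ : F ≃+* F) (b : F) : Y := m.y b * m.z₁ (tc (ρ b * ρ b))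

/-- the opposite ones -/
def zz' (m : B2Maps (stdSp F) Y) (ρ : F ≃+* F) (b : F) : Y := m.y' b * m.z₁' (tc (ρ b * ρ b))

include h

theorem zz_add (ρ : F ≃+* F) (b c : F) : zz m ρ (b + c) = zz m ρ b * zz m ρ c := by
  unfold zz
  have e : tc (ρ (b + c) * ρ (b + c)) = tc (ρ b * ρ b) * tc (ρ c * ρ c) := by
    rw [← tc_mul, map_add, CharTwo.add_mul_self]
  rw [h.y_add, e, h.z₁_mul]
  calc m.y b * m.y c * (m.z₁ _ * m.z₁ _) = m.y b * (m.y c * m.z₁ (tc (ρ b * ρ b))) * m.z₁ (tc (ρ c * ρ c)) := by group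
    _ = _ := by rw [(h.y_z₁ c (tc (ρ b * ρ b))).eq]; group

include hp

theorem zz'_add (ρ : F ≃+* F) (b c : F) : zz' m ρ (b + c) = zz' m ρ b * zz' m ρ c := by
  unfold zz'
  have e : tc (ρ (b + c) * ρ (b + c)) = tc (ρ b * ρ b) * tc (ρ c * ρ c) := by
    rw [← tc_mul, map_add, CharTwo.add_mul_self]
  rw [h.y'_add, e, h.z₁'_mul]
  calc m.y' b * m.y' c * (m.z₁' _ * m.z₁' _) = m.y' b * (m.y' c * m.z₁' (tc (ρ b * ρ b))) * m.z₁' (tc (ρ c * ρ c)) := by
        group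
    _ = _ := by rw [(h.y'_z₁' hp c (tc (ρ b * ρ b))).eq]; group

omit hp in
theorem zz_zero (ρ : F ≃+* F) : zz m ρ 0 = 1 := by
  unfold zz
  rw [map_zero, mul_zero, tc_one, add_zero' h.y_add, mul_one' h.z₁_mul, mul_one]

theorem zz'_zero (ρ : F ≃+* F) : zz' m ρ 0 = 1 := by
  unfold zz'
  rw [map_zero, mul_zero, tc_one, add_zero' h.y'_add, mul_one' h.z₁'_mul, mul_one]

omit hp in
theorem zz_two (ρ : F ≃+* F) (b : F) : zz m ρ b * zz m ρ b = 1 := by
  rw [← zz_add h, CharTwo.add_self_eq_zero, zz_zero h]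

theorem zz'_two (ρ : F ≃+* F) (b : F) : zz' m ρ b * zz' m ρ b = 1 := by
  rw [← zz'_add h hp, CharTwo.add_self_eq_zero, zz'_zero h hp]

theorem five (ρ : F ≃+* F) {b : F} (hb : b ≠ 0) : (zz m ρ b * zz' m ρ b⁻¹) ^ 5 = 1 := by
  have hρ : ρ b ≠ 0 := (map_ne_zero_iff ρ ρ.injective).2 hb
  let t : Tw (stdSp F) := dtw (stdSp F) hρ (mul_ne_zero hb (inv_ne_zero hρ))
  have h1 := five_one (t.rel h hp) hp
  have e1 : (t.maps m).y 1 = m.y b := by
    rw [t.maps_y]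
    congr 1
    show ρ b * (b * (ρ b)⁻¹) * 1 = b
    field_simp
  have e2 : (t.maps m).z₁ (tc 1) = m.z₁ (tc (ρ b * ρ b)) := by
    rw [t.maps_z₁, sc_eq]
    congr 2
    show ρ b * ρ b * 1 = _
    rw [mul_one]
  have e3 : (t.maps m).y' 1 = m.y' b⁻¹ := by
    rw [t.maps_y']
    congr 1
    show (ρ b * (b * (ρ b)⁻¹))⁻¹ * 1 = b⁻¹
    field_simp
  have e4 : (t.maps m).z₁' (tc 1) = m.z₁' (tc (ρ b⁻¹ * ρ b⁻¹)) := by
    rw [t.maps_z₁', sc_eq]
    congr 2
    show (ρ b)⁻¹ * (ρ b)⁻¹ * 1 = _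
    rw [mul_one, map_inv₀]
  rw [e1, e2, e3, e4] at h1
  exact h1

end general

section perfect

variable {F : Type*} [Field F] [CharP F 2]

/-- **Perfect groups from a pair of additive families.** -/
theorem perfect_of_five {H : Type*} [Group H] (f g : F → H) (hf : ∀ a b, f (a + b) = f a * f b)
    (hg : ∀ a b, g (a + b) = g a * g b) (h5 : ∀ b, b ≠ 0 → (f b * g b⁻¹) ^ 5 = 1)
    {l : F} (l0 : l ≠ 0) (l1 : l ≠ 1) (l2 : 1 + l + l * l ≠ 0)
    (htop : closure {x | ∃ b, x = f b ∨ x = g b} = ⊤) : _root_.commutator H = ⊤ := by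
  let π : H →* Abelianization H := Abelianization.of
  have f2 : ∀ b, f b * f b = 1 := fun b => by rw [← hf, CharTwo.add_self_eq_zero, add_zero' hf]
  have g2 : ∀ b, g b * g b = 1 := fun b => by rw [← hg, CharTwo.add_self_eq_zero, add_zero' hg]
  have k1 : ∀ b, b ≠ 0 → π (f b) = π (g b⁻¹) := by
    intro b hb
    have i1 : (π (f b) * π (g b⁻¹)) ^ 5 = 1 := by rw [← map_mul, ← map_pow, h5 b hb, map_one]
    have i2 : (π (f b) * π (g b⁻¹)) ^ 2 = 1 := by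
      rw [mul_pow, pow_two, pow_two, ← map_mul, ← map_mul, f2, g2, map_one, mul_one]
    have i3 : π (f b) * π (g b⁻¹) = 1 := by
      have : (π (f b) * π (g b⁻¹)) ^ 5 = ((π (f b) * π (g b⁻¹)) ^ 2) ^ 2 * (π (f b) * π (g b⁻¹)) := by
        rw [← pow_mul, ← pow_succ]
      rw [this, i2, one_pow, one_mul] at i1
      exact i1
    have i4 : π (g b⁻¹) * π (g b⁻¹) = 1 := by rw [← map_mul, g2, map_one]
    calc π (f b) = π (f b) * (π (g b⁻¹) * π (g b⁻¹)) := by rw [i4, mul_one]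
      _ = π (f b) * π (g b⁻¹) * π (g b⁻¹) := by rw [mul_assoc]
      _ = _ := by rw [i3, one_mul]
  -- `π (g ((b + c)⁻¹ + b⁻¹ + c⁻¹)) = 1`
  have k2 : ∀ b c, b ≠ 0 → c ≠ 0 → b + c ≠ 0 → π (g ((b + c)⁻¹ + b⁻¹ + c⁻¹)) = 1 := by
    intro b c hb hc hbc
    rw [hg, hg, map_mul, map_mul, ← k1 _ hb, ← k1 _ hc, ← k1 _ hbc, hf, map_mul]
    have i1 : π (f b) * π (f b) = 1 := by rw [← map_mul, f2, map_one]
    have i2 : π (f c) * π (f c) = 1 := by rw [← map_mul, f2, map_one]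
    calc π (f b) * π (f c) * π (f b) * π (f c) = (π (f b) * π (f b)) * (π (f c) * π (f c)) := by
          rw [mul_assoc, mul_assoc, mul_left_comm (π (f c)), ← mul_assoc]
      _ = 1 := by rw [i1, i2, mul_one]
  have hl : 1 + l ≠ 0 := by
    intro h0
    exact l1 (CharTwo.add_eq_zero.1 h0).symm
  have k3 : ∀ d, d ≠ 0 → π (g d) = 1 := by
    intro d hd
    set κ : F := (1 + l)⁻¹ + 1 + l⁻¹ with hκ
    have hκ0 : κ ≠ 0 := by
      have e : κ = (1 + l + l * l) * ((1 + l)⁻¹ * l⁻¹) := by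
        rw [hκ]
        field_simp
        have := CharTwo.add_self_eq_zero l
        linear_combination this
      rw [e]
      exact mul_ne_zero l2 (mul_ne_zero (inv_ne_zero hl) (inv_ne_zero l0))
    have hb : κ * d⁻¹ ≠ 0 := mul_ne_zero hκ0 (inv_ne_zero hd)
    have i1 := k2 (κ * d⁻¹) (κ * d⁻¹ * l) hb (mul_ne_zero hb l0) (by
      have : κ * d⁻¹ + κ * d⁻¹ * l = κ * d⁻¹ * (1 + l) := by ring
      rw [this]
      exact mul_ne_zero hb hl)
    have e : (κ * d⁻¹ + κ * d⁻¹ * l)⁻¹ + (κ * d⁻¹)⁻¹ + (κ * d⁻¹ * l)⁻¹ = d := by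
      have e1 : κ * d⁻¹ + κ * d⁻¹ * l = κ * d⁻¹ * (1 + l) := by ring
      have e2 : (κ * d⁻¹ * (1 + l))⁻¹ + (κ * d⁻¹)⁻¹ + (κ * d⁻¹ * l)⁻¹ = κ⁻¹ * d * ((1 + l)⁻¹ + 1 + l⁻¹) := by
        simp only [mul_inv, inv_inv]
        ring
      rw [e1, e2, ← hκ]
      field_simp
    rw [e] at i1
    exact i1
  have k4 : ∀ d, π (g d) = 1 := by
    intro d
    by_cases hd : d = 0
    · rw [hd, add_zero' hg, map_one]
    · exact k3 d hd
  have k5 : ∀ d, π (f d) = 1 := by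
    intro d
    by_cases hd : d = 0
    · rw [hd, add_zero' hf, map_one]
    · rw [k1 d hd, k4]
  rw [eq_top_iff, ← htop, closure_le]
  rintro x ⟨b, rfl | rfl⟩
  · show f b ∈ _root_.commutator H
    rw [← Abelianization.ker_of]
    exact k5 b
  · show g b ∈ _root_.commutator H
    rw [← Abelianization.ker_of]
    exact k4 b

end perfect

section G

variable {F : Type*} [Field F] [Finite F] [CharP F 2] {G : Type u} [Group G] {A : Subgroup G}
  {S : Std (stdSp F) ↥A} {f₀ : G} {ρ : F ≃+* F}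

/-- normal forms in `G` -/
def sG (S : Std (stdSp F) ↥A) (a c b d : F) : G := nG S a (tc c) b (tc d)

theorem sG_mem (a c b d : F) : sG S a c b d ∈ UG S := nG_mem _ _ _ _

theorem exists_sG {g : G} (hg : g ∈ UG S) : ∃ a c b d, g = sG S a c b d := by
  obtain ⟨a, p, b, q, rfl⟩ := exists_nG hg
  exact ⟨a, p.c, b, q.c, by unfold sG; rw [tc_eta, tc_eta]⟩

theorem sG_mul (a c b d a' c' b' d' : F) : sG S a c b d * sG S a' c' b' d' =
    sG S (a + a') (c + a' * a' * d + c') (b + a' * d + b') (d + d') := by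
  unfold sG
  rw [nG_mul]
  congr 1
  · apply T_ext
    rw [tr_eq, inv_one, mul_one, sc_eq]
    show c + -a' * -a' * d - 0 + c' - 0 = c + a' * a' * d + c'
    ring
  · show b + -1 * a' * d + 0 + b' = b + a' * d + b'
    rw [neg_one_mul, neg_eq, add_zero]
  · apply T_ext
    show d + d' - 0 = d + d'
    rw [sub_zero]

theorem sG_one : sG S 0 0 0 0 = 1 := nG_one

theorem sG_inj {a c b d a' c' b' d' : F} (h : sG S a c b d = sG S a' c' b' d') :
    a = a' ∧ c = c' ∧ b = b' ∧ d = d' := by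
  obtain ⟨h1, h2, h3, h4⟩ := nG_inj h
  exact ⟨h1, congrArg PQDatum.T.c h2, h3, congrArg PQDatum.T.c h4⟩

theorem sG_x (a : F) : sG S a 0 0 0 = S.m.x a := nG_x a
theorem sG_y (a : F) : sG S 0 0 a 0 = S.m.y a := nG_y a
theorem sG_z₁ (c : F) : sG S 0 c 0 0 = S.m.z₁ (tc c) := nG_z₁ _
theorem sG_z₂ (c : F) : sG S 0 0 0 c = S.m.z₂ (tc c) := nG_z₂ _

theorem sG_eq (a c b d : F) : sG S a c b d = sG S a 0 0 0 * sG S 0 c 0 0 * sG S 0 0 b 0 * sG S 0 0 0 d := by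
  rw [sG_mul, sG_mul, sG_mul]
  congr 1 <;> ring

theorem gr_sG (hf₀ : Gr S f₀ ρ) (a c b d : F) : f₀ * sG S a c b d * f₀⁻¹ =
    sG S (ρ d) (ρ b * ρ b + ρ d * ρ d * (ρ a * ρ a)) (ρ c + ρ d * (ρ a * ρ a)) (ρ a * ρ a) := by
  have e : f₀ * sG S a c b d * f₀⁻¹ = f₀ * S.m.x a * f₀⁻¹ * (f₀ * S.m.z₁ (tc c) * f₀⁻¹) *
      (f₀ * S.m.y b * f₀⁻¹) * (f₀ * S.m.z₂ (tc d) * f₀⁻¹) := by
    rw [sG_eq, sG_x, sG_y, sG_z₁, sG_z₂]
    group
  rw [e, hf₀.x, hf₀.z₁, hf₀.y, hf₀.z₂, ← sG_x, ← sG_y, ← sG_z₁, ← sG_z₂, sG_mul, sG_mul, sG_mul]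
  congr 1 <;> (try simp only [tc_c]) <;> ring

theorem gr_norm (hf₀ : Gr S f₀ ρ) {u : G} (hu : u ∈ UG S) : f₀ * u * f₀⁻¹ ∈ UG S := by
  obtain ⟨a, c, b, d, rfl⟩ := exists_sG hu
  rw [gr_sG hf₀]
  exact sG_mem _ _ _ _

/-- the square of an element of graph type -/
theorem gr_mul (h : Gr S f₀ ρ) : Fld nSp S (f₀ * f₀) (frob F * ρ * ρ) := by
  have key : ∀ a : G, f₀ * f₀ * a * (f₀ * f₀)⁻¹ = f₀ * (f₀ * a * f₀⁻¹) * f₀⁻¹ := fun a => by group
  have e1 : ∀ a, (frob F * ρ * ρ) a = ρ (ρ a * ρ a) := by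
    intro a
    show frob F (ρ (ρ a)) = _
    rw [frob_apply, map_mul]
  exact
    { x := fun a => by rw [key, h.x, h.z₂, e1]; rfl
      x' := fun a => by rw [key, h.x', h.z₂', e1]; rfl
      y := fun a => by rw [key, h.y, h.z₁, e1]; rfl
      y' := fun a => by rw [key, h.y', h.z₁', e1]; rfl
      z₁ := fun a => by rw [key, h.z₁, h.y, T_sp, e1, map_mul]
      z₂ := fun a => by rw [key, h.z₂, h.x, T_sp, e1, map_mul]
      z₁' := fun a => by rw [key, h.z₁', h.y', T_sp, e1, map_mul]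
      z₂' := fun a => by rw [key, h.z₂', h.x', T_sp, e1, map_mul] }

section invol

variable (hf₀ : Gr S f₀ ρ) (hff : f₀ * f₀ = 1)
include hf₀ hff

/-- **All involutions of `U f₀` are conjugate under `U`, graph type.** -/
theorem conj_gr {v : G} (hv : v ∈ UG S) (hvf : v * f₀ * (v * f₀) = 1) :
    ∃ w ∈ UG S, w * (v * f₀) * w⁻¹ = f₀ := by
  obtain ⟨a, c, b, d, rfl⟩ := exists_sG hv
  have inv : ∀ a c b d a' c' b' d' : F, sG S a c b d * sG S a' c' b' d' = 1 →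
      (sG S a c b d)⁻¹ = sG S a' c' b' d' := fun _ _ _ _ _ _ _ _ h => inv_eq_of_mul_eq_one_right h
  have hsq := (cocycle_iff hff).1 hvf
  rw [gr_sG hf₀, sG_mul, ← sG_one (S := S)] at hsq
  obtain ⟨-, -, -, i4⟩ := sG_inj hsq
  have i4' : d + ρ a * ρ a = 0 := i4
  -- first step
  have e1 : sG S a 0 0 0 * (sG S a c b d * f₀) * (sG S a 0 0 0)⁻¹ = sG S 0 c b 0 * f₀ := by
    rw [step, gr_sG hf₀, inv _ _ _ _ 0 0 0 (ρ a * ρ a), sG_mul, sG_mul]
    · congr 2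
      · rw [CharTwo.add_self_eq_zero, add_zero]
      · simp
      · simp
      · linear_combination i4'
    · rw [sG_mul, ← sG_one (S := S)]
      congr 1
      · simp
      · simp
      · simp
      · exact CharTwo.add_self_eq_zero _
  have hsq2 : sG S 0 c b 0 * f₀ * (sG S 0 c b 0 * f₀) = 1 := by
    rw [← e1]
    have : ∀ w x : G, x * x = 1 → w * x * w⁻¹ * (w * x * w⁻¹) = 1 := by
      intro w x hx
      have : w * x * w⁻¹ * (w * x * w⁻¹) = w * (x * x) * w⁻¹ := by group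
      rw [this, hx, mul_one, mul_inv_cancel]
    exact this _ _ hvf
  have h3 := (cocycle_iff hff).1 hsq2
  rw [gr_sG hf₀, sG_mul, ← sG_one (S := S)] at h3
  obtain ⟨-, -, j3, -⟩ := sG_inj h3
  have j3' : b + ρ c = 0 := by simpa using j3
  have e2 : sG S 0 c 0 0 * (sG S 0 c b 0 * f₀) * (sG S 0 c 0 0)⁻¹ = f₀ := by
    rw [step, gr_sG hf₀, inv _ _ _ _ 0 0 (ρ c) 0, sG_mul, sG_mul]
    · have : sG S (0 + 0 + 0) (c + 0 * 0 * 0 + c + 0 * 0 * (0 + 0) + 0) (0 + 0 * 0 + b + 0 * (0 + 0) + ρ c)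
          (0 + 0 + 0) = 1 := by
        rw [← sG_one (S := S)]
        congr 1
        · simp
        · simp [CharTwo.add_self_eq_zero]
        · simpa using j3'
        · simp
      rw [this, one_mul]
    · rw [sG_mul, ← sG_one (S := S)]
      congr 1
      · simp
      · simp
      · simp [CharTwo.add_self_eq_zero]
      · simp
  refine ⟨sG S 0 c 0 0 * sG S a 0 0 0, mul_mem (sG_mem _ _ _ _) (sG_mem _ _ _ _), ?_⟩
  have e3 : sG S 0 c 0 0 * sG S a 0 0 0 * (sG S a c b d * f₀) * (sG S 0 c 0 0 * sG S a 0 0 0)⁻¹ =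
      sG S 0 c 0 0 * (sG S a 0 0 0 * (sG S a c b d * f₀) * (sG S a 0 0 0)⁻¹) * (sG S 0 c 0 0)⁻¹ := by group
  rw [e3, e1, e2]

/-- **`Good` for graph type involutions.** -/
theorem good_gr (hF : 3 ≤ Nat.card F) (hρ : frob F * ρ * ρ = 1) : Good f₀ := by
  have hr := S.rel
  have hp := S.hp₀
  have hρρ : ∀ a, ρ (ρ a * ρ a) = a := by
    intro a
    have := congrArg (fun τ : F ≃+* F => τ a) hρ
    have h2 : frob F (ρ (ρ a)) = a := this
    rw [frob_apply] at h2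
    rw [map_mul, h2]
  have hcoe : ∀ {a b : ↥A}, a = b → (a : G) = b := fun e => congrArg Subtype.val e
  set X : Set G := {g | ∃ b : F, g = (zz S.m ρ b : ↥A) ∨ g = (zz' S.m ρ b : ↥A)} with hX
  have mz : ∀ b, ((zz S.m ρ b : ↥A) : G) ∈ closure X := fun b => subset_closure ⟨b, Or.inl rfl⟩
  have mz' : ∀ b, ((zz' S.m ρ b : ↥A) : G) ∈ closure X := fun b => subset_closure ⟨b, Or.inr rfl⟩
  have hcomm : ∀ b, ((zz S.m ρ b : ↥A) : G) * f₀ = f₀ * (zz S.m ρ b : ↥A) := by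
    intro b
    have e1 : f₀ * ((zz S.m ρ b : ↥A) : G) * f₀⁻¹ = (zz S.m ρ b : ↥A) := by
      unfold zz
      rw [Subgroup.coe_mul]
      have : f₀ * (S.m.y b * S.m.z₁ (tc (ρ b * ρ b))) * f₀⁻¹ =
          f₀ * S.m.y b * f₀⁻¹ * (f₀ * S.m.z₁ (tc (ρ b * ρ b)) * f₀⁻¹) := by group
      rw [this, hf₀.y, hf₀.z₁, tc_c, hρρ, ← Subgroup.coe_mul, ← Subgroup.coe_mul]
      exact hcoe (hr.y_z₁ b (tc (ρ b * ρ b))).eq.symm
    exact (mul_inv_eq_iff_eq_mul.1 e1).symm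
  have hcomm' : ∀ b, ((zz' S.m ρ b : ↥A) : G) * f₀ = f₀ * (zz' S.m ρ b : ↥A) := by
    intro b
    have e1 : f₀ * ((zz' S.m ρ b : ↥A) : G) * f₀⁻¹ = (zz' S.m ρ b : ↥A) := by
      unfold zz'
      rw [Subgroup.coe_mul]
      have : f₀ * (S.m.y' b * S.m.z₁' (tc (ρ b * ρ b))) * f₀⁻¹ =
          f₀ * S.m.y' b * f₀⁻¹ * (f₀ * S.m.z₁' (tc (ρ b * ρ b)) * f₀⁻¹) := by group
      rw [this, hf₀.y', hf₀.z₁', tc_c, hρρ, ← Subgroup.coe_mul, ← Subgroup.coe_mul]
      exact hcoe (hr.y'_z₁' hp b (tc (ρ b * ρ b))).eq.symm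
    exact (mul_inv_eq_iff_eq_mul.1 e1).symm
  obtain ⟨l, l0, l1⟩ := exists_ne01 (F := F) hF
  have l2 : 1 + l + l * l ≠ 0 := by
    intro h0
    have hll : l * l = 1 + l := by
      have := CharTwo.add_self_eq_zero (1 + l)
      linear_combination h0 - this
    have h3 : ρ l * ρ l = 1 + ρ l := by rw [← map_mul, hll, map_add, map_one]
    have h4 : (ρ l + l) * (ρ l + (l + 1)) = 0 := by
      have e1 : (ρ l + l) * (ρ l + (l + 1)) = ρ l * ρ l + l * l + l + ρ l + (ρ l * l + l * ρ l) := by ring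
      have e2 : ρ l * l + l * ρ l = 0 := by rw [mul_comm l]; exact CharTwo.add_self_eq_zero _
      rw [e1, e2, h3, hll]
      have e3 := CharTwo.add_self_eq_zero (1 + l + ρ l)
      linear_combination e3
    have h5 : ρ (ρ l) = l := by
      rcases mul_eq_zero.1 h4 with h | h
      · have e : ρ l = l := CharTwo.add_eq_zero.1 h
        rw [e, e]
      · have e : ρ l = l + 1 := CharTwo.add_eq_zero.1 h
        rw [e, map_add, e, map_one, add_assoc, CharTwo.add_self_eq_zero, add_zero]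
    have h6 := hρρ l
    rw [map_mul, h5] at h6
    rcases mul_eq_zero.1 (show l * (l - 1) = 0 by linear_combination h6) with h | h
    · exact l0 h
    · exact l1 (sub_eq_zero.1 h)
  have hz1 : ((zz S.m ρ 1 : ↥A) : G) = sG S 0 1 1 0 := by
    unfold zz
    rw [Subgroup.coe_mul, map_one, mul_one, ← sG_y, ← sG_z₁, sG_mul]
    congr 1 <;> ring
  set B := closure X with hB
  let f : F → B := fun b => ⟨(zz S.m ρ b : ↥A), mz b⟩
  let g : F → B := fun b => ⟨(zz' S.m ρ b : ↥A), mz' b⟩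
  have hper : ⁅B, B⁆ = B := by
    have htop : closure {x : B | ∃ b, x = f b ∨ x = g b} = ⊤ := by
      rw [← closure_closure_coe_preimage (k := X)]
      congr 1
      ext x
      constructor
      · rintro ⟨b, rfl | rfl⟩
        · exact ⟨b, Or.inl rfl⟩
        · exact ⟨b, Or.inr rfl⟩
      · rintro ⟨b, e | e⟩
        · exact ⟨b, Or.inl (Subtype.ext e)⟩
        · exact ⟨b, Or.inr (Subtype.ext e)⟩
    have hcomm := perfect_of_five f g (fun a b => Subtype.ext (hcoe (zz_add hr ρ a b)))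
      (fun a b => Subtype.ext (hcoe (zz'_add hr hp ρ a b)))
      (fun b hb => Subtype.ext (hcoe (five hr hp ρ hb))) l0 l1 l2 htop
    have h := Subgroup.map_subtype_commutator B
    rw [hcomm, ← MonoidHom.range_eq_map, Subgroup.range_subtype] at h
    exact h.symm
  refine ⟨B, hper, centralizes_closure ?_, closure_two ?_, (zz S.m ρ 1 : ↥A), mz 1, hcoe (zz_two hr ρ 1), ?_, ?_⟩
  · rintro _ ⟨b, rfl | rfl⟩
    · exact hcomm b
    · exact hcomm' b
  · rintro _ ⟨b, rfl | rfl⟩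
    · exact ⟨1, by rw [pow_one, pow_two]; exact hcoe (zz_two hr ρ b)⟩
    · exact ⟨1, by rw [pow_one, pow_two]; exact hcoe (zz'_two hr hp ρ b)⟩
  · intro h0
    rw [hz1, ← sG_one (S := S)] at h0
    exact one_ne_zero (sG_inj h0).2.1
  · have hv : ((zz S.m ρ 1 : ↥A) : G) * f₀ * (((zz S.m ρ 1 : ↥A) : G) * f₀) = 1 := by
      have q := hcoe (zz_two hr ρ 1)
      have f1 := hcomm 1
      rw [Subgroup.coe_mul] at q
      generalize ((zz S.m ρ 1 : ↥A) : G) = g at q f1 ⊢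
      calc g * f₀ * (g * f₀) = g * (f₀ * g) * f₀ := by group
        _ = (g * g) * (f₀ * f₀) := by rw [← f1]; group
        _ = 1 := by rw [hff, mul_one]; exact q
    obtain ⟨w, -, hw⟩ := conj_gr hf₀ hff (by rw [hz1]; exact sG_mem _ _ _ _) hv
    refine ⟨w⁻¹, ?_⟩
    rw [← hcomm 1]
    calc w⁻¹ * f₀ * w⁻¹⁻¹ = w⁻¹ * (w * (((zz S.m ρ 1 : ↥A) : G) * f₀) * w⁻¹) * w⁻¹⁻¹ := by rw [hw]
      _ = _ := by group

end invol

end G

end Cfsg.Agent.StdRank2.OutSpInv
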