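import Cfsg.Agent.StdRank2.OutSpInv

/-!
# `StepFour.Outer` for type `Sp₄(q)`
-/

set_option autoImplicit false
set_option linter.unusedSectionVars false

namespace Cfsg.Agent.StdRank2.OutSpOuter

open Subgroup
open scoped commutatorElement
open Cfsg.Agent.TitsThree.B2Pkg Cfsg.Agent.TitsThree.RankTwoIdentB2
  Cfsg.Agent.TitsThree.CoreB2 Cfsg.Agent.TitsThree.RankTwoIdx Cfsg.Agent.TitsThree.RankTwoRGD
  Cfsg.Agent.TitsThree.StdData
open Cfsg.Agent.StdRank2.OddLift Cfsg.Agent.StdRank2.B2Lift Cfsg.Agent.StdRank2.B2Std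
  Cfsg.Agent.StdRank2.B2Torus Cfsg.Agent.StdRank2.B2Act Cfsg.Agent.StdRank2.B2Act.Std
  Cfsg.Agent.StdRank2.B2Par Cfsg.Agent.StdRank2.B2Par.Std Cfsg.Agent.StdRank2.B2Self
  Cfsg.Agent.StdRank2.OutB2Par Cfsg.Agent.StdRank2.OutB2G Cfsg.Agent.StdRank2.OutL3Outer
  Cfsg.Agent.StdRank2.OutB2Grade Cfsg.Agent.StdRank2.OutB2Aut Cfsg.Agent.StdRank2.OutB2Tw
  Cfsg.Agent.StdRank2.OutB2Data Cfsg.Agent.StdRank2.OutB2Decomp Cfsg.Agent.StdRank2.OutB2Inv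
  Cfsg.Agent.StdRank2.OutField Cfsg.Agent.StdRank2.OutB2Good Cfsg.Agent.StdRank2.OutB2Ident
  Cfsg.Agent.StdRank2.OutSpGraph Cfsg.Agent.StdRank2.OutSpG Cfsg.Agent.StdRank2.OutSpInv
  Cfsg.Agent.StdRank2.OutB2Outer

universe u

variable {F : Type*} [Field F] [Finite F] [CharP F 2] {G : Type u} [Group G] [Finite G] {A : Subgroup G}
  {S : Std (stdSp F) ↥A}

/-- **Involutions of an adapted 2-group, `Sp₄`.** -/
theorem involSp (hZ : Odd (Nat.card (center ↥A))) {T : Subgroup G} (had : AdaptedSp S T) {f : G} (hf : f ∈ T)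
    (hff : f * f = 1) :
    (∃ v ∈ UG S, v⁻¹ * f ∈ centralizer (A : Set G)) ∨
      (∃ v ∈ UG S, ∃ ρ : F ≃+* F, ρ ≠ 1 ∧ ρ * ρ = 1 ∧ Fld nSp S (v⁻¹ * f) ρ ∧ v⁻¹ * f * (v⁻¹ * f) = 1) ∨
      ∃ v ∈ UG S, ∃ ρ : F ≃+* F, frob F * ρ * ρ = 1 ∧ Gr S (v⁻¹ * f) ρ ∧ v⁻¹ * f * (v⁻¹ * f) = 1 := by
  have hf' : f⁻¹ = f := inv_eq_of_mul_eq_one_left hff
  have hkey : ∀ u : G, u * f * (u * f) = u * (u⁻¹ * (u * f * u * (u * f)⁻¹) * u) := by
    intro u
    have : u * f * (u * f) = u * (f * u * f) := by group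
    rw [this]
    congr 1
    rw [mul_inv_rev, hf']
    group
  obtain ⟨u, hu, ρ, ⟨-, h⟩ | ⟨-, h⟩⟩ := had f hf
  · have h2 := fld_mul h h
    have hmem : u * f * (u * f) ∈ UG S := by
      rw [hkey]
      exact mul_mem hu (mul_mem (mul_mem (inv_mem hu) (fld_norm h hu)) hu)
    obtain ⟨h3, h4⟩ := eq_one_of_fld hZ hmem h2
    by_cases h1 : ρ = 1
    · left
      subst h1
      exact ⟨u⁻¹, inv_mem hu, by rw [inv_inv]; exact fld_cent h⟩
    · right; left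
      exact ⟨u⁻¹, inv_mem hu, ρ, h1, h4, by rw [inv_inv]; exact h, by rw [inv_inv]; exact h3⟩
  · have h2 := gr_mul h
    have hmem : u * f * (u * f) ∈ UG S := by
      rw [hkey]
      exact mul_mem hu (mul_mem (mul_mem (inv_mem hu) (gr_norm h hu)) hu)
    obtain ⟨h3, h4⟩ := eq_one_of_fld hZ hmem h2
    right; right
    exact ⟨u⁻¹, inv_mem hu, ρ, h4, by rw [inv_inv]; exact h, by rw [inv_inv]; exact h3⟩

/-- **`Good` for outer involutions, `Sp₄`.** -/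
theorem good_Sp (hF : 3 ≤ Nat.card F) (hZ : Odd (Nat.card (center ↥A))) {T : Subgroup G} (had : AdaptedSp S T)
    {f : G} (hfT : f ∈ T) (hff : f * f = 1) (hout : ¬ ∃ a ∈ A, a⁻¹ * f ∈ centralizer (A : Set G)) : Good f := by
  rcases involSp hZ had hfT hff with ⟨v, hv, h⟩ | ⟨v, hv, ρ, h1, h2, h, hvv⟩ | ⟨v, hv, ρ, h2, h, hvv⟩
  · exact absurd ⟨v, UG_le S hv, h⟩ hout
  · have hH := H1_sp h1 h2
    have hfe : v * (v⁻¹ * f) = f := by group
    obtain ⟨w, hw, e⟩ := conj_of_H1 h1 h2 h hvv hH hv (by rw [hfe]; exact hff)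
    rw [hfe] at e
    refine Good.conj w ?_
    rw [e]
    exact good_H1 (tySp.{u} hF).gd h1 h2 h hvv hH
  · have hfe : v * (v⁻¹ * f) = f := by group
    obtain ⟨w, hw, e⟩ := conj_gr h hvv hv (by rw [hfe]; exact hff)
    rw [hfe] at e
    refine Good.conj w ?_
    rw [e]
    exact good_gr h hvv hF h2

/-- **`StepFour.Outer` for type `Sp₄`.** -/
theorem outer_Sp (hF : 3 ≤ Nat.card F) (hZ : Odd (Nat.card (center ↥A))) {T : Subgroup G} (had : AdaptedSp S T)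
    (t : G) : StdEven.StepFour.Outer A t T := fun _ hfT hff hout _ => good_Sp hF hZ had hfT hff hout

end Cfsg.Agent.StdRank2.OutSpOuter
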