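import Cfsg.Agent.StdRank2.OutB2Inv
import Cfsg.Agent.StdRank2.B2Conn
import Cfsg.Agent.StdRank2.UStart.Sit

/-!
# The 2-group `T` in `X`, types `B₂`

`fld_push`, `adapted_push`: field automorphisms of the package of `A` give field automorphisms of the
package of the image of `A` in `X`.

`TSit N S t T`: `T` is a 2-group of `C(t)` containing `t` and `U`, adapted to the package `S` of `A`.
`TSit.exists_fld`, `exists_hom`: `T = U T_F`, `θ : T →* Aut F` with kernel `⟨t⟩ U`; `TSit.ab`, `TSit.inf_A`.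
-/

set_option autoImplicit false
set_option linter.unusedSectionVars false

namespace Cfsg.Agent.StdRank2.TX

open Subgroup
open Cfsg.Agent.TitsThree.B2Pkg Cfsg.Agent.TitsThree.RankTwoIdentB2
  Cfsg.Agent.TitsThree.CoreB2 Cfsg.Agent.TitsThree.RankTwoIdx Cfsg.Agent.TitsThree.RankTwoRGD
  Cfsg.Agent.TitsThree.StdData
open Cfsg.Agent.StdRank2.OddLift Cfsg.Agent.StdRank2.B2Lift Cfsg.Agent.StdRank2.B2Std
  Cfsg.Agent.StdRank2.B2Torus Cfsg.Agent.StdRank2.B2Act Cfsg.Agent.StdRank2.B2Act.Std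
  Cfsg.Agent.StdRank2.B2Amb Cfsg.Agent.StdRank2.UFour Cfsg.Agent.StdRank2.B2Conn
open Cfsg.Agent.StdRank2.OutB2G Cfsg.Agent.StdRank2.OutB2Aut Cfsg.Agent.StdRank2.OutB2Inv
open Cfsg.Agent.StdEven.CoreQuot Cfsg.Agent.StdEven.Loc
open scoped commutatorElement

universe u

/-! ### Push to `X` -/

section push

variable {G : Type u} [Group G] [Finite G] {A : Subgroup G} {t : G} {T : Subgroup G}
variable {F : Type*} [Field F] [CharP F 2] {V : Type*} [AddCommGroup V] [Module F V] {D : PQDatum F V}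
variable {N : FData D}

theorem toIm_conj (h : Hyp A t T) {f : G} (hf : f ∈ NO A t) {a b : ↥A} (e : f * a * f⁻¹ = b) :
    pr A t ⟨f, hf⟩ * (toIm h a : XQ A t) * (pr A t ⟨f, hf⟩)⁻¹ = toIm h b := by
  rw [toIm_val, toIm_val, ← map_inv, ← map_mul, ← map_mul]
  congr 1
  exact Subtype.ext e

theorem fld_push (h : Hyp A t T) {S : Std D ↥A} {f : G} (hf : f ∈ NO A t) {ρ : F ≃+* F} (hF : Fld N S f ρ) :
    Fld N (imS h S) (pr A t ⟨f, hf⟩) ρ where
  x a := toIm_conj h hf (hF.x a)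
  x' a := toIm_conj h hf (hF.x' a)
  y a := toIm_conj h hf (hF.y a)
  y' a := toIm_conj h hf (hF.y' a)
  z₁ a := toIm_conj h hf (hF.z₁ a)
  z₂ a := toIm_conj h hf (hF.z₂ a)
  z₁' a := toIm_conj h hf (hF.z₁' a)
  z₂' a := toIm_conj h hf (hF.z₂' a)

theorem im_UG (h : Hyp A t T) (S : Std D ↥A) : im A t (UG S) = UG (imS h S) := im_U h S

theorem adapted_push (h : Hyp A t T) {S : Std D ↥A} (had : Adapted N S T) :
    Adapted N (imS h S) (im A t T) := by
  intro y hy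
  obtain ⟨n, hn, rfl⟩ := mem_im.mp hy
  obtain ⟨u, hu, ρ, hk, hF⟩ := had n hn
  have huN : u ∈ NO A t := h.A_le (UG_le S hu)
  refine ⟨pr A t ⟨u, huN⟩, ?_, ρ, hk, ?_⟩
  · rw [← im_UG h]
    exact pr_mem_im hu
  · rw [← map_mul]
    exact fld_push h (f := u * n) (mul_mem huN n.2) hF

end push

/-! ### General facts -/

section gen

variable {G : Type u} [Group G] {A : Subgroup G} {t : G} {T : Subgroup G}
variable {F : Type*} [Field F] {V : Type*} [AddCommGroup V] [Module F V] {D : PQDatum F V}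
variable {N : FData D} {S : Std D ↥A}

theorem fld_one : Fld N S 1 1 where
  x a := by simp
  x' a := by simp
  y a := by simp
  y' a := by simp
  z₁ a := by rw [N.T_one]; simp
  z₂ a := by rw [N.T_one]; simp
  z₁' a := by rw [N.T_one]; simp
  z₂' a := by rw [N.T_one]; simp

theorem fld_inv {f : G} {ρ : F ≃+* F} (h : Fld N S f ρ) : Fld N S f⁻¹ ρ⁻¹ := by
  have key : ∀ {a b : G}, f * b * f⁻¹ = a → f⁻¹ * a * f⁻¹⁻¹ = b := by
    rintro a b rfl
    group
  have hρ : ∀ a, ρ (ρ⁻¹ a) = a := fun a => RingEquiv.apply_symm_apply ρ a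
  have hT : ∀ p, N.T ρ (N.T ρ⁻¹ p) = p := fun p => by rw [← N.T_mul, mul_inv_cancel, N.T_one]
  exact
    { x := fun a => key (by rw [h.x, hρ])
      x' := fun a => key (by rw [h.x', hρ])
      y := fun a => key (by rw [h.y, hρ])
      y' := fun a => key (by rw [h.y', hρ])
      z₁ := fun a => key (by rw [h.z₁, hT])
      z₂ := fun a => key (by rw [h.z₂, hT])
      z₁' := fun a => key (by rw [h.z₁', hT])
      z₂' := fun a => key (by rw [h.z₂', hT]) }

/-- the situation in `X` -/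
structure TSit (N : FData D) (S : Std D ↥A) (t : G) (T : Subgroup G) : Prop where
  amb : Amb A t
  hZ : center ↥A = ⊥
  ad : Adapted N S T
  U : UG S ≤ T
  t_mem : t ∈ T
  comm : ∀ x ∈ T, x * t = t * x
  two : IsPGroup 2 T

namespace TSit

variable (h : TSit N S t T)
include h

theorem t_fld : Fld N S t 1 := by
  have key : ∀ a : ↥A, t * a * t⁻¹ = a := fun a => by
    rw [mul_inv_eq_iff_eq_mul]; exact h.amb.comm a a.2
  exact
    { x := fun a => key _
      x' := fun a => key _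
      y := fun a => key _
      y' := fun a => key _
      z₁ := fun a => by rw [N.T_one]; exact key _
      z₂ := fun a => by rw [N.T_one]; exact key _
      z₁' := fun a => by rw [N.T_one]; exact key _
      z₂' := fun a => by rw [N.T_one]; exact key _ }

theorem eq_of_fld {f : G} (hf : f ∈ T) (hF : Fld N S f 1) : f = 1 ∨ f = t :=
  h.amb.cen f (h.comm f hf) (fun a ha => (mem_centralizer_iff.1 (fld_cent hF) a ha).symm)

theorem exists_fld {y : G} (hy : y ∈ T) : ∃ u ∈ UG S, ∃ f ∈ T, ∃ ρ : F ≃+* F, y = u * f ∧ Fld N S f ρ ∧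
    ∃ k : ℕ, ρ ^ 2 ^ k = 1 := by
  obtain ⟨u, hu, ρ, hk, hF⟩ := h.ad y hy
  exact ⟨u⁻¹, inv_mem hu, u * y, mul_mem (h.U hu) hy, ρ, by group, hF, hk⟩

theorem norm_U {y u : G} (hy : y ∈ T) (hu : u ∈ UG S) : y * u * y⁻¹ ∈ UG S := by
  obtain ⟨v, hv, f, -, ρ, rfl, hF, -⟩ := h.exists_fld hy
  have h1 : v * f * u * (v * f)⁻¹ = v * (f * u * f⁻¹) * v⁻¹ := by group
  rw [h1]
  exact mul_mem (mul_mem hv (fld_norm hF hu)) (inv_mem hv)

variable [Finite G] [Finite F] [CharP F 2]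

theorem odd_center : Odd (Nat.card (center ↥A)) := by
  rw [h.hZ, card_bot]; exact odd_one

theorem fld_uniq {f f' : G} {ρ ρ' : F ≃+* F} (hF : Fld N S f ρ) (hF' : Fld N S f' ρ') (e : f' * f⁻¹ ∈ UG S) :
    f' = f ∧ ρ' = ρ := by
  obtain ⟨h1, h2⟩ := eq_one_of_fld h.odd_center e (fld_mul hF' (fld_inv hF))
  exact ⟨mul_inv_eq_one.1 h1, mul_inv_eq_one.1 h2⟩

/-- the decomposition `T = U T_F` is unique -/
theorem decomp_uniq {u f u' f' : G} {ρ ρ' : F ≃+* F} (hu : u ∈ UG S) (hu' : u' ∈ UG S) (hF : Fld N S f ρ)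
    (hF' : Fld N S f' ρ') (e : u * f = u' * f') : u = u' ∧ f = f' ∧ ρ = ρ' := by
  have h1 : f' * f⁻¹ ∈ UG S := by
    have : f' * f⁻¹ = u'⁻¹ * u := by
      have : f' = u'⁻¹ * (u * f) := by rw [e]; group
      rw [this]; group
    rw [this]
    exact mul_mem (inv_mem hu') hu
  obtain ⟨rfl, rfl⟩ := h.fld_uniq hF hF' h1
  exact ⟨mul_right_cancel e, rfl, rfl⟩

/-- **The homomorphism `θ : T → Aut F`.** -/
theorem exists_hom : ∃ θ : ↥T →* (F ≃+* F),
    (∀ y : ↥T, ∃ u ∈ UG S, ∃ f ∈ T, (y : G) = u * f ∧ Fld N S f (θ y)) ∧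
    (∀ y : ↥T, θ y = 1 ↔ (y : G) ∈ UG S ∨ t * y ∈ UG S) ∧
    (∀ (y : ↥T) (u f : G) (ρ : F ≃+* F), u ∈ UG S → (y : G) = u * f → Fld N S f ρ → θ y = ρ) := by
  choose! u hu f hf ρ he hF hk using fun (y : ↥T) => h.exists_fld y.2
  have huniq : ∀ (y : ↥T) (v g : G) (τ : F ≃+* F), v ∈ UG S → (y : G) = v * g → Fld N S g τ → ρ y = τ := by
    intro y v g τ hv e hg
    exact (h.decomp_uniq (hu y) hv (hF y) hg ((he y).symm.trans e)).2.2
  have hmul : ∀ a b : ↥T, ρ (a * b) = ρ a * ρ b := by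
    intro a b
    refine huniq (a * b) (u a * (f a * u b * (f a)⁻¹)) (f a * f b) _ (mul_mem (hu a) (fld_norm (hF a) (hu b))) ?_
      (fld_mul (hF a) (hF b))
    calc ((a * b : ↥T) : G) = (u a * f a) * (u b * f b) := by rw [← he a, ← he b]; rfl
      _ = _ := by group
  let θ : ↥T →* (F ≃+* F) := MonoidHom.mk' ρ hmul
  refine ⟨θ, fun y => ⟨u y, hu y, f y, hf y, he y, hF y⟩, fun y => ?_, huniq⟩
  constructor
  · intro h1
    have h2 : Fld N S (f y) 1 := by
      have := hF y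
      have e : ρ y = 1 := h1
      rwa [e] at this
    rcases h.eq_of_fld (hf y) h2 with h3 | h3
    · left
      rw [he y, h3, mul_one]; exact hu y
    · right
      rw [he y, h3, h.comm _ (h.U (hu y)), ← mul_assoc, h.amb.tt, one_mul]; exact hu y
  · rintro (h1 | h1)
    · exact huniq y _ 1 1 h1 (by rw [mul_one]) fld_one
    · refine huniq y _ t 1 h1 ?_ h.t_fld
      rw [mul_assoc, h.comm _ y.2, ← mul_assoc, h.amb.tt, one_mul]

/-- `T / U` is abelian. -/
theorem ab {x y : G} (hx : x ∈ T) (hy : y ∈ T) : ⁅x, y⁆ ∈ UG S := by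
  obtain ⟨u, hu, f, hf, ρ, rfl, hF, -⟩ := h.exists_fld hx
  obtain ⟨v, hv, g, hg, τ, rfl, hG, -⟩ := h.exists_fld hy
  -- `f` and `g` commute
  have hfg : f * g = g * f := by
    -- the group of elements of field type is cyclic modulo `⟨t⟩`
    let TF : Subgroup G :=
      { carrier := {k | k ∈ T ∧ ∃ σ : F ≃+* F, Fld N S k σ}
        one_mem' := ⟨one_mem _, 1, fld_one⟩
        mul_mem' := by
          rintro a b ⟨ha, σ, hσ⟩ ⟨hb, σ', hσ'⟩
          exact ⟨mul_mem ha hb, σ * σ', fld_mul hσ hσ'⟩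
        inv_mem' := by
          rintro a ⟨ha, σ, hσ⟩
          exact ⟨inv_mem ha, σ⁻¹, fld_inv hσ⟩ }
    obtain ⟨θ, h1, h2, h3⟩ := h.exists_hom
    have hle : TF ≤ T := fun k hk => hk.1
    let φ : ↥TF →* (F ≃+* F) := θ.comp (Subgroup.inclusion hle)
    have hφ : ∀ k : ↥TF, φ k = 1 → (k : G) = 1 ∨ (k : G) = t := by
      rintro ⟨k, hk, σ, hσ⟩ e
      have e1 : φ ⟨k, hk, σ, hσ⟩ = σ := h3 _ 1 k σ (one_mem _) (by rw [one_mul]; rfl) hσ
      rw [e1] at e
      subst e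
      exact h.eq_of_fld hk hσ
    have hcyc : IsCyclic φ.range := by
      have := OutField.isCyclic (F := F)
      infer_instance
    have hker : φ.ker ≤ center ↥TF := by
      intro k hk
      rw [mem_center_iff]
      intro g
      apply Subtype.ext
      rcases hφ k hk with h4 | h4
      · show (g : G) * (k : G) = (k : G) * g
        rw [h4, one_mul, mul_one]
      · show (g : G) * (k : G) = (k : G) * g
        rw [h4]; exact h.comm _ g.2.1
    have hcomm : ∀ a b : ↥TF, a * b = b * a := by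
      have hker' : φ.rangeRestrict.ker ≤ center ↥TF := by rwa [MonoidHom.ker_rangeRestrict]
      exact (MonoidHom.isMulCommutative_of_isCyclic_of_ker_le_center φ.rangeRestrict hker').is_comm.comm
    exact congrArg Subtype.val (hcomm ⟨f, hf, ρ, hF⟩ ⟨g, hg, τ, hG⟩)
  have e : ⁅u * f, v * g⁆ = u * (f * v * f⁻¹) * (g * u⁻¹ * g⁻¹) * v⁻¹ := by
    rw [commutatorElement_def]
    calc u * f * (v * g) * (u * f)⁻¹ * (v * g)⁻¹ = u * (f * v * f⁻¹) * (f * g) * f⁻¹ * u⁻¹ * g⁻¹ * v⁻¹ := by group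
      _ = u * (f * v * f⁻¹) * (g * f) * f⁻¹ * u⁻¹ * g⁻¹ * v⁻¹ := by rw [hfg]
      _ = _ := by group
  rw [e]
  exact mul_mem (mul_mem (mul_mem hu (fld_norm hF hv)) (fld_norm hG (inv_mem hu))) (inv_mem hv)

/-- `T / ⟨t⟩U` is cyclic. -/
theorem cyc : ∃ f0 ∈ T, ∀ x ∈ T, ∃ n : ℕ, ∃ u ∈ UG S, x = f0 ^ n * u ∨ x = f0 ^ n * u * t := by
  obtain ⟨θ, h1, h2, h3⟩ := h.exists_hom
  have hcyc : IsCyclic θ.range := by
    have := OutField.isCyclic (F := F)
    infer_instance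
  obtain ⟨⟨_, y0, rfl⟩, hg⟩ := hcyc.exists_generator
  refine ⟨y0, y0.2, fun x hx => ?_⟩
  obtain ⟨n, hn⟩ : ∃ n : ℕ, θ ⟨x, hx⟩ = θ y0 ^ n := by
    have h4 := hg ⟨θ ⟨x, hx⟩, ⟨x, hx⟩, rfl⟩
    have : Finite θ.range := Finite.of_surjective _ θ.rangeRestrict_surjective
    obtain ⟨n, hn⟩ := (mem_powers_iff_mem_zpowers.2 h4 : _ ∈ Submonoid.powers _)
    exact ⟨n, (congrArg Subtype.val hn).symm⟩
  refine ⟨n, ?_⟩
  have h5 : θ ((y0 ^ n)⁻¹ * ⟨x, hx⟩) = 1 := by
    rw [map_mul, map_inv, map_pow, hn, inv_mul_cancel]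
  have e : (((y0 ^ n)⁻¹ * ⟨x, hx⟩ : ↥T) : G) = ((y0 : G) ^ n)⁻¹ * x := rfl
  rcases (h2 _).1 h5 with h6 | h6
  · rw [e] at h6
    exact ⟨_, h6, Or.inl (by group)⟩
  · rw [e] at h6
    refine ⟨_, h6, Or.inr ?_⟩
    have h7 := h.comm _ (h.U h6)
    rw [mul_assoc, h7, ← mul_assoc t, h.amb.tt]
    group

/-- powers of elements of field type -/
theorem fld_pow {f : G} {ρ : F ≃+* F} (hF : Fld N S f ρ) (n : ℕ) : Fld N S (f ^ n) (ρ ^ n) := by
  induction n with
  | zero => rw [pow_zero, pow_zero]; exact fld_one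
  | succ n ih => rw [pow_succ, pow_succ]; exact fld_mul ih hF

theorem lift {f : G} (hf : f ∈ T) : ∃ u ∈ UG S, ∀ n : ℕ, ((u * f) ^ n ∈ UG S ∨ t * (u * f) ^ n ∈ UG S) →
    ((u * f) ^ n = 1 ∨ (u * f) ^ n = t) := by
  obtain ⟨u, hu, ρ, -, hF⟩ := h.ad f hf
  refine ⟨u, hu, fun n hn => ?_⟩
  have h1 := h.fld_pow hF n
  rcases hn with hn | hn
  · exact Or.inl (eq_one_of_fld h.odd_center hn h1).1
  · right
    have h2 := (eq_one_of_fld h.odd_center hn (fld_mul h.t_fld h1)).1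
    have h3 : (u * f) ^ n = t⁻¹ := eq_inv_of_mul_eq_one_right h2
    rw [h3]; exact inv_eq_of_mul_eq_one_right h.amb.tt

/-- elements of `T` acting trivially on `U / V_I` -/
theorem out {f : G} (hf : f ∈ T) (hx : ∀ a, f * S.m.x a * f⁻¹ * (S.m.x a : G)⁻¹ ∈ S.VI.map A.subtype) :
    f ∈ UG S ∨ t * f ∈ UG S := by
  obtain ⟨θ, h1, h2, -⟩ := h.exists_hom
  rw [← h2 ⟨f, hf⟩]
  obtain ⟨u, hu, g, hg, e, hF⟩ := h1 ⟨f, hf⟩
  ext a
  obtain ⟨a₀, p, b, q, rfl⟩ := exists_nG hu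
  obtain ⟨v, hv, e1⟩ := hx a
  obtain ⟨p', b', q', rfl⟩ := mem_VI_iff.1 hv
  have e2 : f * (S.m.x a : G) * f⁻¹ = nG S 0 p' b' q' * S.m.x a := by
    rw [← mul_inv_eq_iff_eq_mul]; exact e1.symm
  have e3 : f * (S.m.x a : G) * f⁻¹ = nG S a₀ p b q * S.m.x (θ ⟨f, hf⟩ a) * (nG S a₀ p b q)⁻¹ := by
    have e' : f = nG S a₀ p b q * g := e
    rw [← hF.x a]
    conv_lhs => rw [e']
    group
  rw [e2, eq_mul_inv_iff_mul_eq, ← nG_x, ← nG_x, nG_mul, nG_mul, nG_mul] at e3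
  have h4 := (nG_inj e3).1
  rw [zero_add, add_comm] at h4
  exact (add_left_cancel h4).symm

omit [Finite F] [CharP F 2] in
theorem A_norm {y : G} (hy : y * t = t * y) {a : G} (ha : a ∈ A) : y * a * y⁻¹ ∈ A := h.amb.nor y hy a ha

/-- `T ∩ A = U` -/
theorem inf_A [Finite D.T] (hsc : Scal D) : T ⊓ A = UG S :=
  (UStart.isSyl_UG hsc h.odd_center S).max _ (h.two.to_le inf_le_left) inf_le_right (le_inf h.U (UG_le S))

/-- Elements of `T` centralising `U` -/
theorem cent_U {y : G} (hy : y ∈ T)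
    (hU : ∀ u ∈ UG S, y * u = u * y) : ∃ v ∈ UG S, (∀ u ∈ UG S, v * u = u * v) ∧ (y = v ∨ y = t * v) := by
  have h1 : y ∈ UG S ∨ t * y ∈ UG S := by
    apply h.out hy
    intro a
    have h2 := hU (S.m.x a) ⟨S.m.x a, x_mem a, rfl⟩
    have h3 : y * (S.m.x a : G) * y⁻¹ * (S.m.x a : G)⁻¹ = 1 := by rw [h2]; group
    rw [h3]; exact one_mem _
  rcases h1 with h1 | h1
  · exact ⟨y, h1, hU, Or.inl rfl⟩
  · refine ⟨t * y, h1, fun u hu => ?_, Or.inr ?_⟩
    · rw [mul_assoc, hU u hu, ← mul_assoc, ← mul_assoc, ← h.comm u (h.U hu)]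
    · rw [← mul_assoc, h.amb.tt, one_mul]

end TSit

end gen

/-! ### The situation in `X` -/

section X

variable {G : Type u} [Group G] [Finite G] {A : Subgroup G} {t : G} {T : Subgroup G}
variable {F : Type*} [Field F] [CharP F 2] {V : Type*} [AddCommGroup V] [Module F V] {D : PQDatum F V}
variable {N : FData D}

/-- **The situation in `X`.** -/
theorem tsit (h : Hyp A t T) {S : Std D ↥A} (had : Adapted N S T) (hU : UG S ≤ T) :
    TSit N (imS h S) h.tX (im A t T) where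
  amb := amb h
  hZ := center_im h
  ad := adapted_push h had
  U := by rw [← im_UG h]; exact im_mono hU
  t_mem := pr_mem_im h.isT.mem
  comm x hx := by
    have := h.syl_im.le hx
    rwa [mem_centralizer_singleton_iff] at this
  two := h.syl_im.two

end X

end Cfsg.Agent.StdRank2.TX
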