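import Mathlib
import Cfsg.Agent.StdRank2.UFour.Env

/-!
# Equivariant sections of grown root groups

`R` a grown root group over `x : M → G` (`UFour.Root`), `M` a field on which the torus acts through all scalars.  For every
`u ∈ R` moving `t` to `x 1 * t` there is an additive section `p : M → G`, `p 1 = u`, `p s * t * (p s)⁻¹ = x s * t`, on which
the torus acts by the same scalars as on `x`.
-/

set_option autoImplicit false

namespace Cfsg.Agent.StdRank2.UFourId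

open Cfsg.Agent.StdRank2.UFour

/-! ### Frobenius -/

theorem add_pow_two_pow {A : Type*} [Ring A] (h2 : ∀ a : A, a + a = 0) {x y : A} (h : Commute x y) (j : ℕ) :
    (x + y) ^ (2 ^ j) = x ^ (2 ^ j) + y ^ (2 ^ j) := by
  induction j with
  | zero => simp
  | succ j ih =>
    have h1 : Commute (x ^ (2 ^ j)) (y ^ (2 ^ j)) := h.pow_pow _ _
    rw [pow_succ, pow_mul, ih, pow_mul, pow_mul, pow_two, pow_two, pow_two, add_mul, mul_add, mul_add, ← h1.eq]
    have h3 := h2 (x ^ 2 ^ j * y ^ 2 ^ j)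
    calc x ^ 2 ^ j * x ^ 2 ^ j + x ^ 2 ^ j * y ^ 2 ^ j + (x ^ 2 ^ j * y ^ 2 ^ j + y ^ 2 ^ j * y ^ 2 ^ j)
        = x ^ 2 ^ j * x ^ 2 ^ j + (x ^ 2 ^ j * y ^ 2 ^ j + x ^ 2 ^ j * y ^ 2 ^ j) + y ^ 2 ^ j * y ^ 2 ^ j := by abel
      _ = _ := by rw [h3, add_zero]

theorem eq_zero_of_sq {A : Type*} [Ring A] (h2 : ∀ a : A, a + a = 0) {x y w : A} (hxy : Commute x y)
    (hxw : Commute x w) (hyw : Commute y w) {j : ℕ} (hj : 1 ≤ j) (hx : x ^ (2 ^ j) = x) (hy : y ^ (2 ^ j) = y)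
    (hw : w ^ (2 ^ j) = w) (hD : (x + y + w) * (x + y + w) = 0) : x + y + w = 0 := by
  have h3 : (x + y + w) ^ (2 ^ j) = x + y + w := by
    rw [add_pow_two_pow h2 (hxw.add_left hyw), add_pow_two_pow h2 hxy, hx, hy, hw]
  rw [← h3]
  obtain ⟨i, rfl⟩ : ∃ i, j = i + 1 := ⟨j - 1, by omega⟩
  rw [pow_succ', pow_mul, pow_two, hD, zero_pow (by positivity)]

/-! ### The torus on a grown root group -/

section

variable {F : Type*} [Field F] [CharP F 2] {B : Bar F} {G : Type*} [Group G] {E : WEnv B G}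
variable {M : Type*} [Field M] {x : M → G} {R : Subgroup G} (h : Root E x R)

include h

theorem root_comm {g k : G} (hg : g ∈ R) (hk : k ∈ R) : g * k = k * g := by
  have h1 := h.sq _ (mul_mem hg hk)
  have h2 := h.sq _ hg
  have h3 := h.sq _ hk
  calc g * k = g * k * (g * k * (g * k))⁻¹ * 1 := by rw [h1]; group
    _ = (k * k) * (g * k)⁻¹ * (g * g) := by rw [h2, h3]; group
    _ = k * g := by group

theorem root_inv {g : G} (hg : g ∈ R) : g⁻¹ = g := inv_eq_of_mul_eq_one_right (h.sq _ hg)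

/-- `t g t = x c g`. -/
theorem root_t {g : G} (hg : g ∈ R) {c : M} (hc : g * E.t * g⁻¹ = x c * E.t) : E.t * g * E.t = x c * g := by
  have h1 : E.t * g⁻¹ * E.t = g⁻¹ * x c := by
    have : E.t * g⁻¹ = g⁻¹ * (x c * E.t) := by rw [← hc]; group
    rw [this, ← mul_assoc, mul_assoc _ E.t E.t, E.t_sq, mul_one]
  rw [root_inv h hg] at h1
  rw [h1, root_comm h hg (h.mem c)]

/-- An element of the torus acting trivially on `x M` acts trivially on `R`. -/
theorem rigid_one (hx0 : x 0 = 1) {k : G} (hk : k ∈ E.T) (hc : ∀ c, k * x c * k⁻¹ = x c) {g : G} (hg : g ∈ R) :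
    k * g * k⁻¹ = g := by
  have htk := E.T_t k hk
  obtain ⟨c, hgc⟩ := h.conj_t g hg
  have h1 : k * g * k⁻¹ ∈ R := h.conj_T k hk g hg
  have h2 : (k * g * k⁻¹) * E.t * (k * g * k⁻¹)⁻¹ = x c * E.t := by
    have e : (k * g * k⁻¹) * E.t * (k * g * k⁻¹)⁻¹ = k * (g * (k⁻¹ * E.t * k) * g⁻¹) * k⁻¹ := by group
    have e2 : k⁻¹ * E.t * k = E.t := by rw [mul_assoc, htk]; group
    rw [e, e2, hgc]
    calc k * (x c * E.t) * k⁻¹ = (k * x c * k⁻¹) * (k * E.t * k⁻¹) := by group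
      _ = x c * E.t := by rw [hc, ← htk]; group
  -- the quotient commutes with `t`
  obtain ⟨d, hd⟩ := h.cent (g * (k * g * k⁻¹)) (mul_mem hg h1) (by
    have e : g * (k * g * k⁻¹) * E.t = g * ((k * g * k⁻¹) * E.t * (k * g * k⁻¹)⁻¹) * (k * g * k⁻¹) := by group
    rw [e, h2]
    calc g * (x c * E.t) * (k * g * k⁻¹) = (g * x c) * E.t * (k * g * k⁻¹) := by group
      _ = (x c * g) * E.t * (k * g * k⁻¹) := by rw [root_comm h hg (h.mem c)]
      _ = x c * (g * E.t * g⁻¹) * g * (k * g * k⁻¹) := by group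
      _ = x c * (x c * E.t) * g * (k * g * k⁻¹) := by rw [hgc]
      _ = (x c * x c) * E.t * (g * (k * g * k⁻¹)) := by group
      _ = E.t * (g * (k * g * k⁻¹)) := by rw [h.sq _ (h.mem c), one_mul])
  have h3 : k * g * k⁻¹ = g * x d := by
    rw [← hd, ← mul_assoc, h.sq g hg, one_mul]
  have h4 : ∀ n : ℕ, k ^ n * g * (k ^ n)⁻¹ = g * (x d) ^ n := by
    intro n
    induction n with
    | zero => simp
    | succ n ih =>
      have hdn : k * (x d) ^ n * k⁻¹ = (x d) ^ n := by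
        rw [← conj_pow, hc]
      calc k ^ (n + 1) * g * (k ^ (n + 1))⁻¹ = k * (k ^ n * g * (k ^ n)⁻¹) * k⁻¹ := by
            rw [pow_succ']; group
        _ = (k * g * k⁻¹) * (k * (x d) ^ n * k⁻¹) := by rw [ih]; group
        _ = g * (x d) ^ (n + 1) := by rw [h3, hdn, pow_succ', mul_assoc]
  obtain ⟨m, ⟨n, rfl⟩, hm⟩ := E.T_odd k hk
  have h5 := h4 (2 * n + 1)
  rw [hm, pow_succ, pow_mul, pow_two, h.sq _ (h.mem d), one_pow, one_mul] at h5
  have h6 : x d = 1 := by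
    have : g = g * x d := by simpa using h5
    exact (mul_eq_left.1 this.symm)
  rw [h3, h6, mul_one]

/-- Two elements of the torus acting in the same way on `x M` act in the same way on `R`. -/
theorem rigid_two (hx0 : x 0 = 1) {k l : G} (hk : k ∈ E.T) (hl : l ∈ E.T) (hc : ∀ c, k * x c * k⁻¹ = l * x c * l⁻¹)
    {g : G} (hg : g ∈ R) : k * g * k⁻¹ = l * g * l⁻¹ := by
  have h1 := rigid_one h hx0 (k := l⁻¹ * k) (mul_mem (inv_mem hl) hk) (by
    intro c
    have e : l⁻¹ * k * x c * (l⁻¹ * k)⁻¹ = l⁻¹ * (k * x c * k⁻¹) * l := by group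
    rw [e, hc]
    group) hg
  have e : k * g * k⁻¹ = l * (l⁻¹ * k * g * (l⁻¹ * k)⁻¹) * l⁻¹ := by group
  rw [e, h1]

/-- The commutative group structure. -/
@[reducible] def commGroup : CommGroup R :=
  { (inferInstance : Group R) with
    mul_comm := fun a b => Subtype.ext (root_comm h a.2 b.2) }

/-- A three term relation. -/
theorem rigid_three {k₁ k₂ k₃ : G} (hk₁ : k₁ ∈ E.T) (hk₂ : k₂ ∈ E.T) (hk₃ : k₃ ∈ E.T)
    (hc : ∀ c, (k₁ * x c * k₁⁻¹) * (k₂ * x c * k₂⁻¹) * (k₃ * x c * k₃⁻¹) = 1) {g : G} (hg : g ∈ R) :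
    (k₁ * g * k₁⁻¹) * (k₂ * g * k₂⁻¹) * (k₃ * g * k₃⁻¹) = 1 := by
  letI := commGroup h
  let cj : E.T → AddMonoid.End (Additive R) := fun k =>
    { toFun := fun v => Additive.ofMul ⟨(k : G) * (v.toMul : G) * (k : G)⁻¹, h.conj_T k k.2 _ v.toMul.2⟩
      map_zero' := by
        apply Additive.toMul.injective
        apply Subtype.ext
        change (k : G) * (1 : G) * (k : G)⁻¹ = 1
        group
      map_add' := fun v w => by
        apply Additive.toMul.injective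
        apply Subtype.ext
        change (k : G) * ((v.toMul : G) * (w.toMul : G)) * (k : G)⁻¹ =
          (k : G) * (v.toMul : G) * (k : G)⁻¹ * ((k : G) * (w.toMul : G) * (k : G)⁻¹)
        group }
  have hval : ∀ (k : E.T) (v : Additive R), (((cj k v).toMul : R) : G) = (k : G) * (v.toMul : G) * (k : G)⁻¹ :=
    fun k v => rfl
  have hmul : ∀ k l : E.T, cj k * cj l = cj (k * l) := by
    intro k l
    apply AddMonoidHom.ext
    intro v
    apply Additive.toMul.injective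
    apply Subtype.ext
    change (k : G) * ((l : G) * (v.toMul : G) * (l : G)⁻¹) * (k : G)⁻¹ = ((k * l : E.T) : G) * _ * ((k * l : E.T) : G)⁻¹
    rw [Subgroup.coe_mul]
    group
  have hone : cj 1 = 1 := by
    apply AddMonoidHom.ext
    intro v
    apply Additive.toMul.injective
    apply Subtype.ext
    change ((1 : E.T) : G) * (v.toMul : G) * ((1 : E.T) : G)⁻¹ = (v.toMul : G)
    rw [Subgroup.coe_one]
    group
  have hpow : ∀ (k : E.T) (n : ℕ), cj k ^ n = cj (k ^ n) := by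
    intro k n
    induction n with
    | zero => rw [pow_zero, pow_zero, hone]
    | succ n ih => rw [pow_succ, pow_succ, ih, hmul]
  have hcomm : ∀ k l : E.T, Commute (cj k) (cj l) := by
    intro k l
    change cj k * cj l = cj l * cj k
    rw [hmul, hmul]
    congr 1
    exact Subtype.ext (E.T_comm k k.2 l l.2)
  have h2 : ∀ a : AddMonoid.End (Additive R), a + a = 0 := by
    intro a
    apply AddMonoidHom.ext
    intro v
    apply Additive.toMul.injective
    apply Subtype.ext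
    change (((a v).toMul : R) : G) * (((a v).toMul : R) : G) = 1
    exact h.sq _ (a v).toMul.2
  -- a common exponent
  obtain ⟨j, hj, hj'⟩ : ∃ j, 1 ≤ j ∧ ∀ k ∈ [k₁, k₂, k₃], k ^ (2 ^ j) = k := by
    obtain ⟨m₁, ho₁, hm₁⟩ := E.T_odd k₁ hk₁
    obtain ⟨m₂, ho₂, hm₂⟩ := E.T_odd k₂ hk₂
    obtain ⟨m₃, ho₃, hm₃⟩ := E.T_odd k₃ hk₃
    have ho : Odd (m₁ * m₂ * m₃) := (ho₁.mul ho₂).mul ho₃
    have hcop : Nat.Coprime 2 (m₁ * m₂ * m₃) := ho.coprime_two_left
    have hpos : 0 < m₁ * m₂ * m₃ := ho.pos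
    have h3 := Nat.ModEq.pow_totient hcop
    refine ⟨Nat.totient (m₁ * m₂ * m₃), Nat.totient_pos.2 hpos, ?_⟩
    intro k hk
    have hkm : k ^ (m₁ * m₂ * m₃) = 1 := by
      simp only [List.mem_cons, List.not_mem_nil, or_false] at hk
      rcases hk with rfl | rfl | rfl
      · rw [mul_assoc, pow_mul, hm₁, one_pow]
      · rw [mul_comm m₁, mul_assoc, pow_mul, hm₂, one_pow]
      · rw [mul_comm, pow_mul, hm₃, one_pow]
    have h4 : k ^ (2 ^ Nat.totient (m₁ * m₂ * m₃)) = k ^ 1 := by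
      rw [pow_eq_pow_iff_modEq]
      exact h3.of_dvd (orderOf_dvd_of_pow_eq_one hkm)
    rw [h4, pow_one]
  have hjj : ∀ k (hk : k ∈ E.T), k ∈ [k₁, k₂, k₃] → cj ⟨k, hk⟩ ^ (2 ^ j) = cj ⟨k, hk⟩ := by
    intro k hk hkl
    rw [hpow]
    congr 1
    exact Subtype.ext (hj' k hkl)
  have hD := eq_zero_of_sq h2 (hcomm ⟨k₁, hk₁⟩ ⟨k₂, hk₂⟩) (hcomm ⟨k₁, hk₁⟩ ⟨k₃, hk₃⟩) (hcomm ⟨k₂, hk₂⟩ ⟨k₃, hk₃⟩)
    hj (hjj k₁ hk₁ (by simp)) (hjj k₂ hk₂ (by simp)) (hjj k₃ hk₃ (by simp)) (by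
      apply AddMonoidHom.ext
      intro v
      apply Additive.toMul.injective
      apply Subtype.ext
      set D := cj ⟨k₁, hk₁⟩ + cj ⟨k₂, hk₂⟩ + cj ⟨k₃, hk₃⟩ with hDdef
      have hDv : ∀ v : Additive R, (((D v).toMul : R) : G) = (k₁ * (v.toMul : G) * k₁⁻¹) *
          (k₂ * (v.toMul : G) * k₂⁻¹) * (k₃ * (v.toMul : G) * k₃⁻¹) := fun v => rfl
      change (((D (D v)).toMul : R) : G) = 1
      -- `D v` commutes with `t`
      obtain ⟨c, hvc⟩ := h.conj_t _ v.toMul.2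
      have hkt : ∀ k ∈ E.T, (k * (v.toMul : G) * k⁻¹) * E.t * (k * (v.toMul : G) * k⁻¹)⁻¹ =
          (k * x c * k⁻¹) * E.t := by
        intro k hk
        have htk := E.T_t k hk
        have e2 : k⁻¹ * E.t * k = E.t := by rw [mul_assoc, htk]; group
        have e : (k * (v.toMul : G) * k⁻¹) * E.t * (k * (v.toMul : G) * k⁻¹)⁻¹ =
            k * ((v.toMul : G) * (k⁻¹ * E.t * k) * (v.toMul : G)⁻¹) * k⁻¹ := by group
        rw [e, e2, hvc]
        calc k * (x c * E.t) * k⁻¹ = (k * x c * k⁻¹) * (k * E.t * k⁻¹) := by group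
          _ = (k * x c * k⁻¹) * E.t := by rw [← htk]; group
      have hmR : ∀ k ∈ E.T, k * (v.toMul : G) * k⁻¹ ∈ R := fun k hk => h.conj_T k hk _ v.toMul.2
      have hxR : ∀ k ∈ E.T, k * x c * k⁻¹ ∈ R := fun k hk => h.conj_T k hk _ (h.mem c)
      obtain ⟨d, hd⟩ := h.cent (((D v).toMul : R) : G) (D v).toMul.2 (by
        rw [hDv]
        set g₁ := k₁ * (v.toMul : G) * k₁⁻¹ with hg₁
        set g₂ := k₂ * (v.toMul : G) * k₂⁻¹ with hg₂
        set g₃ := k₃ * (v.toMul : G) * k₃⁻¹ with hg₃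
        have t1 : g₁ * E.t = (k₁ * x c * k₁⁻¹) * E.t * g₁ := by
          rw [← hkt k₁ hk₁, inv_mul_cancel_right]
        have t2 : g₂ * E.t = (k₂ * x c * k₂⁻¹) * E.t * g₂ := by
          rw [← hkt k₂ hk₂, inv_mul_cancel_right]
        have t3 : g₃ * E.t = (k₃ * x c * k₃⁻¹) * E.t * g₃ := by
          rw [← hkt k₃ hk₃, inv_mul_cancel_right]
        have c1 : g₂ * (k₃ * x c * k₃⁻¹) = (k₃ * x c * k₃⁻¹) * g₂ := root_comm h (hmR k₂ hk₂) (hxR k₃ hk₃)
        have c2 : g₁ * (k₃ * x c * k₃⁻¹) = (k₃ * x c * k₃⁻¹) * g₁ := root_comm h (hmR k₁ hk₁) (hxR k₃ hk₃)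
        have c3 : g₁ * (k₂ * x c * k₂⁻¹) = (k₂ * x c * k₂⁻¹) * g₁ := root_comm h (hmR k₁ hk₁) (hxR k₂ hk₂)
        have c4 : (k₃ * x c * k₃⁻¹) * (k₂ * x c * k₂⁻¹) = (k₂ * x c * k₂⁻¹) * (k₃ * x c * k₃⁻¹) :=
          root_comm h (hxR k₃ hk₃) (hxR k₂ hk₂)
        have c5 : (k₃ * x c * k₃⁻¹) * (k₁ * x c * k₁⁻¹) = (k₁ * x c * k₁⁻¹) * (k₃ * x c * k₃⁻¹) :=
          root_comm h (hxR k₃ hk₃) (hxR k₁ hk₁)
        have c6 : (k₂ * x c * k₂⁻¹) * (k₁ * x c * k₁⁻¹) = (k₁ * x c * k₁⁻¹) * (k₂ * x c * k₂⁻¹) :=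
          root_comm h (hxR k₂ hk₂) (hxR k₁ hk₁)
        have hcc := hc c
        set y₁ := k₁ * x c * k₁⁻¹ with hy₁
        set y₂ := k₂ * x c * k₂⁻¹ with hy₂
        set y₃ := k₃ * x c * k₃⁻¹ with hy₃
        calc g₁ * g₂ * g₃ * E.t = g₁ * g₂ * (g₃ * E.t) := by group
          _ = g₁ * (g₂ * y₃) * E.t * g₃ := by rw [t3]; group
          _ = (g₁ * y₃) * (g₂ * E.t) * g₃ := by rw [c1]; group
          _ = y₃ * (g₁ * y₂) * E.t * g₂ * g₃ := by rw [c2, t2]; group
          _ = y₃ * y₂ * (g₁ * E.t) * g₂ * g₃ := by rw [c3]; group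
          _ = (y₃ * y₂) * y₁ * E.t * (g₁ * g₂ * g₃) := by rw [t1]; group
          _ = y₂ * (y₃ * y₁) * E.t * (g₁ * g₂ * g₃) := by rw [c4]; group
          _ = (y₂ * y₁) * y₃ * E.t * (g₁ * g₂ * g₃) := by rw [c5]; group
          _ = E.t * (g₁ * g₂ * g₃) := by rw [c6, hcc, one_mul])
      rw [hDv, hd]
      exact hc d)
  have h5 := congrArg (fun a : AddMonoid.End (Additive R) =>
    (((a (Additive.ofMul ⟨g, hg⟩)).toMul : R) : G)) hD
  exact h5

omit h

/-- An equivariant section of a grown root group. -/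
structure Sec (E : WEnv B G) (x : M → G) (R : Subgroup G) (p : M → G) : Prop where
  add : ∀ a b, p (a + b) = p a * p b
  mem : ∀ s, p s ∈ R
  conj_t : ∀ s, p s * E.t * (p s)⁻¹ = x s * E.t
  tor : ∀ k ∈ E.T, ∀ μ : Mˣ, (∀ c, k * x c * k⁻¹ = x (μ * c)) → ∀ s, k * p s * k⁻¹ = p (μ * s)
  cover : ∀ g ∈ R, ∃ s c, g = p s * x c

include h

/-- Every element of `R` moving `t` to `x 1 * t` is a value of an equivariant section. -/
theorem exists_section (hM : ∀ a : M, a + a = 0) (hxa : ∀ a b, x (a + b) = x a * x b)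
    (hh : ∀ μ : Mˣ, ∃ k ∈ E.T, ∀ c, k * x c * k⁻¹ = x (μ * c)) {u : G} (hu : u ∈ R)
    (hu1 : u * E.t * u⁻¹ = x 1 * E.t) : ∃ p : M → G, p 1 = u ∧ Sec E x R p := by
  classical
  have hx0 : x 0 = 1 := WEnv.hom_zero hxa
  choose hk hkT hkx using hh
  let p : M → G := fun s => if hs : s = 0 then 1 else hk (Units.mk0 s hs) * u * (hk (Units.mk0 s hs))⁻¹
  have hp0 : p 0 = 1 := dif_pos rfl
  have hps : ∀ μ : Mˣ, p μ = hk μ * u * (hk μ)⁻¹ := by
    intro μ
    have : (μ : M) ≠ 0 := μ.ne_zero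
    change (if hs : (μ : M) = 0 then 1 else hk (Units.mk0 (μ : M) hs) * u * (hk (Units.mk0 (μ : M) hs))⁻¹) = _
    rw [dif_neg this]
    congr 2
    · congr 1
      exact Units.ext rfl
    · congr 1
      exact Units.ext rfl
  have hmem : ∀ s, p s ∈ R := by
    intro s
    by_cases hs : s = 0
    · rw [hs, hp0]; exact one_mem _
    · have := hps (Units.mk0 s hs)
      rw [Units.val_mk0] at this
      rw [this]
      exact h.conj_T _ (hkT _) _ hu
  -- an element of the torus with scalar `μ` maps `u` to `p μ`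
  have htor0 : ∀ k ∈ E.T, ∀ μ : Mˣ, (∀ c, k * x c * k⁻¹ = x (μ * c)) → k * u * k⁻¹ = p μ := by
    intro k hkk μ hkμ
    rw [hps]
    exact rigid_two h hx0 hkk (hkT μ) (fun c => by rw [hkμ, hkx]) hu
  have htor : ∀ k ∈ E.T, ∀ μ : Mˣ, (∀ c, k * x c * k⁻¹ = x (μ * c)) → ∀ s, k * p s * k⁻¹ = p (μ * s) := by
    intro k hkk μ hkμ s
    by_cases hs : s = 0
    · rw [hs, mul_zero, hp0]; group
    · have h1 := hps (Units.mk0 s hs)
      rw [Units.val_mk0] at h1
      have h2 := htor0 (k * hk (Units.mk0 s hs)) (mul_mem hkk (hkT _)) (μ * Units.mk0 s hs) (by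
        intro c
        have e : k * hk (Units.mk0 s hs) * x c * (k * hk (Units.mk0 s hs))⁻¹ =
          k * (hk (Units.mk0 s hs) * x c * (hk (Units.mk0 s hs))⁻¹) * k⁻¹ := by group
        rw [e, hkx, hkμ, Units.val_mul, mul_assoc])
      rw [Units.val_mul, Units.val_mk0] at h2
      rw [h1, ← h2]
      group
  have hconj : ∀ s, p s * E.t * (p s)⁻¹ = x s * E.t := by
    intro s
    by_cases hs : s = 0
    · rw [hs, hp0, hx0]; group
    · have h1 := hps (Units.mk0 s hs)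
      rw [Units.val_mk0] at h1
      have htk := E.T_t _ (hkT (Units.mk0 s hs))
      have h2 := hkx (Units.mk0 s hs) 1
      rw [Units.val_mk0, mul_one] at h2
      rw [h1]
      set k := hk (Units.mk0 s hs) with hkdef
      have e2 : k⁻¹ * E.t * k = E.t := by rw [mul_assoc, htk]; group
      have e : k * u * k⁻¹ * E.t * (k * u * k⁻¹)⁻¹ = k * (u * (k⁻¹ * E.t * k) * u⁻¹) * k⁻¹ := by group
      rw [e, e2, hu1]
      calc k * (x 1 * E.t) * k⁻¹ = (k * x 1 * k⁻¹) * (k * E.t * k⁻¹) := by group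
        _ = x s * E.t := by rw [h2, ← htk]; group
  have hxsq : ∀ a b : M, a + b = 0 → a = b := by
    intro a b hab
    have := hM b
    calc a = a + (b + b) := by rw [this, add_zero]
      _ = (a + b) + b := by ring
      _ = b := by rw [hab, zero_add]
  have hadd : ∀ a b, p (a + b) = p a * p b := by
    intro a b
    by_cases ha : a = 0
    · rw [ha, zero_add, hp0, one_mul]
    by_cases hb : b = 0
    · rw [hb, add_zero, hp0, mul_one]
    by_cases hab : a + b = 0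
    · rw [hab, hp0, hxsq a b hab, h.sq _ (hmem b)]
    have h1 := rigid_three h (hkT (Units.mk0 a ha)) (hkT (Units.mk0 b hb)) (hkT (Units.mk0 (a + b) hab)) (by
      intro c
      rw [hkx, hkx, hkx, ← hxa, ← hxa, Units.val_mk0, Units.val_mk0, Units.val_mk0, ← add_mul, hM, hx0]) hu
    have e1 := hps (Units.mk0 a ha)
    have e2 := hps (Units.mk0 b hb)
    have e3 := hps (Units.mk0 (a + b) hab)
    rw [Units.val_mk0] at e1 e2 e3
    rw [← e1, ← e2, ← e3] at h1
    have h2 := h.sq _ (hmem (a + b))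
    calc p (a + b) = (p a * p b * p (a + b)) * p (a + b) := by rw [h1, one_mul]
      _ = p a * p b * (p (a + b) * p (a + b)) := by group
      _ = p a * p b := by rw [h2, mul_one]
  refine ⟨p, ?_, hadd, hmem, hconj, htor, ?_⟩
  · have h1 := htor0 1 (one_mem _) 1 (fun c => by rw [Units.val_one, one_mul]; group)
    rw [Units.val_one] at h1
    rw [← h1]
    group
  · intro g hg
    obtain ⟨s, hs⟩ := h.conj_t g hg
    obtain ⟨c, hc⟩ := h.cent (p s * g) (mul_mem (hmem s) hg) (by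
      have h1 : g * E.t = x s * E.t * g := by rw [← hs, inv_mul_cancel_right]
      have h2 : p s * E.t = x s * E.t * p s := by rw [← hconj s, inv_mul_cancel_right]
      calc p s * g * E.t = p s * (g * E.t) := by group
        _ = (p s * x s) * E.t * g := by rw [h1]; group
        _ = x s * (p s * E.t) * g := by rw [root_comm h (hmem s) (h.mem s)]; group
        _ = (x s * x s) * E.t * (p s * g) := by rw [h2]; group
        _ = E.t * (p s * g) := by rw [h.sq _ (h.mem s), one_mul])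
    refine ⟨s, c, ?_⟩
    rw [← hc, ← mul_assoc, h.sq _ (hmem s), one_mul]

end

end Cfsg.Agent.StdRank2.UFourId
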