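import Mathlib
import Cfsg.Agent.StdRank2.UFourIdSection

/-!
# Vector calculus in the grown hermitian group `Z C B`

`VSec E Gr pc pb pz`: equivariant sections for the three grown root groups of `W`.  `Wh v` is the element with coordinate
vector `v ∈ (K × K) × (F × F) × (K × K)` (first coordinate of each pair: section, second: the old root group).
`Cj g v v'` : `g` conjugates `Wh v` to `Wh v'`.
-/

set_option autoImplicit false

namespace Cfsg.Agent.StdRank2.UFourId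

open Cfsg.Agent.StdRank2.UFour

variable {F : Type*} [Field F] [CharP F 2] {B : Bar F} {G : Type*} [Group G] {E : WEnv B G}

/-- Sections for the three grown root groups. -/
structure VSec (E : WEnv B G) (Gr : WGrown E) (pc : F → G) (pb pz : B.K → G) : Prop where
  c : Sec E E.xc Gr.C pc
  b : Sec E E.xb Gr.Bb pb
  z : Sec E E.xz Gr.Z pz

/-- Coordinate vectors. -/
abbrev Vh (B : Bar F) : Type _ := (B.K × B.K) × (F × F) × (B.K × B.K)

namespace VSec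

def zv (x y : B.K) : Vh B := ((x, y), (0, 0), (0, 0))
def cv (x y : F) : Vh B := ((0, 0), (x, y), (0, 0))
def bv (x y : B.K) : Vh B := ((0, 0), (0, 0), (x, y))

theorem Vh_ext {u v : Vh B} (h1 : u.1.1 = v.1.1) (h2 : u.1.2 = v.1.2) (h3 : u.2.1.1 = v.2.1.1)
    (h4 : u.2.1.2 = v.2.1.2) (h5 : u.2.2.1 = v.2.2.1) (h6 : u.2.2.2 = v.2.2.2) : u = v :=
  Prod.ext (Prod.ext h1 h2) (Prod.ext (Prod.ext h3 h4) (Prod.ext h5 h6))

theorem add_self_V (v : Vh B) : v + v = 0 :=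
  Vh_ext (B.K_add_self _) (B.K_add_self _) (Bar.add_self _) (Bar.add_self _) (B.K_add_self _) (B.K_add_self _)

theorem zv_add (a b c d : B.K) : (zv (a + c) (b + d) : Vh B) = zv a b + zv c d := by
  apply Vh_ext <;> simp [zv]

theorem cv_add (a b c d : F) : (cv (a + c) (b + d) : Vh B) = cv a b + cv c d := by
  apply Vh_ext <;> simp [cv]

theorem bv_add (a b c d : B.K) : (bv (a + c) (b + d) : Vh B) = bv a b + bv c d := by
  apply Vh_ext <;> simp [bv]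

theorem zv_zero : (zv 0 0 : Vh B) = 0 := rfl
theorem cv_zero : (cv 0 0 : Vh B) = 0 := rfl
theorem bv_zero : (bv 0 0 : Vh B) = 0 := rfl

/-- The element with coordinate vector `v`. -/
def Wh (E : WEnv B G) (pc : F → G) (pb pz : B.K → G) (v : Vh B) : G :=
  (pz v.1.1 * E.xz v.1.2) * (pc v.2.1.1 * E.xc v.2.1.2) * (pb v.2.2.1 * E.xb v.2.2.2)

/-- `g` conjugates `Wh v` to `Wh v'`. -/
def Cj (E : WEnv B G) (pc : F → G) (pb pz : B.K → G) (g : G) (v v' : Vh B) : Prop :=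
  g * Wh E pc pb pz v * g⁻¹ = Wh E pc pb pz v'

variable {Gr : WGrown E} {pc : F → G} {pb pz : B.K → G} (h : VSec E Gr pc pb pz)

include h

theorem pz_zero : pz 0 = 1 := WEnv.hom_zero h.z.add
theorem pc_zero : pc 0 = 1 := WEnv.hom_zero h.c.add
theorem pb_zero : pb 0 = 1 := WEnv.hom_zero h.b.add

theorem Wh_z (x y : B.K) : Wh E pc pb pz (zv x y) = pz x * E.xz y := by
  unfold Wh zv
  rw [h.pc_zero, h.pb_zero, E.xc_zero, E.xb_zero]
  simp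

theorem Wh_c (x y : F) : Wh E pc pb pz (cv x y) = pc x * E.xc y := by
  unfold Wh cv
  rw [h.pz_zero, h.pb_zero, E.xz_zero, E.xb_zero]
  simp

theorem Wh_b (x y : B.K) : Wh E pc pb pz (bv x y) = pb x * E.xb y := by
  unfold Wh bv
  rw [h.pz_zero, h.pc_zero, E.xz_zero, E.xc_zero]
  simp

theorem z_mem (x y : B.K) : pz x * E.xz y ∈ Gr.Z := mul_mem (h.z.mem _) (Gr.rootZ.mem _)
theorem c_mem (x y : F) : pc x * E.xc y ∈ Gr.C := mul_mem (h.c.mem _) (Gr.rootC.mem _)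
theorem b_mem (x y : B.K) : pb x * E.xb y ∈ Gr.Bb := mul_mem (h.b.mem _) (Gr.rootB.mem _)

theorem Wh_z_mem (x y : B.K) : Wh E pc pb pz (zv x y) ∈ Gr.Z := by rw [h.Wh_z]; exact h.z_mem _ _
theorem Wh_c_mem (x y : F) : Wh E pc pb pz (cv x y) ∈ Gr.C := by rw [h.Wh_c]; exact h.c_mem _ _
theorem Wh_b_mem (x y : B.K) : Wh E pc pb pz (bv x y) ∈ Gr.Bb := by rw [h.Wh_b]; exact h.b_mem _ _

theorem exists_z {g : G} (hg : g ∈ Gr.Z) : ∃ x y, g = Wh E pc pb pz (zv x y) := by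
  obtain ⟨x, y, e⟩ := h.z.cover g hg
  exact ⟨x, y, by rw [h.Wh_z, e]⟩

theorem exists_c {g : G} (hg : g ∈ Gr.C) : ∃ x y, g = Wh E pc pb pz (cv x y) := by
  obtain ⟨x, y, e⟩ := h.c.cover g hg
  exact ⟨x, y, by rw [h.Wh_c, e]⟩

theorem exists_b {g : G} (hg : g ∈ Gr.Bb) : ∃ x y, g = Wh E pc pb pz (bv x y) := by
  obtain ⟨x, y, e⟩ := h.b.cover g hg
  exact ⟨x, y, by rw [h.Wh_b, e]⟩

omit h in
theorem two_add {M : Type*} [AddCommMonoid M] {R : Subgroup G} {x p : M → G} (hp : ∀ a b, p (a + b) = p a * p b)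
    (hx : ∀ a b, x (a + b) = x a * x b) (hc : ∀ a b, p a * x b = x b * p a) (a b c d : M) :
    p (a + c) * x (b + d) = (p a * x b) * (p c * x d) := by
  rw [hp, hx]
  calc p a * p c * (x b * x d) = p a * (p c * x b) * x d := by group
    _ = p a * (x b * p c) * x d := by rw [hc]
    _ = (p a * x b) * (p c * x d) := by group

theorem Wh_add (u v : Vh B) : Wh E pc pb pz (u + v) = Wh E pc pb pz u * Wh E pc pb pz v := by
  unfold Wh
  simp only [Prod.fst_add, Prod.snd_add]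
  rw [two_add (R := Gr.Z) h.z.add E.xz_add (fun a b => root_comm Gr.rootZ (h.z.mem _) (Gr.rootZ.mem _)),
    two_add (R := Gr.C) h.c.add E.xc_add (fun a b => root_comm Gr.rootC (h.c.mem _) (Gr.rootC.mem _)),
    two_add (R := Gr.Bb) h.b.add E.xb_add (fun a b => root_comm Gr.rootB (h.b.mem _) (Gr.rootB.mem _))]
  have z1 := h.z_mem u.1.1 u.1.2
  have z2 := h.z_mem v.1.1 v.1.2
  have c1 := h.c_mem u.2.1.1 u.2.1.2
  have c2 := h.c_mem v.2.1.1 v.2.1.2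
  have b1 := h.b_mem u.2.2.1 u.2.2.2
  have b2 := h.b_mem v.2.2.1 v.2.2.2
  revert z1 z2 c1 c2 b1 b2
  generalize pz u.1.1 * E.xz u.1.2 = Z1
  generalize pz v.1.1 * E.xz v.1.2 = Z2
  generalize pc u.2.1.1 * E.xc u.2.1.2 = C1
  generalize pc v.2.1.1 * E.xc v.2.1.2 = C2
  generalize pb u.2.2.1 * E.xb u.2.2.2 = B1
  generalize pb v.2.2.1 * E.xb v.2.2.2 = B2
  intro z1 z2 c1 c2 b1 b2
  calc Z1 * Z2 * (C1 * C2) * (B1 * B2) = Z1 * (Z2 * C1) * (C2 * B1) * B2 := by group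
    _ = Z1 * C1 * (Z2 * B1) * C2 * B2 := by rw [Gr.Z_C _ z2 _ c1, Gr.C_B _ c2 _ b1]; group
    _ = Z1 * C1 * B1 * (Z2 * C2 * B2) := by rw [Gr.Z_B _ z2 _ b1]; group

theorem Wh_zero : Wh E pc pb pz 0 = 1 := WEnv.hom_zero h.Wh_add

theorem Wh_sq (v : Vh B) : Wh E pc pb pz v * Wh E pc pb pz v = 1 := by rw [← h.Wh_add, add_self_V, h.Wh_zero]

theorem Wh_inv (v : Vh B) : (Wh E pc pb pz v)⁻¹ = Wh E pc pb pz v := WEnv.inv_of_sq (h.Wh_sq v)

theorem Wh_comm (u v : Vh B) : Wh E pc pb pz u * Wh E pc pb pz v = Wh E pc pb pz v * Wh E pc pb pz u := by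
  rw [← h.Wh_add, add_comm, h.Wh_add]

/-- Conjugation of `t`. -/
theorem Wh_t (v : Vh B) : Wh E pc pb pz v * E.t * (Wh E pc pb pz v)⁻¹ = E.w (v.1.1, v.2.1.1, v.2.2.1) * E.t := by
  have key : ∀ {M : Type _} [AddCommMonoid M] {x p : M → G} (_ : ∀ s, p s * E.t * (p s)⁻¹ = x s * E.t)
      (_ : ∀ s, E.t * x s = x s * E.t) (a b : M), (p a * x b) * E.t * (p a * x b)⁻¹ = x a * E.t := by
    intro M _ x p h1 h2 a b
    calc (p a * x b) * E.t * (p a * x b)⁻¹ = p a * (x b * E.t) * (x b)⁻¹ * (p a)⁻¹ := by group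
      _ = p a * E.t * (p a)⁻¹ := by rw [← h2]; group
      _ = x a * E.t := h1 a
  have hz := key h.z.conj_t E.t_z v.1.1 v.1.2
  have hc := key h.c.conj_t E.t_c v.2.1.1 v.2.1.2
  have hb := key h.b.conj_t E.t_b v.2.2.1 v.2.2.2
  have z1 := h.z_mem v.1.1 v.1.2
  have c1 := h.c_mem v.2.1.1 v.2.1.2
  unfold Wh WEnv.w
  revert z1 c1 hz hc hb
  generalize pz v.1.1 * E.xz v.1.2 = Z1
  generalize pc v.2.1.1 * E.xc v.2.1.2 = C1
  generalize pb v.2.2.1 * E.xb v.2.2.2 = B1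
  intro hz hc hb z1 c1
  have e1 : C1 * E.xb v.2.2.1 = E.xb v.2.2.1 * C1 := Gr.C_B _ c1 _ (Gr.rootB.mem _)
  have e2 : Z1 * E.xb v.2.2.1 = E.xb v.2.2.1 * Z1 := Gr.Z_B _ z1 _ (Gr.rootB.mem _)
  have e3 : Z1 * E.xc v.2.1.1 = E.xc v.2.1.1 * Z1 := Gr.Z_C _ z1 _ (Gr.rootC.mem _)
  calc Z1 * C1 * B1 * E.t * (Z1 * C1 * B1)⁻¹ = Z1 * (C1 * (B1 * E.t * B1⁻¹) * C1⁻¹) * Z1⁻¹ := by group
    _ = Z1 * ((C1 * E.xb v.2.2.1) * E.t * C1⁻¹) * Z1⁻¹ := by rw [hb]; group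
    _ = (Z1 * E.xb v.2.2.1) * (C1 * E.t * C1⁻¹) * Z1⁻¹ := by rw [e1]; group
    _ = E.xb v.2.2.1 * (Z1 * E.xc v.2.1.1) * E.t * Z1⁻¹ := by rw [e2, hc]; group
    _ = E.xb v.2.2.1 * E.xc v.2.1.1 * (Z1 * E.t * Z1⁻¹) := by rw [e3]; group
    _ = E.xb v.2.2.1 * (E.xc v.2.1.1 * E.xz v.1.1) * E.t := by rw [hz]; group
    _ = (E.xb v.2.2.1 * E.xz v.1.1) * E.xc v.2.1.1 * E.t := by rw [← E.z_c]; group
    _ = E.xz v.1.1 * (E.xb v.2.2.1 * E.xc v.2.1.1) * E.t := by rw [← E.z_b]; group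
    _ = E.xz v.1.1 * E.xc v.2.1.1 * E.xb v.2.2.1 * E.t := by rw [← E.c_b]; group

theorem Wh_eq_one {v : Vh B} (e : Wh E pc pb pz v = 1) : v = 0 := by
  have h1 := h.Wh_t v
  rw [e] at h1
  have h2 : E.w (v.1.1, v.2.1.1, v.2.2.1) = 1 := by
    have h3 : 1 * E.t = E.w (v.1.1, v.2.1.1, v.2.2.1) * E.t := by rw [← h1]; group
    exact (mul_right_cancel h3).symm
  have h3 := E.w_eq_one h2
  have a1 : v.1.1 = 0 := congrArg (fun x : B.V => x.1) h3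
  have a2 : v.2.1.1 = 0 := congrArg (fun x : B.V => x.2.1) h3
  have a3 : v.2.2.1 = 0 := congrArg (fun x : B.V => x.2.2) h3
  have h4 : E.w (v.1.2, v.2.1.2, v.2.2.2) = 1 := by
    rw [← e]
    unfold Wh WEnv.w
    rw [a1, a2, a3, h.pz_zero, h.pc_zero, h.pb_zero, one_mul, one_mul, one_mul]
  have h5 := E.w_eq_one h4
  have b1 : v.1.2 = 0 := congrArg (fun x : B.V => x.1) h5
  have b2 : v.2.1.2 = 0 := congrArg (fun x : B.V => x.2.1) h5
  have b3 : v.2.2.2 = 0 := congrArg (fun x : B.V => x.2.2) h5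
  exact Vh_ext a1 b1 a2 b2 a3 b3

theorem Wh_injective {u v : Vh B} (e : Wh E pc pb pz u = Wh E pc pb pz v) : u = v := by
  have h1 : Wh E pc pb pz (u + v) = 1 := by rw [h.Wh_add, e, h.Wh_sq]
  have h2 := h.Wh_eq_one h1
  calc u = u + (v + v) := by rw [add_self_V, add_zero]
    _ = (u + v) + v := by rw [add_assoc]
    _ = v := by rw [h2, zero_add]

/-- `t` acts by adding the section coordinates to the old coordinates. -/
def tv (v : Vh B) : Vh B := ((v.1.1, v.1.2 + v.1.1), (v.2.1.1, v.2.1.2 + v.2.1.1), (v.2.2.1, v.2.2.2 + v.2.2.1))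

theorem t_Wh (v : Vh B) : E.t * Wh E pc pb pz v * E.t = Wh E pc pb pz (tv v) := by
  have h1 := h.Wh_t v
  rw [h.Wh_inv] at h1
  have h2 : E.t * Wh E pc pb pz v * E.t = Wh E pc pb pz v * E.w (v.1.1, v.2.1.1, v.2.2.1) := by
    have : Wh E pc pb pz v * (E.t * Wh E pc pb pz v * E.t) = E.w (v.1.1, v.2.1.1, v.2.2.1) := by
      calc Wh E pc pb pz v * (E.t * Wh E pc pb pz v * E.t) = (Wh E pc pb pz v * E.t * Wh E pc pb pz v) * E.t := by group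
        _ = E.w (v.1.1, v.2.1.1, v.2.2.1) * (E.t * E.t) := by rw [h1]; group
        _ = _ := by rw [E.t_sq, mul_one]
    rw [← this, ← mul_assoc, ← mul_assoc, ← mul_assoc, h.Wh_sq, one_mul]
  rw [h2]
  have h3 : E.w (v.1.1, v.2.1.1, v.2.2.1) = Wh E pc pb pz ((0, v.1.1), (0, v.2.1.1), (0, v.2.2.1)) := by
    unfold Wh WEnv.w
    rw [h.pz_zero, h.pc_zero, h.pb_zero, one_mul, one_mul, one_mul]
  rw [h3, ← h.Wh_add]
  congr 1
  apply Vh_ext <;> simp [tv]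

end VSec

/-! ### Conjugation of vectors -/

namespace VSec

variable {Gr : WGrown E} {pc : F → G} {pb pz : B.K → G} (h : VSec E Gr pc pb pz)

include h

theorem Cj.add {g : G} {u u' v v' : Vh B} (h1 : Cj E pc pb pz g u u') (h2 : Cj E pc pb pz g v v') :
    Cj E pc pb pz g (u + v) (u' + v') := by
  unfold Cj at *
  rw [h.Wh_add, h.Wh_add, ← h1, ← h2]
  group

omit h in
theorem Cj.mul {g k : G} {u v w : Vh B} (h1 : Cj E pc pb pz g u v) (h2 : Cj E pc pb pz k v w) :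
    Cj E pc pb pz (k * g) u w := by
  unfold Cj at *
  rw [← h2, ← h1]
  group

theorem Cj.unique {g : G} {u v w : Vh B} (h1 : Cj E pc pb pz g u v) (h2 : Cj E pc pb pz g u w) : v = w := by
  unfold Cj at *
  exact h.Wh_injective (h1.symm.trans h2)

theorem Cj.zero (g : G) : Cj E pc pb pz g 0 0 := by
  unfold Cj
  rw [h.Wh_zero]
  group

omit h in
theorem Cj.one (v : Vh B) : Cj E pc pb pz 1 v v := by
  unfold Cj
  group

theorem Cj.t {g : G} {u v : Vh B} (h1 : Cj E pc pb pz g u v) : Cj E pc pb pz (E.t * g * E.t) (tv u) (tv v) := by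
  unfold Cj at *
  rw [← h.t_Wh, ← h.t_Wh, ← h1]
  have e : (E.t * g * E.t)⁻¹ = E.t⁻¹ * g⁻¹ * E.t⁻¹ := by group
  rw [e]
  have e2 := E.t_inv
  calc E.t * g * E.t * (E.t * Wh E pc pb pz u * E.t) * (E.t⁻¹ * g⁻¹ * E.t⁻¹)
      = E.t * g * (E.t * E.t) * Wh E pc pb pz u * g⁻¹ * E.t⁻¹ := by group
    _ = E.t * (g * Wh E pc pb pz u * g⁻¹) * E.t := by rw [E.t_sq, e2]; group

/-- The action of the torus. -/
def hv (μ : Fˣ) (ν : B.Kˣ) (v : Vh B) : Vh B :=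
  ((B.nm μ * ν * v.1.1, B.nm μ * ν * v.1.2), (μ * ((ν : B.K) : F) * v.2.1.1, μ * ((ν : B.K) : F) * v.2.1.2),
    (ν * v.2.2.1, ν * v.2.2.2))

theorem conj_h (μ : Fˣ) (ν : B.Kˣ) (v : Vh B) : Cj E pc pb pz (E.h μ ν) v (hv μ ν v) := by
  unfold Cj
  have hz := h.z.tor (E.h μ ν) (E.h_mem μ ν) (Units.mk0 (B.nm μ * ν) (mul_ne_zero (by
    intro e
    exact μ.ne_zero (B.nm_eq_zero.1 e)) ν.ne_zero)) (fun c => by rw [E.h_z]; rfl)
  have hc := h.c.tor (E.h μ ν) (E.h_mem μ ν) (Units.mk0 (μ * ((ν : B.K) : F)) (mul_ne_zero μ.ne_zero (by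
    intro e
    exact ν.ne_zero (Subtype.ext e)))) (fun c => by rw [E.h_c]; rfl)
  have hb := h.b.tor (E.h μ ν) (E.h_mem μ ν) ν (fun c => by rw [E.h_b])
  unfold Wh hv
  have e : E.h μ ν * (pz v.1.1 * E.xz v.1.2 * (pc v.2.1.1 * E.xc v.2.1.2) * (pb v.2.2.1 * E.xb v.2.2.2)) * (E.h μ ν)⁻¹ =
      (E.h μ ν * pz v.1.1 * (E.h μ ν)⁻¹) * (E.h μ ν * E.xz v.1.2 * (E.h μ ν)⁻¹) *
      ((E.h μ ν * pc v.2.1.1 * (E.h μ ν)⁻¹) * (E.h μ ν * E.xc v.2.1.2 * (E.h μ ν)⁻¹)) *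
      ((E.h μ ν * pb v.2.2.1 * (E.h μ ν)⁻¹) * (E.h μ ν * E.xb v.2.2.2 * (E.h μ ν)⁻¹)) := by group
  rw [e, hz, hc, hb, E.h_z, E.h_c, E.h_b]
  rfl

/-- Scaling. -/
theorem Cj.scale {g g' : G} {μ : Fˣ} {ν : B.Kˣ} {u v : Vh B} (hg : E.h μ ν * g * (E.h μ ν)⁻¹ = g')
    (h1 : Cj E pc pb pz g u v) : Cj E pc pb pz g' (hv μ ν u) (hv μ ν v) := by
  have hu := h.conj_h μ ν u
  have hv := h.conj_h μ ν v
  unfold Cj at *
  rw [← hu, ← hv, ← h1, ← hg]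
  group

end VSec

end Cfsg.Agent.StdRank2.UFourId
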