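import Mathlib
import Cfsg.Agent.StdRank2.UFourIdVec

/-!
# The action of `X_a` on the grown hermitian group

With suitable sections, `xa s` acts on `Wh v` by the same formulas on the section coordinates as on the old coordinates.
-/

set_option autoImplicit false

namespace Cfsg.Agent.StdRank2.UFourId

open Cfsg.Agent.StdRank2.UFour

variable {F : Type*} [Field F] [CharP F 2] {B : Bar F} {G : Type*} [Group G] {E : WEnv B G}

namespace VSec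

/-- Sections exist, with `xa 1` acting correctly on the section of `Bb`. -/
theorem exists_vsec (Gr : WGrown E) : ∃ pc pb pz, VSec E Gr pc pb pz ∧
    Cj E pc pb pz (E.xa 1) (bv 1 0) (zv 1 0 + cv 1 0 + bv 1 0) := by
  obtain ⟨ub, hub, hub1⟩ := Gr.rootB.onto 1
  obtain ⟨r, hr, c, hc, e⟩ := Gr.a_B 1 ub hub
  have hta : ∀ x, E.t * E.xa x = E.xa x * E.t := E.t_a
  -- the action on `t`
  obtain ⟨dr, hdr⟩ := Gr.rootZ.conj_t r hr
  obtain ⟨dc, hdc⟩ := Gr.rootC.conj_t c hc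
  have h1 : (E.xa 1 * ub * (E.xa 1)⁻¹) * E.t * (E.xa 1 * ub * (E.xa 1)⁻¹)⁻¹ = E.w (1, 1, 1) * E.t := by
    have e2 : (E.xa 1)⁻¹ * E.t * E.xa 1 = E.t := by rw [mul_assoc, hta]; group
    have h2 := E.a_b 1 1
    rw [B.nm_one, one_mul] at h2
    calc (E.xa 1 * ub * (E.xa 1)⁻¹) * E.t * (E.xa 1 * ub * (E.xa 1)⁻¹)⁻¹
        = E.xa 1 * (ub * ((E.xa 1)⁻¹ * E.t * E.xa 1) * ub⁻¹) * (E.xa 1)⁻¹ := by group
      _ = (E.xa 1 * E.xb 1 * (E.xa 1)⁻¹) * (E.xa 1 * E.t * (E.xa 1)⁻¹) := by rw [e2, hub1]; group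
      _ = (E.xa 1 * E.xb 1 * (E.xa 1)⁻¹) * E.t := by rw [← hta]; group
      _ = E.w (1, 1, 1) * E.t := by
        rw [h2]
        unfold WEnv.w
        congr 4
        exact mul_one _
  have h2 : (r * c * ub) * E.t * (r * c * ub)⁻¹ = E.w (dr, dc, 1) * E.t := by
    have e1 : c * E.xb 1 = E.xb 1 * c := Gr.C_B _ hc _ (Gr.rootB.mem _)
    have e2 : r * E.xb 1 = E.xb 1 * r := Gr.Z_B _ hr _ (Gr.rootB.mem _)
    have e3 : r * E.xc dc = E.xc dc * r := Gr.Z_C _ hr _ (Gr.rootC.mem _)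
    unfold WEnv.w
    calc (r * c * ub) * E.t * (r * c * ub)⁻¹ = r * (c * (ub * E.t * ub⁻¹) * c⁻¹) * r⁻¹ := by group
      _ = r * ((c * E.xb 1) * E.t * c⁻¹) * r⁻¹ := by rw [hub1]; group
      _ = (r * E.xb 1) * (c * E.t * c⁻¹) * r⁻¹ := by rw [e1]; group
      _ = E.xb 1 * (r * E.xc dc) * E.t * r⁻¹ := by rw [e2, hdc]; group
      _ = E.xb 1 * E.xc dc * (r * E.t * r⁻¹) := by rw [e3]; group
      _ = E.xb 1 * (E.xc dc * E.xz dr) * E.t := by rw [hdr]; group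
      _ = (E.xb 1 * E.xz dr) * E.xc dc * E.t := by rw [← E.z_c]; group
      _ = E.xz dr * (E.xb 1 * E.xc dc) * E.t := by rw [← E.z_b]; group
      _ = E.xz dr * E.xc dc * E.xb 1 * E.t := by rw [← E.c_b]; group
  rw [e, h2] at h1
  have h3 := E.w_injective (mul_right_cancel h1)
  have hdr1 : dr = 1 := congrArg (fun x : B.V => x.1) h3
  have hdc1 : dc = 1 := congrArg (fun x : B.V => x.2.1) h3
  rw [hdr1] at hdr
  rw [hdc1] at hdc
  obtain ⟨pb, hpb1, hpb⟩ := exists_section Gr.rootB B.K_add_self E.xb_add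
    (fun μ => ⟨E.h 1 μ, E.h_mem _ _, fun x => E.h_b _ _ _⟩) hub hub1
  obtain ⟨pc, hpc1, hpc⟩ := exists_section Gr.rootC (fun a => Bar.add_self a) E.xc_add
    (fun μ => ⟨E.h μ 1, E.h_mem _ _, fun x => by rw [E.h_c]; simp⟩) hc hdc
  obtain ⟨pz, hpz1, hpz⟩ := exists_section Gr.rootZ B.K_add_self E.xz_add
    (fun μ => ⟨E.h 1 μ, E.h_mem _ _, fun x => by rw [E.h_z]; simp [B.nm_one]⟩) hr hdr
  have hV : VSec E Gr pc pb pz := ⟨hpc, hpb, hpz⟩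
  refine ⟨pc, pb, pz, hV, ?_⟩
  unfold Cj
  rw [hV.Wh_add, hV.Wh_add, hV.Wh_b, hV.Wh_z, hV.Wh_c, E.xb_zero, E.xc_zero, E.xz_zero, mul_one, mul_one, mul_one,
    hpb1, hpc1, hpz1]
  exact e

variable {Gr : WGrown E} {pc : F → G} {pb pz : B.K → G} (h : VSec E Gr pc pb pz)

include h

theorem xa_z (s : F) (x y : B.K) : Cj E pc pb pz (E.xa s) (zv x y) (zv x y) := by
  unfold Cj
  rw [← Gr.Z_a _ (h.Wh_z_mem x y), mul_inv_cancel_right]

theorem xa_c0 (s y : F) : Cj E pc pb pz (E.xa s) (cv 0 y) (zv 0 (B.tr (s * B.s y)) + cv 0 y) := by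
  unfold Cj
  rw [h.Wh_add, h.Wh_c, h.Wh_z, h.pc_zero, h.pz_zero, one_mul, one_mul]
  exact E.a_c s y

theorem xa_b0 (s : F) (r : B.K) :
    Cj E pc pb pz (E.xa s) (bv 0 r) (zv 0 (B.nm s * r) + cv 0 (s * r) + bv 0 r) := by
  unfold Cj
  rw [h.Wh_add, h.Wh_add, h.Wh_c, h.Wh_z, h.Wh_b, h.pc_zero, h.pz_zero, h.pb_zero, one_mul, one_mul, one_mul]
  exact E.a_b s r

/-- Scaling of the action of a family on the vectors `bv`. -/
theorem scale_b {P : F → G} (hP0 : P 0 = 1) (hP : ∀ (μ : Fˣ) (ν : B.Kˣ) s, E.h μ ν * P s * (E.h μ ν)⁻¹ = P (μ * s))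
    {a b z₁ z₂ : B.K} {c₁ c₂ : F} (h1 : Cj E pc pb pz (P 1) (bv a b) (zv z₁ z₂ + cv c₁ c₂ + bv a b)) (s : F) (r : B.K) :
    Cj E pc pb pz (P s) (bv (r * a) (r * b))
      (zv (B.nm s * r * z₁) (B.nm s * r * z₂) + cv (s * r * c₁) (s * r * c₂) + bv (r * a) (r * b)) := by
  by_cases hs : s = 0
  · subst hs
    rw [hP0, B.nm_zero]
    simp only [zero_mul, zv_zero, cv_zero, zero_add]
    exact Cj.one _
  by_cases hr : r = 0
  · subst hr
    simp only [zero_mul, mul_zero, ZeroMemClass.coe_zero, zv_zero, cv_zero, bv_zero, zero_add, add_zero]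
    exact Cj.zero h _
  have h2 := Cj.scale h (g := P 1) (g' := P s) (μ := Units.mk0 s hs) (ν := Units.mk0 r hr)
    (by rw [hP, Units.val_mk0, mul_one]) h1
  have e1 : hv (Units.mk0 s hs) (Units.mk0 r hr) (bv a b : Vh B) = bv (r * a) (r * b) := by
    apply Vh_ext <;> simp [hv, bv]
  have e2 : hv (Units.mk0 s hs) (Units.mk0 r hr) (zv z₁ z₂ + cv c₁ c₂ + bv a b : Vh B) =
      zv (B.nm s * r * z₁) (B.nm s * r * z₂) + cv (s * r * c₁) (s * r * c₂) + bv (r * a) (r * b) := by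
    apply Vh_ext <;> simp [hv, bv, zv, cv]
  rwa [e1, e2] at h2

theorem xa_b1 (h1 : Cj E pc pb pz (E.xa 1) (bv 1 0) (zv 1 0 + cv 1 0 + bv 1 0)) (s : F) (r : B.K) :
    Cj E pc pb pz (E.xa s) (bv r 0) (zv (B.nm s * r) 0 + cv (s * r) 0 + bv r 0) := by
  have h2 := h.scale_b E.xa_zero (fun μ ν s => E.h_a μ ν s) h1 s r
  simpa using h2

theorem xa_c1 (h1 : Cj E pc pb pz (E.xa 1) (bv 1 0) (zv 1 0 + cv 1 0 + bv 1 0)) (s y : F) :
    Cj E pc pb pz (E.xa s) (cv y 0) (zv (B.tr (s * B.s y)) 0 + cv y 0) := by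
  -- some action exists
  obtain ⟨r, hr, e⟩ := Gr.a_C s _ (h.Wh_c_mem y 0)
  obtain ⟨z₁, z₂, hz⟩ := h.exists_z hr
  have h2 : Cj E pc pb pz (E.xa s) (cv y 0) (zv z₁ z₂ + cv y 0) := by
    unfold Cj
    rw [h.Wh_add, ← hz]
    exact e
  -- compare on `bv 1 0`
  have h3 := Cj.mul (h.xa_b1 h1 y 1) (Cj.add h (Cj.add h (h.xa_z s (B.nm y * 1) 0) (by simpa using h2)) (h.xa_b1 h1 s 1))
  have h4 := h.xa_b1 h1 (s + y) 1
  rw [E.xa_add] at h4
  have h5 := Cj.unique h h3 h4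
  have e1 := congrArg (fun v : Vh B => v.1.1) h5
  have e2 := congrArg (fun v : Vh B => v.1.2) h5
  simp only [zv, cv, bv, Prod.fst_add, mul_one, add_zero] at e1 e2
  rw [B.nm_add] at e1
  have e3 : z₁ = B.tr (s * B.s y) := by linear_combination e1
  rw [e3] at h2
  have e4 : z₂ = 0 := by simpa using e2
  rw [e4] at h2
  exact h2

/-- The action of `xa s` on all vectors. -/
def av (s : F) (v : Vh B) : Vh B :=
  ((v.1.1 + B.tr (s * B.s v.2.1.1) + B.nm s * v.2.2.1, v.1.2 + B.tr (s * B.s v.2.1.2) + B.nm s * v.2.2.2),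
    (v.2.1.1 + s * v.2.2.1, v.2.1.2 + s * v.2.2.2), v.2.2)

omit h in
theorem decomp (v : Vh B) : v = zv v.1.1 v.1.2 + cv v.2.1.1 0 + cv 0 v.2.1.2 + bv v.2.2.1 0 + bv 0 v.2.2.2 := by
  apply Vh_ext <;> simp [zv, cv, bv]

theorem xa_act (h1 : Cj E pc pb pz (E.xa 1) (bv 1 0) (zv 1 0 + cv 1 0 + bv 1 0)) (s : F) (v : Vh B) :
    Cj E pc pb pz (E.xa s) v (av s v) := by
  have h2 := Cj.add h (Cj.add h (Cj.add h (Cj.add h (h.xa_z s v.1.1 v.1.2) (h.xa_c1 h1 s v.2.1.1)) (h.xa_c0 s v.2.1.2))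
    (h.xa_b1 h1 s v.2.2.1)) (h.xa_b0 s v.2.2.2)
  rw [← decomp] at h2
  convert h2 using 1
  apply Vh_ext <;> simp [zv, cv, bv, av]

end VSec

end Cfsg.Agent.StdRank2.UFourId
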