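import Mathlib
import Cfsg.Agent.StdRank2.UFourIdW

/-!
# Structure constants of the grown group of type `U₄(q)`

`Lab Gr d pa pc pb pz`: equivariant sections of the four grown root groups such that the whole group has the commutator
relations of type `U₄` over the ring `K[e] / (e² + e + d)`.
-/

set_option autoImplicit false

namespace Cfsg.Agent.StdRank2.UFourId

open Cfsg.Agent.StdRank2.UFour VSec

variable {F : Type*} [Field F] [CharP F 2] {B : Bar F} {G : Type*} [Group G] {E : Env B G}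

/-- The action of `pa s`. -/
def pv (d : B.K) (s : F) (v : Vh B) : Vh B :=
  ((v.1.1 + B.tr (s * B.s v.2.1.2) + B.tr (s * B.s v.2.1.1) + B.nm s * v.2.2.2 + (1 + d) * B.nm s * v.2.2.1,
      v.1.2 + d * B.tr (s * B.s v.2.1.1) + d * B.nm s * v.2.2.2 + d * B.nm s * v.2.2.1),
    (v.2.1.1 + s * v.2.2.2 + s * v.2.2.1, v.2.1.2 + d * s * v.2.2.1), v.2.2)

/-- Structure constants. -/
structure Lab (Gr : Grown E) (d : B.K) (pa pc : F → G) (pb pz : B.K → G) : Prop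
    extends VSec E.toWEnv Gr.toWGrown pc pb pz where
  a : Sec E.toWEnv E.xa Gr.A pa
  xact : ∀ s v, Cj E.toWEnv pc pb pz (E.xa s) v (av s v)
  pact : ∀ s v, Cj E.toWEnv pc pb pz (pa s) v (pv d s v)

theorem tr_nondeg {c : F} (h : ∀ s, B.tr (s * c) = 0) : c = 0 := by
  by_contra hc
  have hc' : B.s c ≠ 0 := (map_ne_zero_iff B.s B.s.injective).2 hc
  obtain ⟨x, hx⟩ := B.tr_form_surj hc' 1
  rw [B.invol, h] at hx
  exact zero_ne_one hx

theorem mem_K_of_tr {c : F} (h : ∀ s, B.tr (s * c) = B.tr (s * B.s c)) : B.s c = c := by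
  have h1 : ∀ s, B.tr (s * (c + B.s c)) = 0 := by
    intro s
    rw [mul_add, B.tr_add, h, B.K_add_self]
  have h2 := tr_nondeg h1
  have h3 : B.s c = c + (c + B.s c) := by
    have := Bar.add_self c
    linear_combination -this
  rw [h3, h2, add_zero]

section

variable {Gr : Grown E} {pc : F → G} {pb pz : B.K → G} (h : VSec E.toWEnv Gr.toWGrown pc pb pz)

include h

theorem conj_A_b {a : G} (ha : a ∈ Gr.A) (x y : B.K) :
    ∃ z₁ z₂ c₁ c₂, Cj E.toWEnv pc pb pz a (bv x y) (zv z₁ z₂ + cv c₁ c₂ + bv x y) := by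
  obtain ⟨r, hr, c, hc, e⟩ := Gr.A_B a ha _ (h.Wh_b_mem x y)
  obtain ⟨z₁, z₂, hz⟩ := h.exists_z hr
  obtain ⟨c₁, c₂, hc'⟩ := h.exists_c hc
  refine ⟨z₁, z₂, c₁, c₂, ?_⟩
  unfold Cj
  rw [h.Wh_add, h.Wh_add, ← hz, ← hc']
  exact e

theorem conj_A_c {a : G} (ha : a ∈ Gr.A) (x y : F) :
    ∃ z₁ z₂, Cj E.toWEnv pc pb pz a (cv x y) (zv z₁ z₂ + cv x y) := by
  obtain ⟨r, hr, e⟩ := Gr.A_C a ha _ (h.Wh_c_mem x y)
  obtain ⟨z₁, z₂, hz⟩ := h.exists_z hr
  refine ⟨z₁, z₂, ?_⟩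
  unfold Cj
  rw [h.Wh_add, ← hz]
  exact e

theorem conj_A_z {a : G} (ha : a ∈ Gr.A) (x y : B.K) : Cj E.toWEnv pc pb pz a (zv x y) (zv x y) := by
  unfold Cj
  rw [← Gr.Z_A _ (h.Wh_z_mem x y) a ha, mul_inv_cancel_right]

/-- A suitable section of `A`. -/
theorem exists_pa (h1 : Cj E.toWEnv pc pb pz (E.xa 1) (bv 1 0) (zv 1 0 + cv 1 0 + bv 1 0)) :
    ∃ pa, Sec E.toWEnv E.xa Gr.A pa ∧ ∃ w₁ w₂,
      Cj E.toWEnv pc pb pz (pa 1) (bv 0 1) (zv w₁ w₂ + cv 1 0 + bv 0 1) := by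
  obtain ⟨g, hg, hgt⟩ := Gr.rootA.onto 1
  obtain ⟨r₁, r₂, c₁, c₂, hc⟩ := conj_A_b h hg 0 1
  have ht := Cj.t h hc
  rw [root_t Gr.rootA hg hgt] at ht
  have h2 := Cj.mul hc (h.xa_act h1 1 _)
  have e0 : (tv (bv 0 1 : Vh B)) = bv 0 1 := by
    apply Vh_ext <;> simp [tv, bv]
  rw [e0] at ht
  have h3 := Cj.unique h ht h2
  have e1 := congrArg (fun v : Vh B => v.2.1.2) h3
  simp only [tv, av, zv, cv, bv, Prod.fst_add, Prod.snd_add, add_zero, zero_add, mul_one, one_mul,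
    OneMemClass.coe_one] at e1
  have hc1 : c₁ = 1 := by linear_combination e1
  subst hc1
  have hmem : g * E.xa c₂ ∈ Gr.A := mul_mem hg (Gr.rootA.mem _)
  have hconj : (g * E.xa c₂) * E.t * (g * E.xa c₂)⁻¹ = E.xa 1 * E.t := by
    calc (g * E.xa c₂) * E.t * (g * E.xa c₂)⁻¹ = g * (E.xa c₂ * E.t) * (E.xa c₂)⁻¹ * g⁻¹ := by group
      _ = g * E.t * g⁻¹ := by rw [← E.t_a]; group
      _ = _ := hgt
  obtain ⟨pa, hpa1, hpa⟩ := exists_section Gr.rootA (fun a => Bar.add_self a) E.xa_add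
    (fun μ => ⟨E.h μ 1, E.h_mem _ _, fun x => E.h_a _ _ _⟩) hmem hconj
  refine ⟨pa, hpa, ?_⟩
  rw [hpa1]
  obtain ⟨a₁, a₂, ha⟩ := conj_A_c h hg 0 c₂
  have h4 := Cj.mul (h.xa_b0 c₂ 1) (Cj.add h (Cj.add h (conj_A_z h hg 0 (B.nm c₂ * 1)) (by simpa using ha)) hc)
  refine ⟨0 + a₁ + r₁, B.nm c₂ * 1 + a₂ + r₂, ?_⟩
  convert h4 using 1
  have e5 := Bar.add_self c₂
  apply Vh_ext
  · simp [zv, cv, bv]
  · simp [zv, cv, bv, add_assoc]
  · simp [zv, cv, bv]
  · simp [zv, cv, bv, e5]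
  · simp [zv, cv, bv]
  · simp [zv, cv, bv]

theorem exists_lab_aux (h1 : Cj E.toWEnv pc pb pz (E.xa 1) (bv 1 0) (zv 1 0 + cv 1 0 + bv 1 0)) :
    ∃ d pa, Lab Gr d pa pc pb pz := by
  obtain ⟨pa, hpa, w₁, w₂, hw⟩ := exists_pa h h1
  have hpa0 : pa 0 = 1 := WEnv.hom_zero hpa.add
  have hpah : ∀ (μ : Fˣ) (ν : B.Kˣ) s, E.h μ ν * pa s * (E.h μ ν)⁻¹ = pa (μ * s) := by
    intro μ ν s
    exact hpa.tor _ (E.h_mem μ ν) μ (fun c => E.h_a μ ν c) s
  have hpam : ∀ s, pa s ∈ Gr.A := hpa.mem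
  -- the action on `bv 0 r`
  have hb0 : ∀ s r, Cj E.toWEnv pc pb pz (pa s) (bv 0 r)
      (zv (B.nm s * r * w₁) (B.nm s * r * w₂) + cv (s * r) 0 + bv 0 r) := by
    intro s r
    have h2 := h.scale_b hpa0 hpah hw s r
    simpa using h2
  -- the action on `bv r 0`
  obtain ⟨v₁, v₂, g₁, g₂, hv⟩ := conj_A_b h (hpam 1) 1 0
  have hb1 : ∀ s r, Cj E.toWEnv pc pb pz (pa s) (bv r 0)
      (zv (B.nm s * r * v₁) (B.nm s * r * v₂) + cv (s * r * g₁) (s * r * g₂) + bv r 0) := by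
    intro s r
    have h2 := h.scale_b hpa0 hpah hv s r
    simpa using h2
  have hcomm : ∀ a b, a ∈ Gr.A → b ∈ Gr.A → a * b = b * a := fun a b ha hb => root_comm Gr.rootA ha hb
  -- the action on `cv 0 s`
  have hc0 : ∀ s' s, Cj E.toWEnv pc pb pz (pa s') (cv 0 s) (zv (B.tr (s' * B.s s)) 0 + cv 0 s) := by
    intro s' s
    obtain ⟨z₁, z₂, hz⟩ := conj_A_c h (hpam s') 0 s
    have e1 := Cj.mul (h.xa_b0 s 1) (Cj.add h (Cj.add h (conj_A_z h (hpam s') 0 (B.nm s * 1)) (by simpa using hz))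
      (hb0 s' 1))
    have e2 := Cj.mul (hb0 s' 1) (h.xa_act h1 s _)
    rw [hcomm _ _ (hpam s') (Gr.rootA.mem s)] at e1
    have e3 := Cj.unique h e1 e2
    have e4 := congrArg (fun v : Vh B => v.1.1) e3
    have e5 := congrArg (fun v : Vh B => v.1.2) e3
    simp only [av, zv, cv, bv, Prod.fst_add, Prod.snd_add, mul_one, one_mul, zero_add, add_zero, map_zero, mul_zero,
      OneMemClass.coe_one, B.tr_zero] at e4 e5
    have e6 : z₁ = B.tr (s * B.s s') := by linear_combination e4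
    have e7 : z₂ = 0 := by linear_combination e5
    rw [e6, e7] at hz
    have e8 : B.tr (s * B.s s') = B.tr (s' * B.s s) := by
      rw [← B.tr_s, map_mul, B.invol, mul_comm]
    rwa [e8] at hz
  -- the action on `cv s 0`
  have hc1 : ∀ s' s, Cj E.toWEnv pc pb pz (pa s') (cv s 0)
      (zv (B.tr (s * B.s (s' * g₁))) (B.tr (s * B.s (s' * g₂))) + cv s 0) := by
    intro s' s
    obtain ⟨z₁, z₂, hz⟩ := conj_A_c h (hpam s') s 0
    have e1 := Cj.mul (h.xa_b1 h1 s 1) (Cj.add h (Cj.add h (conj_A_z h (hpam s') (B.nm s * 1) 0) (by simpa using hz))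
      (hb1 s' 1))
    have e2 := Cj.mul (hb1 s' 1) (h.xa_act h1 s _)
    rw [hcomm _ _ (hpam s') (Gr.rootA.mem s)] at e1
    have e3 := Cj.unique h e1 e2
    have e4 := congrArg (fun v : Vh B => v.1.1) e3
    have e5 := congrArg (fun v : Vh B => v.1.2) e3
    simp only [av, zv, cv, bv, Prod.fst_add, Prod.snd_add, mul_one, one_mul, zero_add, add_zero, mul_zero,
      OneMemClass.coe_one] at e4 e5
    have e6 : z₁ = B.tr (s * B.s (s' * g₁)) := by linear_combination e4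
    have e7 : z₂ = B.tr (s * B.s (s' * g₂)) := by linear_combination e5
    rwa [e6, e7] at hz
  -- commutation of `pa s`, `pa s'` on `bv 0 1`
  have hsym : ∀ s s', B.tr (s' * B.s (s * g₁)) = B.tr (s * B.s (s' * g₁)) ∧
      B.tr (s' * B.s (s * g₂)) = B.tr (s * B.s (s' * g₂)) := by
    intro s s'
    have e1 : ∀ s s', Cj E.toWEnv pc pb pz (pa s * pa s') (bv 0 1) (zv (B.nm s' * w₁) (B.nm s' * w₂) +
        (zv (B.tr (s' * B.s (s * g₁))) (B.tr (s' * B.s (s * g₂))) + cv s' 0) +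
        (zv (B.nm s * w₁) (B.nm s * w₂) + cv s 0 + bv 0 1)) := by
      intro s s'
      exact Cj.mul (by simpa using hb0 s' 1) (Cj.add h (Cj.add h (conj_A_z h (hpam s) _ _) (hc1 s s'))
        (by simpa using hb0 s 1))
    have e2 := e1 s s'
    rw [hcomm _ _ (hpam s) (hpam s')] at e2
    have e3 := Cj.unique h e2 (e1 s' s)
    have e4 := congrArg (fun v : Vh B => v.1.1) e3
    have e5 := congrArg (fun v : Vh B => v.1.2) e3
    simp only [zv, cv, bv, Prod.fst_add, Prod.snd_add, add_zero] at e4 e5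
    constructor
    · linear_combination e4
    · linear_combination e5
  have hg1 : B.s g₁ = g₁ := by
    apply mem_K_of_tr
    intro s
    have e1 := (hsym s 1).1
    rw [one_mul, one_mul, map_mul] at e1
    rw [← e1, ← map_mul, B.tr_s]
  have hg2 : B.s g₂ = g₂ := by
    apply mem_K_of_tr
    intro s
    have e1 := (hsym s 1).2
    rw [one_mul, one_mul, map_mul] at e1
    rw [← e1, ← map_mul, B.tr_s]
  obtain ⟨γ₁, rfl⟩ : ∃ γ : B.K, (γ : F) = g₁ := ⟨⟨g₁, hg1⟩, rfl⟩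
  obtain ⟨γ₂, rfl⟩ : ∃ γ : B.K, (γ : F) = g₂ := ⟨⟨g₂, hg2⟩, rfl⟩
  have htrg : ∀ (s s' : F) (γ : B.K), B.tr (s * B.s (s' * γ)) = γ * B.tr (s * B.s s') := by
    intro s s' γ
    rw [map_mul, B.s_K, ← mul_assoc, B.tr_mul_K, mul_comm]
  -- an element with trace one
  obtain ⟨τ, hτ⟩ := B.tr_surj 1
  -- additivity on `bv 0 1`
  have hw12 : w₁ = γ₁ ∧ w₂ = γ₂ := by
    have e1 := Cj.mul (by simpa using hb0 1 1) (Cj.add h (Cj.add h (conj_A_z h (hpam τ) _ _) (hc1 τ 1)) (hb0 τ 1))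
    have e2 := hb0 (τ + 1) 1
    rw [hpa.add] at e2
    have e3 := Cj.unique h e1 e2
    have e4 := congrArg (fun v : Vh B => v.1.1) e3
    have e5 := congrArg (fun v : Vh B => v.1.2) e3
    simp only [zv, cv, bv, Prod.fst_add, Prod.snd_add, add_zero, B.nm_add, B.nm_one, map_one, mul_one, hτ, one_mul, htrg] at e4 e5
    have e6 : ∀ γ : B.K, B.tr (B.s (τ * γ)) = γ := fun γ => by rw [B.tr_s, B.tr_mul_K, hτ, one_mul]
    rw [e6] at e4 e5
    constructor
    · linear_combination -e4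
    · linear_combination -e5
  obtain ⟨rfl, rfl⟩ := hw12
  -- additivity on `bv 1 0`
  have hv12 : v₁ = w₁ * w₁ + w₂ ∧ v₂ = w₁ * w₂ := by
    have hcc : ∀ s' y' y, Cj E.toWEnv pc pb pz (pa s') (cv y' y)
        (zv (w₁ * B.tr (y' * B.s s') + B.tr (s' * B.s y)) (w₂ * B.tr (y' * B.s s')) + cv y' y) := by
      intro s' y' y
      have e1 := Cj.add h (hc1 s' y') (hc0 s' y)
      rw [htrg, htrg] at e1
      convert e1 using 1
      · apply Vh_ext <;> simp [cv]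
      · apply Vh_ext <;> simp [zv, cv]
    have e1 := Cj.mul (by simpa using hb1 1 1) (Cj.add h (Cj.add h (conj_A_z h (hpam τ) _ _) (hcc τ _ _)) (hb1 τ 1))
    have e2 := hb1 (τ + 1) 1
    rw [hpa.add] at e2
    have e3 := Cj.unique h e1 e2
    have e4 := congrArg (fun v : Vh B => v.1.1) e3
    have e5 := congrArg (fun v : Vh B => v.1.2) e3
    have e6 : B.tr ((w₁ : F) * B.s τ) = w₁ := by rw [B.tr_K_mul, B.tr_s, hτ, mul_one]
    have e7 : B.tr (τ * (w₂ : F)) = w₂ := by rw [B.tr_mul_K, hτ, one_mul]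
    simp only [zv, cv, bv, Prod.fst_add, Prod.snd_add, add_zero, B.nm_add, B.nm_one, map_one, mul_one, hτ, one_mul, B.s_K,
      e6, e7] at e4 e5
    constructor
    · linear_combination -e4
    · linear_combination -e5
  obtain ⟨rfl, rfl⟩ := hv12
  -- `w₁ = 1` from the action of `t`
  have hw1 : w₁ = 1 := by
    have hp1 : E.t * pa 1 * E.t = E.xa 1 * pa 1 := root_t Gr.rootA (hpam 1) (hpa.conj_t 1)
    have e1 := Cj.t h (hb1 1 1)
    rw [hp1] at e1
    have e2 := Cj.mul (Cj.add h (hb1 1 1) (hb0 1 1)) (h.xa_act h1 1 _)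
    have e0 : (tv (bv 1 0 : Vh B)) = bv 1 0 + bv 0 1 := by
      apply Vh_ext <;> simp [tv, bv]
    rw [e0] at e1
    have e3 := Cj.unique h e1 e2
    have e4 := congrArg (fun v : Vh B => v.2.1.2) e3
    simp only [tv, av, zv, cv, bv, Prod.fst_add, Prod.snd_add, add_zero, zero_add, mul_one, one_mul,
      OneMemClass.coe_one] at e4
    apply Subtype.ext
    change (w₁ : F) = 1
    linear_combination e4
  subst hw1
  refine ⟨w₂, pa, { toVSec := h, a := hpa, xact := h.xa_act h1, pact := ?_ }⟩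
  intro s v
  have e1 := Cj.add h (Cj.add h (Cj.add h (Cj.add h (conj_A_z h (hpam s) v.1.1 v.1.2) (hc1 s v.2.1.1)) (hc0 s v.2.1.2))
    (hb1 s v.2.2.1)) (hb0 s v.2.2.2)
  rw [← decomp] at e1
  convert e1 using 1
  have e2 : B.tr (v.2.1.1 * B.s s) = B.tr (s * B.s v.2.1.1) := by
    rw [← B.tr_s, map_mul, B.invol, mul_comm]
  rw [htrg, htrg, e2]
  apply Vh_ext
  · simp only [pv, zv, cv, bv, Prod.fst_add, Prod.snd_add, add_zero, OneMemClass.coe_one]
    ring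
  · simp only [pv, zv, cv, bv, Prod.fst_add, Prod.snd_add, add_zero]
    ring
  · simp only [pv, zv, cv, bv, Prod.fst_add, Prod.snd_add, add_zero, zero_add, OneMemClass.coe_one, mul_one]
    ring
  · simp only [pv, zv, cv, bv, Prod.fst_add, Prod.snd_add, add_zero, zero_add]
    ring
  · simp [pv, zv, cv, bv]
  · simp [pv, zv, cv, bv]

end

/-- **The structure constants.** -/
theorem exists_lab (Gr : Grown E) : ∃ d pa pc pb pz, Lab Gr d pa pc pb pz := by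
  obtain ⟨pc, pb, pz, h, h1⟩ := exists_vsec Gr.toWGrown
  obtain ⟨d, pa, hL⟩ := exists_lab_aux h h1
  exact ⟨d, pa, pc, pb, pz, hL⟩

end Cfsg.Agent.StdRank2.UFourId
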