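import Mathlib
import Cfsg.Agent.StdRank2.UFourIdLab
import Cfsg.Agent.StdRank2.UTFour

/-!
# The grown group of type `U₄(q)`: normal form, order, calculus

`Sh Gr = Z C B A`; its elements are `Wh v * (pa s * xa s')`.  `Lab.act` is the action of `pa s * xa s'` on vectors.
-/

set_option autoImplicit false

namespace Cfsg.Agent.StdRank2.UFourId

open Cfsg.Agent.StdRank2.UFour VSec

variable {F : Type*} [Field F] [CharP F 2] {B : Bar F} {G : Type*} [Group G] {E : Env B G} {Gr : Grown E}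

/-- The whole grown group. -/
def Sh (Gr : Grown E) : Subgroup G := Gr.Z ⊔ Gr.C ⊔ Gr.Bb ⊔ Gr.A

theorem card_F (B : Bar F) : Nat.card F = Nat.card B.K ^ 2 := by
  obtain ⟨w, hw⟩ := B.tr_surj 1
  have hw' : w + B.s w = 1 := congrArg Subtype.val hw
  rw [pow_two, ← Nat.card_prod]
  refine (Nat.card_congr (Equiv.ofBijective (fun p : B.K × B.K => (p.1 : F) + (p.2 : F) * w) ⟨?_, ?_⟩)).symm
  · rintro ⟨a, b⟩ ⟨a', b'⟩ e
    change (a : F) + (b : F) * w = (a' : F) + (b' : F) * w at e
    have e1 := congrArg B.s e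
    simp only [map_add, map_mul, B.s_K] at e1
    have e2 : (b : F) = b' := by grind
    have e3 : (a : F) = a' := by grind
    exact Prod.ext (Subtype.ext e3) (Subtype.ext e2)
  · intro x
    refine ⟨(⟨x + (x + B.s x) * w, ?_⟩, B.tr x), ?_⟩
    · rw [B.mem_K]
      simp only [map_add, map_mul, B.invol]
      grind
    · change x + (x + B.s x) * w + (x + B.s x) * w = x
      grind

/-- The Artin–Schreier dichotomy: `x² + x + d` splits over `K`, or its roots in `F` are conjugate. -/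
theorem dichotomy [Finite F] (d : B.K) : (∃ ε : B.K, ε * ε + ε = d) ∨ ∃ ε : F, ε + B.s ε = 1 ∧ ε * B.s ε = (d : F) := by
  obtain ⟨w, hw⟩ := B.tr_surj 1
  have hw' : w + B.s w = 1 := congrArg Subtype.val hw
  let p : B.K →+ B.K :=
    { toFun := fun x => x * x + x
      map_zero' := by simp
      map_add' := fun x y => by
        have h1 := B.K_add_self (x * y)
        apply Subtype.ext
        have h2 := congrArg Subtype.val h1
        simp only [Subfield.coe_add, Subfield.coe_mul, ZeroMemClass.coe_zero] at h2 ⊢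
        grind }
  have hker : Nat.card p.ker = 2 := by
    have e : p.ker = AddSubgroup.zmultiples (1 : B.K) := by
      ext x
      rw [AddMonoidHom.mem_ker, AddSubgroup.mem_zmultiples_iff]
      constructor
      · intro hx
        have hx' : x * (x + 1) = 0 := by
          have : x * x + x = 0 := hx
          linear_combination this
        rcases mul_eq_zero.1 hx' with h1 | h1
        · exact ⟨0, by rw [h1, zero_smul]⟩
        · refine ⟨1, ?_⟩
          rw [one_smul]
          have := B.K_add_self (1 : B.K)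
          linear_combination this - h1
      · rintro ⟨n, rfl⟩
        have h1 : p 1 = 0 := by
          change (1 : B.K) * 1 + 1 = 0
          rw [one_mul, B.K_add_self]
        rw [map_zsmul, h1, smul_zero]
    rw [e, Nat.card_zmultiples]
    apply addOrderOf_eq_prime
    · rw [two_nsmul, B.K_add_self]
    · exact one_ne_zero
  have hidx : p.range.index = 2 := by
    have h1 := AddSubgroup.card_mul_index p.ker
    have h2 := AddSubgroup.card_mul_index p.range
    have h3 : p.ker.index = Nat.card p.range := AddSubgroup.index_ker p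
    rw [h3, hker, ← h2, mul_comm] at h1
    exact (Nat.eq_of_mul_eq_mul_left Nat.card_pos h1).symm
  have hn : B.nm w ∉ p.range := by
    rintro ⟨x, hx⟩
    have hx' : (x : F) * x + x = w * B.s w := congrArg Subtype.val hx
    have h1 : (w + x) * (w + x + 1) = 0 := by grind
    have h2 : w ∈ B.K := by
      rcases mul_eq_zero.1 h1 with h3 | h3
      · have : w = x := by grind
        rw [this]
        exact x.2
      · have : w = ((x + 1 : B.K) : F) := by
          rw [Subfield.coe_add, OneMemClass.coe_one]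
          grind
        rw [this]
        exact (x + 1).2
    rw [B.mem_K] at h2
    rw [h2] at hw'
    rw [Bar.add_self] at hw'
    exact zero_ne_one hw'
  by_cases hd : d ∈ p.range
  · obtain ⟨x, hx⟩ := hd
    exact Or.inl ⟨x, hx⟩
  · right
    have h1 : d + B.nm w ∈ p.range := (AddSubgroup.add_mem_iff_of_index_two hidx).2 (by simp [hd, hn])
    obtain ⟨x, hx⟩ := h1
    have hx' : (x : F) * x + x = d + w * B.s w := congrArg Subtype.val hx
    refine ⟨w + x, ?_, ?_⟩
    · rw [map_add, B.s_K]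
      grind
    · rw [map_add, B.s_K]
      grind

namespace Lab

variable {d : B.K} {pa pc : F → G} {pb pz : B.K → G} (h : Lab Gr d pa pc pb pz)

include h

theorem act (s s' : F) (v : Vh B) : Cj E.toWEnv pc pb pz (pa s * E.xa s') v (pv d s (av s' v)) :=
  Cj.mul (h.xact s' v) (h.pact s _)

theorem a_mem (s s' : F) : pa s * E.xa s' ∈ Gr.A := mul_mem (h.a.mem _) (Gr.rootA.mem _)

theorem a_mul (r r' s s' : F) : (pa r * E.xa r') * (pa s * E.xa s') = pa (r + s) * E.xa (r' + s') := by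
  rw [VSec.two_add (R := Gr.A) h.a.add E.xa_add (fun a b => root_comm Gr.rootA (h.a.mem _) (Gr.rootA.mem _))]

theorem a_comm (r r' s s' : F) : (pa r * E.xa r') * (pa s * E.xa s') = (pa s * E.xa s') * (pa r * E.xa r') :=
  root_comm Gr.rootA (h.a_mem _ _) (h.a_mem _ _)

theorem a_zero : pa 0 * E.xa 0 = 1 := by
  rw [WEnv.hom_zero h.a.add, E.xa_zero, mul_one]

theorem a_inv (s s' : F) : (pa s * E.xa s')⁻¹ = pa s * E.xa s' := root_inv Gr.rootA (h.a_mem _ _)

theorem Wh_a_mul (v u : Vh B) (r r' s s' : F) : (Wh E.toWEnv pc pb pz v * (pa r * E.xa r')) *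
    (Wh E.toWEnv pc pb pz u * (pa s * E.xa s')) =
      Wh E.toWEnv pc pb pz (v + pv d r (av r' u)) * (pa (r + s) * E.xa (r' + s')) := by
  have h1 := h.act r r' u
  unfold Cj at h1
  rw [← h.a_mul, h.Wh_add, ← h1]
  group

theorem Wh_mem (v : Vh B) : Wh E.toWEnv pc pb pz v ∈ Sh Gr := by
  unfold Wh Sh
  exact Subgroup.mem_sup_left (mul_mem (Subgroup.mem_sup_left (mul_mem (Subgroup.mem_sup_left (h.z_mem _ _))
    (Subgroup.mem_sup_right (h.c_mem _ _)))) (Subgroup.mem_sup_right (h.b_mem _ _)))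

theorem a_mem_Sh (s s' : F) : pa s * E.xa s' ∈ Sh Gr := Subgroup.mem_sup_right (h.a_mem _ _)

/-- The group of normal forms. -/
def nfGroup : Subgroup G where
  carrier := {g | ∃ v s s', g = Wh E.toWEnv pc pb pz v * (pa s * E.xa s')}
  mul_mem' := by
    rintro _ _ ⟨v, s, s', rfl⟩ ⟨u, r, r', rfl⟩
    exact ⟨_, _, _, h.Wh_a_mul _ _ _ _ _ _⟩
  one_mem' := ⟨0, 0, 0, by rw [h.Wh_zero, h.a_zero, mul_one]⟩
  inv_mem' := by
    rintro _ ⟨v, s, s', rfl⟩
    refine ⟨pv d s (av s' v), s, s', ?_⟩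
    have h1 := h.act s s' v
    unfold Cj at h1
    rw [← h1, mul_inv_rev, h.Wh_inv, h.a_inv]
    have h2 := h.a_inv s s'
    generalize pa s * E.xa s' = a at h2 ⊢
    have h3 : a * a = 1 := by rw [← inv_eq_iff_mul_eq_one, h2]
    rw [mul_assoc, h3, mul_one]

theorem Sh_eq : Sh Gr = h.nfGroup := by
  apply le_antisymm
  · refine sup_le (sup_le (sup_le ?_ ?_) ?_) ?_
    · intro g hg
      obtain ⟨x, y, rfl⟩ := h.exists_z hg
      exact ⟨_, 0, 0, by rw [h.a_zero, mul_one]⟩
    · intro g hg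
      obtain ⟨x, y, rfl⟩ := h.exists_c hg
      exact ⟨_, 0, 0, by rw [h.a_zero, mul_one]⟩
    · intro g hg
      obtain ⟨x, y, rfl⟩ := h.exists_b hg
      exact ⟨_, 0, 0, by rw [h.a_zero, mul_one]⟩
    · intro g hg
      obtain ⟨s, c, rfl⟩ := h.a.cover g hg
      exact ⟨0, s, c, by rw [h.Wh_zero, one_mul]⟩
  · rintro _ ⟨v, s, s', rfl⟩
    exact mul_mem (h.Wh_mem _) (h.a_mem_Sh _ _)

theorem mem_Sh {g : G} : g ∈ Sh Gr ↔ ∃ v s s', g = Wh E.toWEnv pc pb pz v * (pa s * E.xa s') := by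
  rw [h.Sh_eq]
  exact Iff.rfl

theorem Wh_eq_a {v : Vh B} {s s' : F} (e : Wh E.toWEnv pc pb pz v = pa s * E.xa s') : v = 0 ∧ s = 0 ∧ s' = 0 := by
  have h1 := h.act s s' (bv 0 1)
  have h2 : Cj E.toWEnv pc pb pz (pa s * E.xa s') (bv 0 1) (bv 0 1) := by
    unfold Cj
    rw [← e, h.Wh_comm, mul_inv_cancel_right]
  have h3 := Cj.unique h.toVSec h1 h2
  have e4 := congrArg (fun v : Vh B => v.2.1.1) h3
  have e5 := congrArg (fun v : Vh B => v.2.1.2) h3
  simp only [pv, av, bv, add_zero, zero_add, mul_one, mul_zero, OneMemClass.coe_one, ZeroMemClass.coe_zero] at e4 e5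
  subst e4 e5
  rw [h.a_zero] at e
  exact ⟨h.Wh_eq_one e, rfl, rfl⟩

theorem nf_injective {v u : Vh B} {s s' r r' : F} (e : Wh E.toWEnv pc pb pz v * (pa s * E.xa s') =
    Wh E.toWEnv pc pb pz u * (pa r * E.xa r')) : v = u ∧ s = r ∧ s' = r' := by
  have e1 : Wh E.toWEnv pc pb pz (u + v) = pa (r + s) * E.xa (r' + s') := by
    rw [← h.a_mul, h.Wh_add]
    have h1 := h.Wh_inv u
    have h2 := h.a_inv s s'
    calc Wh E.toWEnv pc pb pz u * Wh E.toWEnv pc pb pz v
        = (Wh E.toWEnv pc pb pz u) * (Wh E.toWEnv pc pb pz v * (pa s * E.xa s')) * (pa s * E.xa s')⁻¹ := by group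
      _ = (Wh E.toWEnv pc pb pz u)⁻¹ * (Wh E.toWEnv pc pb pz u * (pa r * E.xa r')) * (pa s * E.xa s')⁻¹ := by
          rw [e, h1]
      _ = _ := by rw [h2]; group
  obtain ⟨h1, h2, h3⟩ := h.Wh_eq_a e1
  refine ⟨?_, ?_, ?_⟩
  · have h4 := add_self_V u
    calc v = (u + u) + v := by rw [h4, zero_add]
      _ = u := by rw [add_assoc, h1, add_zero]
  · have := Bar.add_self r
    grind
  · have := Bar.add_self r'
    grind

/-- The order of the grown group. -/
theorem card_Sh : Nat.card (Sh Gr) = Nat.card F ^ 6 := by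
  have e : (Vh B × F × F) ≃ Sh Gr := Equiv.ofBijective
    (fun p => ⟨Wh E.toWEnv pc pb pz p.1 * (pa p.2.1 * E.xa p.2.2), h.mem_Sh.2 ⟨_, _, _, rfl⟩⟩) ⟨by
      rintro ⟨v, s, s'⟩ ⟨u, r, r'⟩ e
      obtain ⟨h1, h2, h3⟩ := h.nf_injective (congrArg Subtype.val e)
      simp only at h1 h2 h3
      rw [h1, h2, h3], by
      rintro ⟨g, hg⟩
      obtain ⟨v, s, s', rfl⟩ := h.mem_Sh.1 hg
      exact ⟨(v, s, s'), rfl⟩⟩
  rw [← Nat.card_congr e]
  simp only [Nat.card_prod]
  rw [card_F B]
  ring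

theorem rel {s s' : F} {v u w : Vh B} (e : pv d s (av s' v) = u + w) :
    (pa s * E.xa s') * Wh E.toWEnv pc pb pz v =
      Wh E.toWEnv pc pb pz u * Wh E.toWEnv pc pb pz w * (pa s * E.xa s') := by
  have h1 := h.act s s' v
  unfold Cj at h1
  rw [← h.Wh_add, ← e, ← h1]
  group

theorem rel' {s s' : F} {v : Vh B} (e : pv d s (av s' v) = v) :
    (pa s * E.xa s') * Wh E.toWEnv pc pb pz v = Wh E.toWEnv pc pb pz v * (pa s * E.xa s') := by
  have h1 := h.act s s' v
  rw [e] at h1
  unfold Cj at h1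
  conv_rhs => rw [← h1]
  group

theorem Wh_dec (v : Vh B) : Wh E.toWEnv pc pb pz v = Wh E.toWEnv pc pb pz (zv v.1.1 v.1.2) *
    Wh E.toWEnv pc pb pz (cv v.2.1.1 v.2.1.2) * Wh E.toWEnv pc pb pz (bv v.2.2.1 v.2.2.2) := by
  rw [← h.Wh_add, ← h.Wh_add]
  congr 1
  apply Vh_ext <;> simp [zv, cv, bv]

end Lab

end Cfsg.Agent.StdRank2.UFourId
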