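import Cfsg.Agent.StdRank2.UFive.Class
import Cfsg.Agent.StdRank2.UFourIdSh

/-!
# Elements of field type normalise the grown groups, types `U₄`, `U₅`

`FAct E f ρ`: `f` commutes with `t` and `na` and acts on the environment `E` as the field automorphism `ρ`.
`FAct.Z`, `C`, `Bb` : `f` normalises the grown root groups of `WGrown E`.  `A4`, `Sh4` (type `U₄`), `A5`, `P5`,
`R5`, `S05` (type `U₅`).
-/

set_option autoImplicit false
set_option linter.unusedSectionVars false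

namespace Cfsg.Agent.StdRank2.TXNorm

open Subgroup Cfsg.Agent.StdRank2.UFour Cfsg.Agent.StdRank2.UFive

variable {F : Type*} [Field F] [CharP F 2] {B : Bar F} {G : Type*} [Group G]

/-- `f` acts on the environment as the field automorphism `ρ`. -/
structure FAct (E : WEnv B G) (f : G) (ρ : F ≃+* F) : Prop where
  t : f * E.t = E.t * f
  s : ∀ x, ρ (B.s x) = B.s (ρ x)
  a : ∀ x, f * E.xa x * f⁻¹ = E.xa (ρ x)
  c : ∀ x, f * E.xc x * f⁻¹ = E.xc (ρ x)
  b : ∀ k k' : B.K, (k' : F) = ρ k → f * E.xb k * f⁻¹ = E.xb k'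
  z : ∀ k k' : B.K, (k' : F) = ρ k → f * E.xz k * f⁻¹ = E.xz k'
  na : f * E.na = E.na * f
  Q : ∀ g ∈ E.Q, f * g * f⁻¹ ∈ E.Q
  Q' : ∀ g ∈ E.Q, f⁻¹ * g * f ∈ E.Q
  T : ∀ g ∈ E.T, f * g * f⁻¹ ∈ E.T
  T' : ∀ g ∈ E.T, f⁻¹ * g * f ∈ E.T

/-! ### `Ŵ` for `WGrown` -/

section W

variable {E : WEnv B G} (S : WGrown E)

/-- elements of `Ŵ` -/
def InW (g : G) : Prop := ∃ r ∈ S.Z, ∃ c ∈ S.C, ∃ b ∈ S.Bb, g = r * c * b

theorem InW.sq {g : G} (h : InW S g) : g * g = 1 := by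
  obtain ⟨r, hr, c, hc, b, hb, rfl⟩ := h
  have e1 := S.Z_B r hr b hb
  have e2 := S.Z_C r hr c hc
  have e3 := S.C_B c hc b hb
  calc r * c * b * (r * c * b) = r * c * (b * r) * c * b := by group
    _ = r * (c * r) * b * c * b := by rw [← e1]; group
    _ = (r * r) * c * (b * c) * b := by rw [← e2]; group
    _ = (c * c) * (b * b) := by rw [← e3, S.rootZ.sq r hr]; group
    _ = 1 := by rw [S.rootC.sq c hc, S.rootB.sq b hb, mul_one]

theorem InW.Q {g q : G} (h : InW S g) (hq : q ∈ E.Q) : g * q = q * g := by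
  obtain ⟨r, hr, c, hc, b, hb, rfl⟩ := h
  have e1 := S.Z_Q r hr q hq
  have e2 := S.C_Q c hc q hq
  have e3 := S.B_Q b hb q hq
  calc r * c * b * q = r * c * (b * q) := by group
    _ = r * (c * q) * b := by rw [e3]; group
    _ = (r * q) * c * b := by rw [e2]; group
    _ = _ := by rw [e1]; group

theorem InW.inv {g : G} (h : InW S g) : g⁻¹ = g := inv_eq_of_mul_eq_one_right (h.sq S)

/-- the displacement of an element of `Ŵ` -/
theorem disp {r c b : G} {x z : B.K} {y : F} (hr : r ∈ S.Z) (hc : c ∈ S.C)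
    (h1 : r * E.t * r⁻¹ = E.xz x * E.t) (h2 : c * E.t * c⁻¹ = E.xc y * E.t)
    (h3 : b * E.t * b⁻¹ = E.xb z * E.t) :
    (r * c * b) * E.t * (r * c * b)⁻¹ = E.w (x, y, z) * E.t := by
  unfold WEnv.w
  calc (r * c * b) * E.t * (r * c * b)⁻¹ = r * (c * (b * E.t * b⁻¹) * c⁻¹) * r⁻¹ := by group
    _ = r * ((c * E.xb z * c⁻¹) * (c * E.t * c⁻¹)) * r⁻¹ := by rw [h3]; group
    _ = (r * E.xb z * r⁻¹) * (r * E.xc y * r⁻¹) * (r * E.t * r⁻¹) := by
        rw [h2, conj_of_comm (S.C_Q c hc _ (E.b_mem z))]; group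
    _ = E.xb z * (E.xc y * E.xz x) * E.t := by
        rw [h1, conj_of_comm (S.Z_Q r hr _ (E.b_mem z)), conj_of_comm (S.Z_Q r hr _ (E.c_mem y))]
        group
    _ = (E.xz x * E.xb z) * E.xc y * E.t := by rw [← E.z_c, E.z_b]; group
    _ = E.xz x * (E.xc y * E.xb z) * E.t := by rw [E.c_b]; group
    _ = _ := by group

theorem InW.t {g : G} (h : InW S g) : ∃ v, g * E.t * g⁻¹ = E.w v * E.t := by
  obtain ⟨r, hr, c, hc, b, hb, rfl⟩ := h
  obtain ⟨x, hx⟩ := S.rootZ.conj_t r hr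
  obtain ⟨y, hy⟩ := S.rootC.conj_t c hc
  obtain ⟨z, hz⟩ := S.rootB.conj_t b hb
  exact ⟨_, disp S hr hc hx hy hz⟩

theorem onto (v : B.V) : ∃ g, InW S g ∧ g * E.t * g⁻¹ = E.w v * E.t := by
  obtain ⟨r, hr, hx⟩ := S.rootZ.onto v.1
  obtain ⟨c, hc, hy⟩ := S.rootC.onto v.2.1
  obtain ⟨b, hb, hz⟩ := S.rootB.onto v.2.2
  exact ⟨_, ⟨r, hr, c, hc, b, hb, rfl⟩, disp S hr hc hx hy hz⟩

theorem w_InW (v : B.V) : InW S (E.w v) :=
  ⟨_, S.rootZ.mem v.1, _, S.rootC.mem v.2.1, _, S.rootB.mem v.2.2, rfl⟩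

theorem InW.mul {g g' : G} (h : InW S g) (h' : InW S g') : InW S (g * g') := by
  obtain ⟨r, hr, c, hc, b, hb, rfl⟩ := h
  obtain ⟨r', hr', c', hc', b', hb', rfl⟩ := h'
  refine ⟨r * r', S.Z.mul_mem hr hr', c * c', S.C.mul_mem hc hc', b * b', S.Bb.mul_mem hb hb', ?_⟩
  have e1 := S.Z_B r' hr' b hb
  have e2 := S.Z_C r' hr' c hc
  have e3 := S.C_B c' hc' b hb
  calc r * c * b * (r' * c' * b') = r * c * (b * r') * c' * b' := by group
    _ = r * (c * r') * b * c' * b' := by rw [← e1]; group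
    _ = r * r' * c * (b * c') * b' := by rw [← e2]; group
    _ = _ := by rw [← e3]; group

/-- elements of `Ŵ` commuting with all `xa s` -/
theorem mem_Z_of {g : G} (h : InW S g) (ha : ∀ s, g * E.xa s = E.xa s * g) : g ∈ S.Z := by
  obtain ⟨r, hr, c, hc, b, hb, rfl⟩ := h
  -- elements of `W`
  have key : ∀ (x z : B.K) (y : F), (∀ s, E.xa s * (E.xz x * E.xc y * E.xb z) * (E.xa s)⁻¹ =
      E.xz x * E.xc y * E.xb z) → y = 0 ∧ z = 0 := by
    intro x z y hh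
    have e0 : ∀ s, E.xa s * (E.xz x * E.xc y * E.xb z) * (E.xa s)⁻¹ =
        E.w (x + B.tr (s * B.s y) + B.nm s * z, y + s * z, z) := by
      intro s
      have h1 : E.xa s * E.xz x * (E.xa s)⁻¹ = E.xz x := conj_of_comm (E.z_a x s).symm
      calc E.xa s * (E.xz x * E.xc y * E.xb z) * (E.xa s)⁻¹
          = (E.xa s * E.xz x * (E.xa s)⁻¹) * (E.xa s * E.xc y * (E.xa s)⁻¹) *
            (E.xa s * E.xb z * (E.xa s)⁻¹) := by group
        _ = E.w (x, 0, 0) * (E.w (B.tr (s * B.s y), y, 0)) * (E.w (B.nm s * z, s * z, z)) := by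
            rw [h1, E.a_c, E.a_b]
            simp only [WEnv.w, E.xc_zero, E.xb_zero, mul_one]
        _ = _ := by
            rw [← E.w_add, ← E.w_add]
            congr 1
            ext <;> simp
    have e1 : ∀ s, (x + B.tr (s * B.s y) + B.nm s * z, y + s * z, z) = ((x, y, z) : B.V) := by
      intro s
      apply E.w_injective
      rw [← e0, hh s]
      rfl
    have hz : z = 0 := by
      have h2 := congrArg (fun v : B.V => v.2.1) (e1 1)
      have h3 : y + 1 * (z : F) = y := h2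
      rw [one_mul] at h3
      exact Subtype.ext (add_eq_left.1 h3)
    refine ⟨?_, hz⟩
    subst hz
    have h4 : ∀ s, B.tr (s * B.s y) = 0 := by
      intro s
      have h2 := congrArg (fun v : B.V => v.1) (e1 s)
      have h3 : x + B.tr (s * B.s y) + B.nm s * 0 = x := h2
      rw [mul_zero, add_zero] at h3
      exact add_eq_left.1 h3
    have h5 : B.s y = 0 := by
      apply Seeding.SeedEnv.tr_nondeg (B := B)
      intro s
      rw [mul_comm]; exact h4 (B.s s)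
    exact (map_eq_zero_iff B.s B.s.injective).1 h5
  obtain ⟨x, hx⟩ := S.rootZ.conj_t r hr
  obtain ⟨y, hy⟩ := S.rootC.conj_t c hc
  obtain ⟨z, hz⟩ := S.rootB.conj_t b hb
  have h1 := disp S hr hc hx hy hz
  have h2 : ∀ s, E.xa s * (E.xz x * E.xc y * E.xb z) * (E.xa s)⁻¹ = E.xz x * E.xc y * E.xb z := by
    intro s
    have e1 : E.xa s * (E.w (x, y, z) * E.t) * (E.xa s)⁻¹ = E.w (x, y, z) * E.t := by
      rw [← h1]
      have e2 := ha s
      have e3 := E.t_a s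
      calc E.xa s * (r * c * b * E.t * (r * c * b)⁻¹) * (E.xa s)⁻¹
          = (E.xa s * (r * c * b)) * E.t * (E.xa s * (r * c * b))⁻¹ := by group
        _ = (r * c * b) * (E.xa s * E.t * (E.xa s)⁻¹) * (r * c * b)⁻¹ := by rw [← e2]; group
        _ = _ := by rw [← e3]; group
    have e4 : E.xa s * (E.w (x, y, z) * E.t) * (E.xa s)⁻¹ = E.xa s * E.w (x, y, z) * (E.xa s)⁻¹ * E.t := by
      have e3 := E.t_a s
      calc E.xa s * (E.w (x, y, z) * E.t) * (E.xa s)⁻¹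
          = E.xa s * E.w (x, y, z) * (E.xa s)⁻¹ * (E.xa s * E.t * (E.xa s)⁻¹) := by group
        _ = _ := by rw [← e3]; group
    rw [e4] at e1
    exact mul_right_cancel e1
  obtain ⟨rfl, rfl⟩ := key x z y h2
  rw [E.xc_zero, one_mul] at hy
  rw [E.xb_zero, one_mul] at hz
  obtain ⟨y', rfl⟩ := S.rootC.cent c hc (comm_of_conj hy)
  obtain ⟨z', rfl⟩ := S.rootB.cent b hb (comm_of_conj hz)
  have h3 : ∀ s, E.xa s * (E.xz 0 * E.xc y' * E.xb z') * (E.xa s)⁻¹ = E.xz 0 * E.xc y' * E.xb z' := by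
    intro s
    rw [E.xz_zero, one_mul]
    have e2 := ha s
    have e3 := S.Z_a r hr s
    have e5 : E.xa s * (E.xc y' * E.xb z') = E.xc y' * E.xb z' * E.xa s := by
      apply mul_left_cancel (a := r)
      calc r * (E.xa s * (E.xc y' * E.xb z')) = (r * E.xa s) * (E.xc y' * E.xb z') := by group
        _ = E.xa s * (r * E.xc y' * E.xb z') := by rw [e3]; group
        _ = _ := by rw [← e2]; group
    rw [e5]; group
  obtain ⟨rfl, rfl⟩ := key 0 z' y' h3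
  rw [E.xc_zero, E.xb_zero, mul_one, mul_one]
  exact hr

/-- a torus element centralising `xc` and acting without fixed points on `xz`, `xb` -/
theorem exists_h (E : WEnv B G) : ∃ g ∈ E.T, (∀ x, g * E.xc x = E.xc x * g) ∧
    (∀ x, g * E.xz x * g⁻¹ = E.xz (E.lam * x)) ∧ (∀ x, g * E.xb x * g⁻¹ = E.xb (((E.lam⁻¹ : B.Kˣ) : B.K) * x)) := by
  have hl : ((E.lam : B.K) : F) ≠ 0 := fun e => E.lam.ne_zero (Subtype.ext e)
  have hl' : (((E.lam⁻¹ : B.Kˣ) : B.K) : F) = ((E.lam : B.K) : F)⁻¹ := by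
    apply eq_inv_of_mul_eq_one_left
    have := congrArg (fun x : B.K => (x : F)) (E.lam.inv_mul)
    exact this
  refine ⟨E.h (Units.mk0 _ hl) E.lam⁻¹, E.h_mem _ _, fun x => ?_, fun x => ?_, fun x => ?_⟩
  · apply comm_of_conj
    rw [E.h_c, hl', Units.val_mk0, mul_inv_cancel₀ hl, one_mul]
  · rw [E.h_z]
    congr 1
    apply Subtype.ext
    change ((E.lam : B.K) : F) * B.s ((E.lam : B.K) : F) * (((E.lam⁻¹ : B.Kˣ) : B.K) : F) * (x : F) =
      ((E.lam : B.K) : F) * x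
    rw [hl', B.s_K]
    field_simp
  · rw [E.h_b]

/-- elements of `Ŵ` commuting with that torus element -/
theorem mem_C_of {k g : G} (hk : k ∈ E.T)
    (hz : ∀ x, k * E.xz x * k⁻¹ = E.xz (E.lam * x))
    (hb : ∀ x, k * E.xb x * k⁻¹ = E.xb (((E.lam⁻¹ : B.Kˣ) : B.K) * x))
    (hc : ∀ x, k * E.xc x = E.xc x * k) (h : InW S g) (hg : k * g = g * k) : g ∈ S.C := by
  obtain ⟨r, hr, c, hc', b, hb', rfl⟩ := h
  have hkt : k⁻¹ * E.t * k = E.t := by
    rw [mul_assoc, E.T_t k hk]; group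
  -- the displacement
  obtain ⟨x, hx⟩ := S.rootZ.conj_t r hr
  obtain ⟨y, hy⟩ := S.rootC.conj_t c hc'
  obtain ⟨z, hz'⟩ := S.rootB.conj_t b hb'
  have h1 := disp S hr hc' hx hy hz'
  have hl1 : ∀ x : B.K, (E.lam : B.K) * x = x → x = 0 := by
    intro x h2
    by_contra h3
    exact E.lam_ne (mul_right_cancel₀ h3 (by rw [h2, one_mul]))
  have hl2 : ∀ x : B.K, ((E.lam⁻¹ : B.Kˣ) : B.K) * x = x → x = 0 := by
    intro x h2
    apply hl1
    rw [Units.inv_mul_eq_iff_eq_mul] at h2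
    exact h2.symm
  have kw : ∀ (x z : B.K) (y : F), k * E.w (x, y, z) * k⁻¹ = E.w (E.lam * x, y, ((E.lam⁻¹ : B.Kˣ) : B.K) * z) := by
    intro x z y
    unfold WEnv.w
    rw [← hz, ← hb]
    have := conj_of_comm (hc y)
    calc k * (E.xz x * E.xc y * E.xb z) * k⁻¹ = (k * E.xz x * k⁻¹) * (k * E.xc y * k⁻¹) * (k * E.xb z * k⁻¹) := by group
      _ = _ := by rw [this]
  have h2 : E.w (E.lam * x, y, ((E.lam⁻¹ : B.Kˣ) : B.K) * z) = E.w (x, y, z) := by
    have e1 : k * (E.w (x, y, z) * E.t) * k⁻¹ = E.w (x, y, z) * E.t := by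
      rw [← h1]
      calc k * (r * c * b * E.t * (r * c * b)⁻¹) * k⁻¹
          = (k * (r * c * b)) * E.t * (k * (r * c * b))⁻¹ := by group
        _ = (r * c * b) * (k * E.t * k⁻¹) * (r * c * b)⁻¹ := by rw [hg]; group
        _ = _ := by rw [← E.T_t k hk]; group
    have e2 : k * (E.w (x, y, z) * E.t) * k⁻¹ = k * E.w (x, y, z) * k⁻¹ * E.t := by
      calc k * (E.w (x, y, z) * E.t) * k⁻¹ = k * E.w (x, y, z) * k⁻¹ * (k * E.t * k⁻¹) := by group
        _ = _ := by rw [← E.T_t k hk]; group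
    rw [e2, kw] at e1
    exact mul_right_cancel e1
  have h3 := E.w_injective h2
  have hx0 : x = 0 := hl1 x (congrArg (fun v : B.V => v.1) h3)
  have hz0 : z = 0 := hl2 z (congrArg (fun v : B.V => v.2.2) h3)
  subst hx0 hz0
  rw [E.xz_zero, one_mul] at hx
  rw [E.xb_zero, one_mul] at hz'
  obtain ⟨x', rfl⟩ := S.rootZ.cent r hr (comm_of_conj hx)
  obtain ⟨z', rfl⟩ := S.rootB.cent b hb' (comm_of_conj hz')
  -- the torus element commutes with `c`
  have h4 : k * c = c * k := RootLem.co S.rootC hk hc hc'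
  have h5 : E.xz (E.lam * x') * E.xb (((E.lam⁻¹ : B.Kˣ) : B.K) * z') = E.xz x' * E.xb z' := by
    have e1 : k * (E.xz x' * c * E.xb z') * k⁻¹ = E.xz x' * c * E.xb z' := by rw [hg]; group
    have e2 : k * (E.xz x' * c * E.xb z') * k⁻¹ = E.xz (E.lam * x') * c * E.xb (((E.lam⁻¹ : B.Kˣ) : B.K) * z') := by
      rw [← hz, ← hb]
      have := conj_of_comm h4
      calc k * (E.xz x' * c * E.xb z') * k⁻¹ = (k * E.xz x' * k⁻¹) * (k * c * k⁻¹) * (k * E.xb z' * k⁻¹) := by group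
        _ = _ := by rw [this]
    rw [e2] at e1
    have e3 : ∀ b', b' ∈ S.Bb → c * b' = b' * c := fun b' hb'' => S.C_B c hc' b' hb''
    have e4 : E.xz (E.lam * x') * E.xb (((E.lam⁻¹ : B.Kˣ) : B.K) * z') * c = E.xz x' * E.xb z' * c := by
      rw [mul_assoc, ← e3 _ (S.rootB.mem _), ← mul_assoc, e1, mul_assoc, e3 _ (S.rootB.mem _), ← mul_assoc]
    exact mul_right_cancel e4
  have h6 : (E.lam * x', (0 : F), ((E.lam⁻¹ : B.Kˣ) : B.K) * z') = ((x', 0, z') : B.V) := by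
    apply E.w_injective
    unfold WEnv.w
    rw [E.xc_zero, mul_one, mul_one]
    exact h5
  have hx0 : x' = 0 := hl1 x' (congrArg (fun v : B.V => v.1) h6)
  have hz0 : z' = 0 := hl2 z' (congrArg (fun v : B.V => v.2.2) h6)
  rw [hx0, hz0, E.xz_zero, E.xb_zero, one_mul, mul_one]
  exact hc'

end W

namespace FAct

variable {E : WEnv B G} {f : G} {ρ : F ≃+* F} (h : FAct E f ρ)
include h

/-- the image of an element of the fixed field -/
def k (k : B.K) : B.K := ⟨ρ k, by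
  change B.s (ρ k) = ρ k
  rw [← h.s, B.s_K]⟩

theorem k_val (k : B.K) : ((h.k k : B.K) : F) = ρ k := rfl

theorem inv : FAct E f⁻¹ ρ⁻¹ := by
  have hρ : ∀ a, ρ (ρ⁻¹ a) = a := fun a => RingEquiv.apply_symm_apply ρ a
  have key : ∀ {a b : G}, f * b * f⁻¹ = a → f⁻¹ * a * f⁻¹⁻¹ = b := by
    rintro a b rfl
    group
  exact
    { t := by
        have h1 := h.t
        calc f⁻¹ * E.t = f⁻¹ * (E.t * f) * f⁻¹ := by group
          _ = E.t * f⁻¹ := by rw [← h1]; group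
      s := fun x => by
        apply ρ.injective
        rw [hρ, h.s, hρ]
      a := fun x => key (by rw [h.a, hρ])
      c := fun x => key (by rw [h.c, hρ])
      b := fun k k' e => key (h.b k' k (by rw [e, hρ]))
      z := fun k k' e => key (h.z k' k (by rw [e, hρ]))
      na := by
        have h1 := h.na
        calc f⁻¹ * E.na = f⁻¹ * (E.na * f) * f⁻¹ := by group
          _ = E.na * f⁻¹ := by rw [← h1]; group
      Q := fun g hg => by rw [inv_inv]; exact h.Q' g hg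
      Q' := fun g hg => by rw [inv_inv]; exact h.Q g hg
      T := fun g hg => by rw [inv_inv]; exact h.T' g hg
      T' := fun g hg => by rw [inv_inv]; exact h.T g hg }

theorem w (v : B.V) : f * E.w v * f⁻¹ = E.w (h.k v.1, ρ v.2.1, h.k v.2.2) := by
  unfold WEnv.w
  rw [← h.z v.1 (h.k v.1) rfl, ← h.c, ← h.b v.2.2 (h.k v.2.2) rfl]
  group

variable (S : WGrown E)

/-- `f` normalises `Ŵ` -/
theorem InW {g : G} (hg : InW S g) : InW S (f * g * f⁻¹) := by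
  obtain ⟨v, hv⟩ := hg.t S
  obtain ⟨g', hg', hv'⟩ := onto S (h.k v.1, ρ v.2.1, h.k v.2.2)
  have ht := h.t
  have hft : f⁻¹ * E.t * f = E.t := by rw [mul_assoc, ← ht]; group
  -- the displacement of `f g f⁻¹`
  have h1 : f * g * f⁻¹ * E.t * (f * g * f⁻¹)⁻¹ = E.w (h.k v.1, ρ v.2.1, h.k v.2.2) * E.t := by
    rw [← h.w]
    calc f * g * f⁻¹ * E.t * (f * g * f⁻¹)⁻¹ = f * (g * (f⁻¹ * E.t * f) * g⁻¹) * f⁻¹ := by group
      _ = f * (E.w v * E.t) * f⁻¹ := by rw [hft, hv]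
      _ = f * E.w v * f⁻¹ * (f * E.t * f⁻¹) := by group
      _ = _ := by rw [ht]; group
  -- `c = g'⁻¹ f g f⁻¹` commutes with `t` and `Q`
  have h2 : (g'⁻¹ * (f * g * f⁻¹)) * E.t = E.t * (g'⁻¹ * (f * g * f⁻¹)) := by
    apply comm_of_conj
    calc g'⁻¹ * (f * g * f⁻¹) * E.t * (g'⁻¹ * (f * g * f⁻¹))⁻¹
        = g'⁻¹ * (f * g * f⁻¹ * E.t * (f * g * f⁻¹)⁻¹) * g' := by group
      _ = g'⁻¹ * (g' * E.t * g'⁻¹) * g' := by rw [h1, hv']
      _ = E.t := by group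
  have h3 : ∀ q ∈ E.Q, (g'⁻¹ * (f * g * f⁻¹)) * q = q * (g'⁻¹ * (f * g * f⁻¹)) := by
    intro q hq
    have e1 := hg.Q S (h.Q' q hq)
    have e2 : f * g * f⁻¹ * q = q * (f * g * f⁻¹) := by
      calc f * g * f⁻¹ * q = f * (g * (f⁻¹ * q * f)) * f⁻¹ := by group
        _ = f * ((f⁻¹ * q * f) * g) * f⁻¹ := by rw [e1]
        _ = _ := by group
    have e3 := hg'.Q S hq
    calc g'⁻¹ * (f * g * f⁻¹) * q = g'⁻¹ * (f * g * f⁻¹ * q) := by group
      _ = g'⁻¹ * (q * g') * g'⁻¹ * (f * g * f⁻¹) := by rw [e2]; group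
      _ = q * (g'⁻¹ * (f * g * f⁻¹)) := by rw [← e3]; group
  obtain ⟨x, y, z, h4 | h4⟩ := E.cent_W _ h2 h3
  · have h5 : f * g * f⁻¹ = g' * E.w (x, y, z) := by
      have : f * g * f⁻¹ = g' * (g'⁻¹ * (f * g * f⁻¹)) := by group
      rw [this, h4]; rfl
    rw [h5]
    exact hg'.mul S (w_InW S _)
  · -- `f g f⁻¹ = g' t w`: then `g` commutes with `t`
    have h5 : f * g * f⁻¹ = g' * (E.t * E.w (x, y, z)) := by
      have : f * g * f⁻¹ = g' * (g'⁻¹ * (f * g * f⁻¹)) := by group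
      rw [this, h4]; rfl
    have h6 : f * g * f⁻¹ * (f * g * f⁻¹) = 1 := by
      calc f * g * f⁻¹ * (f * g * f⁻¹) = f * (g * g) * f⁻¹ := by group
        _ = 1 := by rw [hg.sq S]; group
    have e1 : E.w (x, y, z) * g' = g' * E.w (x, y, z) := ((hg'.Q S (by
      unfold WEnv.w
      exact mul_mem (mul_mem (E.z_mem _) (E.c_mem _)) (E.b_mem _))).symm)
    have e2 := E.t_w (x, y, z)
    have h7 : g' * E.t * g' * E.t = 1 := by
      rw [h5] at h6
      calc g' * E.t * g' * E.t = g' * E.t * g' * (E.w (x, y, z) * E.w (x, y, z)) * E.t := by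
            rw [E.w_sq]; group
        _ = g' * E.t * (g' * E.w (x, y, z)) * E.w (x, y, z) * E.t := by group
        _ = g' * E.t * E.w (x, y, z) * g' * (E.w (x, y, z) * E.t) := by rw [← e1]; group
        _ = g' * (E.t * E.w (x, y, z)) * (g' * (E.t * E.w (x, y, z))) := by rw [← e2]; group
        _ = 1 := h6
    have h8 : g' * E.t = E.t * g' := by
      have h9 : g' * E.t * (g' * E.t) = 1 := by rw [← h7]; group
      have h10 : (g' * E.t)⁻¹ = g' * E.t := inv_eq_of_mul_eq_one_right h9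
      rw [mul_inv_rev, E.t_inv, hg'.inv S] at h10
      exact h10.symm
    have h11 : f * g * f⁻¹ * E.t = E.t * (f * g * f⁻¹) := by
      rw [h5]
      calc g' * (E.t * E.w (x, y, z)) * E.t = (g' * E.t) * (E.w (x, y, z) * E.t) := by group
        _ = E.t * g' * (E.t * E.w (x, y, z)) := by rw [h8, ← e2]
        _ = _ := by group
    -- so `w v = 1`
    have h12 : g * E.t = E.t * g := by
      have e4 : f⁻¹ * (f * g * f⁻¹ * E.t) * f = f⁻¹ * (E.t * (f * g * f⁻¹)) * f := by rw [h11]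
      calc g * E.t = g * (f⁻¹ * E.t * f) := by rw [hft]
        _ = f⁻¹ * (f * g * f⁻¹ * E.t) * f := by group
        _ = f⁻¹ * (E.t * (f * g * f⁻¹)) * f := e4
        _ = (f⁻¹ * E.t * f) * g := by group
        _ = E.t * g := by rw [hft]
    obtain ⟨x', y', z', h13 | h13⟩ := E.cent_W g h12 (fun q hq => hg.Q S hq)
    · have h14 : g = E.w (x', y', z') := h13
      rw [h14, h.w]
      exact w_InW S _
    · exfalso
      -- `g = t w` would give `t ∈ Ŵ`
      have h14 : Cfsg.Agent.StdRank2.TXNorm.InW S E.t := by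
        have : E.t = g * E.w (x', y', z') := by
          have : g = E.t * E.w (x', y', z') := h13
          rw [this, mul_assoc, E.w_sq, mul_one]
        rw [this]
        exact hg.mul S (w_InW S _)
      -- but `t` does not commute with `Ŵ`
      obtain ⟨b, hb, hbt⟩ := S.rootB.onto 1
      have h15 : E.t * b = b * E.t := by
        obtain ⟨r, hr, c, hc, b', hb', e⟩ := h14
        have e5 := S.Z_B r hr b hb
        have e6 := S.C_B c hc b hb
        have e7 := RootLem.comm S.rootB hb' hb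
        calc E.t * b = r * c * (b' * b) := by rw [e]; group
          _ = r * (c * b) * b' := by rw [e7]; group
          _ = (r * b) * c * b' := by rw [e6]; group
          _ = b * (r * c * b') := by rw [e5]; group
          _ = _ := by rw [← e]
      have h16 : E.xb 1 = 1 := by
        have : E.xb 1 * E.t = E.t := by
          rw [← hbt, ← h15]; group
        exact mul_eq_right.1 this
      have h17 := E.w_inj 0 0 1 (by rw [E.xz_zero, E.xc_zero, h16]; simp)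
      exact one_ne_zero h17.2.2

/-- `f` normalises `Z` -/
theorem Z {g : G} (hg : g ∈ S.Z) : f * g * f⁻¹ ∈ S.Z := by
  apply mem_Z_of S (h.InW S ⟨g, hg, 1, one_mem _, 1, one_mem _, by group⟩)
  intro s
  have e1 := h.inv.a s
  rw [inv_inv] at e1
  have e2 := S.Z_a g hg (ρ⁻¹ s)
  calc f * g * f⁻¹ * E.xa s = f * (g * (f⁻¹ * E.xa s * f)) * f⁻¹ := by group
    _ = f * ((f⁻¹ * E.xa s * f) * g) * f⁻¹ := by rw [e1, e2]
    _ = _ := by group

/-- `f` normalises `Bb` -/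
theorem Bb {g : G} (hg : g ∈ S.Bb) : f * g * f⁻¹ ∈ S.Bb := by
  have h1 := S.na_B g hg
  have h2 := S.na_Z _ (h.Z S h1)
  have e : E.na * (f * (E.na * g * E.na⁻¹) * f⁻¹) * E.na⁻¹ = f * g * f⁻¹ := by
    have e1 := h.na
    have e2 : E.na⁻¹ * f⁻¹ = f⁻¹ * E.na⁻¹ := by rw [← mul_inv_rev, e1, mul_inv_rev]
    calc E.na * (f * (E.na * g * E.na⁻¹) * f⁻¹) * E.na⁻¹
        = (E.na * f) * (E.na * g) * (E.na⁻¹ * f⁻¹) * E.na⁻¹ := by group
      _ = f * (E.na * E.na) * g * f⁻¹ * (E.na * E.na)⁻¹ := by rw [← e1, e2]; group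
      _ = _ := by rw [E.na_sq]; group
  rwa [e] at h2

/-- `f` normalises `C` -/
theorem C {g : G} (hg : g ∈ S.C) : f * g * f⁻¹ ∈ S.C := by
  obtain ⟨k, hk, h1, h2, h3⟩ := exists_h E
  apply mem_C_of S hk h2 h3 h1 (h.InW S ⟨1, one_mem _, g, hg, 1, one_mem _, by group⟩)
  have h4 : ∀ x, f⁻¹ * k * f * E.xc x = E.xc x * (f⁻¹ * k * f) := by
    intro x
    have e1 : f * E.xc x = E.xc (ρ x) * f := by rw [← h.c]; group
    have e2 : f⁻¹ * E.xc (ρ x) = E.xc x * f⁻¹ := by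
      rw [← h.c]; group
    calc f⁻¹ * k * f * E.xc x = f⁻¹ * (k * E.xc (ρ x)) * f := by rw [mul_assoc, e1]; group
      _ = f⁻¹ * E.xc (ρ x) * k * f := by rw [h1]; group
      _ = _ := by rw [e2]; group
  have h5 := RootLem.co S.rootC (h.T' k hk) h4 hg
  calc k * (f * g * f⁻¹) = f * ((f⁻¹ * k * f) * g) * f⁻¹ := by group
    _ = f * (g * (f⁻¹ * k * f)) * f⁻¹ := by rw [h5]
    _ = _ := by group

end FAct

/-! ### Type `U₄` -/

section four

variable {E : UFour.Env B G} {f : G} {ρ : F ≃+* F} (h : FAct E.toWEnv f ρ) (hnb : f * E.nb = E.nb * f)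
  (Gr : UFour.Grown E)
include h hnb

/-- `f` normalises `A` -/
theorem FAct.A4 {g : G} (hg : g ∈ Gr.A) : f * g * f⁻¹ ∈ Gr.A := by
  have h1 := Gr.nb_A g hg
  have h2 := Gr.nb_C _ (h.C Gr.toWGrown h1)
  have e : E.nb * (f * (E.nb * g * E.nb⁻¹) * f⁻¹) * E.nb⁻¹ = f * g * f⁻¹ := by
    have e2 : E.nb⁻¹ * f⁻¹ = f⁻¹ * E.nb⁻¹ := by rw [← mul_inv_rev, hnb, mul_inv_rev]
    calc E.nb * (f * (E.nb * g * E.nb⁻¹) * f⁻¹) * E.nb⁻¹
        = (E.nb * f) * (E.nb * g) * (E.nb⁻¹ * f⁻¹) * E.nb⁻¹ := by group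
      _ = f * (E.nb * E.nb) * g * f⁻¹ * (E.nb * E.nb)⁻¹ := by rw [← hnb, e2]; group
      _ = _ := by rw [E.nb_sq]; group
  rwa [e] at h2

/-- **`f` normalises `Ŝ`, type `U₄`.** -/
theorem FAct.Sh4 {g : G} (hg : g ∈ UFourId.Sh Gr) : f * g * f⁻¹ ∈ UFourId.Sh Gr := by
  have h1 : UFourId.Sh Gr ≤ (UFourId.Sh Gr).comap (MulAut.conj f).toMonoidHom := by
    conv_lhs => unfold UFourId.Sh
    refine sup_le (sup_le (sup_le ?_ ?_) ?_) ?_
    · exact fun x hx => mem_sup_left (mem_sup_left (mem_sup_left (h.Z Gr.toWGrown hx)))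
    · exact fun x hx => mem_sup_left (mem_sup_left (mem_sup_right (h.C Gr.toWGrown hx)))
    · exact fun x hx => mem_sup_left (mem_sup_right (h.Bb Gr.toWGrown hx))
    · exact fun x hx => mem_sup_right (h.A4 hnb Gr hx)
  exact h1 hg

end four

/-! ### Type `U₅` -/

/-- `f` acts on the environment of type `U₅` as the field automorphism `ρ`. -/
structure FAct5 (E : UFive.Env B G) (f : G) (ρ : F ≃+* F) : Prop extends FAct E.toWEnv f ρ where
  nb : f * E.nb = E.nb * f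
  p1 : ∀ q q' : Tp B, q'.w = ρ q.w → q'.c = ρ q.c → f * E.p1 q * f⁻¹ = E.p1 q'
  p2 : ∀ q q' : Tp B, q'.w = ρ q.w → q'.c = ρ q.c → f * E.p2 q * f⁻¹ = E.p2 q'

namespace FAct5

variable {E : UFive.Env B G} {f : G} {ρ : F ≃+* F} (h : FAct5 E f ρ)
include h

/-- the action on the parameters -/
def q (q : Tp B) : Tp B := ⟨ρ q.w, ρ q.c, by
  rw [← h.s, ← h.s, ← map_add, q.ok, map_mul]⟩

theorem p1' (q : Tp B) : f * E.p1 q * f⁻¹ = E.p1 (h.q q) := h.p1 q _ rfl rfl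
theorem p2' (q : Tp B) : f * E.p2 q * f⁻¹ = E.p2 (h.q q) := h.p2 q _ rfl rfl

theorem inv : FAct5 E f⁻¹ ρ⁻¹ := by
  have hρ : ∀ a, ρ (ρ⁻¹ a) = a := fun a => RingEquiv.apply_symm_apply ρ a
  have key : ∀ {a b : G}, f * b * f⁻¹ = a → f⁻¹ * a * f⁻¹⁻¹ = b := by
    rintro a b rfl
    group
  exact
    { toFAct := h.toFAct.inv
      nb := by
        have h1 := h.nb
        calc f⁻¹ * E.nb = f⁻¹ * (E.nb * f) * f⁻¹ := by group
          _ = E.nb * f⁻¹ := by rw [← h1]; group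
      p1 := fun q q' e1 e2 => key (h.p1 q' q (by rw [e1, hρ]) (by rw [e2, hρ]))
      p2 := fun q q' e1 e2 => key (h.p2 q' q (by rw [e1, hρ]) (by rw [e2, hρ])) }

variable (S : QGrown E)

/-- `f` normalises `A` -/
theorem A5 {g : G} (hg : g ∈ S.A) : f * g * f⁻¹ ∈ S.A := by
  have h1 := h.toFAct.C S.toWGrown ((S.mem_A g).1 hg)
  rw [S.mem_A]
  have e2 : f⁻¹ * E.nb⁻¹ = E.nb⁻¹ * f⁻¹ := by rw [← mul_inv_rev, ← h.nb, mul_inv_rev]
  have e : E.nb * (f * g * f⁻¹) * E.nb⁻¹ = f * (E.nb * g * E.nb⁻¹) * f⁻¹ := by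
    calc E.nb * (f * g * f⁻¹) * E.nb⁻¹ = (E.nb * f) * g * (f⁻¹ * E.nb⁻¹) := by group
      _ = _ := by rw [← h.nb, e2]; group
  rw [e]; exact h1

/-- transport of commutation -/
theorem comm_of {Y : Subgroup G} (hY : ∀ y ∈ Y, f⁻¹ * y * f⁻¹⁻¹ ∈ Y) {g : G} (hg : ∀ y ∈ Y, g * y = y * g) :
    ∀ y ∈ Y, f * g * f⁻¹ * y = y * (f * g * f⁻¹) := by
  intro y hy
  have h1 := hg _ (hY y hy)
  rw [inv_inv] at h1
  calc f * g * f⁻¹ * y = f * (g * (f⁻¹ * y * f)) * f⁻¹ := by group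
    _ = f * ((f⁻¹ * y * f) * g) * f⁻¹ := by rw [h1]
    _ = _ := by group

/-- `f` normalises `P` -/
theorem P5 {g : G} (hg : g ∈ S.P) : f * g * f⁻¹ ∈ S.P := by
  have hgZ := h.comm_of (fun y hy => h.inv.toFAct.Z S.toWGrown hy) (fun r hr => S.P_z hg hr)
  have hgA := h.comm_of (fun y hy => h.inv.A5 S hy) (fun r hr => S.P_a hg hr)
  have hgC := h.comm_of (fun y hy => h.inv.toFAct.C S.toWGrown hy) (fun r hr => S.P_c hg hr)
  have ht : f * E.t * f⁻¹ = E.t := conj_of_comm h.t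
  have hft : f⁻¹ * E.t * f = E.t := by rw [mul_assoc, ← h.t]; group
  -- displacements
  obtain ⟨r₁, hr₁, q₁, e₁⟩ : ∃ r ∈ S.Z, ∃ q, f * g * f⁻¹ * E.t * (f * g * f⁻¹)⁻¹ = r * E.p1 q * E.t := by
    obtain ⟨r, hr, q, e⟩ := S.P_t g hg
    refine ⟨f * r * f⁻¹, h.toFAct.Z S.toWGrown hr, h.q q, ?_⟩
    rw [← h.p1']
    calc f * g * f⁻¹ * E.t * (f * g * f⁻¹)⁻¹ = f * (g * (f⁻¹ * E.t * f) * g⁻¹) * f⁻¹ := by group
      _ = f * (r * E.p1 q * E.t) * f⁻¹ := by rw [hft, e]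
      _ = f * r * f⁻¹ * (f * E.p1 q * f⁻¹) * (f * E.t * f⁻¹) := by group
      _ = _ := by rw [ht]
  obtain ⟨p, hp, r₂, hr₂, q₂, hw, e₂⟩ := S.P_onto q₁.w
  obtain ⟨k, hk⟩ := Env.exists_ofK (u := q₁) (v := q₂) hw.symm
  have hp' : p⁻¹ ∈ S.P := inv_mem hp
  have e₃ : p⁻¹ * E.t * p = p⁻¹ * (r₂ * E.p1 q₂)⁻¹ * p * E.t := QGrown.inv_t e₂
  set c := p⁻¹ * (f * g * f⁻¹) with hc
  have e₄ : c * E.t * c⁻¹ = (r₁ * E.xz k * r₂⁻¹) * E.t := by
    have i1 := S.P_z hp' hr₁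
    have i2 := S.P_z hp' (S.xz_mem k)
    have i3 := S.P_z hp' (inv_mem hr₂)
    have i4 : E.p1 q₂ * r₂⁻¹ = r₂⁻¹ * E.p1 q₂ := S.P_z (S.p1_mem q₂) (inv_mem hr₂)
    calc c * E.t * c⁻¹ = p⁻¹ * (f * g * f⁻¹ * E.t * (f * g * f⁻¹)⁻¹) * p := by rw [hc]; group
      _ = (p⁻¹ * r₁) * E.p1 q₁ * p * (p⁻¹ * E.t * p) := by rw [e₁]; group
      _ = r₁ * (p⁻¹ * E.xz k) * E.p1 q₂ * p * (p⁻¹ * (r₂ * E.p1 q₂)⁻¹ * p * E.t) := by
          rw [i1, hk, E.p1_mul, E.p1_K, e₃]; group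
      _ = r₁ * E.xz k * p⁻¹ * (E.p1 q₂ * (E.p1 q₂)⁻¹ * r₂⁻¹) * p * E.t := by rw [i2]; group
      _ = r₁ * E.xz k * (p⁻¹ * r₂⁻¹) * p * E.t := by group
      _ = _ := by rw [i3]; group
  set ζ := r₁ * E.xz k * r₂⁻¹ with hζ
  have hζZ : ζ ∈ S.Z := mul_mem (mul_mem hr₁ (S.xz_mem k)) (inv_mem hr₂)
  have hζt : ζ * E.t = E.t * ζ := by
    have i1 : (ζ * E.t) * (ζ * E.t) = 1 := by
      rw [← e₄]
      calc c * E.t * c⁻¹ * (c * E.t * c⁻¹) = c * (E.t * E.t) * c⁻¹ := by group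
        _ = 1 := by rw [E.t_sq]; group
    have i2 : (ζ * E.t)⁻¹ = ζ * E.t := inv_eq_of_mul_eq_one_right i1
    rw [mul_inv_rev, E.toWEnv.t_inv, S.Z_inv hζZ] at i2
    exact i2.symm
  obtain ⟨m, hm⟩ := S.rootZ.cent ζ hζZ hζt
  obtain ⟨z, hz, hzt⟩ := S.rootZ.onto m
  set c' := z⁻¹ * c with hc'
  have hc't : c' * E.t = E.t * c' := by
    apply comm_of_conj
    calc c' * E.t * c'⁻¹ = z⁻¹ * (c * E.t * c⁻¹) * z := by rw [hc']; group
      _ = z⁻¹ * (z * E.t * z⁻¹) * z := by rw [e₄, hm, hzt]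
      _ = E.t := by group
  -- commutation of `c'`
  have cc : ∀ y, p * y = y * p → f * g * f⁻¹ * y = y * (f * g * f⁻¹) → z * y = y * z → c' * y = y * c' := by
    intro y i1 i2 i3
    have i4 := comm_inv i1
    have i5 := comm_inv i3
    calc c' * y = z⁻¹ * p⁻¹ * (f * g * f⁻¹ * y) := by rw [hc', hc]; group
      _ = z⁻¹ * (p⁻¹ * y) * (f * g * f⁻¹) := by rw [i2]; group
      _ = (z⁻¹ * y) * p⁻¹ * (f * g * f⁻¹) := by rw [i4]; group
      _ = _ := by rw [i5, hc', hc]; group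
  have cZ : ∀ r ∈ S.Z, c' * r = r * c' := fun r hr => cc r (S.P_z hp hr) (hgZ r hr) (S.Z_Z hz hr)
  have cA : ∀ s, c' * E.xa s = E.xa s * c' := fun s =>
    cc _ (S.P_a hp (S.xa_mem s)) (hgA _ (S.xa_mem s)) (S.Z_A z hz _ (S.xa_mem s))
  have cC : ∀ s, c' * E.xc s = E.xc s * c' := fun s =>
    cc _ (S.P_c hp (S.xc_mem s)) (hgC _ (S.xc_mem s)) (S.Z_C z hz _ (S.xc_mem s))
  have cP : ∀ q, ∃ x, c' * E.p1 q * c'⁻¹ = E.xz x * E.p1 q := by
    intro q
    -- `f g f⁻¹` acts on `p1 q`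
    obtain ⟨r, hr, i1⟩ : ∃ r ∈ S.Z, f * g * f⁻¹ * E.p1 q * (f * g * f⁻¹)⁻¹ = r * E.p1 q := by
      have j1 := h.inv.p1' q
      rw [inv_inv] at j1
      obtain ⟨r, hr, j2⟩ := S.P_comm g hg (E.p1 (h.inv.q q)) (S.p1_mem _)
      refine ⟨f * r * f⁻¹, h.toFAct.Z S.toWGrown hr, ?_⟩
      calc f * g * f⁻¹ * E.p1 q * (f * g * f⁻¹)⁻¹ = f * (g * (f⁻¹ * E.p1 q * f) * g⁻¹) * f⁻¹ := by group
        _ = f * (r * (f⁻¹ * E.p1 q * f)) * f⁻¹ := by rw [j1, j2]
        _ = _ := by group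
    obtain ⟨r', hr', i2⟩ := S.P_comm p⁻¹ hp' (E.p1 q) (S.p1_mem q)
    rw [inv_inv] at i2
    have i3 : c' * E.p1 q * c'⁻¹ = (r * r') * E.p1 q := by
      have j1 := S.P_z hp' hr
      have j2 := comm_inv (S.Z_Z hz (S.Z.mul_mem hr hr'))
      have j3 := comm_inv (S.Z_P z hz _ (S.p1_mem q))
      calc c' * E.p1 q * c'⁻¹ = z⁻¹ * (p⁻¹ * (f * g * f⁻¹ * E.p1 q * (f * g * f⁻¹)⁻¹) * p) * z := by
            rw [hc', hc]; group
        _ = z⁻¹ * ((p⁻¹ * r) * E.p1 q * p) * z := by rw [i1]; group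
        _ = z⁻¹ * (r * (p⁻¹ * E.p1 q * p)) * z := by rw [j1]; group
        _ = (z⁻¹ * (r * r')) * E.p1 q * z := by rw [i2]; group
        _ = (r * r') * (z⁻¹ * E.p1 q) * z := by rw [j2]; group
        _ = _ := by rw [j3]; group
    have i4 : (r * r') * E.t = E.t * (r * r') := by
      have j1 : E.p1 q * E.t = E.t * E.p1 q := (E.t_1 q).symm
      have j2 : c' * E.p1 q * c'⁻¹ * E.t = E.t * (c' * E.p1 q * c'⁻¹) := by
        have j3 := comm_inv hc't
        calc c' * E.p1 q * c'⁻¹ * E.t = c' * E.p1 q * (c'⁻¹ * E.t) := by group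
          _ = c' * (E.p1 q * E.t) * c'⁻¹ := by rw [j3]; group
          _ = (c' * E.t) * E.p1 q * c'⁻¹ := by rw [j1]; group
          _ = _ := by rw [hc't]; group
      rw [i3] at j2
      have j4 : (r * r') * E.t * E.p1 q = E.t * (r * r') * E.p1 q := by
        calc (r * r') * E.t * E.p1 q = (r * r') * (E.t * E.p1 q) := by group
          _ = (r * r') * E.p1 q * E.t := by rw [← j1]; group
          _ = _ := by rw [j2]; group
      exact mul_right_cancel j4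
    obtain ⟨x, hx⟩ := S.rootZ.cent _ (S.Z.mul_mem hr hr') i4
    exact ⟨x, by rw [i3, hx]⟩
  obtain ⟨q, x, s, i1⟩ := E.cent_Q1 c' hc't (fun x => cZ _ (S.xz_mem x))
    (fun x => ⟨0, by rw [conj_of_comm (cA x), E.xz_zero, one_mul]⟩)
    (fun x => ⟨0, by rw [conj_of_comm (cC x), E.xz_zero, one_mul]⟩) cP
  have i2 : c' = E.p1 q * E.xc x * E.xa s := by
    rcases i1 with i1 | i1
    · exact i1
    · exfalso
      refine S.not_t (w := c') (v := E.p1 q * E.xc x * E.xa s) cZ (fun r hr => ?_) i1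
      have j1 := S.P_z (S.p1_mem q) hr
      have j2 := (S.Z_C r hr _ (S.xc_mem x)).symm
      have j3 := (S.Z_A r hr _ (S.xa_mem s)).symm
      calc E.p1 q * E.xc x * E.xa s * r = E.p1 q * E.xc x * (E.xa s * r) := by group
        _ = E.p1 q * (E.xc x * r) * E.xa s := by rw [j3]; group
        _ = (E.p1 q * r) * E.xc x * E.xa s := by rw [j2]; group
        _ = _ := by rw [j1]; group
  -- `x = 0`, `s = 0`
  have hx : x = 0 := by
    have j : ∀ y, B.tr (y * B.s x) = 0 := by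
      intro y
      have j1 : E.xa y * E.xc x = E.xc x * E.xa y := by
        have j2 := cA y
        have j3 := S.P_a (S.p1_mem q) (S.xa_mem y)
        have j4 : E.xa s * E.xa y = E.xa y * E.xa s := S.A_A' (S.xa_mem s) (S.xa_mem y)
        rw [i2] at j2
        have j5 : E.p1 q * (E.xc x * E.xa y * E.xa s) = E.p1 q * (E.xa y * E.xc x * E.xa s) := by
          calc E.p1 q * (E.xc x * E.xa y * E.xa s) = E.p1 q * E.xc x * (E.xa y * E.xa s) := by group
            _ = E.p1 q * E.xc x * E.xa s * E.xa y := by rw [← j4]; group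
            _ = E.xa y * (E.p1 q * E.xc x * E.xa s) := j2
            _ = (E.p1 q * E.xa y) * E.xc x * E.xa s := by rw [j3]; group
            _ = _ := by group
        exact (mul_right_cancel (mul_left_cancel j5)).symm
      have j6 := E.a_c y x
      rw [conj_of_comm j1] at j6
      have j7 : E.xz (B.tr (y * B.s x)) = 1 := right_eq_mul.1 j6
      exact (E.w_inj _ 0 0 (by rw [j7, E.xc_zero, E.xb_zero]; simp)).1
    have j2 : B.s x = 0 := by
      apply Seeding.SeedEnv.tr_nondeg (B := B)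
      intro y
      rw [mul_comm]; exact j (B.s y)
    exact (map_eq_zero_iff B.s B.s.injective).1 j2
  have hs : s = 0 := by
    apply Seeding.SeedEnv.tr_nondeg (B := B)
    intro y
    have j1 : E.xa s * E.xc y = E.xc y * E.xa s := by
      have j2 := cC y
      rw [i2, hx, E.xc_zero, mul_one] at j2
      have j3 := S.P_c (S.p1_mem q) (S.xc_mem y)
      apply mul_left_cancel (a := E.p1 q)
      calc E.p1 q * (E.xa s * E.xc y) = E.p1 q * E.xa s * E.xc y := by group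
        _ = E.xc y * (E.p1 q * E.xa s) := j2
        _ = (E.p1 q * E.xc y) * E.xa s := by rw [j3]; group
        _ = _ := by group
    have j6 := E.a_c s y
    rw [conj_of_comm j1] at j6
    have j7 : E.xz (B.tr (s * B.s y)) = 1 := right_eq_mul.1 j6
    exact (E.w_inj _ 0 0 (by rw [j7, E.xc_zero, E.xb_zero]; simp)).1
  rw [hx, hs, E.xc_zero, E.xa_zero, mul_one, mul_one] at i2
  have i3 : f * g * f⁻¹ = p * (z * c') := by rw [hc', hc]; group
  rw [i3, i2]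
  exact S.P.mul_mem hp (S.P.mul_mem (S.Z_le hz) (S.p1_mem q))

/-- `f` normalises `R` -/
theorem R5 {g : G} (hg : g ∈ S.R) : f * g * f⁻¹ ∈ S.R := by
  have h1 := h.P5 S (S.mem_R.1 hg)
  rw [S.mem_R]
  have e2 : f⁻¹ * E.na⁻¹ = E.na⁻¹ * f⁻¹ := by rw [← mul_inv_rev, ← h.na, mul_inv_rev]
  have e : E.na * (f * g * f⁻¹) * E.na⁻¹ = f * (E.na * g * E.na⁻¹) * f⁻¹ := by
    calc E.na * (f * g * f⁻¹) * E.na⁻¹ = (E.na * f) * g * (f⁻¹ * E.na⁻¹) := by group
      _ = _ := by rw [← h.na, e2]; group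
  rw [e]; exact h1

/-- **`f` normalises `S₀`, type `U₅`.** -/
theorem S05 [Finite G] {g : G} (hg : g ∈ S.S0) : f * g * f⁻¹ ∈ S.S0 := by
  have h1 : S.S0 ≤ S.S0.comap (MulAut.conj f).toMonoidHom := by
    conv_lhs => rw [S.S0_eq_sup]
    refine sup_le (sup_le (sup_le ?_ ?_) ?_) ?_
    · exact fun x hx => S.A_le (h.A5 S hx)
    · exact fun x hx => S.P_le (h.P5 S hx)
    · exact fun x hx => S.C_le (h.toFAct.C S.toWGrown hx)
    · exact fun x hx => S.R_le (h.R5 S hx)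
  exact h1 hg

end FAct5

end Cfsg.Agent.StdRank2.TXNorm
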