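import Cfsg.Agent.StdRank2.TX
import Cfsg.Agent.StdRank2.TXNorm
import Cfsg.Agent.StdRank2.B2CentZ

/-!
# The action of `T` on the environments and on the grown groups, types `U₄`, `U₅`

`fact_w`: an element of field type (`OutB2G.Fld`) acts on `wenv` as a field automorphism (`TXNorm.FAct`); `fact4`, `fact5`.
`norm_Sh`, `norm_S0`: every element of an adapted `T ≤ C(t)` normalises the grown group.
-/

set_option autoImplicit false
set_option linter.unusedSectionVars false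

namespace Cfsg.Agent.StdRank2.TXAct

open Subgroup
open Cfsg.Agent.TitsThree.B2Pkg Cfsg.Agent.TitsThree.RankTwoIdentB2
  Cfsg.Agent.TitsThree.CoreB2 Cfsg.Agent.TitsThree.RankTwoIdx Cfsg.Agent.TitsThree.RankTwoRGD
  Cfsg.Agent.TitsThree.StdData
open Cfsg.Agent.StdRank2.OddLift Cfsg.Agent.StdRank2.B2Lift Cfsg.Agent.StdRank2.B2Std
  Cfsg.Agent.StdRank2.B2Torus Cfsg.Agent.StdRank2.B2Act Cfsg.Agent.StdRank2.B2Act.Std
  Cfsg.Agent.StdRank2.B2Amb Cfsg.Agent.StdRank2.UFour Cfsg.Agent.StdRank2.B2Conn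
  Cfsg.Agent.StdRank2.UEnvW Cfsg.Agent.StdRank2.UEnv4 Cfsg.Agent.StdRank2.UEnv5
open Cfsg.Agent.StdRank2.OutB2G Cfsg.Agent.StdRank2.OutB2Aut Cfsg.Agent.StdRank2.OutB2Inv
  Cfsg.Agent.StdRank2.OutB2Data
open Cfsg.Agent.StdRank2.TX Cfsg.Agent.StdRank2.TXNorm
open Cfsg.Agent.StdEven.CoreQuot Cfsg.Agent.StdEven.Loc
open scoped commutatorElement

universe u

section gen

variable {G : Type u} [Group G] {A : Subgroup G} {t : G}
variable {F : Type*} [Field F] {V : Type*} [AddCommGroup V] [Module F V] {D : PQDatum F V}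
variable {N : FData D} {S : Std D ↥A} {f : G} {ρ : F ≃+* F}

theorem fld_nt (h : Fld N S f ρ) (s : F) : f * (nt S.m s : ↥A) * f⁻¹ = (nt S.m (ρ s) : ↥A) := by
  have e : ∀ s, ((nt S.m s : ↥A) : G) = (S.m.x s : ↥A) * (S.m.x' (-s⁻¹) : ↥A) * (S.m.x s : ↥A) := fun _ => rfl
  have h1 := h.x s
  have h2 := h.x' (-s⁻¹)
  rw [map_neg, map_inv₀] at h2
  rw [e, e]
  calc f * ((S.m.x s : ↥A) * (S.m.x' (-s⁻¹) : ↥A) * (S.m.x s : ↥A)) * f⁻¹
      = (f * (S.m.x s : ↥A) * f⁻¹) * (f * (S.m.x' (-s⁻¹) : ↥A) * f⁻¹) * (f * (S.m.x s : ↥A) * f⁻¹) := by group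
    _ = _ := by rw [h1, h2]

theorem fld_nI (h : Fld N S f ρ) : f * (S.m.nI : ↥A) * f⁻¹ = (S.m.nI : ↥A) := by
  have e : ((S.m.nI : ↥A) : G) = (S.m.x 1 : ↥A) * (S.m.x' (-1) : ↥A) * (S.m.x 1 : ↥A) := rfl
  have h1 := h.x 1
  have h2 := h.x' (-1)
  rw [map_one] at h1
  rw [map_neg, map_one] at h2
  rw [e]
  calc f * ((S.m.x 1 : ↥A) * (S.m.x' (-1) : ↥A) * (S.m.x 1 : ↥A)) * f⁻¹
      = (f * (S.m.x 1 : ↥A) * f⁻¹) * (f * (S.m.x' (-1) : ↥A) * f⁻¹) * (f * (S.m.x 1 : ↥A) * f⁻¹) := by group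
    _ = _ := by rw [h1, h2]

theorem fld_nII (h : Fld N S f ρ) (p : D.T) : f * (S.m.nII p : ↥A) * f⁻¹ = (S.m.nII (N.T ρ p) : ↥A) := by
  have e : ∀ p, ((S.m.nII p : ↥A) : G) = (S.m.z₂' (D.sc (-(D.σ p.c)⁻¹) p) : ↥A) * (S.m.z₂ p : ↥A) *
      (S.m.z₂' (D.sc (-(D.ε * p.c⁻¹)) p) : ↥A) := fun _ => rfl
  have h1 := h.z₂' (D.sc (-(D.σ p.c)⁻¹) p)
  have h2 := h.z₂ p
  have h3 := h.z₂' (D.sc (-(D.ε * p.c⁻¹)) p)
  have e1 : ρ (-(D.σ p.c)⁻¹) = -(D.σ (N.T ρ p).c)⁻¹ := by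
    rw [map_neg, map_inv₀, N.ρσ, N.T_c]
  have e2 : ρ (-(D.ε * p.c⁻¹)) = -(D.ε * (N.T ρ p).c⁻¹) := by
    rw [map_neg, map_mul, map_inv₀, N.ρε, N.T_c]
  rw [N.T_sc, e1] at h1
  rw [N.T_sc, e2] at h3
  rw [e, e]
  calc f * ((S.m.z₂' (D.sc (-(D.σ p.c)⁻¹) p) : ↥A) * (S.m.z₂ p : ↥A) *
      (S.m.z₂' (D.sc (-(D.ε * p.c⁻¹)) p) : ↥A)) * f⁻¹
      = (f * (S.m.z₂' (D.sc (-(D.σ p.c)⁻¹) p) : ↥A) * f⁻¹) * (f * (S.m.z₂ p : ↥A) * f⁻¹) *
        (f * (S.m.z₂' (D.sc (-(D.ε * p.c⁻¹)) p) : ↥A) * f⁻¹) := by group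
    _ = _ := by rw [h1, h2, h3]

/-- elements of field type normalise the torus -/
theorem fld_H (h : Fld N S f ρ) {g : G} (hg : g ∈ S.H.map A.subtype) : f * g * f⁻¹ ∈ S.H.map A.subtype := by
  obtain ⟨v, hv, rfl⟩ := hg
  have hv' : v ∈ closure (hgen S.m) := hv
  refine closure_induction (p := fun v _ => f * (A.subtype v) * f⁻¹ ∈ S.H.map A.subtype) ?_ ?_ ?_ ?_ hv'
  · rintro g (⟨s, t, hs, ht, rfl⟩ | ⟨p, q, hp, hq, rfl⟩)
    · refine ⟨nt S.m (ρ s) * (nt S.m (ρ t))⁻¹, hI_mem ((map_ne_zero_iff ρ ρ.injective).2 hs)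
        ((map_ne_zero_iff ρ ρ.injective).2 ht), ?_⟩
      have h1 := fld_nt h s
      have h2 := fld_nt h t
      show ((nt S.m (ρ s) : ↥A) : G) * ((nt S.m (ρ t) : ↥A) : G)⁻¹ =
        f * (((nt S.m s : ↥A) : G) * ((nt S.m t : ↥A) : G)⁻¹) * f⁻¹
      rw [← h1, ← h2]; group
    · refine ⟨S.m.nII (N.T ρ p) * (S.m.nII (N.T ρ q))⁻¹, hII_mem ((map_ne_zero_iff ρ ρ.injective).2 hp)
        ((map_ne_zero_iff ρ ρ.injective).2 hq), ?_⟩
      have h1 := fld_nII h p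
      have h2 := fld_nII h q
      show ((S.m.nII (N.T ρ p) : ↥A) : G) * ((S.m.nII (N.T ρ q) : ↥A) : G)⁻¹ =
        f * (((S.m.nII p : ↥A) : G) * ((S.m.nII q : ↥A) : G)⁻¹) * f⁻¹
      rw [← h1, ← h2]; group
  · rw [map_one, mul_one, mul_inv_cancel]; exact one_mem _
  · intro a b _ _ ha hb
    have e : f * A.subtype (a * b) * f⁻¹ = (f * A.subtype a * f⁻¹) * (f * A.subtype b * f⁻¹) := by
      rw [map_mul]; group
    rw [e]; exact mul_mem ha hb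
  · intro a _ ha
    have e : f * A.subtype a⁻¹ * f⁻¹ = (f * A.subtype a * f⁻¹)⁻¹ := by
      rw [map_inv]; group
    rw [e]; exact inv_mem ha

/-- elements of field type normalise `V_I` -/
theorem fld_VI [Finite F] [CharP F 2] (h : Fld N S f ρ) {g : G} (hg : g ∈ S.VI.map A.subtype) : f * g * f⁻¹ ∈ S.VI.map A.subtype := by
  obtain ⟨v, hv, rfl⟩ := hg
  obtain ⟨p, b, q, rfl⟩ := mem_VI_iff.1 hv
  have h1 := fld_nG h 0 p b q
  rw [map_zero] at h1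
  exact ⟨nf S.m 0 (N.T ρ p) (ρ b) (N.T ρ q), mem_VI_iff.2 ⟨_, _, _, rfl⟩, h1.symm⟩

end gen

section W

variable {G : Type u} [Group G] {A : Subgroup G} [Finite A] {t : G}
variable {F : Type*} [Field F] [Finite F] [CharP F 2] {V : Type*} [AddCommGroup V] [Module F V] {D : PQDatum F V}
  [Finite D.T] {B : Bar F}
variable {N : FData D} {S : Std D ↥A} {f : G} {ρ : F ≃+* F}
variable (hy : Hyp S B t) {lam : B.K} (h0 : lam ≠ 0) (h1 : lam ≠ 1)

theorem comm_bar (B : Bar F) (ρ : F ≃+* F) (x : F) : ρ (B.s x) = B.s (ρ x) :=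
  congrArg (fun τ : F ≃+* F => τ x) (OutField.comm ρ B.s)

theorem T_tk {k k' : B.K} (e : (k' : F) = ρ k) : N.T ρ (tk hy.hB k) = tk hy.hB k' := by
  ext
  · show N.r ρ 0 = 0
    rw [map_zero]
  · exact e.symm

/-- **Elements of field type act on `wenv` as field automorphisms.** -/
theorem fact_w (ht : f * t = t * f) (h : Fld N S f ρ) : FAct (wenv S hy h0 h1) f ρ := by
  have hi := fld_inv h
  exact
    { t := ht
      s := comm_bar B ρ
      a := h.x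
      c := h.y
      b := fun k k' e => by
        show f * (S.m.z₂ (tk hy.hB k) : ↥A) * f⁻¹ = (S.m.z₂ (tk hy.hB k') : ↥A)
        rw [h.z₂, T_tk hy e]
      z := fun k k' e => by
        show f * (S.m.z₁ (tk hy.hB k) : ↥A) * f⁻¹ = (S.m.z₁ (tk hy.hB k') : ↥A)
        rw [h.z₁, T_tk hy e]
      na := mul_inv_eq_iff_eq_mul.1 (fld_nI h)
      Q := fun g hg => fld_VI h hg
      Q' := fun g hg => by
        have := fld_VI hi hg
        rwa [inv_inv] at this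
      T := fun g hg => fld_H h hg
      T' := fun g hg => by
        have := fld_H hi hg
        rwa [inv_inv] at this }

/-- `UG S` is the group `UU` of the environment. -/
theorem UG_eq : UG S = SeedPre.UU (wenv S hy h0 h1) := by
  ext g
  constructor
  · rintro ⟨u, hu, rfl⟩
    exact B2CentZ.mem_UU_of hy h0 h1 hu
  · intro hg
    obtain ⟨u, hu, rfl⟩ := B2CentZ.UU_le hy h0 h1 hg
    exact ⟨u, hu, rfl⟩

end W

section four

variable {G : Type u} [Group G] {A : Subgroup G} [Finite A] {t : G}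
variable {F : Type*} [Field F] [Finite F] [CharP F 2] {B : Bar F}
variable {N : FData (stdU0 F B.s B.invol)} {S : Std (stdU0 F B.s B.invol) ↥A} {f : G} {ρ : F ≃+* F}
variable (hy : Hyp S B t) {lam : B.K} (h0 : lam ≠ 0) (h1 : lam ≠ 1)

theorem fact4 (ht : f * t = t * f) (h : Fld N S f ρ) :
    FAct (env4 S hy h0 h1).toWEnv f ρ ∧ f * (env4 S hy h0 h1).nb = (env4 S hy h0 h1).nb * f := by
  refine ⟨fact_w hy h0 h1 ht h, ?_⟩
  have e : (env4 S hy h0 h1).nb = (S.m.nII (tk hy.hB 1) : ↥A) := rfl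
  have h2 := fld_nII h (tk hy.hB 1)
  rw [T_tk hy (k' := 1) (by
    show (1 : F) = ρ 1
    rw [map_one])] at h2
  rw [e]
  exact mul_inv_eq_iff_eq_mul.1 h2

variable {T : Subgroup G} [Finite G] (Gr : UFour.Grown (env4 S hy h0 h1))

theorem UG_le_Sh : UG S ≤ UFourId.Sh Gr := by
  rw [UG_eq hy h0 h1]
  rintro _ ⟨q, hq, s, rfl⟩
  obtain ⟨x, y, z, rfl⟩ := (env4 S hy h0 h1).Q_le q hq
  exact mul_mem (mul_mem (mul_mem (mem_sup_left (mem_sup_left (mem_sup_left (Gr.rootZ.mem x))))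
    (mem_sup_left (mem_sup_left (mem_sup_right (Gr.rootC.mem y))))) (mem_sup_left (mem_sup_right (Gr.rootB.mem z))))
    (mem_sup_right (Gr.rootA.mem s))

/-- **`T` normalises the grown group, type `U₄`.** -/
theorem norm_Sh (h : TSit N S t T) {y g : G} (hyT : y ∈ T) (hg : g ∈ UFourId.Sh Gr) :
    y * g * y⁻¹ ∈ UFourId.Sh Gr := by
  obtain ⟨u, hu, f, hf, ρ, rfl, hF, -⟩ := h.exists_fld hyT
  obtain ⟨i1, i2⟩ := fact4 hy h0 h1 (h.comm f hf) hF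
  have i3 := i1.Sh4 i2 Gr hg
  have i4 := UG_le_Sh hy h0 h1 Gr hu
  have e : u * f * g * (u * f)⁻¹ = u * (f * g * f⁻¹) * u⁻¹ := by group
  rw [e]
  exact mul_mem (mul_mem i4 i3) (inv_mem i4)

end four

section five

variable {G : Type u} [Group G] {A : Subgroup G} [Finite A] {t : G}
variable {F : Type*} [Field F] [Finite F] [CharP F 2] {B : Bar F}
variable {S : Std (stdU1 F B.s B.invol) ↥A} {f : G} {ρ : F ≃+* F}
variable (hy : Hyp S B t) {lam : B.K} (h0 : lam ≠ 0) (h1 : lam ≠ 1)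

theorem fact5 (ht : f * t = t * f) (h : Fld (nU1 B.s B.invol) S f ρ) : FAct5 (env5 S hy h0 h1) f ρ where
  toFAct := fact_w hy h0 h1 ht h
  nb := by
    have e : (env5 S hy h0 h1).nb = (S.m.nII (tk hy.hB 1) : ↥A) := rfl
    have h2 := fld_nII h (tk hy.hB 1)
    rw [T_tk hy (k' := 1) (by
      show (1 : F) = ρ 1
      rw [map_one])] at h2
    rw [e]
    exact mul_inv_eq_iff_eq_mul.1 h2
  p1 q q' e1 e2 := by
    show f * (S.m.z₁ (cv q) : ↥A) * f⁻¹ = (S.m.z₁ (cv q') : ↥A)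
    rw [h.z₁]
    congr 3
    ext
    · exact e1.symm
    · exact e2.symm
  p2 q q' e1 e2 := by
    show f * (S.m.z₂ (cv q) : ↥A) * f⁻¹ = (S.m.z₂ (cv q') : ↥A)
    rw [h.z₂]
    congr 3
    ext
    · exact e1.symm
    · exact e2.symm

variable {T : Subgroup G} [Finite G] (Gr : UFive.QGrown (env5 S hy h0 h1))

/-- **`T` normalises the grown group, type `U₅`.** -/
theorem norm_S0 (h : TSit (nU1 B.s B.invol) S t T) {y g : G} (hyT : y ∈ T) (hg : g ∈ Gr.S0) :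
    y * g * y⁻¹ ∈ Gr.S0 := by
  obtain ⟨u, hu, f, hf, ρ, rfl, hF, -⟩ := h.exists_fld hyT
  have i3 := (fact5 hy h0 h1 (h.comm f hf) hF).S05 Gr hg
  have i4 : u ∈ Gr.S0 := by
    rw [UG_eq hy h0 h1] at hu
    exact Gr.U_le hu
  have e : u * f * g * (u * f)⁻¹ = u * (f * g * f⁻¹) * u⁻¹ := by group
  rw [e]
  exact mul_mem (mul_mem i4 i3) (inv_mem i4)

end five

end Cfsg.Agent.StdRank2.TXAct
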