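import Cfsg.Agent.StdRank2.SpJe
import Cfsg.Agent.StdRank2.B2Conn
import Cfsg.Agent.StdRank2.L3Data

/-!
# Type `Sp₄(q)`, `q ≥ 4` even: the common data of `StdEven.StepFour` for `J = ⟨t⟩ U`, `W = Z(U)`

`Sit L A t T S`: the reduced configuration, a package `S` of `A` with `T ⊓ A = U`.
`Sit.data : StepFour.Data A t T (J S t) (W S)`, `Sit.hyp`, `Sit.exists_n`, `Sit.not_conj`.
-/

set_option autoImplicit false
set_option linter.unusedSectionVars false
set_option linter.dupNamespace false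

namespace Cfsg.Agent.StdRank2.SpData

open Subgroup Cfsg.Agent.SignalizersComponents Cfsg.Agent.StdEven.Syl Cfsg.Agent.StdEven.Loc
open Cfsg.Agent.StdEven.StepFour Cfsg.Agent.StdL2.Setup
open Cfsg.Agent.TitsThree.B2Pkg Cfsg.Agent.TitsThree.RankTwoIdentB2
  Cfsg.Agent.TitsThree.CoreB2 Cfsg.Agent.TitsThree.RankTwoIdx Cfsg.Agent.TitsThree.RankTwoRGD
  Cfsg.Agent.TitsThree.StdData
open Cfsg.Agent.StdRank2.OddLift Cfsg.Agent.StdRank2.B2Lift Cfsg.Agent.StdRank2.B2Std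
  Cfsg.Agent.StdRank2.B2Torus Cfsg.Agent.StdRank2.B2Act Cfsg.Agent.StdRank2.B2Act.Std
  Cfsg.Agent.StdRank2.B2Par Cfsg.Agent.StdRank2.B2Par.Std Cfsg.Agent.StdRank2.B2Self
  Cfsg.Agent.StdRank2.OutB2Par Cfsg.Agent.StdRank2.OutB2Grade Cfsg.Agent.StdRank2.OutB2Aut
  Cfsg.Agent.StdRank2.OutB2Tw Cfsg.Agent.StdRank2.OutB2Data Cfsg.Agent.StdRank2.OutB2Decomp
  Cfsg.Agent.StdRank2.OutB2G Cfsg.Agent.StdRank2.OutAct
  Cfsg.Agent.StdRank2.SpFrame Cfsg.Agent.StdRank2.SpSelf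

universe u

variable {G : Type u} [Group G] [Finite G] {L A : Subgroup G} {t : G} {T : Subgroup G}
  {F : Type*} [Field F] [Finite F] [CharP F 2]

/-- the situation. -/
structure Sit (L A : Subgroup G) (t : G) (T : Subgroup G) (S : Std (stdSp F) ↥A) : Prop where
  conf : Conf L A t
  hZ : Odd (Nat.card (center ↥A))
  isT : IsT A t T
  UT : T ⊓ A = UG S
  four : 4 ≤ Nat.card F

/-- `U` is Sylow in `A`. -/
theorem isSyl_U (hZ : Odd (Nat.card (center ↥A))) (S : Std (stdSp F) ↥A) : IsSyl (UG S) A := by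
  obtain ⟨P, hP⟩ := B2Torus.Std.exists_sylow S scal_Sp hZ
  refine ⟨UG_le S, (isPGroup_pos S.rel).map _, fun X hX hXA hle => ?_⟩
  have h1 : (P : Subgroup ↥A) ≤ X.subgroupOf A := by
    rw [hP]
    intro x hx
    exact mem_subgroupOf.mpr (hle ⟨x, hx, rfl⟩)
  have h2 := P.is_maximal' hX.comap_subtype h1
  apply le_antisymm _ hle
  intro x hx
  have h3 : (⟨x, hXA hx⟩ : A) ∈ X.subgroupOf A := mem_subgroupOf.mpr hx
  have h4 : (⟨x, hXA hx⟩ : A) ∈ (P : Subgroup ↥A) := h2 ▸ h3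
  rw [hP] at h4
  exact ⟨_, h4, rfl⟩

/-- For every package there is a suitable `T`. -/
theorem exists_sit (C : Conf L A t) (hZ : Odd (Nat.card (center ↥A))) (S : Std (stdSp F) ↥A)
    (four : 4 ≤ Nat.card F) : ∃ T : Subgroup G, Sit L A t T S := by
  obtain ⟨T0, hT0⟩ := exists_isT C.std C.ht C.htA C.cyc
  have hU := isSyl_U hZ S
  obtain ⟨a, ha, hc⟩ := hT0.sylA.exists_conj hU.two hU.le
  refine ⟨T0.map (MulAut.conj a⁻¹).toMonoidHom, C, hZ, L3Data.isT_conj C hT0 (inv_mem ha), ?_, four⟩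
  have hT : IsT A t (T0.map (MulAut.conj a⁻¹).toMonoidHom) := L3Data.isT_conj C hT0 (inv_mem ha)
  have hUT : UG S ≤ T0.map (MulAut.conj a⁻¹).toMonoidHom := by
    intro u hu
    rw [mem_map_conj, inv_inv]
    exact (hc u hu).1
  exact hU.max _ (hT.syl.two.to_le inf_le_left) inf_le_right (le_inf hUT hU.le)

/-- Existence from the isomorphism type. -/
theorem exists_sit_of_equiv (C : Conf L A t) (hZ : Odd (Nat.card (center ↥A)))
    (e : ↥A ⧸ center ↥A ≃* Cfsg.PSp 2 F) (four : 4 ≤ Nat.card F) :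
    ∃ (T : Subgroup G) (S : Std (stdSp F) ↥A), Sit L A t T S := by
  obtain ⟨S⟩ := B2Conn.exists_Sp (by omega) C.std.1.1.commutator_eq_top hZ e
  obtain ⟨T, hT⟩ := exists_sit C hZ S four
  exact ⟨T, S, hT⟩

/-- `W = Z(U)`. -/
def W (S : Std (stdSp F) ↥A) : Subgroup G := UG S ⊓ centralizer (UG S : Set G)

/-- `J = U⟨t⟩`. -/
def J (S : Std (stdSp F) ↥A) (t : G) : Subgroup G := UG S ⊔ zpowers t

namespace Sit

variable {S : Std (stdSp F) ↥A} (h : Sit L A t T S)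
include h

theorem tt : t * t = 1 := Cfsg.Agent.StdEven.Loc.tt h.conf.ht

theorem t_inv : t⁻¹ = t := inv_eq_of_mul_eq_one_left h.tt

theorem t_ne : t ≠ 1 := Cfsg.Agent.StdEven.Loc.t_ne h.conf.ht

theorem t_comm {a : G} (ha : a ∈ A) : t * a = a * t := comm_of_centralizer h.conf.htA ha

theorem t_not : t ∉ A := fun ht =>
  h.t_ne (h.isT.eq_one_of_mem h.hZ h.isT.mem ht h.conf.htA)

theorem perfect : _root_.commutator ↥A = ⊤ := h.conf.std.1.1.commutator_eq_top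

theorem simple : IsSimpleGroup (↥A ⧸ center ↥A) := h.conf.std.1.2

theorem U_le : UG S ≤ T := by rw [← h.UT]; exact inf_le_left

theorem T_norm {y : G} (hy : y ∈ T) {u : G} (hu : u ∈ UG S) : y * u * y⁻¹ ∈ UG S := by
  rw [← h.UT] at hu ⊢
  exact mem_inf.mpr ⟨mul_mem (mul_mem hy hu.1) (inv_mem hy),
    conj_mem_of_mem_normalizer (h.isT.syl.le hy) hu.2⟩

theorem mem_J {x : G} : x ∈ J S t ↔ x ∈ UG S ∨ t * x ∈ UG S :=
  L3Data.mem_sup_t h.tt fun _ hx => h.t_comm (UG_le S hx)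

theorem U_mem_J {x : G} (hx : x ∈ UG S) : x ∈ J S t := mem_sup_left hx

theorem t_mem_J : t ∈ J S t := mem_sup_right (mem_zpowers t)

theorem J_le : J S t ≤ T := by
  rw [J, sup_le_iff, zpowers_le]
  exact ⟨h.U_le, h.isT.mem⟩

theorem W_le_A : W S ≤ A := fun _ hx => UG_le S hx.1

theorem exists_ne : ∃ l : F, l ≠ 0 ∧ l ≠ 1 := B2Inst.exists_ne (by have := h.four; omega)

/-- `W = Z(U) = z₁(F) y(F)`. -/
theorem mem_W {x : G} : x ∈ W S ↔ ∃ b c : F, x = (S.m.z₁ (SpFrame.tt c) * S.m.y b : ↥A) := by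
  have hc2 : (2 : F) = 0 := by exact_mod_cast CharP.cast_eq_zero F 2
  constructor
  · rintro ⟨⟨v, hv, rfl⟩, h2⟩
    have h3 : ∀ w ∈ S.U, v * w = w * v := by
      intro w hw
      apply Subtype.ext
      exact comm_of_centralizer h2 ⟨w, hw, rfl⟩
    obtain ⟨a, p, b, q, rfl⟩ := exists_nf_sp S hv
    have h4 := h3 _ (x_mem (m := S.m) 1)
    have h5 := h3 _ (z₂_mem (m := S.m) (SpFrame.tt 1))
    rw [x_eq_nf S.rel 1, tt_one, mul_sp, mul_sp] at h4
    rw [z₂_eq_nf S.rel (SpFrame.tt 1), tt_one, mul_sp, mul_sp] at h5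
    have e1 := (nf_inj_sp S h4).2.2.1
    have e2 := (nf_inj_sp S h5).2.2.1
    have hq : q = 0 := by linear_combination e1
    have ha : a = 0 := by linear_combination -e2
    subst hq ha
    refine ⟨b, p, ?_⟩
    have e3 : B2Std.nf S.m 0 (SpFrame.tt p) b (SpFrame.tt 0) = S.m.z₁ (SpFrame.tt p) * S.m.y b := by
      unfold B2Std.nf
      rw [show S.m.x 0 = 1 from add_zero' S.rel.x_add, ← tt_one, show S.m.z₂ 1 = 1 from mul_one' S.rel.z₂_mul,
        one_mul, mul_one]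
    exact congrArg Subtype.val e3
  · rintro ⟨b, c, rfl⟩
    refine mem_inf.mpr ⟨⟨_, mul_mem (z₁_mem _) (y_mem _), rfl⟩, ?_⟩
    rw [mem_centralizer_iff]
    rintro _ ⟨v, hv, rfl⟩
    have h1 := z₁_comm_U (S := S) (p := SpFrame.tt c) rfl hv
    have h2 := U_comm_y S hv b
    have h3 : v * (S.m.z₁ (SpFrame.tt c) * S.m.y b) = S.m.z₁ (SpFrame.tt c) * S.m.y b * v := by
      calc v * (S.m.z₁ (SpFrame.tt c) * S.m.y b) = (v * S.m.z₁ (SpFrame.tt c)) * S.m.y b := by group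
        _ = S.m.z₁ (SpFrame.tt c) * (v * S.m.y b) := by rw [← h1]; group
        _ = _ := by rw [h2]; group
    exact congrArg Subtype.val h3

theorem zy_mem_W (b c : F) : ((S.m.z₁ (SpFrame.tt c) * S.m.y b : ↥A) : G) ∈ W S := h.mem_W.mpr ⟨b, c, rfl⟩

theorem zy_sq (b c : F) : (S.m.z₁ (SpFrame.tt c) * S.m.y b) * (S.m.z₁ (SpFrame.tt c) * S.m.y b) = 1 := by
  have h1 : S.m.z₁ (SpFrame.tt c) * S.m.z₁ (SpFrame.tt c) = 1 := by
    rw [← S.rel.z₁_mul, tt_mul, CharTwo.add_self_eq_zero, ← tt_one]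
    exact mul_one' S.rel.z₁_mul
  have h2 : S.m.y b * S.m.y b = 1 := by
    rw [← S.rel.y_add, CharTwo.add_self_eq_zero]
    exact add_zero' S.rel.y_add
  have h3 := (y_z₁_comm S b c).eq
  calc (S.m.z₁ (SpFrame.tt c) * S.m.y b) * (S.m.z₁ (SpFrame.tt c) * S.m.y b)
      = S.m.z₁ (SpFrame.tt c) * (S.m.y b * S.m.z₁ (SpFrame.tt c)) * S.m.y b := by group
    _ = (S.m.z₁ (SpFrame.tt c) * S.m.z₁ (SpFrame.tt c)) * (S.m.y b * S.m.y b) := by rw [h3]; group
    _ = 1 := by rw [h1, h2, one_mul]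

/-! ### Elements of `T` as automorphisms -/

/-- Elements of `T` inducing inner automorphisms by elements of `U`. -/
theorem exists_of_inner {y : G} (hy : y ∈ T) {u : ↥A ⧸ center ↥A} (hu : u ∈ (quotStd h.hZ S).U)
    (e : ac A ⟨y, h.isT.syl.le hy⟩ = MulAut.conj u) : ∃ v ∈ UG S, v⁻¹ * y ∈ centralizer (A : Set G) := by
  rw [quotStd_U] at hu
  obtain ⟨v, hv, rfl⟩ := hu
  refine ⟨v, ⟨v, hv, rfl⟩, ?_⟩
  have hvN : ((v⁻¹ : ↥A) : G) ∈ normalizer (A : Set G) := le_normalizer (v⁻¹).2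
  have h1 : ac A ⟨((v⁻¹ : ↥A) : G), hvN⟩ = (MulAut.conj ((QuotientGroup.mk' (center ↥A)) v))⁻¹ := by
    have := act_conj_mem (MulEquiv.refl (↥A ⧸ center ↥A)) (v⁻¹).2 hvN
    rw [this, ← map_inv]
    rfl
  have h2 : ac A (⟨((v⁻¹ : ↥A) : G), hvN⟩ * ⟨y, h.isT.syl.le hy⟩) = 1 := by
    rw [map_mul, h1, e, inv_mul_cancel]
  exact mem_centralizer_of_act_eq_one h.perfect (MulEquiv.refl _) h2

/-- Involutions of `T` inducing inner automorphisms are in `J`. -/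
theorem mem_J_of_inner {y : G} (hy : y ∈ T) (hyy : y * y = 1) {u : ↥A ⧸ center ↥A}
    (hu : u ∈ (quotStd h.hZ S).U) (e : ac A ⟨y, h.isT.syl.le hy⟩ = MulAut.conj u) : y ∈ J S t := by
  obtain ⟨v, hv, hr⟩ := h.exists_of_inner hy hu e
  set r := v⁻¹ * y with hrdef
  have hvT := h.U_le hv
  have hrT : r ∈ T := mul_mem (inv_mem hvT) hy
  have hyv : y = v * r := by rw [hrdef]; group
  have hrv : r * v = v * r := comm_of_centralizer hr (UG_le S hv)
  have h1 : (v * v) * (r * r) = 1 := by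
    rw [← hyy, hyv]
    calc v * v * (r * r) = v * (v * r) * r := by group
      _ = v * (r * v) * r := by rw [hrv]
      _ = v * r * (v * r) := by group
  have h2 : v * v = 1 := by
    apply h.isT.eq_one_of_mem h.hZ (mul_mem hvT hvT) (mul_mem (UG_le S hv) (UG_le S hv))
    rw [eq_inv_of_mul_eq_one_left h1]
    exact inv_mem (mul_mem hr hr)
  rw [h2, one_mul] at h1
  rw [h.mem_J]
  rcases h.isT.uniq r hrT hr h1 with h3 | h3
  · left
    rw [hyv, h3, mul_one]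
    exact hv
  · right
    rw [hyv, h3, ← h.t_comm (UG_le S hv), ← mul_assoc, h.tt, one_mul]
    exact hv

theorem map_U {y : G} (hy : y ∈ T) : ∀ v ∈ (quotStd h.hZ S).U, ac A ⟨y, h.isT.syl.le hy⟩ v ∈ (quotStd h.hZ S).U :=
  map_mem_quot h.hZ S (h.isT.syl.le hy) fun _ hu => h.T_norm hy hu

/-! ### Elementary abelian subgroups of order at least `2 q³` -/

theorem je_aux {E : Subgroup G} (hET : E ≤ T) (htE : t ∈ E) (hsq : ∀ x ∈ E, x * x = 1)
    (hc : 2 * (Nat.card F * Nat.card F * Nat.card F) ≤ Nat.card E) : E ≤ J S t := by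
  have hs := h.simple
  have hcomm : ∀ x ∈ E, ∀ y ∈ E, x * y = y * x := fun x hx y hy => FrameL3.comm_of_sq hsq hx hy
  set Q := quotStd h.hZ S with hQ
  have hF3 : 3 ≤ Nat.card F := by have := h.four; omega
  -- the subgroup `B`
  let B0 : Subgroup ↥A := S.U ⊓ E.comap A.subtype
  let B : Subgroup (↥A ⧸ center ↥A) := B0.map (QuotientGroup.mk' (center ↥A))
  have hBU : B ≤ Q.U := by
    rw [hQ, quotStd_U]
    exact Subgroup.map_mono inf_le_left
  have hBsq : ∀ v ∈ B, v * v = 1 := by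
    rintro _ ⟨v, hv, rfl⟩
    rw [← map_mul]
    have : v * v = 1 := Subtype.ext (hsq _ hv.2)
    rw [this, map_one]
  -- the automorphisms
  let φ : ∀ y, y ∈ E → MulAut (↥A ⧸ center ↥A) := fun y hy => ac A ⟨y, h.isT.syl.le (hET hy)⟩
  have hφ : ∀ y (hy : y ∈ E), φ y hy = ac A ⟨y, h.isT.syl.le (hET hy)⟩ := fun _ _ => rfl
  have hmul : ∀ y (hy : y ∈ E) z (hz : z ∈ E), φ (y * z) (mul_mem hy hz) = φ y hy * φ z hz := by
    intro y hy z hz
    exact map_mul (ac A) (⟨y, h.isT.syl.le (hET hy)⟩ : ↥(normalizer (A : Set G))) ⟨z, h.isT.syl.le (hET hz)⟩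
  have hφ2 : ∀ y (hy : y ∈ E), φ y hy * φ y hy = 1 := by
    intro y hy
    have e1 : (⟨y, h.isT.syl.le (hET hy)⟩ : ↥(normalizer (A : Set G))) * ⟨y, h.isT.syl.le (hET hy)⟩ = 1 :=
      Subtype.ext (hsq y hy)
    have e2 := map_mul (ac A) (⟨y, h.isT.syl.le (hET hy)⟩ : ↥(normalizer (A : Set G))) ⟨y, h.isT.syl.le (hET hy)⟩
    rw [e1, map_one] at e2
    exact e2.symm
  have hφc : ∀ y (hy : y ∈ E) z (hz : z ∈ E), φ y hy * φ z hz = φ z hz * φ y hy := by
    intro y hy z hz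
    have e1 : (⟨y, h.isT.syl.le (hET hy)⟩ : ↥(normalizer (A : Set G))) * ⟨z, h.isT.syl.le (hET hz)⟩ =
        ⟨z, h.isT.syl.le (hET hz)⟩ * ⟨y, h.isT.syl.le (hET hy)⟩ := Subtype.ext (hcomm y hy z hz)
    have e2 := map_mul (ac A) (⟨y, h.isT.syl.le (hET hy)⟩ : ↥(normalizer (A : Set G))) ⟨z, h.isT.syl.le (hET hz)⟩
    rw [e1, map_mul] at e2
    exact e2.symm
  have hφU : ∀ y (hy : y ∈ E), ∀ v ∈ Q.U, φ y hy v ∈ Q.U := fun y hy => h.map_U (hET hy)
  have hfix : ∀ y (hy : y ∈ E), ∀ v ∈ B, φ y hy v = v := by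
    rintro y hy _ ⟨v, hv, rfl⟩
    show ac A ⟨y, h.isT.syl.le (hET hy)⟩ (QuotientGroup.mk v) = QuotientGroup.mk v
    rw [ac_mk]
    congr 1
    apply Subtype.ext
    show y * (v : G) * y⁻¹ = v
    rw [hcomm y hy v hv.2, mul_inv_cancel_right]
  -- counting
  let E0 : Set G := {y | y ∈ E ∧ y ∈ J S t}
  have hBc : Nat.card (E ⊓ UG S : Subgroup G) ≤ Nat.card B := by
    apply Nat.card_le_card_of_injective (fun x : (E ⊓ UG S : Subgroup G) =>
      (⟨QuotientGroup.mk' (center ↥A) ⟨x, UG_le S x.2.2⟩, ⟨⟨x, UG_le S x.2.2⟩, Subgroup.mem_inf.mpr ⟨by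
        obtain ⟨u, hu, e⟩ := x.2.2
        have : (⟨x, UG_le S x.2.2⟩ : ↥A) = u := Subtype.ext e.symm
        rw [this]; exact hu, x.2.1⟩, rfl⟩⟩ : B))
    intro x y hxy
    have h1 : (QuotientGroup.mk (⟨x, UG_le S x.2.2⟩ : ↥A) : ↥A ⧸ center ↥A) = QuotientGroup.mk ⟨y, UG_le S y.2.2⟩ :=
      congrArg Subtype.val hxy
    have hx2 : IsTwo (⟨x, UG_le S x.2.2⟩ : ↥A) := ⟨1, Subtype.ext (by
      show (x : G) ^ 2 ^ 1 = 1
      rw [pow_one, pow_two]; exact hsq _ x.2.1)⟩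
    have hy2 : IsTwo (⟨y, UG_le S y.2.2⟩ : ↥A) := ⟨1, Subtype.ext (by
      show (y : G) ^ 2 ^ 1 = 1
      rw [pow_one, pow_two]; exact hsq _ y.2.1)⟩
    have h2 := eq_of_mk h.hZ hx2 hy2 h1
    have h3 : (x : G) = y := congrArg (fun z : ↥A => (z : G)) h2
    exact Subtype.ext h3
  have hE0c : E0.ncard ≤ 2 * Nat.card B := by
    have h1 := OutField.ncard_le_two (S := E0) (H := ((E ⊓ UG S : Subgroup G) : Set G)) t (by
      rintro y ⟨hy, hyJ⟩
      rcases h.mem_J.mp hyJ with h1 | h1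
      · exact Or.inl (Subgroup.mem_inf.mpr ⟨hy, h1⟩)
      · right
        rw [h.t_inv]
        exact Subgroup.mem_inf.mpr ⟨mul_mem htE hy, h1⟩)
    rw [← Nat.card_coe_set_eq ((E ⊓ UG S : Subgroup G) : Set G)] at h1
    exact h1.trans (Nat.mul_le_mul_left 2 hBc)
  -- the elements preserving `V_I`, `V_J`
  let Pr : ∀ y, y ∈ E → Prop := fun y hy => (∀ v ∈ Q.VI, φ y hy v ∈ Q.VI) ∧ ∀ v ∈ Q.VJ, φ y hy v ∈ Q.VJ
  let Sw : ∀ y, y ∈ E → Prop := fun y hy => (∀ v ∈ Q.VI, φ y hy v ∈ Q.VJ) ∧ ∀ v ∈ Q.VJ, φ y hy v ∈ Q.VI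
  have hor : ∀ y (hy : y ∈ E), Pr y hy ∨ Sw y hy := fun y hy => par_or (hφU y hy)
  let Ep : Set G := {y | ∃ hy : y ∈ E, Pr y hy}
  have hEp : (E : Set G).ncard ≤ 2 * Ep.ncard := by
    by_cases hw : ∃ w, ∃ hw : w ∈ E, Sw w hw
    · obtain ⟨w, hwE, hw⟩ := hw
      apply OutField.ncard_le_two w
      intro y hy
      have hy : y ∈ E := hy
      rcases hor y hy with h1 | h1
      · exact Or.inl ⟨hy, h1⟩
      · right
        have hw1 : w⁻¹ = w := inv_eq_of_mul_eq_one_left (hsq w hwE)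
        rw [hw1]
        refine ⟨mul_mem hwE hy, ?_, ?_⟩
        · intro v hv
          rw [hmul w hwE y hy]
          exact hw.2 _ (h1.1 v hv)
        · intro v hv
          rw [hmul w hwE y hy]
          exact hw.1 _ (h1.2 v hv)
    · push Not at hw
      have h1 : (E : Set G) ⊆ Ep := fun y hy => ⟨hy, (hor y hy).resolve_right (hw y hy)⟩
      have h2 := Set.ncard_le_ncard h1 (Set.toFinite _)
      omega
  rw [← SetLike.coe_sort_coe, Nat.card_coe_set_eq] at hc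
  have h4 := h.four
  set q := Nat.card F with hq
  intro y1 hy1
  by_contra hy1J
  by_cases hcase : ∃ y0, ∃ hy0 : y0 ∈ E, Pr y0 hy0 ∧ y0 ∉ J S t
  · -- a field automorphism
    obtain ⟨y0, hy0, hP0, hJ0⟩ := hcase
    have hdec : ∀ y (hy : y ∈ E), Pr y hy → y ∉ J S t → ∃ ρ : F ≃+* F, ρ ≠ 1 ∧ SpJe.Fac Q (φ y hy) ρ ∧
        ∃ u ∈ Q.U, ∃ c : Fˣ × Fˣ, φ y hy = MulAut.conj u * (dg Q c * fd nSp Q ρ) := by
      intro y hy hP hJ
      obtain ⟨u, hu, c, ρ, e⟩ := decomp (tySp hF3) (hφU y hy) hP.1 hP.2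
      refine ⟨ρ, ?_, SpJe.Fac.of_decomp hu hP.1 e, u, hu, c, e⟩
      rintro rfl
      apply hJ
      exact h.mem_J_of_inner (hET hy) (hsq y hy) hu (SpJe.inner_of_one Q hu e (hφ2 y hy))
    obtain ⟨ρ, hρ, hfac, u, hu, c, e⟩ := hdec y0 hy0 hP0 hJ0
    have hρ2 : ρ * ρ = 1 := by
      have h1 := hfac.mul hfac
      rw [hφ2 y0 hy0] at h1
      exact h1.uniq SpJe.Fac.one
    have h1 := SpJe.fld_card Q hu e hBU hBsq (hfix y0 hy0)
    have h2 := OutField.card_fix hρ2 hρ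
    rw [← hq] at h2
    have h3 : Ep.ncard ≤ 2 * E0.ncard := by
      apply OutField.ncard_le_two y0
      rintro y ⟨hy, hP⟩
      by_cases hyJ : y ∈ J S t
      · exact Or.inl ⟨hy, hyJ⟩
      · right
        have hw1 : y0⁻¹ = y0 := inv_eq_of_mul_eq_one_left (hsq y0 hy0)
        rw [hw1]
        obtain ⟨τ, hτ, hfac', -⟩ := hdec y hy hP hyJ
        obtain ⟨v, hv, e'⟩ := SpJe.inner_of_mul Q hF3 (hφU y0 hy0) hP0.1 hP0.2 (hφU y hy) hP.1 hP.2
          (hφ2 y0 hy0) (hφ2 y hy) (hφc y0 hy0 y hy) hfac hfac' hρ hτ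
        rw [← hmul y0 hy0 y hy] at e'
        exact ⟨mul_mem hy0 hy, h.mem_J_of_inner (hET (mul_mem hy0 hy)) (hsq _ (mul_mem hy0 hy)) hv e'⟩
    set n := Nat.card {a : F // ρ a = a} with hn
    -- `q³ ≤ 4 |B| ≤ 4 n³`, `n² = q`
    have h5 : q * q * q ≤ 4 * Nat.card B := by omega
    have h6 : q * q * q ≤ 4 * (n * (n * n)) := h5.trans (Nat.mul_le_mul_left 4 h1)
    rw [← h2] at h6 h4
    have hn2 : 2 ≤ n := by
      by_contra hcon
      have : n ≤ 1 := by omega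
      have : n * n ≤ 1 * 1 := Nat.mul_le_mul this this
      omega
    have h7 : n * n * (n * n) * (n * n) = (n * n * n) * (n * (n * n)) := by ring
    rw [h7] at h6
    have h8 : 8 ≤ n * n * n := by
      have : 2 * 2 * 2 ≤ n * n * n := Nat.mul_le_mul (Nat.mul_le_mul hn2 hn2) hn2
      omega
    have h9 : 8 * (n * (n * n)) ≤ (n * n * n) * (n * (n * n)) := Nat.mul_le_mul_right _ h8
    have h10 : 0 < n * (n * n) := by positivity
    omega
  · -- only elements interchanging `V_I`, `V_J`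
    push Not at hcase
    have hSw : Sw y1 hy1 := by
      rcases hor y1 hy1 with h1 | h1
      · exact absurd (hcase y1 hy1 h1) hy1J
      · exact h1
    have h1 := SpJe.swap_card Q hSw.1 hSw.2 hBU hBsq (hfix y1 hy1)
    rw [← hq] at h1
    have h2 : Ep.ncard ≤ E0.ncard :=
      Set.ncard_le_ncard (fun y ⟨hy, hP⟩ => ⟨hy, hcase y hy hP⟩) (Set.toFinite _)
    have h5 : q * q * q ≤ 2 * (q * q) := by omega
    have h6 : 4 * (q * q) ≤ q * q * q := by
      rw [mul_comm 4]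
      exact Nat.mul_le_mul_left _ h4
    have h7 : 0 < q * q := by positivity
    omega

/-- **Elementary abelian subgroups of order at least `2 q³` of `T` are in `J`.** -/
theorem je {E : Subgroup G} (hET : E ≤ T) (hsq : ∀ x ∈ E, x * x = 1)
    (hc : 2 * (Nat.card F * Nat.card F * Nat.card F) ≤ Nat.card E) : E ≤ J S t := by
  have hEt : ∀ x ∈ E, t * x = x * t := fun x hx => (h.isT.cent x (hET hx)).symm
  have hle : E ≤ E ⊔ zpowers t := le_sup_left
  refine hle.trans (h.je_aux (E := E ⊔ zpowers t) ?_ (mem_sup_right (mem_zpowers t)) ?_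
    (hc.trans (Subgroup.card_le_of_le hle)))
  · rw [sup_le_iff, zpowers_le]
    exact ⟨hET, h.isT.mem⟩
  · intro x hx
    rcases (L3Data.mem_sup_t h.tt hEt).mp hx with h1 | h1
    · exact hsq x h1
    · have h2 := hsq _ h1
      have h3 := hEt _ h1
      calc x * x = (t * t) * x * (t * t) * x := by rw [h.tt]; group
        _ = t * ((t * x) * t) * (t * x) := by group
        _ = (t * t) * ((t * x) * (t * x)) := by rw [← h3]; group
        _ = 1 := by rw [h.tt, h2, one_mul]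

/-- `V⟨t⟩` is mapped into `J`. -/
theorem weak_aux {g : G} (hg : ∀ j ∈ J S t, g * j * g⁻¹ ∈ T) {E : Subgroup G} (hEU : E ≤ UG S)
    (hE2 : ∀ x ∈ E, x * x = 1) (hEc : Nat.card F * Nat.card F * Nat.card F ≤ Nat.card E) :
    ∀ x ∈ E ⊔ zpowers t, g * x * g⁻¹ ∈ J S t := by
  intro x hx
  have hEt : ∀ x ∈ E, t * x = x * t := fun x hx => h.t_comm (UG_le S (hEU hx))
  have htE : t ∉ E := fun h1 => h.t_not (UG_le S (hEU h1))
  have hle : E ⊔ zpowers t ≤ J S t := sup_le_sup_right hEU _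
  have hsq : ∀ x ∈ E ⊔ zpowers t, x * x = 1 := by
    intro x hx
    rcases (L3Data.mem_sup_t h.tt hEt).mp hx with h1 | h1
    · exact hE2 x h1
    · have h2 := hE2 _ h1
      have h3 := hEt _ h1
      calc x * x = (t * t) * x * (t * t) * x := by rw [h.tt]; group
        _ = t * ((t * x) * t) * (t * x) := by group
        _ = (t * t) * ((t * x) * (t * x)) := by rw [← h3]; group
        _ = 1 := by rw [h.tt, h2, one_mul]
  have hE'T : (E ⊔ zpowers t).map (MulAut.conj g).toMonoidHom ≤ T := by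
    rintro _ ⟨y, hy, rfl⟩
    exact hg y (hle hy)
  have hE'2 : ∀ y ∈ (E ⊔ zpowers t).map (MulAut.conj g).toMonoidHom, y * y = 1 := by
    rintro _ ⟨y, hy, rfl⟩
    show g * y * g⁻¹ * (g * y * g⁻¹) = 1
    calc g * y * g⁻¹ * (g * y * g⁻¹) = g * (y * y) * g⁻¹ := by group
      _ = 1 := by rw [hsq y hy]; group
  have hE'c : 2 * (Nat.card F * Nat.card F * Nat.card F) ≤
      Nat.card ((E ⊔ zpowers t).map (MulAut.conj g).toMonoidHom : Subgroup G) := by
    refine (Nat.mul_le_mul_left 2 hEc).trans ((L3Data.two_mul_card_le h.tt hEt htE).trans (le_of_eq ?_))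
    exact Nat.card_congr ((E ⊔ zpowers t).equivMapOfInjective (MulAut.conj g).toMonoidHom
      (MulAut.conj g).injective).toEquiv
  exact h.je hE'T hE'2 hE'c (conj_mem_map g hx)

theorem nf_VI_sq (p b q : F) : B2Std.nf S.m 0 (SpFrame.tt p) b (SpFrame.tt q) *
    B2Std.nf S.m 0 (SpFrame.tt p) b (SpFrame.tt q) = 1 := by
  rw [mul_sp, ← nf_one S.rel, tt_one]
  congr 1
  · rw [add_zero]
  · congr 1
    rw [zero_mul, zero_mul, add_zero, CharTwo.add_self_eq_zero]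
  · rw [zero_mul, add_zero, CharTwo.add_self_eq_zero]
  · rw [CharTwo.add_self_eq_zero]

theorem nf_VJ_sq (a p b : F) : B2Std.nf S.m a (SpFrame.tt p) b (SpFrame.tt 0) *
    B2Std.nf S.m a (SpFrame.tt p) b (SpFrame.tt 0) = 1 := by
  rw [mul_sp, ← nf_one S.rel, tt_one]
  congr 1
  · rw [CharTwo.add_self_eq_zero]
  · congr 1
    rw [mul_zero, add_zero, CharTwo.add_self_eq_zero]
  · rw [mul_zero, add_zero, CharTwo.add_self_eq_zero]
  · rw [CharTwo.add_self_eq_zero]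

omit h in
theorem card_VI_le : Nat.card F * Nat.card F * Nat.card F ≤ Nat.card (S.VI.map A.subtype : Subgroup G) := by
  rw [← Nat.card_prod, ← Nat.card_prod]
  apply Nat.card_le_card_of_injective (fun p : (F × F) × F =>
    (⟨((B2Std.nf S.m 0 (SpFrame.tt p.1.1) p.1.2 (SpFrame.tt p.2) : ↥A) : G),
      ⟨B2Std.nf S.m 0 (SpFrame.tt p.1.1) p.1.2 (SpFrame.tt p.2), mem_VI_iff.2 ⟨_, _, _, rfl⟩, rfl⟩⟩ :
      (S.VI.map A.subtype : Subgroup G)))
  rintro ⟨⟨p, b⟩, q⟩ ⟨⟨p', b'⟩, q'⟩ hpp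
  have h0 : ((B2Std.nf S.m 0 (SpFrame.tt p) b (SpFrame.tt q) : ↥A) : G) =
      (B2Std.nf S.m 0 (SpFrame.tt p') b' (SpFrame.tt q') : ↥A) :=
    congrArg (fun z : (S.VI.map A.subtype : Subgroup G) => (z : G)) hpp
  have h1 : (B2Std.nf S.m 0 (SpFrame.tt p) b (SpFrame.tt q) : ↥A) =
      B2Std.nf S.m 0 (SpFrame.tt p') b' (SpFrame.tt q') := Subtype.ext h0
  obtain ⟨-, h2, h3, h4⟩ := nf_inj_sp S h1
  rw [h2, h3, h4]

omit h in
theorem card_VJ_le : Nat.card F * Nat.card F * Nat.card F ≤ Nat.card (S.VJ.map A.subtype : Subgroup G) := by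
  rw [← Nat.card_prod, ← Nat.card_prod]
  apply Nat.card_le_card_of_injective (fun p : (F × F) × F =>
    (⟨((B2Std.nf S.m p.1.1 (SpFrame.tt p.1.2) p.2 (SpFrame.tt 0) : ↥A) : G),
      ⟨B2Std.nf S.m p.1.1 (SpFrame.tt p.1.2) p.2 (SpFrame.tt 0), mem_VJ_iff.2 ⟨_, _, _, rfl⟩, rfl⟩⟩ :
      (S.VJ.map A.subtype : Subgroup G)))
  rintro ⟨⟨p, b⟩, q⟩ ⟨⟨p', b'⟩, q'⟩ hpp
  have h0 : ((B2Std.nf S.m p (SpFrame.tt b) q (SpFrame.tt 0) : ↥A) : G) =
      (B2Std.nf S.m p' (SpFrame.tt b') q' (SpFrame.tt 0) : ↥A) :=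
    congrArg (fun z : (S.VJ.map A.subtype : Subgroup G) => (z : G)) hpp
  have h1 : (B2Std.nf S.m p (SpFrame.tt b) q (SpFrame.tt 0) : ↥A) =
      B2Std.nf S.m p' (SpFrame.tt b') q' (SpFrame.tt 0) := Subtype.ext h0
  obtain ⟨h2, h3, h4, -⟩ := nf_inj_sp S h1
  rw [h2, h3, h4]

omit [Finite G] h in
theorem VI_nf {v : ↥A} (hv : v ∈ S.VI) : ∃ p b q : F, v = B2Std.nf S.m 0 (SpFrame.tt p) b (SpFrame.tt q) := by
  obtain ⟨p, b, q, rfl⟩ := mem_VI_iff.1 hv
  exact ⟨p.c, b, q.c, rfl⟩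

omit [Finite G] h in
theorem VJ_nf {v : ↥A} (hv : v ∈ S.VJ) : ∃ a p b : F, v = B2Std.nf S.m a (SpFrame.tt p) b (SpFrame.tt 0) := by
  obtain ⟨a, p, b, rfl⟩ := mem_VJ_iff.1 hv
  exact ⟨a, p.c, b, rfl⟩

theorem weak {g : G} (hg : ∀ j ∈ J S t, g * j * g⁻¹ ∈ T) {j : G} (hj : j ∈ J S t) :
    g * j * g⁻¹ ∈ J S t := by
  have k1 := h.weak_aux hg (E := S.VI.map A.subtype) (Subgroup.map_mono S.VI_le) (by
    rintro _ ⟨v, hv, rfl⟩
    obtain ⟨p, b, q, rfl⟩ := VI_nf hv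
    exact congrArg Subtype.val (h.nf_VI_sq p b q)) card_VI_le
  have k2 := h.weak_aux hg (E := S.VJ.map A.subtype) (Subgroup.map_mono S.VJ_le) (by
    rintro _ ⟨v, hv, rfl⟩
    obtain ⟨a, p, b, rfl⟩ := VJ_nf hv
    exact congrArg Subtype.val (h.nf_VJ_sq a p b)) card_VJ_le
  have kU : ∀ u ∈ UG S, g * u * g⁻¹ ∈ J S t := by
    rintro _ ⟨u, hu, rfl⟩
    obtain ⟨a, ha⟩ := exists_PX hu
    obtain ⟨v, hv, rfl⟩ := PX.decomp ha
    have e2 : g * ((S.m.x a * v : ↥A) : G) * g⁻¹ = (g * (S.m.x a : ↥A) * g⁻¹) * (g * (v : ↥A) * g⁻¹) := by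
      rw [Subgroup.coe_mul]; group
    show g * ((S.m.x a * v : ↥A) : G) * g⁻¹ ∈ _
    rw [e2]
    exact mul_mem (k2 _ (mem_sup_left ⟨_, S.x_mem_VJ a, rfl⟩)) (k1 _ (mem_sup_left ⟨_, hv, rfl⟩))
  rcases h.mem_J.mp hj with h1 | h1
  · exact kU _ h1
  · have h2 := kU _ h1
    have h3 := k1 t (mem_sup_right (mem_zpowers t))
    have e1 : g * j * g⁻¹ = (g * t * g⁻¹) * (g * (t * j) * g⁻¹) := by
      calc g * j * g⁻¹ = g * ((t * t) * j) * g⁻¹ := by rw [h.tt, one_mul]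
        _ = _ := by group
    rw [e1]
    exact mul_mem h3 h2

/-- commutators of elements of `J` lie in `U`. -/
theorem comm_mem {x y : G} (hx : x ∈ J S t) (hy : y ∈ J S t) : x * y * x⁻¹ * y⁻¹ ∈ UG S := by
  have key : ∀ z ∈ J S t, ∃ u ∈ UG S, z = u ∨ z = t * u := by
    intro z hz
    rcases h.mem_J.mp hz with h1 | h1
    · exact ⟨z, h1, Or.inl rfl⟩
    · exact ⟨t * z, h1, Or.inr (by rw [← mul_assoc, h.tt, one_mul])⟩
  have hT : ∀ z ∈ J S t, Commute t z := fun z hz => (h.isT.cent z (h.J_le hz)).symm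
  obtain ⟨u, hu, hxu⟩ := key x hx
  obtain ⟨v, hv, hyv⟩ := key y hy
  have hUJ : ∀ w ∈ UG S, Commute t w := fun w hw => h.t_comm (UG_le S hw)
  have e1 : x * y * x⁻¹ * y⁻¹ = u * v * u⁻¹ * v⁻¹ := by
    have c1 : Commute t u := hUJ u hu
    have c2 : Commute t v := hUJ v hv
    have a1 : x * y * x⁻¹ = u * y * u⁻¹ := by
      rcases hxu with rfl | rfl
      · rfl
      · have c3 : Commute t (u * y * u⁻¹) := (c1.mul_right (hT y hy)).mul_right c1.inv_right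
        calc t * u * y * (t * u)⁻¹ = (t * (u * y * u⁻¹)) * t⁻¹ := by group
          _ = u * y * u⁻¹ := by rw [c3.eq, mul_inv_cancel_right]
    rw [a1]
    rcases hyv with rfl | rfl
    · rfl
    · calc u * (t * v) * u⁻¹ * (t * v)⁻¹ = (u * t) * v * u⁻¹ * v⁻¹ * t⁻¹ := by group
        _ = t * (u * v * u⁻¹ * v⁻¹) * t⁻¹ := by rw [← c1.eq]; group
        _ = _ := by
          have c3 : Commute t (u * v * u⁻¹ * v⁻¹) :=
            ((c1.mul_right c2).mul_right c1.inv_right).mul_right c2.inv_right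
          rw [c3.eq, mul_inv_cancel_right]
  rw [e1]
  exact mul_mem (mul_mem (mul_mem hu hv) (inv_mem hu)) (inv_mem hv)

/-- The commutator of `x(a)`, `z₂(s)`. -/
theorem comm_xz (a s : F) : (S.m.z₁ (SpFrame.tt (a ^ 2 * s)) * S.m.y (a * s) : ↥A) =
    S.m.x a * S.m.z₂ (SpFrame.tt s) * (S.m.x a)⁻¹ * (S.m.z₂ (SpFrame.tt s))⁻¹ := by
  have h1 := x_z₂ S a s
  have c1 : Commute (S.m.y (a * s) * S.m.z₁ (SpFrame.tt (a ^ 2 * s))) (S.m.z₂ (SpFrame.tt s) * S.m.x a) := by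
    refine Commute.mul_left (Commute.mul_right (y_z₂_comm S _ _) (x_y_comm S _ _).symm)
      (Commute.mul_right (z₁_z₂_comm S _ _) (x_z₁_comm S _ _).symm)
  have h2 : S.m.x a * S.m.z₂ (SpFrame.tt s) =
      (S.m.z₁ (SpFrame.tt (a ^ 2 * s)) * S.m.y (a * s)) * (S.m.z₂ (SpFrame.tt s) * S.m.x a) := by
    rw [← (y_z₁_comm S (a * s) (a ^ 2 * s)).eq, c1.eq, h1]
    simp only [mul_assoc]
  rw [h2]; group

/-- `W` is generated by commutators. -/
theorem exists_comm (b c : F) : ∃ x₁ ∈ UG S, ∃ y₁ ∈ UG S, ∃ x₂ ∈ UG S, ∃ y₂ ∈ UG S,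
    ((S.m.z₁ (SpFrame.tt c) * S.m.y b : ↥A) : G) =
      (x₁ * y₁ * x₁⁻¹ * y₁⁻¹) * (x₂ * y₂ * x₂⁻¹ * y₂⁻¹) := by
  obtain ⟨l, hl0, hl1⟩ := h.exists_ne
  have hd : l + l * l ≠ 0 := by
    intro h0
    have h1 : l * (1 + l) = 0 := by linear_combination h0
    rcases mul_eq_zero.mp h1 with h2 | h2
    · exact hl0 h2
    · apply hl1
      have h3 : l + 1 = 0 := by linear_combination h2
      rw [CharTwo.add_eq_zero] at h3
      exact h3
  set s' := (b + c) * (l + l * l)⁻¹ with hs'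
  set s := b + l * s' with hs
  have e0 : (l + l * l) * s' = b + c := by rw [hs', mul_comm, mul_assoc, inv_mul_cancel₀ hd, mul_one]
  have hc2 : (2 : F) = 0 := by exact_mod_cast CharP.cast_eq_zero F 2
  have e1 : s + l * s' = b := by rw [hs]; linear_combination l * s' * hc2
  have e2 : s + l ^ 2 * s' = c := by rw [hs]; linear_combination e0 + b * hc2
  refine ⟨_, ⟨_, x_mem (m := S.m) 1, rfl⟩, _, ⟨_, z₂_mem (m := S.m) (SpFrame.tt s), rfl⟩,
    _, ⟨_, x_mem (m := S.m) l, rfl⟩, _, ⟨_, z₂_mem (m := S.m) (SpFrame.tt s'), rfl⟩, ?_⟩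
  have h3 := h.comm_xz (S := S) 1 s
  have h4 := h.comm_xz (S := S) l s'
  rw [one_pow, one_mul] at h3
  have h5 : (S.m.z₁ (SpFrame.tt c) * S.m.y b : ↥A) =
      (S.m.z₁ (SpFrame.tt s) * S.m.y s) * (S.m.z₁ (SpFrame.tt (l ^ 2 * s')) * S.m.y (l * s')) := by
    have c1 := (y_z₁_comm S s (l ^ 2 * s')).eq
    calc S.m.z₁ (SpFrame.tt c) * S.m.y b
        = (S.m.z₁ (SpFrame.tt s) * S.m.z₁ (SpFrame.tt (l ^ 2 * s'))) * (S.m.y s * S.m.y (l * s')) := by
          rw [← S.rel.z₁_mul, ← S.rel.y_add, tt_mul, e1, e2]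
      _ = S.m.z₁ (SpFrame.tt s) * (S.m.z₁ (SpFrame.tt (l ^ 2 * s')) * S.m.y s) * S.m.y (l * s') := by group
      _ = _ := by rw [← c1]; group
  rw [h5, h3, h4]
  rfl

theorem excl {g : G} (hg : g ∈ normalizer (J S t : Set G)) : g * t * g⁻¹ ∉ W S := by
  intro hw
  obtain ⟨b, c, hc⟩ := h.mem_W.mp hw
  obtain ⟨x₁, hx₁, y₁, hy₁, x₂, hx₂, y₂, hy₂, e⟩ := h.exists_comm (S := S) b c
  have k : ∀ x ∈ UG S, g⁻¹ * x * g ∈ J S t := fun x hx => conj_inv_mem_of_mem_normalizer hg (h.U_mem_J hx)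
  have h1 := h.comm_mem (k _ hx₁) (k _ hy₁)
  have h2 := h.comm_mem (k _ hx₂) (k _ hy₂)
  apply h.t_not
  have e2 : t = (g⁻¹ * x₁ * g * (g⁻¹ * y₁ * g) * (g⁻¹ * x₁ * g)⁻¹ * (g⁻¹ * y₁ * g)⁻¹) *
      (g⁻¹ * x₂ * g * (g⁻¹ * y₂ * g) * (g⁻¹ * x₂ * g)⁻¹ * (g⁻¹ * y₂ * g)⁻¹) := by
    have h3 : t = g⁻¹ * (g * t * g⁻¹) * g := by group
    rw [hc, e] at h3
    rw [h3]; group
  rw [e2]
  exact mul_mem (UG_le S h1) (UG_le S h2)

/-- The torus normalises `J`. -/
theorem torus_mem (α β : Fˣ) : ((SpFrame.h S α β : ↥A) : G) ∈ normalizer (J S t : Set G) := by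
  have h1 : ∀ u ∈ UG S, ((SpFrame.h S α β : ↥A) : G) * u * ((SpFrame.h S α β : ↥A) : G)⁻¹ ∈ UG S := by
    rintro _ ⟨u, hu, rfl⟩
    exact ⟨_, Std.HU (h_mem S α β) hu, rfl⟩
  apply mem_normalizer_of_conj_le
  intro j hj
  rcases h.mem_J.mp hj with h2 | h2
  · exact h.U_mem_J (h1 _ h2)
  · rw [h.mem_J]
    right
    have h3 := h1 _ h2
    have h4 := h.t_comm (SpFrame.h S α β).2
    have e1 : t * (((SpFrame.h S α β : ↥A) : G) * j * ((SpFrame.h S α β : ↥A) : G)⁻¹) =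
        ((SpFrame.h S α β : ↥A) : G) * (t * j) * ((SpFrame.h S α β : ↥A) : G)⁻¹ := by
      calc t * (((SpFrame.h S α β : ↥A) : G) * j * ((SpFrame.h S α β : ↥A) : G)⁻¹)
          = (t * ((SpFrame.h S α β : ↥A) : G)) * j * ((SpFrame.h S α β : ↥A) : G)⁻¹ := by group
        _ = _ := by rw [h4]; group
    rw [e1]; exact h3

/-- An element of `V_I` is conjugate to an element of `W`. -/
theorem into_VI (p b q : F) : ∃ g : ↥A, ∃ b' c' : F, g * B2Std.nf S.m 0 (SpFrame.tt p) b (SpFrame.tt q) * g⁻¹ =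
    S.m.z₁ (SpFrame.tt c') * S.m.y b' := by
  by_cases hq : q = 0
  · subst hq
    refine ⟨1, b, p, ?_⟩
    rw [one_mul, inv_one, mul_one]
    unfold B2Std.nf
    rw [show S.m.x 0 = 1 from add_zero' S.rel.x_add, ← tt_one, show S.m.z₂ 1 = 1 from mul_one' S.rel.z₂_mul,
      one_mul, mul_one]
  · -- `x(a)` with `a² q = p`
    obtain ⟨a, ha⟩ := OutField.exists_sqrt (p * q⁻¹)
    have ha' : a * a * q = p := by rw [ha, mul_assoc, inv_mul_cancel₀ hq, mul_one]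
    have hc2 : (2 : F) = 0 := by exact_mod_cast CharP.cast_eq_zero F 2
    have h1 : S.m.x a * B2Std.nf S.m 0 (SpFrame.tt p) b (SpFrame.tt q) * (S.m.x a)⁻¹ =
        S.m.y (b + a * q) * S.m.z₂ (SpFrame.tt q) := by
      rw [mul_inv_eq_iff_eq_mul]
      have e1 : S.m.y (b + a * q) * S.m.z₂ (SpFrame.tt q) =
          B2Std.nf S.m 0 (SpFrame.tt 0) (b + a * q) (SpFrame.tt q) := by
        unfold B2Std.nf
        rw [show S.m.x 0 = 1 from add_zero' S.rel.x_add, ← tt_one, show S.m.z₁ 1 = 1 from mul_one' S.rel.z₁_mul,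
          one_mul, one_mul]
      rw [e1, x_eq_nf S.rel a, tt_one, mul_sp, mul_sp]
      congr 1
      · rw [zero_add, add_zero]
      · congr 1
        rw [zero_mul, zero_mul, add_zero, zero_add, zero_add, add_zero, ha']
      · linear_combination -(a * q) * hc2
      · rw [zero_add, add_zero]
    refine ⟨na S * S.m.x a, b + a * q, q, ?_⟩
    calc na S * S.m.x a * B2Std.nf S.m 0 (SpFrame.tt p) b (SpFrame.tt q) * (na S * S.m.x a)⁻¹
        = na S * (S.m.x a * B2Std.nf S.m 0 (SpFrame.tt p) b (SpFrame.tt q) * (S.m.x a)⁻¹) * (na S)⁻¹ := by group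
      _ = (na S * S.m.y (b + a * q) * (na S)⁻¹) * (na S * S.m.z₂ (SpFrame.tt q) * (na S)⁻¹) := by
        rw [h1]; group
      _ = S.m.y (b + a * q) * S.m.z₁ (SpFrame.tt q) := by rw [na_y, na_z₂]
      _ = _ := (y_z₁_comm S _ _).eq

/-- An element of `V_J` is conjugate to an element of `W`. -/
theorem into_VJ (a p b : F) : ∃ g : ↥A, ∃ b' c' : F, g * B2Std.nf S.m a (SpFrame.tt p) b (SpFrame.tt 0) * g⁻¹ =
    S.m.z₁ (SpFrame.tt c') * S.m.y b' := by
  by_cases ha : a = 0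
  · subst ha
    refine ⟨1, b, p, ?_⟩
    rw [one_mul, inv_one, mul_one]
    unfold B2Std.nf
    rw [show S.m.x 0 = 1 from add_zero' S.rel.x_add, ← tt_one, show S.m.z₂ 1 = 1 from mul_one' S.rel.z₂_mul,
      one_mul, mul_one]
  · -- `z₂(s)` with `a s = b`
    have hc2 : (2 : F) = 0 := by exact_mod_cast CharP.cast_eq_zero F 2
    set s := a⁻¹ * b with hs
    have hs' : a * s = b := by rw [hs, mul_inv_cancel_left₀ ha]
    have h1 : S.m.z₂ (SpFrame.tt s) * B2Std.nf S.m a (SpFrame.tt p) b (SpFrame.tt 0) * (S.m.z₂ (SpFrame.tt s))⁻¹ =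
        S.m.x a * S.m.z₁ (SpFrame.tt (a * a * s + p)) := by
      rw [mul_inv_eq_iff_eq_mul]
      have e1 : S.m.x a * S.m.z₁ (SpFrame.tt (a * a * s + p)) =
          B2Std.nf S.m a (SpFrame.tt (a * a * s + p)) 0 (SpFrame.tt 0) := by
        unfold B2Std.nf
        rw [show S.m.y 0 = 1 from add_zero' S.rel.y_add, ← tt_one, show S.m.z₂ 1 = 1 from mul_one' S.rel.z₂_mul,
          mul_one, mul_one]
      rw [e1, z₂_eq_nf S.rel (SpFrame.tt s), tt_one, mul_sp, mul_sp]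
      congr 1
      · rw [zero_add, add_zero]
      · congr 1; ring
      · linear_combination hs' + b * hc2
      · rw [zero_add, add_zero]
    refine ⟨nb S * S.m.z₂ (SpFrame.tt s), a, a * a * s + p, ?_⟩
    calc nb S * S.m.z₂ (SpFrame.tt s) * B2Std.nf S.m a (SpFrame.tt p) b (SpFrame.tt 0) *
          (nb S * S.m.z₂ (SpFrame.tt s))⁻¹
        = nb S * (S.m.z₂ (SpFrame.tt s) * B2Std.nf S.m a (SpFrame.tt p) b (SpFrame.tt 0) *
          (S.m.z₂ (SpFrame.tt s))⁻¹) * (nb S)⁻¹ := by group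
      _ = (nb S * S.m.x a * (nb S)⁻¹) * (nb S * S.m.z₁ (SpFrame.tt (a * a * s + p)) * (nb S)⁻¹) := by
        rw [h1]; group
      _ = S.m.y a * S.m.z₁ (SpFrame.tt (a * a * s + p)) := by rw [nb_x, nb_z₁]
      _ = _ := (y_z₁_comm S _ _).eq

/-- Involutions of `T ⊓ A` are conjugate into `W`. -/
theorem into {u : G} (hu : u ∈ UG S) (huu : u * u = 1) : ∃ a ∈ A, a * u * a⁻¹ ∈ W S := by
  obtain ⟨v, hv, rfl⟩ := hu
  have hvv : v * v = 1 := Subtype.ext huu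
  rcases SpJe.mem_or S hv hvv with h1 | h1
  · obtain ⟨p, b, q, rfl⟩ := VI_nf h1
    obtain ⟨g, b', c', e⟩ := h.into_VI (S := S) p b q
    refine ⟨g, g.2, h.mem_W.mpr ⟨b', c', ?_⟩⟩
    exact congrArg Subtype.val e
  · obtain ⟨a, p, b, rfl⟩ := VJ_nf h1
    obtain ⟨g, b', c', e⟩ := h.into_VJ (S := S) a p b
    refine ⟨g, g.2, h.mem_W.mpr ⟨b', c', ?_⟩⟩
    exact congrArg Subtype.val e

/-- Involutions of `A` are conjugate into `W`. -/
theorem into_A {u : G} (hu : u ∈ A) (huu : u * u = 1) : ∃ a ∈ A, a * u * a⁻¹ ∈ W S := by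
  by_cases h1 : u = 1
  · exact ⟨1, one_mem _, by rw [h1, mul_one, inv_one, mul_one]; exact one_mem _⟩
  · have h2 : IsPGroup 2 (zpowers u) := isPGroup_zpowers (orderOf_eq_prime (by rw [pow_two, huu]) h1)
    obtain ⟨n, hn, hna⟩ := (isSyl_U h.hZ S).exists_conj h2 (by rw [zpowers_le]; exact hu)
    have h3 := hna u (mem_zpowers u)
    obtain ⟨a, ha, h4⟩ := h.into h3 (by
      calc n * u * n⁻¹ * (n * u * n⁻¹) = n * (u * u) * n⁻¹ := by group
        _ = 1 := by rw [huu]; group)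
    refine ⟨a * n, mul_mem ha hn, ?_⟩
    have e : a * n * u * (a * n)⁻¹ = a * (n * u * n⁻¹) * a⁻¹ := by group
    rw [e]; exact h4

/-- **The common data.** -/
theorem data : Data A t T (J S t) (W S) where
  isT := h.isT
  J_le := h.J_le
  t_J := h.t_mem_J
  W_J := fun _ hx => h.U_mem_J hx.1
  W_A := h.W_le_A
  W_two := by
    intro w hw
    obtain ⟨b, c, rfl⟩ := h.mem_W.mp hw
    exact congrArg Subtype.val (h.zy_sq (S := S) b c)
  W_cent := by
    intro w hw j hj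
    rcases h.mem_J.mp hj with h1 | h1
    · exact comm_of_centralizer hw.2 h1
    · have h2 : w * (t * j) = t * j * w := comm_of_centralizer hw.2 h1
      have h3 := h.t_comm (h.W_le_A hw)
      have h4 : t * (w * j) = t * (j * w) := by
        calc t * (w * j) = (t * w) * j := by group
          _ = w * (t * j) := by rw [h3]; group
          _ = _ := by rw [h2]; group
      exact mul_left_cancel h4
  omega := by
    intro x hx _ hc
    have hxU : ∀ v ∈ UG S, x * v = v * x := fun v hv => hc v (h.U_mem_J hv)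
    rcases h.mem_J.mp hx with h1 | h1
    · left
      refine mem_inf.mpr ⟨h1, ?_⟩
      rw [mem_centralizer_iff]
      exact fun v hv => (hxU v hv).symm
    · right
      refine mem_inf.mpr ⟨h1, ?_⟩
      rw [mem_centralizer_iff]
      intro v hv
      have h2 := h.t_comm (UG_le S hv)
      calc v * (t * x) = (v * t) * x := by group
        _ = t * (v * x) := by rw [← h2]; group
        _ = t * x * v := by rw [← hxU v hv, mul_assoc]
  weak := fun g hg j hj => h.weak hg hj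
  into := by
    intro u huT huA huu
    exact h.into (by rw [← h.UT]; exact mem_inf.mpr ⟨huT, huA⟩) huu
  excl := fun g hg => h.excl hg
  fix := by
    intro w hw hfix
    obtain ⟨b, c, rfl⟩ := h.mem_W.mp hw
    obtain ⟨l, hl0, hl1⟩ := h.exists_ne
    have h1 := hfix _ (SpFrame.h S (Units.mk0 l hl0) 1).2 (h.torus_mem _ _)
    have h2 : SpFrame.h S (Units.mk0 l hl0) 1 * (S.m.z₁ (SpFrame.tt c) * S.m.y b) =
        S.m.z₁ (SpFrame.tt c) * S.m.y b * SpFrame.h S (Units.mk0 l hl0) 1 := Subtype.ext h1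
    have h3 : SpFrame.h S (Units.mk0 l hl0) 1 * (S.m.z₁ (SpFrame.tt c) * S.m.y b) *
        (SpFrame.h S (Units.mk0 l hl0) 1)⁻¹ = S.m.z₁ (SpFrame.tt (l ^ 2 * c)) * S.m.y (l * b) := by
      have e1 := h_z₁ S (Units.mk0 l hl0) 1 c
      have e2 := h_y S (Units.mk0 l hl0) 1 b
      have e3 : (((Units.mk0 l hl0 : Fˣ) : F) ^ 2 * ((1 : Fˣ) : F) * c) = l ^ 2 * c := by
        rw [Units.val_mk0, Units.val_one, mul_one]
      have e4 : (((Units.mk0 l hl0 : Fˣ) : F) * ((1 : Fˣ) : F) * b) = l * b := by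
        rw [Units.val_mk0, Units.val_one, mul_one]
      rw [e3] at e1
      rw [e4] at e2
      rw [← e1, ← e2]; group
    rw [h2, mul_inv_cancel_right] at h3
    have nfW : ∀ b c : F, S.m.z₁ (SpFrame.tt c) * S.m.y b =
        B2Std.nf S.m 0 (SpFrame.tt c) b (SpFrame.tt 0) := by
      intro b c
      unfold B2Std.nf
      rw [show S.m.x 0 = 1 from add_zero' S.rel.x_add, ← tt_one, show S.m.z₂ 1 = 1 from mul_one' S.rel.z₂_mul,
        one_mul, mul_one]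
    rw [nfW, nfW] at h3
    obtain ⟨-, h4, h5, -⟩ := nf_inj_sp S h3
    have hb : b = 0 := by
      by_contra hb0
      apply hl1
      have : l * b = 1 * b := by rw [one_mul]; exact h5.symm
      exact mul_right_cancel₀ hb0 this
    have hc : c = 0 := by
      by_contra hc0
      have h6 : l ^ 2 = 1 := by
        have : l ^ 2 * c = 1 * c := by rw [one_mul]; exact h4.symm
        exact mul_right_cancel₀ hc0 this
      rw [pow_two] at h6
      rcases mul_self_eq_one_iff.mp h6 with h7 | h7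
      · exact hl1 h7
      · rw [CharTwo.neg_eq] at h7
        exact hl1 h7
    have h6 : (S.m.z₁ (SpFrame.tt c) * S.m.y b : ↥A) = 1 := by
      rw [hb, hc, ← tt_one, show S.m.z₁ 1 = 1 from mul_one' S.rel.z₁_mul,
        show S.m.y 0 = 1 from add_zero' S.rel.y_add, one_mul]
    exact congrArg Subtype.val h6

end Sit

end Cfsg.Agent.StdRank2.SpData
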