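import Mathlib
import Cfsg.Prelude.Def_TwoFusion
import Cfsg.Agent.Lib.EssProd
import Cfsg.Agent.Lib.CoprimeStab

/-!
# A Sylow 2-subgroup which is a direct product of two centrally indecomposable factors

`SplitData S₁ S₂ H₁ H₂ P`: `P = S₁ × S₂`, `|S₁| = |S₂|`, `S_i` centrally indecomposable, `Z(S_i) ≤ S_i'`,
`H_i` normalizes `S_i`, centralizes the other factor, `[S_i, H_i] = S_i` and `C_{Z(S_i)}(H_i) = 1`.
Then `S₁` and `S₂` are strongly closed in `P` (`strongly_closed`).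
-/

set_option autoImplicit false

namespace Cfsg.Agent.StdRank2.Split

open Subgroup Cfsg.Agent.Lib Cfsg.Agent.Lib.GoldschmidtFusion
  Cfsg.Agent.Lib.EssProd
open scoped commutatorElement

variable {G : Type*} [Group G]

/-! ### Elements acting trivially on a section -/

/-- elements of `N` acting trivially on `A` modulo `B` -/
def CM (N A B : Subgroup G) (hB : N ≤ normalizer (B : Set G)) : Subgroup G where
  carrier := {n | n ∈ N ∧ ∀ a ∈ A, n * a * n⁻¹ * a⁻¹ ∈ B}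
  one_mem' := ⟨one_mem _, fun a _ => by simp [one_mem]⟩
  mul_mem' := by
    rintro a b ⟨ha, ha'⟩ ⟨hb, hb'⟩
    refine ⟨mul_mem ha hb, fun d hd => ?_⟩
    have e : a * b * d * (a * b)⁻¹ * d⁻¹ = a * (b * d * b⁻¹ * d⁻¹) * a⁻¹ * (a * d * a⁻¹ * d⁻¹) := by group
    rw [e]
    exact mul_mem ((mem_normalizer_iff.1 (hB ha) _).1 (hb' d hd)) (ha' d hd)
  inv_mem' := by
    rintro a ⟨ha, ha'⟩
    refine ⟨inv_mem ha, fun d hd => ?_⟩
    have e : a⁻¹ * d * a⁻¹⁻¹ * d⁻¹ = a⁻¹ * (a * d * a⁻¹ * d⁻¹)⁻¹ * a⁻¹⁻¹ := by group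
    rw [e]
    exact (mem_normalizer_iff.1 (hB (inv_mem ha)) _).1 (inv_mem (ha' d hd))

theorem mem_CM {N A B : Subgroup G} {hB : N ≤ normalizer (B : Set G)} {n : G} :
    n ∈ CM N A B hB ↔ n ∈ N ∧ ∀ a ∈ A, n * a * n⁻¹ * a⁻¹ ∈ B := Iff.rfl

theorem conj_mem {N A : Subgroup G} (hA : N ≤ normalizer (A : Set G)) {n a : G} (hn : n ∈ N) (ha : a ∈ A) :
    n * a * n⁻¹ ∈ A := (mem_normalizer_iff.1 (hA hn) _).1 ha

theorem conj_mem' {N A : Subgroup G} (hA : N ≤ normalizer (A : Set G)) {n a : G} (hn : n ∈ N) (ha : a ∈ A) :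
    n⁻¹ * a * n ∈ A := by
  have := conj_mem hA (inv_mem hn) ha
  simpa using this

theorem le_normalizer_CM {N A B : Subgroup G} {hB : N ≤ normalizer (B : Set G)}
    (hA : N ≤ normalizer (A : Set G)) : N ≤ normalizer (CM N A B hB : Set G) := by
  rw [le_normalizer_iff]
  rintro n hn w ⟨hw, hw'⟩
  refine ⟨mul_mem (mul_mem hn hw) (inv_mem hn), fun d hd => ?_⟩
  have e : n * w * n⁻¹ * d * (n * w * n⁻¹)⁻¹ * d⁻¹ =
      n * (w * (n⁻¹ * d * n) * w⁻¹ * (n⁻¹ * d * n)⁻¹) * n⁻¹ := by group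
  rw [e]
  exact conj_mem hB hn (hw' _ (conj_mem' hA hn hd))

section Finite

variable [Finite G]

omit [Finite G] in
theorem mem_of_pow_mem {V : Subgroup G} {w : G} {a b : ℕ} (hab : Nat.Coprime a b) (ha : w ^ a ∈ V)
    (hb : w ^ b ∈ V) : w ∈ V := by
  have h := Nat.gcd_eq_gcd_ab a b
  rw [Nat.Coprime.gcd_eq_one hab] at h
  have e : w = (w ^ a) ^ (Nat.gcdA a b) * (w ^ b) ^ (Nat.gcdB a b) := by
    rw [← zpow_natCast, ← zpow_natCast, ← zpow_mul, ← zpow_mul, ← zpow_add, ← h]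
    simp
  rw [e]
  exact mul_mem (zpow_mem ha _) (zpow_mem hb _)

/-- `T` Sylow in `N`, `V, W` normal in `N`, `T ∩ W ≤ V`, and the elements of odd order of `W` lie in `V`:
then `W ≤ V`. -/
theorem le_of_sylow {N T V W : Subgroup G} (hT : IsPGroup 2 T) (hTN : ¬ 2 ∣ T.relIndex N)
    (hWN : W ≤ N) (hW : N ≤ normalizer (W : Set G)) (hV : N ≤ normalizer (V : Set G))
    (h1 : T ⊓ W ≤ V) (h2 : ∀ w ∈ W, Odd (orderOf w) → w ∈ V) : W ≤ V := by
  have : Fact (Nat.Prime 2) := ⟨Nat.prime_two⟩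
  intro w hw
  obtain ⟨k, m, hm, hkm⟩ := Nat.exists_eq_two_pow_mul_odd (orderOf_pos w).ne'
  have hodd : w ^ 2 ^ k ∈ V := by
    apply h2 _ (pow_mem hw _)
    rw [orderOf_pow_of_dvd (pow_ne_zero _ two_ne_zero) (by rw [hkm]; exact Dvd.intro _ rfl), hkm,
      Nat.mul_div_cancel_left _ (pow_pos two_pos _)]
    exact hm
  have htwo : w ^ m ∈ V := by
    have hwm : (w ^ m) ^ 2 ^ k = 1 := by
      rw [← pow_mul, mul_comm, ← hkm, pow_orderOf_eq_one]
    have hz : IsPGroup 2 (Subgroup.zpowers (w ^ m)) := by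
      apply IsPGroup.of_card (n := (Nat.log 2 (orderOf (w ^ m))))
      rw [Nat.card_zpowers]
      obtain ⟨j, -, hj⟩ := (Nat.dvd_prime_pow Nat.prime_two).1 (orderOf_dvd_of_pow_eq_one hwm)
      rw [hj, Nat.log_pow (by norm_num)]
    obtain ⟨n, hn, hle⟩ := exists_conj_le_in (p := 2) hT hTN
      (D := Subgroup.zpowers (w ^ m)) (by rw [zpowers_le]; exact hWN (pow_mem hw _)) hz
    have h3 : n * w ^ m * n⁻¹ ∈ T ⊓ W :=
      mem_inf.2 ⟨hle ⟨w ^ m, mem_zpowers _, rfl⟩, conj_mem hW hn (pow_mem hw _)⟩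
    have h4 := conj_mem' hV hn (h1 h3)
    have e : n⁻¹ * (n * w ^ m * n⁻¹) * n = w ^ m := by group
    rwa [e] at h4
  exact mem_of_pow_mem (Nat.Coprime.pow_left k (Nat.coprime_two_left.2 hm)) hodd htwo

/-- odd order elements stabilizing a chain -/
theorem commute_of_mem {P : Subgroup G} (hP : IsPGroup 2 P) {x w : G} (hodd : Odd (orderOf w))
    (hx : w * x * w⁻¹ * x⁻¹ ∈ P) (hc : w * (w * x * w⁻¹ * x⁻¹) = (w * x * w⁻¹ * x⁻¹) * w) : x * w = w * x := by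
  have : Fact (Nat.Prime 2) := ⟨Nat.prime_two⟩
  obtain ⟨n, hn⟩ := IsPGroup.iff_card.1 hP
  have e : ⁅x, w⁆ = (w * x * w⁻¹ * x⁻¹)⁻¹ := by rw [commutatorElement_def]; group
  apply Cfsg.Agent.Lib.CoprimeStab.commute_of_commutator_commute (H := P)
  · rw [hn]
    exact Nat.Coprime.pow_right n (Nat.coprime_two_right.2 hodd)
  · rw [e]; exact inv_mem hx
  · rw [e]
    have h1 : Commute w (w * x * w⁻¹ * x⁻¹) := hc
    exact h1.inv_right.symm

end Finite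

/-! ### The data -/

/-- `P = S₁ × S₂` with operators `H₁`, `H₂`. -/
structure SplitData (S₁ S₂ H₁ H₂ P : Subgroup G) : Prop where
  prod : Cfsg.IsInternalDirectProduct S₁ S₂ P
  card : Nat.card S₁ = Nat.card S₂
  ci₁ : ∀ X Y : Subgroup G, X ⊔ Y = S₁ → (∀ x ∈ X, ∀ y ∈ Y, x * y = y * x) → X = S₁ ∨ Y = S₁
  ci₂ : ∀ X Y : Subgroup G, X ⊔ Y = S₂ → (∀ x ∈ X, ∀ y ∈ Y, x * y = y * x) → X = S₂ ∨ Y = S₂
  zd₁ : ∀ z ∈ S₁, (∀ s ∈ S₁, z * s = s * z) → z ∈ ⁅S₁, S₁⁆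
  zd₂ : ∀ z ∈ S₂, (∀ s ∈ S₂, z * s = s * z) → z ∈ ⁅S₂, S₂⁆
  nm₁ : ∀ h ∈ H₁, ∀ s ∈ S₁, h * s * h⁻¹ ∈ S₁
  nm₂ : ∀ h ∈ H₂, ∀ s ∈ S₂, h * s * h⁻¹ ∈ S₂
  ct₁ : ∀ h ∈ H₁, ∀ s ∈ S₂, h * s = s * h
  ct₂ : ∀ h ∈ H₂, ∀ s ∈ S₁, h * s = s * h
  gen₁ : S₁ ≤ ⁅S₁, H₁⁆
  gen₂ : S₂ ≤ ⁅S₂, H₂⁆
  fix₁ : ∀ z ∈ S₁, (∀ s ∈ S₁, z * s = s * z) → (∀ h ∈ H₁, h * z = z * h) → z = 1
  fix₂ : ∀ z ∈ S₂, (∀ s ∈ S₂, z * s = s * z) → (∀ h ∈ H₂, h * z = z * h) → z = 1

theorem prod_symm {S₁ S₂ P : Subgroup G} (h : Cfsg.IsInternalDirectProduct S₁ S₂ P) :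
    Cfsg.IsInternalDirectProduct S₂ S₁ P :=
  ⟨h.2.1, h.1, fun a ha b hb => (h.2.2.1 b hb a ha).symm, by rw [inf_comm]; exact h.2.2.2.1,
    by rw [sup_comm]; exact h.2.2.2.2⟩

theorem SplitData.symm {S₁ S₂ H₁ H₂ P : Subgroup G} (h : SplitData S₁ S₂ H₁ H₂ P) : SplitData S₂ S₁ H₂ H₁ P where
  prod := prod_symm h.prod
  card := h.card.symm
  ci₁ := h.ci₂
  ci₂ := h.ci₁
  zd₁ := h.zd₂
  zd₂ := h.zd₁
  nm₁ := h.nm₂
  nm₂ := h.nm₁
  ct₁ := h.ct₂
  ct₂ := h.ct₁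
  gen₁ := h.gen₂
  gen₂ := h.gen₁
  fix₁ := h.fix₂
  fix₂ := h.fix₁

/-! ### Local analysis: a subgroup `D = D₁ × S₂` -/

section Local

variable {S₁ S₂ H₁ H₂ P D : Subgroup G}

/-- `Z(D₁) × S₂` -/
def B2 (S₁ D : Subgroup G) : Subgroup G := D ⊓ centralizer ((D ⊓ S₁ : Subgroup G) : Set G)

/-- `Z(D)` -/
def ZD (D : Subgroup G) : Subgroup G := D ⊓ centralizer (D : Set G)

theorem mem_centralizer_comm {A : Subgroup G} {x : G} (hx : x ∈ centralizer (A : Set G)) {a : G} (ha : a ∈ A) :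
    x * a = a * x := (mem_centralizer_iff.1 hx a ha).symm

theorem exists_D (h : SplitData S₁ S₂ H₁ H₂ P) (hDP : D ≤ P) (hS : S₂ ≤ D) {x : G} (hx : x ∈ D) :
    ∃ a ∈ D ⊓ S₁, ∃ b ∈ S₂, x = a * b := by
  obtain ⟨a, ha, b, hb, rfl⟩ := exists_mul h.prod (hDP hx)
  exact ⟨a, ⟨(D.mul_mem_cancel_right (hS hb)).1 hx, ha⟩, b, hb, rfl⟩

theorem ZD_le_B2 : ZD D ≤ B2 S₁ D := by
  rintro x ⟨hx, hx'⟩
  exact ⟨hx, centralizer_le (s := ((D ⊓ S₁ : Subgroup G) : Set G)) (t := (D : Set G)) inf_le_left hx'⟩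

theorem S2_le_B2 (h : SplitData S₁ S₂ H₁ H₂ P) (hS : S₂ ≤ D) : S₂ ≤ B2 S₁ D := by
  intro s hs
  refine ⟨hS hs, mem_centralizer_iff.2 fun a ha => ?_⟩
  exact h.prod.2.2.1 a ha.2 s hs

/-- an element of `Z(D₁)` is in `Z(D)` -/
theorem mem_ZD_of_mem (h : SplitData S₁ S₂ H₁ H₂ P) (hDP : D ≤ P) (hS : S₂ ≤ D) {a : G} (ha : a ∈ D ⊓ S₁)
    (ha' : ∀ d ∈ D ⊓ S₁, a * d = d * a) : a ∈ ZD D := by
  refine ⟨ha.1, mem_centralizer_iff.2 fun x hx => ?_⟩
  obtain ⟨d, hd, b, hb, rfl⟩ := exists_D h hDP hS hx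
  have h1 := h.prod.2.2.1 a ha.2 b hb
  rw [mul_assoc, ← h1, ← mul_assoc, ← ha' d hd, mul_assoc]

theorem mem_ZD_of_mem₂ (h : SplitData S₁ S₂ H₁ H₂ P) (hDP : D ≤ P) (hS : S₂ ≤ D) {z : G} (hz : z ∈ S₂)
    (hz' : ∀ s ∈ S₂, z * s = s * z) : z ∈ ZD D := by
  refine ⟨hS hz, mem_centralizer_iff.2 fun x hx => ?_⟩
  obtain ⟨d, hd, b, hb, rfl⟩ := exists_D h hDP hS hx
  have h1 := h.prod.2.2.1 d hd.2 z hz
  rw [mul_assoc, ← hz' b hb, ← mul_assoc, h1, mul_assoc]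

theorem exists_B2 (h : SplitData S₁ S₂ H₁ H₂ P) (hDP : D ≤ P) (hS : S₂ ≤ D) {x : G} (hx : x ∈ B2 S₁ D) :
    ∃ a ∈ D ⊓ S₁, ∃ b ∈ S₂, a ∈ ZD D ∧ x = a * b := by
  obtain ⟨a, ha, b, hb, rfl⟩ := exists_D h hDP hS hx.1
  refine ⟨a, ha, b, hb, mem_ZD_of_mem h hDP hS ha fun d hd => ?_, rfl⟩
  have h1 := mem_centralizer_comm hx.2 hd
  have h2 := h.prod.2.2.1 d hd.2 b hb
  have h3 : a * d * b = d * a * b := by
    calc a * d * b = a * (d * b) := by group
      _ = a * (b * d) := by rw [h2]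
      _ = a * b * d := by group
      _ = d * (a * b) := h1
      _ = d * a * b := by group
  exact mul_right_cancel h3

theorem exists_ZD (h : SplitData S₁ S₂ H₁ H₂ P) (hDP : D ≤ P) (hS : S₂ ≤ D) {x : G} (hx : x ∈ ZD D) :
    ∃ a ∈ D ⊓ S₁, ∃ b ∈ S₂, a ∈ ZD D ∧ (∀ s ∈ S₂, b * s = s * b) ∧ x = a * b := by
  obtain ⟨a, ha, b, hb, haZ, rfl⟩ := exists_B2 h hDP hS (ZD_le_B2 hx)
  refine ⟨a, ha, b, hb, haZ, fun s hs => ?_, rfl⟩
  have hbZ : b ∈ ZD D := by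
    have := mul_mem (inv_mem haZ) hx
    rwa [inv_mul_cancel_left] at this
  exact mem_centralizer_comm hbZ.2 (hS hs)

/-- commutators of `B₂` -/
theorem commutator_B2 (h : SplitData S₁ S₂ H₁ H₂ P) (hDP : D ≤ P) (hS : S₂ ≤ D) :
    ⁅B2 S₁ D, B2 S₁ D⁆ = ⁅S₂, S₂⁆ := by
  apply le_antisymm
  · rw [commutator_le]
    intro x hx y hy
    obtain ⟨a, ha, b, hb, haZ, rfl⟩ := exists_B2 h hDP hS hx
    obtain ⟨a', ha', b', hb', haZ', rfl⟩ := exists_B2 h hDP hS hy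
    rw [commutatorElement_def, comm_mul h.prod.2.2.1 ha.2 hb ha'.2 hb',
      mem_centralizer_comm haZ.2 ha'.1, mul_inv_cancel_right, mul_inv_cancel, one_mul]
    exact commutator_mem_commutator hb hb'
  · exact commutator_mono (S2_le_B2 h hS) (S2_le_B2 h hS)

theorem le_normalizer_ZD : normalizer (D : Set G) ≤ normalizer (ZD D : Set G) := by
  rw [le_normalizer_iff]
  rintro n hn z ⟨hz, hz'⟩
  refine ⟨conj_mem le_rfl hn hz, mem_centralizer_iff.2 fun d hd => ?_⟩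
  have h1 : n⁻¹ * d * n ∈ D := conj_mem' le_rfl hn hd
  have h2 := mem_centralizer_comm hz' h1
  calc d * (n * z * n⁻¹) = n * ((n⁻¹ * d * n) * z) * n⁻¹ := by group
    _ = n * (z * (n⁻¹ * d * n)) * n⁻¹ := by rw [h2]
    _ = n * z * n⁻¹ * d := by group

/-- the subgroup `Z(S₂)`; it is `[B₂, B₂] ∩ Z(D)` -/
def Z2 (S₂ : Subgroup G) : Subgroup G := S₂ ⊓ centralizer (S₂ : Set G)

theorem Z2_eq (h : SplitData S₁ S₂ H₁ H₂ P) (hDP : D ≤ P) (hS : S₂ ≤ D) :
    Z2 S₂ = ⁅B2 S₁ D, B2 S₁ D⁆ ⊓ ZD D := by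
  rw [commutator_B2 h hDP hS]
  apply le_antisymm
  · rintro z ⟨hz, hz'⟩
    have h1 : ∀ s ∈ S₂, z * s = s * z := fun s hs => mem_centralizer_comm hz' hs
    exact ⟨h.zd₂ z hz h1, mem_ZD_of_mem₂ h hDP hS hz h1⟩
  · rintro z ⟨hz, hz'⟩
    have hzS : z ∈ S₂ := by
      have hle : ⁅S₂, S₂⁆ ≤ S₂ := by
        rw [commutator_le]
        intro a ha b hb
        rw [commutatorElement_def]
        exact mul_mem (mul_mem (mul_mem ha hb) (inv_mem ha)) (inv_mem hb)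
      exact hle hz
    exact ⟨hzS, mem_centralizer_iff.2 fun s hs => (mem_centralizer_comm hz'.2 (hS hs)).symm⟩

theorem mem_Z2 {z : G} : z ∈ Z2 S₂ ↔ z ∈ S₂ ∧ ∀ s ∈ S₂, z * s = s * z := by
  constructor
  · rintro ⟨hz, hz'⟩
    exact ⟨hz, fun s hs => mem_centralizer_comm hz' hs⟩
  · rintro ⟨hz, hz'⟩
    exact ⟨hz, mem_centralizer_iff.2 fun s hs => (hz' s hs).symm⟩

variable [Finite G]

/-- The local lemma. -/
theorem local_main (h : SplitData S₁ S₂ H₁ H₂ P) (hP : IsPGroup 2 P) (hDP : D ≤ P) (hS : S₂ ≤ D)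
    (hB : normalizer (D : Set G) ≤ normalizer (B2 S₁ D : Set G))
    (hSyl : ¬ 2 ∣ (P ⊓ normalizer (D : Set G)).relIndex (normalizer (D : Set G))) {n : G}
    (hn : n ∈ CM (normalizer (D : Set G)) (B2 S₁ D) (ZD D) le_normalizer_ZD) :
    (∀ s ∈ S₂, n * s * n⁻¹ ∈ S₂) ∧ ∀ d ∈ D ⊓ S₁, n * d * n⁻¹ ∈ D ⊓ S₁ := by
  set N : Subgroup G := normalizer (D : Set G) with hN
  have hDN : D ≤ N := le_normalizer
  have hc := h.prod.2.2.1
  have hZN : N ≤ normalizer (ZD D : Set G) := le_normalizer_ZD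
  set C2 : Subgroup G := ⁅B2 S₁ D, B2 S₁ D⁆ with hC2
  have hC2N : N ≤ normalizer (C2 : Set G) := by
    intro g hg
    rw [mem_normalizer_iff_map_conj, hC2, map_commutator, mem_normalizer_iff_map_conj.1 (hB hg)]
  have hC2S : C2 = ⁅S₂, S₂⁆ := commutator_B2 h hDP hS
  have hC2S₂ : C2 ≤ S₂ := by
    rw [hC2S, commutator_le]
    intro a ha b hb
    rw [commutatorElement_def]
    exact mul_mem (mul_mem (mul_mem ha hb) (inv_mem ha)) (inv_mem hb)
  have hZ2eq : Z2 S₂ = C2 ⊓ ZD D := Z2_eq h hDP hS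
  have hZ2N : N ≤ normalizer (Z2 S₂ : Set G) := by
    rw [le_normalizer_iff]
    intro g hg z hz
    rw [hZ2eq] at hz ⊢
    exact ⟨conj_mem hC2N hg hz.1, conj_mem hZN hg hz.2⟩
  have hZ2C2 : Z2 S₂ ≤ C2 := by rw [hZ2eq]; exact inf_le_left
  have hZ2ZD : Z2 S₂ ≤ ZD D := by rw [hZ2eq]; exact inf_le_right
  -- `H₂` normalizes `D`
  have hHN : H₂ ≤ N := by
    intro g hg
    rw [hN, mem_normalizer_iff_map_conj]
    apply map_conj_le_of_le_normalizer
    rintro _ ⟨d, hd, rfl⟩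
    obtain ⟨a, ha, b, hb, rfl⟩ := exists_D h hDP hS hd
    have e : g * (a * b) * g⁻¹ = a * (g * b * g⁻¹) := by
      rw [← mul_assoc, h.ct₂ g hg a ha.2]; group
    change g * (a * b) * g⁻¹ ∈ D
    rw [e]
    exact mul_mem ha.1 (hS (h.nm₂ g hg b hb))
  set N2 := CM N (B2 S₁ D) (ZD D) hZN with hN2
  have hN2N : N ≤ normalizer (N2 : Set G) := le_normalizer_CM hB
  -- `N2` centralizes `C2`
  have hN2C2 : ∀ w ∈ N2, ∀ c ∈ C2, w * c * w⁻¹ = c := by
    intro w hw c hcC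
    have hcc : c ∈ centralizer ({w} : Set G) := by
      have hle : C2 ≤ centralizer ({w} : Set G) := by
        rw [hC2, commutator_le]
        intro x hx y hy
        rw [mem_centralizer_singleton_iff]
        have h1 := hw.2 x hx
        have h2 := hw.2 y hy
        have hwx : w * x * w⁻¹ = (w * x * w⁻¹ * x⁻¹) * x := by group
        have hwy : w * y * w⁻¹ = (w * y * w⁻¹ * y⁻¹) * y := by group
        set zx := w * x * w⁻¹ * x⁻¹
        set zy := w * y * w⁻¹ * y⁻¹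
        have hxy : ∀ {z t : G}, z ∈ ZD D → t ∈ D → z * t = t * z := fun hz ht => mem_centralizer_comm hz.2 ht
        have e : w * ⁅x, y⁆ * w⁻¹ = ⁅x, y⁆ := by
          have e1 : w * ⁅x, y⁆ * w⁻¹ = (w * x * w⁻¹) * (w * y * w⁻¹) * (w * x * w⁻¹)⁻¹ * (w * y * w⁻¹)⁻¹ := by
            rw [commutatorElement_def]; group
          rw [e1, hwx, hwy, commutatorElement_def]
          have c1 : x * zy = zy * x := (hxy h2 hx.1).symm
          have c2 : y * x⁻¹ = y * x⁻¹ := rfl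
          have c3 : zx * zy = zy * zx := hxy h1 h2.1
          have c4 : ∀ t ∈ D, zx * t = t * zx := fun t ht => hxy h1 ht
          have c5 : ∀ t ∈ D, zy * t = t * zy := fun t ht => hxy h2 ht
          have hxD := hx.1
          have hyD := hy.1
          calc zx * x * (zy * y) * (zx * x)⁻¹ * (zy * y)⁻¹
              = zx * (x * zy) * y * x⁻¹ * zx⁻¹ * y⁻¹ * zy⁻¹ := by simp only [mul_inv_rev]; group
            _ = zx * (zy * x) * y * x⁻¹ * zx⁻¹ * y⁻¹ * zy⁻¹ := by rw [c1]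
            _ = (zx * zy) * (x * y * x⁻¹) * zx⁻¹ * y⁻¹ * zy⁻¹ := by group
            _ = (zy * zx) * (x * y * x⁻¹) * zx⁻¹ * y⁻¹ * zy⁻¹ := by rw [c3]
            _ = zy * (zx * (x * y * x⁻¹)) * zx⁻¹ * y⁻¹ * zy⁻¹ := by group
            _ = zy * ((x * y * x⁻¹) * zx) * zx⁻¹ * y⁻¹ * zy⁻¹ := by
                rw [c4 _ (mul_mem (mul_mem hxD hyD) (inv_mem hxD))]
            _ = (zy * (x * y * x⁻¹ * y⁻¹)) * zy⁻¹ := by group
            _ = ((x * y * x⁻¹ * y⁻¹) * zy) * zy⁻¹ := by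
                rw [c5 _ (mul_mem (mul_mem (mul_mem hxD hyD) (inv_mem hxD)) (inv_mem hyD))]
            _ = x * y * x⁻¹ * y⁻¹ := by group
        have e2 := congrArg (· * w) e
        simp only [inv_mul_cancel_right] at e2
        exact e2.symm
      exact hle hcC
    rw [mem_centralizer_singleton_iff] at hcc
    rw [← hcc, mul_inv_cancel_right]
  -- `W0`
  set W0 := N2 ⊓ CM N (ZD D) (Z2 S₂) hZ2N with hW0
  have hW0N : N ≤ normalizer (W0 : Set G) := by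
    rw [le_normalizer_iff]
    intro g hg z hz
    exact ⟨conj_mem hN2N hg hz.1, conj_mem (le_normalizer_CM hZN) hg hz.2⟩
  set V0 := CM N (B2 S₁ D) C2 hC2N with hV0
  have hWV : W0 ≤ V0 := by
    apply le_of_sylow (N := N) (T := P ⊓ N) (hP.to_le inf_le_left) hSyl (fun w (hw : w ∈ W0) => hw.1.1) hW0N
      (le_normalizer_CM hB)
    · rintro s ⟨⟨hsP, hsN⟩, hsW⟩
      refine ⟨hsN, fun x hx => ?_⟩
      obtain ⟨s₁, hs₁, s₂, hs₂, rfl⟩ := exists_mul h.prod hsP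
      obtain ⟨a, ha, b, hb, haZ, rfl⟩ := exists_B2 h hDP hS hx
      have h1 := hsW.2.2 a haZ
      have e1 := comm_mul hc hs₁ hs₂ ha.2 (one_mem S₂)
      simp only [mul_one, mul_inv_cancel] at e1
      rw [e1] at h1
      have h2 : s₁ * a * s₁⁻¹ * a⁻¹ = 1 := by
        have h3 : s₁ * a * s₁⁻¹ * a⁻¹ ∈ S₁ ⊓ S₂ :=
          mem_inf.2 ⟨mul_mem (mul_mem (mul_mem hs₁ ha.2) (inv_mem hs₁)) (inv_mem ha.2), h1.1⟩
        rwa [h.prod.2.2.2.1, mem_bot] at h3
      have h4 := hsW.1.2 b (S2_le_B2 h hS hb)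
      have e2 := comm_mul hc hs₁ hs₂ (one_mem S₁) hb
      simp only [mul_one, one_mul, mul_inv_cancel, inv_one] at e2
      rw [comm_mul hc hs₁ hs₂ ha.2 hb, h2, one_mul]
      rw [e2] at h4
      apply hZ2C2
      have h5 : s₂ * b * s₂⁻¹ * b⁻¹ ∈ S₂ := mul_mem (mul_mem (mul_mem hs₂ hb) (inv_mem hs₂)) (inv_mem hb)
      exact mem_Z2.2 ⟨h5, fun s hs => mem_centralizer_comm h4.2 (hS hs)⟩
    · rintro w hw hodd
      have hPp := hP
      have c1 : ∀ z ∈ ZD D, z * w = w * z := by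
        intro z hz
        have h1 := hw.2.2 z hz
        apply commute_of_mem hP hodd (hDP (hZ2ZD h1).1)
        have h2 := hN2C2 w hw.1 _ (hZ2C2 h1)
        have h3 := congrArg (· * w) h2
        simp only [inv_mul_cancel_right] at h3
        exact h3
      refine ⟨hw.1.1, fun x hx => ?_⟩
      have h1 := hw.1.2 x hx
      have h2 : x * w = w * x := commute_of_mem hP hodd (hDP h1.1) (c1 _ h1).symm
      rw [← h2, mul_inv_cancel_right, mul_inv_cancel]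
      exact one_mem _
  -- `B1 = D₁ Z(S₂)`
  set B1 : Subgroup G := D ⊓ centralizer ((B2 S₁ D : Subgroup G) : Set G) with hB1
  have hB1N : N ≤ normalizer (B1 : Set G) := by
    rw [le_normalizer_iff]
    rintro g hg z ⟨hz, hz'⟩
    refine ⟨conj_mem le_rfl hg hz, mem_centralizer_iff.2 fun d hd => ?_⟩
    have h1 : g⁻¹ * d * g ∈ B2 S₁ D := conj_mem' hB hg hd
    have h2 := mem_centralizer_comm hz' h1
    calc d * (g * z * g⁻¹) = g * ((g⁻¹ * d * g) * z) * g⁻¹ := by group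
      _ = g * (z * (g⁻¹ * d * g)) * g⁻¹ := by rw [h2]
      _ = g * z * g⁻¹ * d := by group
  have exists_B1 : ∀ x ∈ B1, ∃ a ∈ D ⊓ S₁, ∃ b ∈ S₂, b ∈ Z2 S₂ ∧ x = a * b := by
    rintro x ⟨hx, hx'⟩
    obtain ⟨a, ha, b, hb, rfl⟩ := exists_D h hDP hS hx
    refine ⟨a, ha, b, hb, mem_Z2.2 ⟨hb, fun s hs => ?_⟩, rfl⟩
    have h1 := mem_centralizer_comm hx' (S2_le_B2 h hS hs)
    have h2 := hc a ha.2 s hs
    have h3 : a * (b * s) = a * (s * b) := by
      calc a * (b * s) = a * b * s := by group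
        _ = s * (a * b) := h1
        _ = (s * a) * b := by group
        _ = (a * s) * b := by rw [h2]
        _ = a * (s * b) := by group
    exact mul_left_cancel h3
  have hD1B1 : D ⊓ S₁ ≤ B1 := by
    intro d hd
    refine ⟨hd.1, mem_centralizer_iff.2 fun x hx => ?_⟩
    exact mem_centralizer_comm hx.2 hd
  set W1 := N2 ⊓ CM N B1 (Z2 S₂) hZ2N with hW1
  have hW1N : N ≤ normalizer (W1 : Set G) := by
    rw [le_normalizer_iff]
    intro g hg z hz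
    exact ⟨conj_mem hN2N hg hz.1, conj_mem (le_normalizer_CM hB1N) hg hz.2⟩
  have hbotN : N ≤ normalizer ((⊥ : Subgroup G) : Set G) := by
    intro g _
    rw [mem_normalizer_iff_map_conj, Subgroup.map_bot]
  set V1 := CM N B1 ⊥ hbotN with hV1
  have hWV1 : W1 ≤ V1 := by
    apply le_of_sylow (N := N) (T := P ⊓ N) (hP.to_le inf_le_left) hSyl (fun w (hw : w ∈ W1) => hw.1.1) hW1N
      (le_normalizer_CM hB1N)
    · rintro s ⟨⟨hsP, hsN⟩, hsW⟩
      refine ⟨hsN, fun x hx => ?_⟩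
      obtain ⟨a, ha, b, hb, hbZ, rfl⟩ := exists_B1 x hx
      obtain ⟨s₁, hs₁, s₂, hs₂, rfl⟩ := exists_mul h.prod hsP
      have h1 := hsW.2.2 _ (hD1B1 ha)
      have e1 := comm_mul hc hs₁ hs₂ ha.2 (one_mem S₂)
      simp only [mul_one, mul_inv_cancel] at e1
      rw [e1] at h1
      have h2 : s₁ * a * s₁⁻¹ * a⁻¹ = 1 := by
        have h3 : s₁ * a * s₁⁻¹ * a⁻¹ ∈ S₁ ⊓ S₂ :=
          mem_inf.2 ⟨mul_mem (mul_mem (mul_mem hs₁ ha.2) (inv_mem hs₁)) (inv_mem ha.2), h1.1⟩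
        rwa [h.prod.2.2.2.1, mem_bot] at h3
      rw [comm_mul hc hs₁ hs₂ ha.2 hb, h2, one_mul, mem_bot, ← (mem_Z2.1 hbZ).2 s₂ hs₂,
        mul_inv_cancel_right, mul_inv_cancel]
    · rintro w hw hodd
      refine ⟨hw.1.1, fun x hx => ?_⟩
      have h1 := hw.2.2 x hx
      have h2 : x * w = w * x := by
        apply commute_of_mem hP hodd (hDP (hZ2ZD h1).1)
        have h2 := hN2C2 w hw.1 _ (hZ2C2 h1)
        have h3 := congrArg (· * w) h2
        simp only [inv_mul_cancel_right] at h3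
        exact h3
      rw [← h2, mul_inv_cancel_right, mul_inv_cancel]
      exact one_mem _
  have hnN : n ∈ N := hn.1
  constructor
  · -- `S₂`
    have hmap : S₂ ≤ S₂.comap (MulAut.conj n).toMonoidHom := by
      refine h.gen₂.trans ?_
      rw [commutator_le]
      intro s hs g hg
      change n * ⁅s, g⁆ * n⁻¹ ∈ S₂
      -- `w = [n, g]`
      set w := n * g * n⁻¹ * g⁻¹ with hw
      have hgN : g ∈ N := hHN hg
      have hwN2 : w ∈ N2 := by
        have h1 : g * n⁻¹ * g⁻¹ ∈ N2 := conj_mem hN2N hgN (inv_mem hn)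
        have e : w = n * (g * n⁻¹ * g⁻¹) := by rw [hw]; group
        rw [e]
        exact mul_mem hn h1
      have hwW0 : w ∈ W0 := by
        refine ⟨hwN2, hwN2.1, fun z hz => ?_⟩
        -- `g` acts trivially on `Z(D)` modulo `Z(S₂)`
        have hg' : ∀ z ∈ ZD D, g * z * g⁻¹ * z⁻¹ ∈ Z2 S₂ := by
          intro z hz
          obtain ⟨a, ha, b, hb, haZ, hbZ, rfl⟩ := exists_ZD h hDP hS hz
          have hb2 : b ∈ Z2 S₂ := mem_Z2.2 ⟨hb, hbZ⟩
          have e : g * (a * b) * g⁻¹ * (a * b)⁻¹ = a * ((g * b * g⁻¹) * b⁻¹) * a⁻¹ := by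
            rw [← mul_assoc, h.ct₂ g hg a ha.2]; group
          rw [e]
          exact conj_mem hZ2N (hDN ha.1) (mul_mem (conj_mem hZ2N hgN hb2) (inv_mem hb2))
        -- commutator computation: `w = n g n⁻¹ g⁻¹`
        have hgm : g ∈ CM N (ZD D) (Z2 S₂) hZ2N := ⟨hgN, hg'⟩
        have h1 : n * g * n⁻¹ ∈ CM N (ZD D) (Z2 S₂) hZ2N := conj_mem (le_normalizer_CM hZN) hnN hgm
        exact (mul_mem h1 (inv_mem hgm)).2 z hz
      have hwV : w ∈ V0 := hWV hwW0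
      have hng : n * g * n⁻¹ = w * g := by rw [hw]; group
      set x := n * s * n⁻¹ with hx
      have hxB : x ∈ B2 S₁ D := conj_mem hB hnN (S2_le_B2 h hS hs)
      have e1 : n * ⁅s, g⁆ * n⁻¹ = x * (n * g * n⁻¹) * x⁻¹ * (n * g * n⁻¹)⁻¹ := by
        rw [commutatorElement_def, hx]; group
      have hy : g * x⁻¹ * g⁻¹ ∈ B2 S₁ D := conj_mem hB hgN (inv_mem hxB)
      have h2 := hwV.2 _ hy
      have e2 : x * (w * g) * x⁻¹ * (w * g)⁻¹ =
          x * (w * (g * x⁻¹ * g⁻¹) * w⁻¹ * (g * x⁻¹ * g⁻¹)⁻¹) * x⁻¹ * (x * (g * x⁻¹ * g⁻¹)) := by group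
      rw [e1, hng, e2]
      refine mul_mem ?_ ?_
      · exact hC2S₂ (conj_mem hC2N (hDN hxB.1) h2)
      · obtain ⟨a, ha, b, hb, haZ, hxab⟩ := exists_B2 h hDP hS hxB
        have hb' : g * b⁻¹ * g⁻¹ ∈ S₂ := h.nm₂ g hg _ (inv_mem hb)
        have hga : g * a⁻¹ = a⁻¹ * g := h.ct₂ g hg _ (inv_mem ha.2)
        have h3 : a * (g * b⁻¹ * g⁻¹) = (g * b⁻¹ * g⁻¹) * a := hc a ha.2 _ hb'
        have h4 : a * b = b * a := hc a ha.2 b hb
        have e3 : x * (g * x⁻¹ * g⁻¹) = b * (g * b⁻¹ * g⁻¹) := by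
          rw [hxab]
          calc a * b * (g * (a * b)⁻¹ * g⁻¹) = (a * b) * (g * b⁻¹ * (a⁻¹ * g⁻¹)) := by
                rw [mul_inv_rev]; group
            _ = (b * a) * (g * b⁻¹ * (g⁻¹ * a⁻¹)) := by
                rw [h4]
                have : a⁻¹ * g⁻¹ = g⁻¹ * a⁻¹ := by
                  have := congrArg (fun t => g⁻¹ * t * g⁻¹) hga
                  simpa [mul_assoc] using this
                rw [this]
            _ = b * (a * (g * b⁻¹ * g⁻¹)) * a⁻¹ := by group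
            _ = b * ((g * b⁻¹ * g⁻¹) * a) * a⁻¹ := by rw [h3]
            _ = b * (g * b⁻¹ * g⁻¹) := by group
        rw [e3]
        exact mul_mem hb hb'
    intro s hs
    exact hmap hs
  · -- `D₁`
    intro d hd
    have hxB : n * d * n⁻¹ ∈ B1 := conj_mem hB1N hnN (hD1B1 hd)
    obtain ⟨a, ha, b, hb, hbZ, hxab⟩ := exists_B1 _ hxB
    have hcomm : ∀ g ∈ H₂, g * b = b * g := by
      intro g hg
      have hgN : g ∈ N := hHN hg
      set w := n⁻¹ * g * n * g⁻¹ with hw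
      have hwN2 : w ∈ N2 := by
        have h1 : g * n * g⁻¹ ∈ N2 := conj_mem hN2N hgN hn
        have e : w = n⁻¹ * (g * n * g⁻¹) := by rw [hw]; group
        rw [e]
        exact mul_mem (inv_mem hn) h1
      have hgm : g ∈ CM N B1 (Z2 S₂) hZ2N := by
        refine ⟨hgN, fun x hx => ?_⟩
        obtain ⟨a, ha, b, hb, hbZ, rfl⟩ := exists_B1 x hx
        have e : g * (a * b) * g⁻¹ * (a * b)⁻¹ = a * ((g * b * g⁻¹) * b⁻¹) * a⁻¹ := by
          rw [← mul_assoc, h.ct₂ g hg a ha.2]; group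
        rw [e]
        exact conj_mem hZ2N (hDN ha.1) (mul_mem (conj_mem hZ2N hgN hbZ) (inv_mem hbZ))
      have hwW1 : w ∈ W1 := by
        refine ⟨hwN2, ?_⟩
        have h1 : n⁻¹ * g * n ∈ CM N B1 (Z2 S₂) hZ2N := conj_mem' (le_normalizer_CM hB1N) hnN hgm
        exact (CM N B1 (Z2 S₂) hZ2N).mul_mem h1 ((CM N B1 (Z2 S₂) hZ2N).inv_mem hgm)
      have hwV : w ∈ V1 := hWV1 hwW1
      have h1 := hwV.2 d (hD1B1 hd)
      rw [mem_bot] at h1
      have h2 : w * d = d * w := by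
        have := congrArg (fun t => t * d * w) h1
        simpa [mul_assoc] using this
      -- `g (n d n⁻¹) g⁻¹ = n d n⁻¹`
      have hgd : g * d = d * g := h.ct₂ g hg d hd.2
      have h3 : g * (n * d * n⁻¹) = (n * d * n⁻¹) * g := by
        have e : g * n = n * w * g := by rw [hw]; group
        calc g * (n * d * n⁻¹) = (g * n) * d * n⁻¹ := by group
          _ = n * w * (g * d) * n⁻¹ := by rw [e]; group
          _ = n * w * (d * g) * n⁻¹ := by rw [hgd]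
          _ = n * (w * d) * g * n⁻¹ := by group
          _ = n * (d * w) * g * n⁻¹ := by rw [h2]
          _ = n * d * (w * g) * n⁻¹ := by group
          _ = (n * d * n⁻¹) * g := by rw [hw]; group
      rw [hxab] at h3
      have hga : g * a = a * g := h.ct₂ g hg a ha.2
      have h4 : a * (g * b) = a * (b * g) := by
        calc a * (g * b) = (a * g) * b := by group
          _ = (g * a) * b := by rw [hga]
          _ = g * (a * b) := by group
          _ = a * b * g := h3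
          _ = a * (b * g) := by group
      exact mul_left_cancel h4
    have hb1 : b = 1 := h.fix₂ b hb (mem_Z2.1 hbZ).2 hcomm
    rw [hxab, hb1, mul_one]
    exact ha

/-! ### Conjugates of `D₁` and `S₂` -/

/-- projection to `S₂` -/
def pr2 (S₁ S₂ T : Subgroup G) (hc : ∀ a ∈ S₁, ∀ b ∈ S₂, a * b = b * a) : Subgroup G where
  carrier := {y | y ∈ S₂ ∧ ∃ x ∈ S₁, x * y ∈ T}
  one_mem' := ⟨one_mem _, 1, one_mem _, by simp [one_mem]⟩
  mul_mem' := by
    rintro a b ⟨ha, x, hx, hxa⟩ ⟨hb, y, hy, hyb⟩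
    refine ⟨mul_mem ha hb, x * y, mul_mem hx hy, ?_⟩
    have e : x * y * (a * b) = x * a * (y * b) := by
      calc x * y * (a * b) = x * (y * a) * b := by group
        _ = x * (a * y) * b := by rw [hc y hy a ha]
        _ = x * a * (y * b) := by group
    rw [e]
    exact mul_mem hxa hyb
  inv_mem' := by
    rintro a ⟨ha, x, hx, hxa⟩
    refine ⟨inv_mem ha, x⁻¹, inv_mem hx, ?_⟩
    have e : x⁻¹ * a⁻¹ = (x * a)⁻¹ := by rw [hc x hx a ha, mul_inv_rev]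
    rw [e]
    exact inv_mem hxa

omit [Finite G] in
theorem dich (h : SplitData S₁ S₂ H₁ H₂ P) (hDP : D ≤ P) (hS : S₂ ≤ D) {n : G}
    (hn : n ∈ normalizer (D : Set G)) :
    (∀ y ∈ S₂, ∃ x ∈ S₁, x * y ∈ S₂.map (MulAut.conj n).toMonoidHom) ∨
    (∀ y ∈ S₂, ∃ x ∈ S₁, x * y ∈ (D ⊓ S₁).map (MulAut.conj n).toMonoidHom) := by
  have hc := h.prod.2.2.1
  have hXY : pr2 S₁ S₂ (S₂.map (MulAut.conj n).toMonoidHom) hc ⊔
      pr2 S₁ S₂ ((D ⊓ S₁).map (MulAut.conj n).toMonoidHom) hc = S₂ := by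
    apply le_antisymm
    · exact sup_le (fun y hy => hy.1) (fun y hy => hy.1)
    · intro y hy
      have h1 : n⁻¹ * y * n ∈ D := conj_mem' le_rfl hn (hS hy)
      obtain ⟨a, ha, b, hb, hab⟩ := exists_D h hDP hS h1
      have haD : n * a * n⁻¹ ∈ D := conj_mem le_rfl hn ha.1
      have hbD : n * b * n⁻¹ ∈ D := conj_mem le_rfl hn (hS hb)
      obtain ⟨x₁, hx₁, y₁, hy₁, e₁⟩ := exists_mul h.prod (hDP haD)
      obtain ⟨x₂, hx₂, y₂, hy₂, e₂⟩ := exists_mul h.prod (hDP hbD)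
      have hy' : (1 : G) * y = (x₁ * x₂) * (y₁ * y₂) := by
        calc 1 * y = n * (n⁻¹ * y * n) * n⁻¹ := by group
          _ = (n * a * n⁻¹) * (n * b * n⁻¹) := by rw [hab]; group
          _ = x₁ * y₁ * (x₂ * y₂) := by rw [e₁, e₂]
          _ = x₁ * (y₁ * x₂) * y₂ := by group
          _ = x₁ * (x₂ * y₁) * y₂ := by rw [hc x₂ hx₂ y₁ hy₁]
          _ = (x₁ * x₂) * (y₁ * y₂) := by group
      obtain ⟨-, e⟩ := mul_inj h.prod (one_mem _) (mul_mem hx₁ hx₂) hy (mul_mem hy₁ hy₂) hy'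
      rw [e]
      refine mul_mem (mem_sup_right ⟨hy₁, x₁, hx₁, ?_⟩) (mem_sup_left ⟨hy₂, x₂, hx₂, ?_⟩)
      · rw [← e₁]; exact ⟨a, ha, rfl⟩
      · rw [← e₂]; exact ⟨b, hb, rfl⟩
  rcases h.ci₂ _ _ hXY (by
    rintro y₂ ⟨hy₂, x₂, hx₂, ⟨b, hb, e₂⟩⟩ y₁ ⟨hy₁, x₁, hx₁, ⟨a, ha, e₁⟩⟩
    have hab : a * b = b * a := hc a ha.2 b hb
    change n * b * n⁻¹ = x₂ * y₂ at e₂
    change n * a * n⁻¹ = x₁ * y₁ at e₁
    have h1 : (x₁ * y₁) * (x₂ * y₂) = (x₂ * y₂) * (x₁ * y₁) := by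
      rw [← e₁, ← e₂]
      calc n * a * n⁻¹ * (n * b * n⁻¹) = n * (a * b) * n⁻¹ := by group
        _ = n * (b * a) * n⁻¹ := by rw [hab]
        _ = n * b * n⁻¹ * (n * a * n⁻¹) := by group
    have h2 : (x₁ * x₂) * (y₁ * y₂) = (x₂ * x₁) * (y₂ * y₁) := by
      calc (x₁ * x₂) * (y₁ * y₂) = x₁ * (x₂ * y₁) * y₂ := by group
        _ = x₁ * (y₁ * x₂) * y₂ := by rw [hc x₂ hx₂ y₁ hy₁]
        _ = (x₁ * y₁) * (x₂ * y₂) := by group
        _ = (x₂ * y₂) * (x₁ * y₁) := h1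
        _ = x₂ * (y₂ * x₁) * y₁ := by group
        _ = x₂ * (x₁ * y₂) * y₁ := by rw [hc x₁ hx₁ y₂ hy₂]
        _ = (x₂ * x₁) * (y₂ * y₁) := by group
    exact (mul_inj h.prod (mul_mem hx₁ hx₂) (mul_mem hx₂ hx₁) (mul_mem hy₁ hy₂) (mul_mem hy₂ hy₁) h2).2.symm)
    with h1 | h1
  · left
    intro y hy
    rw [← h1] at hy
    exact hy.2
  · right
    intro y hy
    rw [← h1] at hy
    exact hy.2

omit [Finite G] in
/-- if `S₂ ^ n` projects onto `S₂`, then `D₁ ^ n ≤ D₁ Z(S₂)` -/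
theorem case_one (h : SplitData S₁ S₂ H₁ H₂ P) (hDP : D ≤ P) (hS : S₂ ≤ D) {n : G}
    (hn : n ∈ normalizer (D : Set G)) (h1 : ∀ y ∈ S₂, ∃ x ∈ S₁, x * y ∈ S₂.map (MulAut.conj n).toMonoidHom)
    {d : G} (hd : d ∈ D ⊓ S₁) : ∃ x ∈ D ⊓ S₁, ∃ z ∈ Z2 S₂, n * d * n⁻¹ = x * z := by
  have hc := h.prod.2.2.1
  obtain ⟨x, hx, z, hz, e⟩ := exists_D h hDP hS (conj_mem le_rfl hn hd.1)
  refine ⟨x, hx, z, mem_Z2.2 ⟨hz, fun s hs => ?_⟩, e⟩
  obtain ⟨t, ht, ⟨b, hb, e₂⟩⟩ := h1 s hs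
  change n * b * n⁻¹ = t * s at e₂
  have hab : d * b = b * d := hc d hd.2 b hb
  have h1 : (x * z) * (t * s) = (t * s) * (x * z) := by
    rw [← e, ← e₂]
    calc n * d * n⁻¹ * (n * b * n⁻¹) = n * (d * b) * n⁻¹ := by group
      _ = n * (b * d) * n⁻¹ := by rw [hab]
      _ = n * b * n⁻¹ * (n * d * n⁻¹) := by group
  have h2 : (x * t) * (z * s) = (t * x) * (s * z) := by
    calc (x * t) * (z * s) = x * (t * z) * s := by group
      _ = x * (z * t) * s := by rw [hc t ht z hz]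
      _ = (x * z) * (t * s) := by group
      _ = (t * s) * (x * z) := h1
      _ = t * (s * x) * z := by group
      _ = t * (x * s) * z := by rw [hc x hx.2 s hs]
      _ = (t * x) * (s * z) := by group
  exact (mul_inj h.prod (mul_mem hx.2 ht) (mul_mem ht hx.2) (mul_mem hz hs) (mul_mem hs hz) h2).2

omit [Finite G] in
theorem case_one_B2 (h : SplitData S₁ S₂ H₁ H₂ P) (hDP : D ≤ P) (hS : S₂ ≤ D) {n : G}
    (hn : n ∈ normalizer (D : Set G)) (h1 : ∀ y ∈ S₂, ∃ x ∈ S₁, x * y ∈ S₂.map (MulAut.conj n).toMonoidHom)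
    {b : G} (hb : b ∈ B2 S₁ D) : n⁻¹ * b * n ∈ B2 S₁ D := by
  refine ⟨conj_mem' le_rfl hn hb.1, mem_centralizer_iff.2 fun d hd => ?_⟩
  obtain ⟨x, hx, z, hz, e⟩ := case_one h hDP hS hn h1 hd
  have h2 : x * b = b * x := mem_centralizer_iff.1 hb.2 x hx
  have hzZ := mem_ZD_of_mem₂ h hDP hS (mem_Z2.1 hz).1 (mem_Z2.1 hz).2
  have h3 : z * b = b * z := mem_centralizer_comm hzZ.2 hb.1
  have h4 : (n * d * n⁻¹) * b = b * (n * d * n⁻¹) := by
    rw [e]
    calc x * z * b = x * (z * b) := by group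
      _ = x * (b * z) := by rw [h3]
      _ = (x * b) * z := by group
      _ = (b * x) * z := by rw [h2]
      _ = b * (x * z) := by group
  calc d * (n⁻¹ * b * n) = n⁻¹ * ((n * d * n⁻¹) * b) * n := by group
    _ = n⁻¹ * (b * (n * d * n⁻¹)) * n := by rw [h4]
    _ = n⁻¹ * b * n * d := by group

theorem case_one_normalizer (h : SplitData S₁ S₂ H₁ H₂ P) (hDP : D ≤ P) (hS : S₂ ≤ D) {n : G}
    (hn : n ∈ normalizer (D : Set G))
    (h1 : ∀ y ∈ S₂, ∃ x ∈ S₁, x * y ∈ S₂.map (MulAut.conj n).toMonoidHom) :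
    n ∈ normalizer (B2 S₁ D : Set G) := by
  have h2 : n⁻¹ ∈ normalizer (B2 S₁ D : Set G) := by
    rw [mem_normalizer_iff_map_conj]
    apply map_conj_le_of_le_normalizer
    rintro _ ⟨b, hb, rfl⟩
    have := case_one_B2 h hDP hS hn h1 hb
    simpa using this
  simpa using inv_mem h2

/-- for `D < P` there is no swap -/
theorem normalizer_le_B2 (h : SplitData S₁ S₂ H₁ H₂ P) (hDP : D < P) (hS : S₂ ≤ D) :
    normalizer (D : Set G) ≤ normalizer (B2 S₁ D : Set G) := by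
  intro n hn
  rcases dich h hDP.le hS hn with h1 | h1
  · exact case_one_normalizer h hDP.le hS hn h1
  · exfalso
    have hlt : D ⊓ S₁ < S₁ := by
      refine lt_of_le_of_ne inf_le_right fun he => ?_
      have h2 : S₁ ≤ D := by rw [← he]; exact inf_le_left
      apply hDP.not_ge
      rw [← h.prod.2.2.2.2]
      exact sup_le h2 hS
    have h3 : Nat.card ↥(D ⊓ S₁ : Subgroup G) < Nat.card S₁ := Set.Finite.card_lt_card (Set.toFinite _) hlt
    have h4 : Nat.card S₂ ≤ Nat.card ↥((D ⊓ S₁).map (MulAut.conj n).toMonoidHom : Subgroup G) := by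
      choose! f hf hf' using h1
      apply Nat.card_le_card_of_injective
        (fun y : S₂ => (⟨f y * y, hf' y y.2⟩ : ↥((D ⊓ S₁).map (MulAut.conj n).toMonoidHom : Subgroup G)))
      intro y y' hyy
      have h5 := congrArg Subtype.val hyy
      exact Subtype.ext (mul_inj h.prod (hf y y.2) (hf y' y'.2) y.2 y'.2 h5).2
    rw [card_map_conj] at h4
    have := h.card
    omega

end Local

/-! ### The normalizer of `P` -/

section Base

variable {S₁ S₂ H₁ H₂ P : Subgroup G}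

theorem inf_S1 (h : SplitData S₁ S₂ H₁ H₂ P) : P ⊓ S₁ = S₁ := inf_eq_right.2 h.prod.1

theorem mem_B2_P (h : SplitData S₁ S₂ H₁ H₂ P) {x : G} :
    x ∈ B2 S₁ P ↔ x ∈ P ∧ ∀ s ∈ S₁, x * s = s * x := by
  rw [B2, inf_S1 h]
  constructor
  · rintro ⟨hx, hx'⟩
    exact ⟨hx, fun s hs => mem_centralizer_comm hx' hs⟩
  · rintro ⟨hx, hx'⟩
    exact ⟨hx, mem_centralizer_iff.2 fun s hs => (hx' s hs).symm⟩

/-- `C_P(C_P(S₁)) ≤ C_P(S₂)` -/
theorem comm_B2_B2 (h : SplitData S₁ S₂ H₁ H₂ P) {x : G} (hx : x ∈ P)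
    (hx' : ∀ b ∈ B2 S₁ P, x * b = b * x) : x ∈ B2 S₂ P :=
  (mem_B2_P h.symm).2 ⟨hx, fun s hs => hx' s (S2_le_B2 h h.prod.2.1 hs)⟩

theorem B2_comm_B2 (h : SplitData S₁ S₂ H₁ H₂ P) {x y : G} (hx : x ∈ B2 S₁ P) (hy : y ∈ B2 S₂ P) :
    x * y = y * x := by
  obtain ⟨a, ha, b, hb, haZ, rfl⟩ := exists_B2 h le_rfl h.prod.2.1 hx
  have h1 := (mem_B2_P h.symm).1 hy
  have h2 := h1.2 b hb
  have h3 := mem_centralizer_comm haZ.2 h1.1
  calc a * b * y = a * (b * y) := by group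
    _ = a * (y * b) := by rw [h2]
    _ = (a * y) * b := by group
    _ = (y * a) * b := by rw [h3]
    _ = y * (a * b) := by group

variable [Finite G]

theorem base_B2 (h : SplitData S₁ S₂ H₁ H₂ P)
    (hSyl : ¬ 2 ∣ P.relIndex (normalizer (P : Set G))) :
    normalizer (P : Set G) ≤ normalizer (B2 S₁ P : Set G) := by
  intro n hn
  have hc := h.prod.2.2.1
  rcases dich h le_rfl h.prod.2.1 hn with h1 | h1
  · exact case_one_normalizer h le_rfl h.prod.2.1 hn h1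
  rw [inf_S1 h] at h1
  -- `S₂ ^ n ≤ C_P(S₂)`
  have hT2 : ∀ s ∈ S₂, n * s * n⁻¹ ∈ B2 S₂ P := by
    intro s hs
    have hP : n * s * n⁻¹ ∈ P := conj_mem le_rfl hn (h.prod.2.1 hs)
    refine (mem_B2_P h.symm).2 ⟨hP, fun y hy => ?_⟩
    obtain ⟨x, hx, z, hz, e⟩ := exists_mul h.prod hP
    obtain ⟨t, ht, ⟨a, ha, e₂⟩⟩ := h1 y hy
    change n * a * n⁻¹ = t * y at e₂
    have hab : s * a = a * s := (hc a ha s hs).symm
    have h1 : (x * z) * (t * y) = (t * y) * (x * z) := by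
      rw [← e, ← e₂]
      calc n * s * n⁻¹ * (n * a * n⁻¹) = n * (s * a) * n⁻¹ := by group
        _ = n * (a * s) * n⁻¹ := by rw [hab]
        _ = n * a * n⁻¹ * (n * s * n⁻¹) := by group
    have h2 : (x * t) * (z * y) = (t * x) * (y * z) := by
      calc (x * t) * (z * y) = x * (t * z) * y := by group
        _ = x * (z * t) * y := by rw [hc t ht z hz]
        _ = (x * z) * (t * y) := by group
        _ = (t * y) * (x * z) := h1
        _ = t * (y * x) * z := by group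
        _ = t * (x * y) * z := by rw [hc x hx y hy]
        _ = (t * x) * (y * z) := by group
    have h3 := (mul_inj h.prod (mul_mem hx ht) (mul_mem ht hx) (mul_mem hz hy) (mul_mem hy hz) h2).2
    rw [e]
    calc x * z * y = x * (z * y) := by group
      _ = x * (y * z) := by rw [h3]
      _ = (x * y) * z := by group
      _ = (y * x) * z := by rw [hc x hx y hy]
      _ = y * (x * z) := by group
  rcases dich h.symm le_rfl h.prod.1 hn with h2 | h2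
  · -- then `S₂` is abelian
    have h3 := case_one_normalizer h.symm le_rfl h.prod.1 hn h2
    have hab : ∀ y ∈ S₂, ∀ s ∈ S₂, y * s = s * y := by
      intro y hy s hs
      obtain ⟨x, hx, ⟨a, ha, e⟩⟩ := h1 y hy
      change n * a * n⁻¹ = x * y at e
      have h4 : x * y ∈ B2 S₂ P := by
        rw [← e]
        exact (mem_normalizer_iff.1 h3 a).1 (S2_le_B2 h.symm h.prod.1 ha)
      have h5 := ((mem_B2_P h.symm).1 h4).2 s hs
      have h6 : x * (y * s) = x * (s * y) := by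
        calc x * (y * s) = x * y * s := by group
          _ = s * (x * y) := h5
          _ = (s * x) * y := by group
          _ = (x * s) * y := by rw [hc x hx s hs]
          _ = x * (s * y) := by group
      exact mul_left_cancel h6
    have hS2 : S₂ = ⊥ := by
      rw [eq_bot_iff]
      intro z hz
      have h4 := h.zd₂ z hz (hab z hz)
      have h5 : ⁅S₂, S₂⁆ ≤ (⊥ : Subgroup G) := by
        rw [commutator_le]
        intro a ha b hb
        rw [mem_bot, commutatorElement_def, hab a ha b hb, mul_inv_cancel_right, mul_inv_cancel]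
      exact h5 h4
    have hS1 : S₁ = ⊥ := by
      apply Subgroup.card_eq_one.1
      rw [h.card, hS2, Subgroup.card_bot]
    have hPb : P = ⊥ := by rw [← h.prod.2.2.2.2, hS1, hS2, sup_bot_eq]
    have hB : B2 S₁ P = ⊥ := by
      rw [eq_bot_iff]
      exact fun x hx => hPb.le hx.1
    rw [hB, mem_normalizer_iff_map_conj, Subgroup.map_bot]
  · -- swap
    rw [inf_S1 h.symm] at h2
    have hT1 : ∀ s ∈ S₁, n * s * n⁻¹ ∈ B2 S₁ P := by
      intro s hs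
      have hP : n * s * n⁻¹ ∈ P := conj_mem le_rfl hn (h.prod.1 hs)
      refine (mem_B2_P h).2 ⟨hP, fun y hy => ?_⟩
      obtain ⟨x, hx, z, hz, e⟩ := exists_mul h.prod hP
      obtain ⟨t, ht, ⟨a, ha, e₂⟩⟩ := h2 y hy
      change n * a * n⁻¹ = t * y at e₂
      have hab : s * a = a * s := hc s hs a ha
      have h1 : (x * z) * (t * y) = (t * y) * (x * z) := by
        rw [← e, ← e₂]
        calc n * s * n⁻¹ * (n * a * n⁻¹) = n * (s * a) * n⁻¹ := by group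
          _ = n * (a * s) * n⁻¹ := by rw [hab]
          _ = n * a * n⁻¹ * (n * s * n⁻¹) := by group
      have e3 : z * y = y * z := (hc y hy z hz).symm
      have e4 : y * t = t * y := hc y hy t ht
      have e5 : x * t = t * x := hc x hx t ht
      have h2 : (x * y) * (z * t) = (y * x) * (t * z) := by
        calc (x * y) * (z * t) = x * (y * z) * t := by group
          _ = x * (z * y) * t := by rw [e3]
          _ = (x * z) * (y * t) := by group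
          _ = (x * z) * (t * y) := by rw [e4]
          _ = (t * y) * (x * z) := h1
          _ = (y * t) * (x * z) := by rw [e4]
          _ = y * (t * x) * z := by group
          _ = y * (x * t) * z := by rw [e5]
          _ = (y * x) * (t * z) := by group
      have h3 := (mul_inj h.prod (mul_mem hx hy) (mul_mem hy hx) (mul_mem hz ht) (mul_mem ht hz) h2).1
      rw [e]
      calc x * z * y = x * (z * y) := by group
        _ = x * (y * z) := by rw [e3]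
        _ = (x * y) * z := by group
        _ = (y * x) * z := by rw [h3]
        _ = y * (x * z) := by group
    -- `B2 S₂ P ≤ n (B2 S₁ P) n⁻¹` and conversely
    have hi1 : ∀ x ∈ B2 S₂ P, n⁻¹ * x * n ∈ B2 S₁ P := by
      intro x hx
      refine (mem_B2_P h).2 ⟨conj_mem' le_rfl hn hx.1, fun s hs => ?_⟩
      have h3 := B2_comm_B2 h (hT1 s hs) hx
      calc n⁻¹ * x * n * s = n⁻¹ * (x * (n * s * n⁻¹)) * n := by group
        _ = n⁻¹ * ((n * s * n⁻¹) * x) * n := by rw [h3]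
        _ = s * (n⁻¹ * x * n) := by group
    have hi2 : ∀ x ∈ B2 S₁ P, n⁻¹ * x * n ∈ B2 S₂ P := by
      intro x hx
      refine (mem_B2_P h.symm).2 ⟨conj_mem' le_rfl hn hx.1, fun s hs => ?_⟩
      have h3 := B2_comm_B2 h hx (hT2 s hs)
      calc n⁻¹ * x * n * s = n⁻¹ * (x * (n * s * n⁻¹)) * n := by group
        _ = n⁻¹ * ((n * s * n⁻¹) * x) * n := by rw [h3]
        _ = s * (n⁻¹ * x * n) := by group
    have hsq : n ^ 2 ∈ normalizer (B2 S₁ P : Set G) := by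
      have h3 : (n ^ 2)⁻¹ ∈ normalizer (B2 S₁ P : Set G) := by
        rw [mem_normalizer_iff_map_conj]
        apply map_conj_le_of_le_normalizer
        rintro _ ⟨b, hb, rfl⟩
        have h4 := hi1 _ (hi2 b hb)
        change (n ^ 2)⁻¹ * b * (n ^ 2)⁻¹⁻¹ ∈ _
        have e : (n ^ 2)⁻¹ * b * (n ^ 2)⁻¹⁻¹ = n⁻¹ * (n⁻¹ * b * n) * n := by
          rw [pow_two]; simp only [mul_inv_rev, inv_inv, mul_assoc]
        rw [e]; exact h4
      simpa using inv_mem h3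
    have hPN : P ≤ normalizer (B2 S₁ P : Set G) := by
      intro x hx
      rw [mem_normalizer_iff_map_conj]
      apply map_conj_le_of_le_normalizer
      rintro _ ⟨b, hb, rfl⟩
      have h4 := (mem_B2_P h).1 hb
      refine (mem_B2_P h).2 ⟨mul_mem (mul_mem hx h4.1) (inv_mem hx), fun s hs => ?_⟩
      have h5 : x⁻¹ * s * x ∈ S₁ := by
        obtain ⟨a, ha, c, hcc, rfl⟩ := exists_mul h.prod hx
        have e : (a * c)⁻¹ * s * (a * c) = a⁻¹ * s * a := by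
          have e1 : a⁻¹ * s * a ∈ S₁ := mul_mem (mul_mem (inv_mem ha) hs) ha
          calc (a * c)⁻¹ * s * (a * c) = c⁻¹ * ((a⁻¹ * s * a) * c) := by group
            _ = c⁻¹ * (c * (a⁻¹ * s * a)) := by rw [hc _ e1 c hcc]
            _ = a⁻¹ * s * a := by group
        rw [e]
        exact mul_mem (mul_mem (inv_mem ha) hs) ha
      have h6 := h4.2 _ h5
      change x * b * x⁻¹ * s = s * (x * b * x⁻¹)
      calc x * b * x⁻¹ * s = x * (b * (x⁻¹ * s * x)) * x⁻¹ := by group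
        _ = x * ((x⁻¹ * s * x) * b) * x⁻¹ := by rw [h6]
        _ = s * (x * b * x⁻¹) := by group
    have hodd : n ^ (P.relIndex (normalizer (P : Set G))) ∈ P := by
      have hnor : (P.subgroupOf (normalizer (P : Set G))).Normal := inferInstance
      have h3 := Subgroup.pow_index_mem (P.subgroupOf (normalizer (P : Set G))) ⟨n, hn⟩
      rw [mem_subgroupOf] at h3
      exact h3
    refine mem_of_pow_mem ?_ hsq (hPN hodd)
    rw [Nat.coprime_two_left]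
    rwa [← Nat.not_even_iff_odd, even_iff_two_dvd]

/-- `N_G(P)` normalizes `S₁`. -/
theorem base_one (h : SplitData S₁ S₂ H₁ H₂ P) (hP : IsPGroup 2 P)
    (hSyl : ¬ 2 ∣ P.relIndex (normalizer (P : Set G))) {n : G} (hn : n ∈ normalizer (P : Set G)) {s : G}
    (hs : s ∈ S₁) : n * s * n⁻¹ ∈ S₁ := by
  set N : Subgroup G := normalizer (P : Set G) with hN
  have hc := h.prod.2.2.1
  have hPN : P ≤ N := le_normalizer
  have hB1N : N ≤ normalizer (B2 S₂ P : Set G) := base_B2 h.symm hSyl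
  have hZN : N ≤ normalizer (ZD P : Set G) := le_normalizer_ZD
  have hSyl' : ¬ 2 ∣ (P ⊓ N).relIndex N := by
    rw [inf_eq_left.2 hPN]; exact hSyl
  set N1 := CM N (B2 S₂ P) (ZD P) hZN with hN1
  have hN1N : N ≤ normalizer (N1 : Set G) := le_normalizer_CM hB1N
  -- `N1` normalizes `S₁`
  have hN1S : ∀ w ∈ N1, ∀ s ∈ S₁, w * s * w⁻¹ ∈ S₁ := fun w hw =>
    (local_main h.symm hP le_rfl h.prod.1 hB1N hSyl' hw).1
  have hZ1 : Z2 S₁ = ⁅B2 S₂ P, B2 S₂ P⁆ ⊓ ZD P := Z2_eq h.symm le_rfl h.prod.1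
  have hZ1N : N ≤ normalizer (Z2 S₁ : Set G) := by
    rw [le_normalizer_iff]
    intro g hg z hz
    rw [hZ1] at hz ⊢
    refine ⟨?_, conj_mem hZN hg hz.2⟩
    have h1 : N ≤ normalizer ((⁅B2 S₂ P, B2 S₂ P⁆ : Subgroup G) : Set G) := by
      intro g hg
      rw [mem_normalizer_iff_map_conj, map_commutator, mem_normalizer_iff_map_conj.1 (hB1N hg)]
    exact conj_mem h1 hg hz.1
  -- `H₂ ≤ N`
  have hHN : H₂ ≤ N := by
    intro g hg
    rw [hN, mem_normalizer_iff_map_conj]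
    apply map_conj_le_of_le_normalizer
    rintro _ ⟨d, hd, rfl⟩
    obtain ⟨a, ha, b, hb, rfl⟩ := exists_mul h.prod hd
    have e : g * (a * b) * g⁻¹ = a * (g * b * g⁻¹) := by
      rw [← mul_assoc, h.ct₂ g hg a ha]; group
    change g * (a * b) * g⁻¹ ∈ P
    rw [e]
    exact mul_mem (h.prod.1 ha) (h.prod.2.1 (h.nm₂ g hg b hb))
  have hZ2P : ∀ z ∈ Z2 S₂, z ∈ ZD P := fun z hz =>
    mem_ZD_of_mem₂ h le_rfl h.prod.2.1 (mem_Z2.1 hz).1 (mem_Z2.1 hz).2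
  have exists_B1 : ∀ x ∈ B2 S₂ P, ∃ a ∈ S₁, ∃ b ∈ Z2 S₂, x = a * b := by
    intro x hx
    obtain ⟨b, hb, a, ha, hbZ, rfl⟩ := exists_B2 h.symm le_rfl h.prod.1 hx
    refine ⟨a, ha, b, mem_Z2.2 ⟨hb.2, fun s hs => mem_centralizer_comm hbZ.2 (h.prod.2.1 hs)⟩, ?_⟩
    exact (hc a ha b hb.2).symm
  have hH2N1 : H₂ ≤ N1 := by
    intro g hg
    refine ⟨hHN hg, fun x hx => ?_⟩
    obtain ⟨a, ha, b, hb, rfl⟩ := exists_B1 x hx
    have e : g * (a * b) * g⁻¹ * (a * b)⁻¹ = a * ((g * b * g⁻¹) * b⁻¹) * a⁻¹ := by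
      rw [← mul_assoc, h.ct₂ g hg a ha]; group
    rw [e]
    exact conj_mem hZN (hPN (h.prod.1 ha)) (mul_mem (conj_mem hZN (hHN hg) (hZ2P b hb)) (inv_mem (hZ2P b hb)))
  have hxB : n * s * n⁻¹ ∈ B2 S₂ P := conj_mem hB1N hn (S2_le_B2 h.symm h.prod.1 hs)
  obtain ⟨s', hs', z, hz, e⟩ := exists_B1 _ hxB
  have hz1 : z = 1 := by
    apply h.fix₂ z (mem_Z2.1 hz).1 (mem_Z2.1 hz).2
    intro g hg
    set k := n⁻¹ * g * n with hk
    have hkN1 : k ∈ N1 := conj_mem' hN1N hn (hH2N1 hg)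
    -- `[k, s] ∈ Z(S₁)`
    have h1 : k * s * k⁻¹ * s⁻¹ ∈ Z2 S₁ := by
      have h2 : k * s * k⁻¹ * s⁻¹ ∈ ZD P := hkN1.2 s (S2_le_B2 h.symm h.prod.1 hs)
      have h3 : k * s * k⁻¹ * s⁻¹ ∈ S₁ := mul_mem (hN1S k hkN1 s hs) (inv_mem hs)
      exact mem_Z2.2 ⟨h3, fun t ht => mem_centralizer_comm h2.2 (h.prod.1 ht)⟩
    have h2 : n * (k * s * k⁻¹ * s⁻¹) * n⁻¹ ∈ Z2 S₁ := conj_mem hZ1N hn h1
    have e2 : n * (k * s * k⁻¹ * s⁻¹) * n⁻¹ = g * (s' * z) * g⁻¹ * (s' * z)⁻¹ := by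
      rw [← e, hk]; group
    have e3 : g * (s' * z) * g⁻¹ * (s' * z)⁻¹ = s' * ((g * z * g⁻¹) * z⁻¹) * s'⁻¹ := by
      rw [← mul_assoc, h.ct₂ g hg s' hs']; group
    have h4 : (g * z * g⁻¹) * z⁻¹ ∈ S₂ :=
      mul_mem (h.nm₂ g hg z (mem_Z2.1 hz).1) (inv_mem (mem_Z2.1 hz).1)
    have e4 : s' * ((g * z * g⁻¹) * z⁻¹) * s'⁻¹ = (g * z * g⁻¹) * z⁻¹ := by
      rw [hc s' hs' _ h4, mul_inv_cancel_right]
    rw [e2, e3, e4] at h2
    have h5 : (g * z * g⁻¹) * z⁻¹ ∈ S₁ ⊓ S₂ := mem_inf.2 ⟨(mem_Z2.1 h2).1, h4⟩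
    rw [h.prod.2.2.2.1, mem_bot] at h5
    have := congrArg (fun t => t * z * g) h5
    simpa [mul_assoc] using this
  rw [e, hz1, mul_one]
  exact hs'

end Base

/-! ### Strongly closed -/

section Main

variable [Finite G] {S₁ S₂ H₁ H₂ : Subgroup G} {P : Sylow 2 G}

/-- `N_G(X)` preserves `X ∩ S₁` and `X ∩ S₂` -/
def Good (S₁ S₂ X : Subgroup G) : Prop :=
  ∀ g ∈ normalizer (X : Set G), (∀ a ∈ X ⊓ S₁, g * a * g⁻¹ ∈ S₁) ∧ ∀ a ∈ X ⊓ S₂, g * a * g⁻¹ ∈ S₂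

omit [Finite G] in
theorem Good.symm {X : Subgroup G} (h : Good S₁ S₂ X) : Good S₂ S₁ X := fun g hg => ⟨(h g hg).2, (h g hg).1⟩

theorem gen_good {Q : Subgroup G} {F : Subgroup G → Prop} {A : Subgroup G} {g : G} (h : Gen Q F A g) :
    (∀ X, F X → Nat.card A ≤ Nat.card X → Good S₁ S₂ X) →
    (∀ a ∈ A ⊓ S₁, g * a * g⁻¹ ∈ S₁) ∧ ∀ a ∈ A ⊓ S₂, g * a * g⁻¹ ∈ S₂ := by
  induction h with
  | cent _ hc =>
    intro _
    constructor
    · rintro a ⟨ha, ha'⟩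
      rw [conj_eq_of_mem_centralizer hc ha]; exact ha'
    · rintro a ⟨ha, ha'⟩
      rw [conj_eq_of_mem_centralizer hc ha]; exact ha'
  | base _ hF hAX hg =>
    intro hX
    have h1 := hX _ hF (Nat.card_le_card_of_injective _ (Subgroup.inclusion_injective hAX)) _ hg
    exact ⟨fun a ha => h1.1 a ⟨hAX ha.1, ha.2⟩, fun a ha => h1.2 a ⟨hAX ha.1, ha.2⟩⟩
  | @mul A g k _ _ ih1 ih2 =>
    intro hX
    have h1 := ih1 hX
    have h2 := ih2 (fun X hF hc => hX X hF (by rwa [card_map_conj] at hc))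
    constructor
    · rintro a ⟨ha, ha'⟩
      have h3 := h2.1 _ ⟨⟨a, ha, rfl⟩, h1.1 a ⟨ha, ha'⟩⟩
      have e : k * g * a * (k * g)⁻¹ = k * (g * a * g⁻¹) * k⁻¹ := by group
      rw [e]; exact h3
    · rintro a ⟨ha, ha'⟩
      have h3 := h2.2 _ ⟨⟨a, ha, rfl⟩, h1.2 a ⟨ha, ha'⟩⟩
      have e : k * g * a * (k * g)⁻¹ = k * (g * a * g⁻¹) * k⁻¹ := by group
      rw [e]; exact h3

omit [Finite G] in
theorem relIndex_dvd_index {A B : Subgroup G} (h : A ≤ B) : A.relIndex B ∣ A.index :=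
  ⟨B.index, (relIndex_mul_index h).symm⟩

/-- the inductive step: `D = D₁ × S₂` -/
theorem good_of_le {P : Sylow 2 G} (h : SplitData S₁ S₂ H₁ H₂ (P : Subgroup G)) {D : Subgroup G}
    (hD : Cfsg.Agent.Lib.EssDefs.Ess 2 (P : Subgroup G) D) (hS : S₂ ≤ D)
    (ih : ∀ X : Subgroup G, (X = P ∨ Cfsg.Agent.Lib.EssDefs.Ess 2 (P : Subgroup G) X) → Nat.card D < Nat.card X → Good S₁ S₂ X) :
    Good S₁ S₂ D := by
  have : Fact (Nat.Prime 2) := ⟨Nat.prime_two⟩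
  have hlt : D < (P : Subgroup G) := by obtain ⟨H, hH⟩ := hD; exact hH.lt
  have hSyl : ¬ 2 ∣ ((P : Subgroup G) ⊓ normalizer (D : Set G)).relIndex (normalizer (D : Set G)) := by
    obtain ⟨H, hH⟩ := hD; exact hH.not_dvd
  have hP : IsPGroup 2 (P : Subgroup G) := P.isPGroup'
  have hc := h.prod.2.2.1
  set N : Subgroup G := normalizer (D : Set G) with hN
  have hDN : D ≤ N := le_normalizer
  have hB : N ≤ normalizer (B2 S₁ D : Set G) := normalizer_le_B2 h hlt hS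
  have hZN : N ≤ normalizer (ZD D : Set G) := le_normalizer_ZD
  set N2 := CM N (B2 S₁ D) (ZD D) hZN with hN2
  have hN2N : N ≤ normalizer (N2 : Set G) := le_normalizer_CM hB
  have hN2le : N2 ≤ N := fun w (hw : w ∈ N2) => hw.1
  have hloc : ∀ w ∈ N2, (∀ s ∈ S₂, w * s * w⁻¹ ∈ S₂) ∧ ∀ d ∈ D ⊓ S₁, w * d * w⁻¹ ∈ D ⊓ S₁ := fun w hw =>
    local_main h hP hlt.le hS hB hSyl hw
  set R : Subgroup G := (P : Subgroup G) ⊓ N with hR
  have hRp : IsPGroup 2 R := hP.to_le inf_le_left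
  have hDR : D ≤ R := le_inf hlt.le hDN
  -- `R = (R ∩ N2) D`
  have hRdec : ∀ r ∈ R, ∃ a ∈ R ⊓ N2, ∃ b ∈ S₂, r = a * b := by
    intro r hr
    obtain ⟨a, ha, b, hb, rfl⟩ := exists_mul h.prod hr.1
    have haR : a ∈ R := (R.mul_mem_cancel_right (hDR (hS hb))).1 hr
    refine ⟨a, ⟨haR, haR.2, fun x hx => ?_⟩, b, hb, rfl⟩
    obtain ⟨c, hcD, d, hd, hcZ, rfl⟩ := exists_B2 h hlt.le hS hx
    have e := comm_mul hc ha (one_mem S₂) hcD.2 hd
    simp only [mul_one, one_mul, mul_inv_cancel, inv_one] at e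
    rw [e]
    exact mul_mem (conj_mem hZN haR.2 hcZ) (inv_mem hcZ)
  -- Frattini
  have hfr : ∀ n ∈ N, ∃ m ∈ N2, m * n ∈ normalizer (R : Set G) := by
    intro n hn
    have hsylT : ¬ 2 ∣ (R ⊓ N2).relIndex N2 := by
      have h1 : (N2.subgroupOf N).Normal := (normal_subgroupOf_iff_le_normalizer hN2le).2 hN2N
      -- `(R ⊓ N2).relIndex N2 ∣ R.relIndex N`
      intro h2
      obtain ⟨Q, hRQ, hQN2, hQ, hQi⟩ := exists_sylow_in (p := 2) (inf_le_right : R ⊓ N2 ≤ N2) (hRp.to_le inf_le_left)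
      have h3 : Q = R ⊓ N2 := by
        obtain ⟨g, hg, hle⟩ := exists_conj_le_in (p := 2) hRp hSyl (hQN2.trans hN2le) hQ
        have h4 : Q.map (MulAut.conj g).toMonoidHom ≤ R ⊓ N2 := by
          refine le_inf hle ?_
          rintro _ ⟨q, hq, rfl⟩
          exact conj_mem hN2N hg (hQN2 hq)
        apply (Subgroup.eq_of_le_of_card_ge hRQ _).symm
        have h5 := Nat.card_le_card_of_injective _ (Subgroup.inclusion_injective h4)
        rwa [card_map_conj] at h5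
      rw [h3] at hQi
      exact hQi h2
    have hTle : (R ⊓ N2).map (MulAut.conj n).toMonoidHom ≤ N2 := by
      rintro _ ⟨q, hq, rfl⟩
      exact conj_mem hN2N hn hq.2
    obtain ⟨m, hm, hle⟩ := exists_conj_le_in (p := 2) (hRp.to_le (inf_le_left : R ⊓ N2 ≤ R)) hsylT hTle
      ((hRp.to_le (inf_le_left : R ⊓ N2 ≤ R)).map _)
    refine ⟨m, hm, ?_⟩
    rw [map_conj_map_conj] at hle
    rw [mem_normalizer_iff_map_conj]
    apply map_conj_le_of_le_normalizer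
    rintro _ ⟨r, hr, rfl⟩
    obtain ⟨a, ha, b, hb, rfl⟩ := hRdec r hr
    rw [map_mul]
    refine mul_mem (hle ⟨a, ha, rfl⟩).1 (hDR ?_)
    exact conj_mem le_rfl (mul_mem (hN2le hm) hn) (hS hb)
  -- elements normalizing `R`
  have hRgood : ∀ g ∈ normalizer (R : Set G), (∀ a ∈ R ⊓ S₁, g * a * g⁻¹ ∈ S₁) ∧ ∀ a ∈ R ⊓ S₂, g * a * g⁻¹ ∈ S₂ := by
    intro g hg
    have hRlt : Nat.card D < Nat.card R := by
      apply Set.Finite.card_lt_card (Set.toFinite _)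
      exact lt_inf_normalizer hP hlt
    have hgen := EssBridge.gen_of_conj P (fun X => X = P ∨ Cfsg.Agent.Lib.EssDefs.Ess 2 (P : Subgroup G) X) (Or.inl rfl)
      (fun X hX => Or.inr hX) (inf_le_left : R ≤ P) (g := g)
      (by rw [mem_normalizer_iff_map_conj.1 hg]; exact inf_le_left)
    exact gen_good hgen fun X hX hcard => ih X hX (lt_of_lt_of_le hRlt hcard)
  intro n hn
  obtain ⟨m, hm, hmn⟩ := hfr n hn
  have hg := hRgood _ hmn
  have hmi := hloc _ (inv_mem hm)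
  constructor
  · rintro a ha
    have h1 : m * n * a * (m * n)⁻¹ ∈ D ⊓ S₁ :=
      ⟨conj_mem le_rfl (mul_mem (hN2le hm) hn) ha.1, hg.1 a ⟨hDR ha.1, ha.2⟩⟩
    have h2 := (hmi.2 _ h1).2
    have e : m⁻¹ * (m * n * a * (m * n)⁻¹) * m⁻¹⁻¹ = n * a * n⁻¹ := by
      simp only [mul_inv_rev, inv_inv, mul_assoc, inv_mul_cancel_left, inv_mul_cancel, mul_one]
    rwa [e] at h2
  · rintro a ha
    have h1 : m * n * a * (m * n)⁻¹ ∈ S₂ := hg.2 a ⟨hDR ha.1, ha.2⟩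
    have h2 := hmi.1 _ h1
    have e : m⁻¹ * (m * n * a * (m * n)⁻¹) * m⁻¹⁻¹ = n * a * n⁻¹ := by
      simp only [mul_inv_rev, inv_inv, mul_assoc, inv_mul_cancel_left, inv_mul_cancel, mul_one]
    rwa [e] at h2

/-- `N_G(X)` preserves `X ∩ S₁` and `X ∩ S₂` for `X = P` and `X` essential. -/
theorem good {P : Sylow 2 G} (h : SplitData S₁ S₂ H₁ H₂ (P : Subgroup G)) :
    ∀ X : Subgroup G, (X = P ∨ Cfsg.Agent.Lib.EssDefs.Ess 2 (P : Subgroup G) X) → Good S₁ S₂ X := by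
  have hSyl : ¬ 2 ∣ (P : Subgroup G).relIndex (normalizer ((P : Subgroup G) : Set G)) := by
    have : Fact (Nat.Prime 2) := ⟨Nat.prime_two⟩
    intro h1
    exact P.not_dvd_index (h1.trans (relIndex_dvd_index le_normalizer))
  have key : ∀ k : ℕ, ∀ X : Subgroup G, (X = P ∨ Cfsg.Agent.Lib.EssDefs.Ess 2 (P : Subgroup G) X) →
      Nat.card (P : Subgroup G) ≤ Nat.card X + k → Good S₁ S₂ X := by
    intro k
    induction k using Nat.strong_induction_on with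
    | _ k ih =>
      intro X hX hk
      rcases hX with rfl | hX
      · intro g hg
        exact ⟨fun a ha => base_one h P.isPGroup' hSyl hg ha.2, fun a ha => base_one h.symm P.isPGroup' hSyl hg ha.2⟩
      · have ih' : ∀ Y : Subgroup G, (Y = P ∨ Cfsg.Agent.Lib.EssDefs.Ess 2 (P : Subgroup G) Y) → Nat.card X < Nat.card Y →
            Good S₁ S₂ Y := by
          intro Y hY hXY
          by_cases hk0 : k = 0
          · exfalso
            have hYP : Y ≤ P := by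
              rcases hY with rfl | ⟨H, hH⟩
              · exact le_rfl
              · exact hH.lt.le
            have := Nat.card_le_card_of_injective _ (Subgroup.inclusion_injective hYP)
            omega
          · exact ih (k - 1) (by omega) Y hY (by omega)
        rcases (ess_prod h.prod hX).1 with h1 | h1
        · exact (good_of_le h.symm hX h1 (fun Y hY hc => (ih' Y hY hc).symm)).symm
        · exact good_of_le h hX h1 ih'
  intro X hX
  exact key (Nat.card (P : Subgroup G)) X hX (Nat.le_add_left _ _)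

/-- **LEMMA SPLIT**: `S₁` is strongly closed in `P`. -/
theorem strongly_closed {P : Sylow 2 G} (h : SplitData S₁ S₂ H₁ H₂ (P : Subgroup G)) :
    Cfsg.IsStronglyClosed S₁ (P : Subgroup G) := by
  have : Fact (Nat.Prime 2) := ⟨Nat.prime_two⟩
  refine ⟨h.prod.1, fun x hx g hg => ?_⟩
  have hA : Subgroup.zpowers x ≤ P := by rw [zpowers_le]; exact h.prod.1 hx
  have hgen := EssBridge.gen_of_conj P (fun X => X = P ∨ Cfsg.Agent.Lib.EssDefs.Ess 2 (P : Subgroup G) X) (Or.inl rfl)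
    (fun X hX => Or.inr hX) hA (g := g) (by
      rw [MonoidHom.map_zpowers, zpowers_le]; exact hg)
  exact (gen_good hgen fun X hX _ => good h X hX).1 x ⟨mem_zpowers x, hx⟩

end Main

end Cfsg.Agent.StdRank2.Split
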