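import Cfsg.Agent.StdSpFour.Lift
import Cfsg.Agent.SwapEnd.Diag
import Cfsg.Agent.StdEven.Perf

/-!
# S1778, split case: the lift of the factor `M_X ≤ X = N_G(O)/O` to `G`

`Fac h MX`: `MX ≤ X` is perfect, generated by 2-elements, commutes with its `t`-conjugate, and `im A` is the group of
the elements `x x^t`, `x ∈ MX`.  `Fac.M`: the group generated by the 2-elements of `C_G(O)` over `MX`; `Fac.swap`,
`Fac.dia`: `SwapEnd.Swap M t` and `SwapEnd.Swap.Dia`.  No hypothesis on the type of `A`.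
-/

set_option autoImplicit false
set_option linter.unusedSectionVars false

namespace Cfsg.Agent.StdRank2.SplitLift

open Cfsg Subgroup Cfsg.Agent.StdEven Cfsg.Agent.StdEven.CoreQuot Cfsg.Agent.StdSpFour.Lift
  Cfsg.Agent.SwapEnd Cfsg.Agent.Schreier.Basic Cfsg.Agent.SignalizersComponents
open scoped commutatorElement

variable {G : Type*} [Group G] [Finite G] {A : Subgroup G} {t : G} {T : Subgroup G}

/-- the factor in `X` -/
structure Fac (h : Hyp A t T) (MX : Subgroup (XQ A t)) : Prop where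
  perf : ⁅MX, MX⁆ = MX
  two : MX ≤ closure {x | x ∈ MX ∧ ∃ k : ℕ, x ^ 2 ^ k = 1}
  comm : ∀ x ∈ MX, ∀ y ∈ MX, x * (h.tX * y * h.tX) = h.tX * y * h.tX * x
  diag : ∀ x ∈ MX, x * (h.tX * x * h.tX) ∈ im A t A
  onto : ∀ a ∈ im A t A, ∃ x ∈ MX, a = x * (h.tX * x * h.tX)

/-- the generators of `M` -/
def gens (A : Subgroup G) (t : G) (MX : Subgroup (XQ A t)) : Set G :=
  {x | Two x ∧ (∀ o ∈ core A t, o * x = x * o) ∧ ∃ hx : x ∈ NO A t, pr A t ⟨x, hx⟩ ∈ MX}

/-- the lift of `MX` -/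
def M (A : Subgroup G) (t : G) (MX : Subgroup (XQ A t)) : Subgroup G := closure (gens A t MX)

theorem mem_NO {x : G} (hx : ∀ o ∈ core A t, o * x = x * o) : x ∈ NO A t := by
  rw [mem_normalizer_iff]
  intro o
  constructor
  · intro ho
    rwa [← hx o ho, mul_inv_cancel_right]
  · intro ho
    have h1 := hx _ ho
    have h2 : o = x * o * x⁻¹ := by
      have : x * o * x⁻¹ * x = x * (x * o * x⁻¹) := h1
      have h3 : x * o = x * (x * o * x⁻¹) := by rw [← this]; group
      exact mul_left_cancel h3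
    rw [h2]; exact ho

variable {MX : Subgroup (XQ A t)}

theorem M_comm {m : G} (hm : m ∈ M A t MX) : ∀ o ∈ core A t, o * m = m * o := by
  have h1 : M A t MX ≤ centralizer (core A t : Set G) := by
    unfold M
    rw [closure_le]
    rintro x ⟨-, hx, -⟩
    exact mem_centralizer_iff.2 hx
  exact mem_centralizer_iff.1 (h1 hm)

theorem M_NO {m : G} (hm : m ∈ M A t MX) : m ∈ NO A t := mem_NO (M_comm hm)

/-- the projection -/
def pm (A : Subgroup G) (t : G) (MX : Subgroup (XQ A t)) : ↥(M A t MX) →* XQ A t :=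
  (pr A t).comp (Subgroup.inclusion fun _ hm => M_NO hm)

theorem pm_apply (m : ↥(M A t MX)) : pm A t MX m = pr A t ⟨m, M_NO m.2⟩ := rfl

theorem pm_mem (m : ↥(M A t MX)) : pm A t MX m ∈ MX := by
  have key : ∀ x : G, x ∈ closure (gens A t MX) → ∃ hx : x ∈ NO A t, pr A t ⟨x, hx⟩ ∈ MX := by
    intro x hx
    induction hx using closure_induction with
    | mem x hx => exact hx.2.2
    | one => exact ⟨one_mem _, by
        have : (⟨1, one_mem _⟩ : ↥(NO A t)) = 1 := rfl
        rw [this, map_one]; exact one_mem _⟩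
    | mul x y _ _ hx hy =>
      obtain ⟨h1, h2⟩ := hx
      obtain ⟨h3, h4⟩ := hy
      refine ⟨mul_mem h1 h3, ?_⟩
      have : (⟨x * y, mul_mem h1 h3⟩ : ↥(NO A t)) = ⟨x, h1⟩ * ⟨y, h3⟩ := rfl
      rw [this, map_mul]
      exact mul_mem h2 h4
    | inv x _ hx =>
      obtain ⟨h1, h2⟩ := hx
      refine ⟨inv_mem h1, ?_⟩
      have : (⟨x⁻¹, inv_mem h1⟩ : ↥(NO A t)) = ⟨x, h1⟩⁻¹ := rfl
      rw [this, map_inv]
      exact inv_mem h2
  obtain ⟨h1, h2⟩ := key m m.2
  exact h2

theorem mem_ker_pm {m : ↥(M A t MX)} : m ∈ (pm A t MX).ker ↔ (m : G) ∈ core A t := by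
  rw [MonoidHom.mem_ker, pm_apply, pr_eq_one]

variable {h : Hyp A t T}

/-- uniqueness of lifts -/
theorem uniq (h : Hyp A t T) {x y : G} (hx : ∀ o ∈ core A t, o * x = x * o) (hy : ∀ o ∈ core A t, o * y = y * o)
    (h2x : Two x) (h2y : Two y) (e : pr A t ⟨x, mem_NO hx⟩ = pr A t ⟨y, mem_NO hy⟩) : x = y := by
  obtain ⟨a, ha⟩ := h2x
  obtain ⟨b, hb⟩ := h2y
  exact congrArg Subtype.val (unique (pr A t) h.odd_ker (mem_C.2 hx) ⟨a, Subtype.ext ha⟩ ⟨b, Subtype.ext hb⟩ e)

/-- `t` normalises the generators -/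
theorem conj_t_comm (h : Hyp A t T) {x : G} (hx : ∀ o ∈ core A t, o * x = x * o) :
    ∀ o ∈ core A t, o * (t * x * t) = t * x * t * o := by
  intro o ho
  have h1 : o * t = t * o := h.comm_t ho
  calc o * (t * x * t) = o * t * x * t := by group
    _ = t * (o * x) * t := by rw [h1]; group
    _ = t * x * (o * t) := by rw [hx o ho]; group
    _ = t * x * t * o := by rw [h1]; group

theorem two_tt (h : Hyp A t T) {x : G} (hx : Two x) : Two (t * x * t) := by
  have h1 := hx.conj t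
  rwa [show t⁻¹ = t from inv_eq_of_mul_eq_one_left h.tt] at h1

namespace Fac

variable (f : Fac h MX)
include f

theorem le_Cb : MX ≤ Cb A t := by
  rw [← f.perf, commutator_le]
  intro x hx y hy
  have h1 : h.tX * x * h.tX * y = y * (h.tX * x * h.tX) := (f.comm y hy x hx).symm
  have h2 := Cb_comm (im_A_le h (f.diag x hx)) y
  have e : x * (h.tX * x * h.tX) * y * (x * (h.tX * x * h.tX))⁻¹ * y⁻¹ = ⁅x, y⁆ := by
    rw [commutatorElement_def]
    calc x * (h.tX * x * h.tX) * y * (x * (h.tX * x * h.tX))⁻¹ * y⁻¹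
        = x * (h.tX * x * h.tX * y) * (h.tX * x * h.tX)⁻¹ * x⁻¹ * y⁻¹ := by group
      _ = _ := by rw [h1]; group
  rwa [e] at h2

/-- lifts of 2-elements -/
theorem exists_gen {x : XQ A t} (hx : x ∈ MX) (h2 : Two x) : ∃ (g : G) (hg : g ∈ gens A t MX),
    pr A t ⟨g, hg.2.2.choose⟩ = x := by
  obtain ⟨k, hk⟩ := h2
  have hP : IsPGroup 2 (zpowers x) := by
    rintro ⟨y, n, rfl⟩
    refine ⟨k, Subtype.ext ?_⟩
    show (x ^ n) ^ 2 ^ k = 1
    rw [← zpow_natCast, ← zpow_mul, mul_comm, zpow_mul, zpow_natCast, hk, one_zpow]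
  obtain ⟨i, hi, h1, h3, h4, -, -⟩ := exists_lift_core h hP (zpowers x).subtype (fun y => by
    obtain ⟨n, hn⟩ := y.2
    rw [Subgroup.subtype_apply, ← hn]
    exact zpow_mem (f.le_Cb hx) n)
  have h5 := h1 ⟨x, mem_zpowers x⟩
  exact ⟨i ⟨x, mem_zpowers x⟩, ⟨h4 _, h3 _, hi _, by rw [h5]; exact hx⟩, h5⟩

theorem onto_pm {x : XQ A t} (hx : x ∈ MX) : ∃ m : ↥(M A t MX), pm A t MX m = x := by
  have h1 := f.two hx
  clear hx
  induction h1 using closure_induction with
  | mem x hx =>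
    obtain ⟨g, hg, e⟩ := f.exists_gen hx.1 hx.2
    exact ⟨⟨g, subset_closure hg⟩, e⟩
  | one => exact ⟨1, map_one _⟩
  | mul x y _ _ hx hy =>
    obtain ⟨a, rfl⟩ := hx
    obtain ⟨b, rfl⟩ := hy
    exact ⟨a * b, map_mul _ _ _⟩
  | inv x _ hx =>
    obtain ⟨a, rfl⟩ := hx
    exact ⟨a⁻¹, map_inv _ _⟩

theorem range_pm : (pm A t MX).range = MX := by
  apply le_antisymm
  · rintro _ ⟨m, rfl⟩
    exact pm_mem m
  · intro x hx
    exact f.onto_pm hx

/-- **`M` is perfect.** -/
theorem perf_M : ⁅M A t MX, M A t MX⁆ = M A t MX := by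
  have h1 : _root_.commutator ↥(M A t MX) = ⊤ := by
    rw [eq_top_iff]
    rintro ⟨m, hm⟩ -
    have key : ∀ x : G, x ∈ closure (gens A t MX) → ∃ hx : x ∈ M A t MX, (⟨x, hx⟩ : ↥(M A t MX)) ∈
        _root_.commutator ↥(M A t MX) := by
      intro x hx
      induction hx using closure_induction with
      | mem x hx =>
        have hxM : x ∈ M A t MX := subset_closure hx
        refine ⟨hxM, ?_⟩
        set c := Abelianization.of (G := ↥(M A t MX)) with hc
        have h2 : pm A t MX ⟨x, hxM⟩ ∈ (_root_.commutator ↥(M A t MX)).map (pm A t MX) := by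
          rw [_root_.commutator_def, Subgroup.map_commutator, ← MonoidHom.range_eq_map, f.range_pm, f.perf]
          exact pm_mem _
        obtain ⟨d, hd, e⟩ := h2
        have h3 : d⁻¹ * ⟨x, hxM⟩ ∈ (pm A t MX).ker := by
          rw [MonoidHom.mem_ker, map_mul, map_inv, e, inv_mul_cancel]
        rw [mem_ker_pm] at h3
        -- the image in the abelianization has odd order
        have h4 : Odd (orderOf (d⁻¹ * ⟨x, hxM⟩)) := by
          have h5 : orderOf (d⁻¹ * ⟨x, hxM⟩ : ↥(M A t MX)) = orderOf ((d⁻¹ * ⟨x, hxM⟩ : ↥(M A t MX)) : G) :=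
            (Subgroup.orderOf_coe _).symm
          rw [h5]
          exact Odd.of_dvd_nat h.odd_core (Subgroup.orderOf_dvd_natCard _ h3)
        have h6 : c d = 1 := by
          rw [hc, ← MonoidHom.mem_ker, Abelianization.ker_of]
          exact hd
        have h7 : c (⟨x, hxM⟩) = c (d⁻¹ * ⟨x, hxM⟩) := by
          rw [map_mul, map_inv, h6, inv_one, one_mul]
        have h8 : Odd (orderOf (c ⟨x, hxM⟩)) := by
          rw [h7]
          exact Odd.of_dvd_nat h4 (orderOf_map_dvd _ _)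
        obtain ⟨k, hk⟩ := hx.1
        have h9 : orderOf (c ⟨x, hxM⟩) ∣ 2 ^ k := by
          apply orderOf_dvd_of_pow_eq_one
          rw [← map_pow]
          have : (⟨x, hxM⟩ : ↥(M A t MX)) ^ 2 ^ k = 1 := Subtype.ext hk
          rw [this, map_one]
        have h10 : orderOf (c ⟨x, hxM⟩) = 1 :=
          Nat.eq_one_of_dvd_coprimes (Nat.Coprime.pow_left k (Nat.coprime_two_left.mpr h8)) h9 dvd_rfl
        rw [orderOf_eq_one_iff] at h10
        rw [← Abelianization.ker_of, MonoidHom.mem_ker]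
        exact h10
      | one => exact ⟨one_mem _, one_mem _⟩
      | mul x y _ _ hx hy =>
        obtain ⟨h1, h2⟩ := hx
        obtain ⟨h3, h4⟩ := hy
        exact ⟨mul_mem h1 h3, mul_mem h2 h4⟩
      | inv x _ hx =>
        obtain ⟨h1, h2⟩ := hx
        exact ⟨inv_mem h1, inv_mem h2⟩
    obtain ⟨h1, h2⟩ := key m hm
    exact h2
  have h2 : (⁅(⊤ : Subgroup ↥(M A t MX)), (⊤ : Subgroup ↥(M A t MX))⁆).map (M A t MX).subtype =
      (⊤ : Subgroup ↥(M A t MX)).map (M A t MX).subtype := by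
    rw [← _root_.commutator_def, h1]
  rw [Subgroup.map_commutator, ← MonoidHom.range_eq_map, Subgroup.range_subtype] at h2
  exact h2

theorem pr_tt {x : G} (hx : x ∈ NO A t) (hx' : t * x * t ∈ NO A t) :
    pr A t ⟨t * x * t, hx'⟩ = h.tX * pr A t ⟨x, hx⟩ * h.tX := by
  rw [h.tX_eq, ← map_mul, ← map_mul]
  rfl

theorem comm_gen {x y : G} (hx : x ∈ gens A t MX) (hy : y ∈ gens A t MX) :
    x * (t * y * t) = t * y * t * x := by
  obtain ⟨h2x, hcx, hNx, hMx⟩ := hx
  obtain ⟨h2y, hcy, hNy, hMy⟩ := hy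
  have hcy' := conj_t_comm h hcy
  have hxi : ∀ o ∈ core A t, o * x⁻¹ = x⁻¹ * o := fun o ho => by
    have h3 := hcx o ho
    calc o * x⁻¹ = x⁻¹ * (x * o) * x⁻¹ := by group
      _ = x⁻¹ * o := by rw [← h3]; group
  have hcc : ∀ o ∈ core A t, o * (x * (t * y * t) * x⁻¹) = x * (t * y * t) * x⁻¹ * o := by
    intro o ho
    calc o * (x * (t * y * t) * x⁻¹) = (o * x) * (t * y * t) * x⁻¹ := by group
      _ = x * (o * (t * y * t)) * x⁻¹ := by rw [hcx o ho]; group
      _ = x * (t * y * t) * (o * x⁻¹) := by rw [hcy' o ho]; group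
      _ = _ := by rw [hxi o ho]; group
  have e : x * (t * y * t) * x⁻¹ = t * y * t := by
    refine uniq h hcc hcy' ((two_tt h h2y).conj x) (two_tt h h2y) ?_
    have e1 : (⟨x * (t * y * t) * x⁻¹, mem_NO hcc⟩ : ↥(NO A t)) =
        ⟨x, hNx⟩ * ⟨t * y * t, mem_NO hcy'⟩ * ⟨x, hNx⟩⁻¹ := rfl
    rw [e1, map_mul, map_mul, map_inv, f.pr_tt hNy, f.comm _ hMx _ hMy, mul_inv_cancel_right]
  exact mul_inv_eq_iff_eq_mul.1 e

theorem comm_M {x y : G} (hx : x ∈ M A t MX) (hy : y ∈ M A t MX) : x * (t * y * t) = t * y * t * x := by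
  have htt := h.tt
  have h1 : M A t MX ≤ centralizer ((M A t MX).map (MulAut.conj t).toMonoidHom : Set G) := by
    conv_lhs => unfold M
    rw [closure_le]
    intro x hx
    rw [SetLike.mem_coe, mem_centralizer_iff]
    rintro _ ⟨y, hy, rfl⟩
    show t * y * t⁻¹ * x = x * (t * y * t⁻¹)
    rw [show t⁻¹ = t from inv_eq_of_mul_eq_one_left htt]
    have hy' : y ∈ closure (gens A t MX) := hy
    clear hy
    induction hy' using closure_induction with
    | mem y hy => exact (f.comm_gen hx hy).symm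
    | one => rw [mul_one, htt, one_mul, mul_one]
    | mul a b _ _ ha hb =>
      have e : t * (a * b) * t = (t * a * t) * (t * b * t) := by
        calc t * (a * b) * t = t * a * 1 * b * t := by group
          _ = t * a * (t * t) * b * t := by rw [htt]
          _ = _ := by group
      rw [e, mul_assoc, hb, ← mul_assoc, ha, mul_assoc]
    | inv a _ ha =>
      have e : t * a⁻¹ * t = (t * a * t)⁻¹ := by
        have hti : t⁻¹ = t := inv_eq_of_mul_eq_one_left htt
        rw [mul_inv_rev, mul_inv_rev, hti]; group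
      rw [e]
      calc (t * a * t)⁻¹ * x = (t * a * t)⁻¹ * (x * (t * a * t)) * (t * a * t)⁻¹ := by group
        _ = _ := by rw [← ha]; group
  have h2 := h1 hx
  rw [mem_centralizer_iff] at h2
  have h3 := h2 (t * y * t⁻¹) ⟨y, hy, rfl⟩
  rw [show t⁻¹ = t from inv_eq_of_mul_eq_one_left htt] at h3
  exact h3.symm

/-- elements over central elements are central -/
theorem central {x : G} (hx : x ∈ M A t MX) (hz : ∀ y ∈ MX, pm A t MX ⟨x, hx⟩ * y = y * pm A t MX ⟨x, hx⟩) :
    ∀ m ∈ M A t MX, x * m = m * x := by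
  have h1 : M A t MX ≤ centralizer {x} := by
    conv_lhs => unfold M
    rw [closure_le]
    intro m hm
    rw [SetLike.mem_coe, mem_centralizer_singleton_iff]
    have hmM : m ∈ M A t MX := subset_closure hm
    obtain ⟨h2m, hcm, hNm, hMm⟩ := hm
    have hcc : ∀ o ∈ core A t, o * (x * m * x⁻¹) = x * m * x⁻¹ * o :=
      M_comm (mul_mem (mul_mem hx hmM) (inv_mem hx))
    have e : x * m * x⁻¹ = m := by
      refine uniq h hcc hcm (h2m.conj x) h2m ?_
      have e1 : (⟨x * m * x⁻¹, mem_NO hcc⟩ : ↥(NO A t)) = ⟨x, M_NO hx⟩ * ⟨m, hNm⟩ * ⟨x, M_NO hx⟩⁻¹ := rfl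
      have e2 := hz _ hMm
      rw [pm_apply] at e2
      rw [e1, map_mul, map_mul, map_inv, e2, mul_inv_cancel_right]
    exact (mul_inv_eq_iff_eq_mul.1 e).symm
  intro m hm
  exact (mem_centralizer_singleton_iff.1 (h1 hm)).symm

/-- the homomorphism `M → im A` -/
def dl : ↥(M A t MX) →* ↥(im A t A) where
  toFun m := ⟨pm A t MX m * (h.tX * pm A t MX m * h.tX), f.diag _ (pm_mem m)⟩
  map_one' := Subtype.ext (by
    show pm A t MX 1 * (h.tX * pm A t MX 1 * h.tX) = 1
    rw [map_one, mul_one, one_mul, h.tX_sq])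
  map_mul' a b := Subtype.ext (by
    show pm A t MX (a * b) * (h.tX * pm A t MX (a * b) * h.tX) = pm A t MX a * (h.tX * pm A t MX a * h.tX) *
      (pm A t MX b * (h.tX * pm A t MX b * h.tX))
    have h1 := f.comm _ (pm_mem b) _ (pm_mem a)
    rw [map_mul]
    calc pm A t MX a * pm A t MX b * (h.tX * (pm A t MX a * pm A t MX b) * h.tX)
        = pm A t MX a * pm A t MX b * (h.tX * pm A t MX a * 1 * pm A t MX b * h.tX) := by group
      _ = pm A t MX a * pm A t MX b * (h.tX * pm A t MX a * (h.tX * h.tX) * pm A t MX b * h.tX) := by rw [h.tX_sq]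
      _ = pm A t MX a * (pm A t MX b * (h.tX * pm A t MX a * h.tX)) * (h.tX * pm A t MX b * h.tX) := by group
      _ = _ := by rw [h1]; group)

theorem dl_surjective : Function.Surjective f.dl := by
  rintro ⟨a, ha⟩
  obtain ⟨x, hx, e⟩ := f.onto a ha
  obtain ⟨m, rfl⟩ := f.onto_pm hx
  exact ⟨m, Subtype.ext e.symm⟩

theorem central_of_dl {x : ↥(M A t MX)} (hx : f.dl x = 1) : ∀ m ∈ M A t MX, (x : G) * m = m * x := by
  refine f.central x.2 fun y hy => ?_
  have h1 : pm A t MX x * (h.tX * pm A t MX x * h.tX) = 1 := congrArg Subtype.val hx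
  have h2 : h.tX * pm A t MX x * h.tX = (pm A t MX x)⁻¹ := eq_inv_of_mul_eq_one_right h1
  have h3 := f.comm y hy _ (pm_mem x)
  rw [h2] at h3
  show pm A t MX x * y = y * pm A t MX x
  calc pm A t MX x * y = pm A t MX x * (y * (pm A t MX x)⁻¹) * pm A t MX x := by group
    _ = _ := by rw [h3]; group

theorem ne_M : M A t MX ≠ ⊥ := by
  intro h1
  have hs : IsSimpleGroup ↥(im A t A) := by
    obtain ⟨e⟩ := h.nonempty_equiv
    have := h.std.1.2
    exact e.isSimpleGroup
  obtain ⟨a, ha⟩ := exists_ne (1 : ↥(im A t A))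
  obtain ⟨m, rfl⟩ := f.dl_surjective a
  apply ha
  have h2 : m = 1 := Subtype.ext (by
    have h3 := m.2
    have h4 : (m : G) ∈ (⊥ : Subgroup G) := h1 ▸ h3
    exact mem_bot.1 h4)
  rw [h2, map_one]

theorem qs_M (N : Subgroup G) (hN : N ≤ M A t MX) (hn : ∀ m ∈ M A t MX, ∀ x ∈ N, m * x * m⁻¹ ∈ N) :
    N = M A t MX ∨ ∀ x ∈ N, ∀ m ∈ M A t MX, x * m = m * x := by
  have hs : IsSimpleGroup ↥(im A t A) := by
    obtain ⟨e⟩ := h.nonempty_equiv
    have := h.std.1.2
    exact e.isSimpleGroup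
  have hnN : (N.subgroupOf (M A t MX)).Normal := ⟨fun x hx m => by
    rw [mem_subgroupOf] at hx ⊢
    exact hn m m.2 x hx⟩
  have h1 : ((N.subgroupOf (M A t MX)).map f.dl).Normal := hnN.map _ f.dl_surjective
  rcases h1.eq_bot_or_eq_top with h2 | h2
  · right
    intro x hx
    refine f.central_of_dl (x := ⟨x, hN hx⟩) ?_
    have h3 : f.dl ⟨x, hN hx⟩ ∈ (N.subgroupOf (M A t MX)).map f.dl := ⟨_, mem_subgroupOf.2 hx, rfl⟩
    rwa [h2, mem_bot] at h3
  · left
    apply le_antisymm hN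
    have key : ∀ m ∈ M A t MX, ∃ x ∈ N, ∀ y ∈ M A t MX, (x⁻¹ * m) * y = y * (x⁻¹ * m) := by
      intro m hm
      have h3 : f.dl ⟨m, hm⟩ ∈ (N.subgroupOf (M A t MX)).map f.dl := by rw [h2]; exact mem_top _
      obtain ⟨x, hx, e⟩ := h3
      refine ⟨x, mem_subgroupOf.1 hx, ?_⟩
      exact f.central_of_dl (x := x⁻¹ * ⟨m, hm⟩) (by rw [map_mul, map_inv, e, inv_mul_cancel])
    conv_lhs => rw [← f.perf_M]
    rw [commutator_le]
    intro a ha b hb
    obtain ⟨x, hx, hxa⟩ := key a ha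
    obtain ⟨y, hy, hyb⟩ := key b hb
    have hxM := hN hx
    have hyM := hN hy
    have e : ⁅a, b⁆ = ⁅x, y⁆ := by
      set z := x⁻¹ * a with hz
      set w := y⁻¹ * b with hw
      have ea : a = x * z := by rw [hz]; group
      have eb : b = y * w := by rw [hw]; group
      rw [ea, eb, commutatorElement_def, commutatorElement_def]
      have h4 : z * (y * w) = y * w * z := hxa _ (mul_mem hyM (by rw [hw]; exact mul_mem (inv_mem hyM) hb))
      have h5 : w * x⁻¹ = x⁻¹ * w := hyb _ (inv_mem hxM)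
      calc x * z * (y * w) * (x * z)⁻¹ * (y * w)⁻¹ = x * (z * (y * w)) * z⁻¹ * x⁻¹ * (y * w)⁻¹ := by group
        _ = x * y * (w * x⁻¹) * (y * w)⁻¹ := by rw [h4]; group
        _ = _ := by rw [h5]; group
    rw [e]
    exact mul_mem (mul_mem (mul_mem hx hy) (inv_mem hx)) (inv_mem hy)

theorem two_M : M A t MX ≤ closure {x | x ∈ M A t MX ∧ ∃ k : ℕ, x ^ 2 ^ k = 1} := by
  conv_lhs => unfold M
  exact closure_mono fun x hx => ⟨subset_closure hx, hx.1⟩

/-- **`Swap`.** -/
theorem swap : Swap (M A t MX) t where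
  tt := h.tt
  comm _ hx _ hy := f.comm_M hx hy
  perf := f.perf_M
  two := f.two_M
  qs := f.qs_M
  ne := f.ne_M


theorem dg_mem {m : G} (hm : m ∈ M A t MX) : m * (t * m * t) ∈ A := by
  have htt := h.tt
  have hti : t⁻¹ = t := inv_eq_of_mul_eq_one_left htt
  have hm' : m ∈ closure (gens A t MX) := hm
  have key : ∀ x : G, x ∈ closure (gens A t MX) → x ∈ M A t MX ∧ x * (t * x * t) ∈ A := by
    intro x hx
    induction hx using closure_induction with
    | mem x hx =>
      have hxM : x ∈ M A t MX := subset_closure hx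
      refine ⟨hxM, ?_⟩
      obtain ⟨h2x, hcx, hNx, hMx⟩ := hx
      have hc1 := conj_t_comm h hcx
      have hcc : ∀ o ∈ core A t, o * (x * (t * x * t)) = x * (t * x * t) * o := by
        intro o ho
        calc o * (x * (t * x * t)) = (o * x) * (t * x * t) := by group
          _ = x * (o * (t * x * t)) := by rw [hcx o ho]; group
          _ = _ := by rw [hc1 o ho]; group
      have h2 : Two (x * (t * x * t)) := by
        obtain ⟨k, hk⟩ := h2x
        obtain ⟨l, hl⟩ := two_tt h ⟨k, hk⟩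
        have hcom : Commute x (t * x * t) := f.comm_M hxM hxM
        refine ⟨k + l, ?_⟩
        rw [hcom.mul_pow, pow_add, pow_mul, hk, one_pow, one_mul, mul_comm, pow_mul, hl, one_pow]
      have e1 : pr A t ⟨x * (t * x * t), mem_NO hcc⟩ = pr A t ⟨x, hNx⟩ * (h.tX * pr A t ⟨x, hNx⟩ * h.tX) := by
        rw [← f.pr_tt hNx (mem_NO hc1), ← map_mul]
        rfl
      have h3 : pr A t ⟨x * (t * x * t), mem_NO hcc⟩ ∈ im A t A := by
        rw [e1]; exact f.diag _ hMx
      have h4 : Two (pr A t ⟨x * (t * x * t), mem_NO hcc⟩) := by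
        obtain ⟨k, hk⟩ := h2
        refine ⟨k, ?_⟩
        rw [← map_pow]
        have : (⟨x * (t * x * t), mem_NO hcc⟩ : ↥(NO A t)) ^ 2 ^ k = 1 := Subtype.ext hk
        rw [this, map_one]
      obtain ⟨a, ha, h2a, e⟩ := exists_two_A h h3 h4
      have hca : ∀ o ∈ core A t, o * a = a * o := mem_C.1 (A_mem_C h ha)
      have h5 : x * (t * x * t) = a := uniq h hcc hca h2 h2a e.symm
      rw [h5]; exact ha
    | one => exact ⟨one_mem _, by rw [mul_one, one_mul, htt]; exact one_mem _⟩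
    | mul x y _ _ hx hy =>
      obtain ⟨h1, h2⟩ := hx
      obtain ⟨h3, h4⟩ := hy
      refine ⟨mul_mem h1 h3, ?_⟩
      have h5 := f.comm_M h3 h1
      have e : x * y * (t * (x * y) * t) = x * (t * x * t) * (y * (t * y * t)) := by
        calc x * y * (t * (x * y) * t) = x * y * (t * x * 1 * y * t) := by group
          _ = x * y * (t * x * (t * t) * y * t) := by rw [htt]
          _ = x * (y * (t * x * t)) * (t * y * t) := by group
          _ = _ := by rw [h5]; group
      rw [e]; exact mul_mem h2 h4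
    | inv x _ hx =>
      obtain ⟨h1, h2⟩ := hx
      refine ⟨inv_mem h1, ?_⟩
      have h5 := f.comm_M h1 h1
      have e : x⁻¹ * (t * x⁻¹ * t) = (x * (t * x * t))⁻¹ := by
        rw [h5, mul_inv_rev]
        congr 1
        rw [mul_inv_rev, mul_inv_rev, hti]; group
      rw [e]; exact inv_mem h2
  exact (key m hm').2

/-- **`Dia`.** -/
theorem dia (hS : Sch ↥A)
    (cyc : ∀ R : Sylow 2 ↥(centralizer (A : Set G)), IsCyclic ↥(R : Subgroup ↥(centralizer (A : Set G)))) :
    Swap.Dia f.swap A where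
  eq := by
    apply le_antisymm
    · have key : ∀ a ∈ A, ∃ r ∈ (f.swap.dg t f.swap.t_swap).range, ∀ b ∈ A, (r⁻¹ * a) * b = b * (r⁻¹ * a) := by
        intro a ha
        have h1 : pr A t ⟨a, h.A_le ha⟩ ∈ im A t A := pr_mem_im ha
        obtain ⟨x, hx, e⟩ := f.onto _ h1
        obtain ⟨m, rfl⟩ := f.onto_pm hx
        refine ⟨f.swap.dg t f.swap.t_swap m, ⟨m, rfl⟩, ?_⟩
        rw [f.swap.dg_t]
        have h2 : (m : G) * (t * m * t) ∈ A := f.dg_mem m.2
        have hc : ∀ o ∈ core A t, o * (t * (m : G) * t) = t * m * t * o := conj_t_comm h (M_comm m.2)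
        have h3 : ((m : G) * (t * m * t))⁻¹ * a ∈ core A t := by
          have e2 : pr A t (⟨(m : G) * (t * m * t), h.A_le h2⟩⁻¹ * ⟨a, h.A_le ha⟩) = 1 := by
            have e3 : (⟨(m : G) * (t * m * t), h.A_le h2⟩ : ↥(NO A t)) =
              ⟨(m : G), M_NO m.2⟩ * ⟨t * (m : G) * t, mem_NO hc⟩ := rfl
            rw [map_mul, map_inv, e, e3, map_mul, f.pr_tt (M_NO m.2) (mem_NO hc)]
            exact inv_mul_cancel _
          exact pr_eq_one.1 e2
        intro b hb
        exact (mem_centralizer_iff.1 (h.core_le h3) b hb).symm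
      have hp : A = ⁅A, A⁆ := by
        have h1 := h.perfect
        have h2 : (⁅(⊤ : Subgroup ↥A), (⊤ : Subgroup ↥A)⁆).map A.subtype = (⊤ : Subgroup ↥A).map A.subtype := by
          rw [h1]
        rw [Subgroup.map_commutator, ← MonoidHom.range_eq_map, Subgroup.range_subtype] at h2
        exact h2.symm
      have hr : (f.swap.dg t f.swap.t_swap).range ≤ A := by
        rintro _ ⟨m, rfl⟩
        rw [f.swap.dg_t]
        exact f.dg_mem m.2
      conv_lhs => rw [hp]
      rw [commutator_le]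
      intro a ha b hb
      obtain ⟨x, hx, hxa⟩ := key a ha
      obtain ⟨y, hy, hyb⟩ := key b hb
      have hxA := hr hx
      have hyA := hr hy
      have e : ⁅a, b⁆ = ⁅x, y⁆ := by
        set z := x⁻¹ * a with hz
        set w := y⁻¹ * b with hw
        have ea : a = x * z := by rw [hz]; group
        have eb : b = y * w := by rw [hw]; group
        rw [ea, eb, commutatorElement_def, commutatorElement_def]
        have h4 : z * (y * w) = y * w * z := hxa _ (mul_mem hyA (by rw [hw]; exact mul_mem (inv_mem hyA) hb))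
        have h5 : w * x⁻¹ = x⁻¹ * w := hyb _ (inv_mem hxA)
        calc x * z * (y * w) * (x * z)⁻¹ * (y * w)⁻¹ = x * (z * (y * w)) * z⁻¹ * x⁻¹ * (y * w)⁻¹ := by group
          _ = x * y * (w * x⁻¹) * (y * w)⁻¹ := by rw [h4]; group
          _ = _ := by rw [h5]; group
      rw [e]
      exact mul_mem (mul_mem (mul_mem hx hy) (inv_mem hx)) (inv_mem hy)
    · rintro _ ⟨m, rfl⟩
      rw [f.swap.dg_t]
      exact f.dg_mem m.2
  inA := fun K hK hK2 hKt => Perf.le_of_perfect h.std h.ht h.htA cyc hS hK hKt hK2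

end Fac

/-- **The lift.** -/
theorem exists_lift (h : Hyp A t T) (f : Fac h MX) (hS : Sch ↥A)
    (cyc : ∀ R : Sylow 2 ↥(centralizer (A : Set G)), IsCyclic ↥(R : Subgroup ↥(centralizer (A : Set G)))) :
    ∃ (M : Subgroup G) (S : Swap M t), Swap.Dia S A ∧ (∀ m ∈ M, ∀ o ∈ core A t, o * m = m * o) ∧
      (∀ m ∈ M, m ∈ NO A t) ∧ im A t M = MX ∧
      (∀ x : G, (∃ k : ℕ, x ^ 2 ^ k = 1) → (∀ o ∈ core A t, o * x = x * o) →
        (∀ hx : x ∈ NO A t, pr A t ⟨x, hx⟩ ∈ MX) → x ∈ M) := by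
  refine ⟨M A t MX, f.swap, f.dia hS cyc, fun m hm => M_comm hm, fun m hm => M_NO hm, ?_, ?_⟩
  · ext x
    constructor
    · intro hx
      obtain ⟨n, hn, rfl⟩ := mem_im.1 hx
      exact pm_mem (A := A) (t := t) (MX := MX) ⟨(n : G), hn⟩
    · intro hx
      obtain ⟨m, rfl⟩ := f.onto_pm hx
      exact mem_im.2 ⟨⟨m, M_NO m.2⟩, m.2, rfl⟩
  · intro x h2 hc hx
    exact subset_closure ⟨h2, hc, mem_NO hc, hx _⟩

end Cfsg.Agent.StdRank2.SplitLift
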