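import Mathlib

/-!
# Parity on a double cover of a coset space (S1778, lemma W')

`Y1` of index two in `Y ≤ G`, `S` a 2-subgroup of `Y`. The sign of `x ∈ S \ Y1` on `G ⧸ Y1` is `-1` if every non-trivial
`S`-orbit of `G ⧸ Y` admits an `S`-equivariant involution which lifts to an `S`-equivariant involution of `G ⧸ Y1`.
-/

set_option autoImplicit false

namespace Cfsg.Agent.StdRank2.SwapSign

/-! ### Permutations commuting with a free involution -/

section perm

variable {Ω : Type*} [Fintype Ω] [DecidableEq Ω]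

/-- the sign of a permutation commuting with a free involution, through a section -/
theorem sign_section (x : Equiv.Perm Ω) (τ : Ω → Ω) (hτ : ∀ w, τ (τ w) = w) (hx : ∀ w, x (τ w) = τ (x w))
    (T : Ω → Prop) [DecidablePred T] (hT : ∀ w, T (τ w) ↔ ¬ T w) :
    Equiv.Perm.sign x = ∏ t ∈ Finset.univ.filter T, (if T (x t) then (1 : ℤˣ) else -1) := by
  -- the equivalence with a product
  let e : Ω ≃ {t // T t} × Bool :=
    { toFun := fun w => if h : T w then (⟨w, h⟩, false) else (⟨τ w, (hT w).2 h⟩, true)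
      invFun := fun p => if p.2 then τ p.1 else p.1
      left_inv := by
        intro w
        by_cases h : T w
        · simp [h]
        · simp [h, hτ]
      right_inv := by
        rintro ⟨⟨t, ht⟩, b⟩
        cases b
        · simp [ht]
        · have h1 : ¬ T (τ t) := fun h2 => (hT t).1 h2 ht
          simp [h1, hτ] }
  -- the induced permutation
  let xb : {t // T t} → {t // T t} := fun t => if h : T (x t) then ⟨x t, h⟩ else ⟨τ (x t), (hT _).2 h⟩
  have hxb : ∀ t : {t // T t}, (T (x t) → ((xb t : {t // T t}) : Ω) = x t) ∧ (¬ T (x t) → ((xb t : {t // T t}) : Ω) = τ (x t)) := by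
    intro t
    constructor
    · intro h
      simp only [xb, dif_pos h]
    · intro h
      simp only [xb, dif_neg h]
  have hinj : Function.Injective xb := by
    intro s t hst
    have h0 : ((xb s : {t // T t}) : Ω) = xb t := congrArg Subtype.val hst
    have key : ∀ s t : {t // T t}, x (s : Ω) ≠ τ (x t) := by
      intro s t h1
      rw [← hx] at h1
      have h2 := x.injective h1
      have h3 := s.2
      rw [h2, hT] at h3
      exact h3 t.2
    by_cases h1 : T (x s)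
    · by_cases h2 : T (x t)
      · rw [(hxb s).1 h1, (hxb t).1 h2] at h0
        exact Subtype.ext (x.injective h0)
      · rw [(hxb s).1 h1, (hxb t).2 h2] at h0
        exact absurd h0 (key s t)
    · by_cases h2 : T (x t)
      · rw [(hxb s).2 h1, (hxb t).1 h2] at h0
        exact absurd h0.symm (key t s)
      · rw [(hxb s).2 h1, (hxb t).2 h2] at h0
        have h3 := congrArg τ h0
        rw [hτ, hτ] at h3
        exact Subtype.ext (x.injective h3)
  let X : Equiv.Perm {t // T t} := Equiv.ofBijective xb (Finite.injective_iff_bijective.1 hinj)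
  have hX : ∀ t, X t = xb t := fun t => rfl
  let c : {t // T t} → Equiv.Perm Bool := fun t => if T (x t) then 1 else Equiv.boolNot
  have hsign : Equiv.Perm.sign x = Equiv.Perm.sign ((Equiv.prodCongrLeft fun _ : Bool => X) * (Equiv.prodCongrRight c) :
      Equiv.Perm ({t // T t} × Bool)) := by
    refine Equiv.Perm.sign_eq_sign_of_equiv _ _ e ?_
    intro w
    apply e.symm.injective
    rw [Equiv.symm_apply_apply]
    obtain ⟨⟨t, b⟩, rfl⟩ := e.symm.surjective w
    rw [Equiv.apply_symm_apply]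
    have h1 : ((Equiv.prodCongrLeft fun _ : Bool => X) * (Equiv.prodCongrRight c) : Equiv.Perm ({t // T t} × Bool)) (t, b) =
        (xb t, c t b) := rfl
    rw [h1]
    change x (if b then τ t else t) = if c t b then τ (xb t) else (xb t : Ω)
    by_cases h2 : T (x t)
    · have h3 : c t = 1 := if_pos h2
      rw [h3, (hxb t).1 h2]
      cases b
      · rfl
      · exact hx t
    · have h3 : c t = Equiv.boolNot := if_neg h2
      rw [h3, (hxb t).2 h2]
      cases b
      · change x t = τ (τ (x t))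
        rw [hτ]
      · exact hx t
  have h2 : (Finset.univ.filter T).prod (fun t => (if T (x t) then (1 : ℤˣ) else -1)) =
      ∏ t : {t // T t}, (if T (x t) then (1 : ℤˣ) else -1) :=
    Finset.prod_subtype _ (by simp) _
  rw [hsign, Equiv.Perm.sign_mul, Equiv.Perm.sign_prodCongrLeft, Equiv.Perm.sign_prodCongrRight, h2]
  have h3 : ∏ _ : Bool, Equiv.Perm.sign X = 1 := by
    rw [Fintype.prod_bool]
    exact Int.units_mul_self _
  rw [h3, one_mul]
  refine Finset.prod_congr rfl fun t _ => ?_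
  by_cases h4 : T (x t)
  · have h5 : c t = 1 := if_pos h4
    rw [h5, if_pos h4, Equiv.Perm.sign_one]
  · have h5 : c t = Equiv.boolNot := if_neg h4
    rw [h5, if_neg h4]
    decide

/-- **The sign is `-1`**: one pair is swapped, on the rest a four-group commutes with `x`. -/
theorem sign_eq_neg_one (x : Equiv.Perm Ω) (τ f : Ω → Ω) (D : Ω → Prop) (hτ : ∀ w, τ (τ w) = w) (hτ1 : ∀ w, τ w ≠ w)
    (hx : ∀ w, x (τ w) = τ (x w)) (Dτ : ∀ w, D (τ w) ↔ D w) (Dx : ∀ w, D (x w) ↔ D w)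
    (Df : ∀ w, D w → D (f w)) (fx : ∀ w, D w → f (x w) = x (f w)) (fτ : ∀ w, D w → f (τ w) = τ (f w))
    (ff : ∀ w, D w → f (f w) = w) (f1 : ∀ w, D w → f w ≠ w) (f2 : ∀ w, D w → f w ≠ τ w)
    {w0 : Ω} (h0 : ¬ D w0) (h0' : ∀ w, ¬ D w → w = w0 ∨ w = τ w0) (hx0 : x w0 = τ w0) :
    Equiv.Perm.sign x = -1 := by
  classical
  obtain ⟨n, ⟨e⟩⟩ := Finite.exists_equiv_fin Ω
  have einj : ∀ {a b : Ω}, a ≠ b → e a ≠ e b := fun h h' => h (e.injective h')
  let T : Ω → Prop := fun w => (D w ∧ min (e w) (e (f w)) < min (e (τ w)) (e (τ (f w)))) ∨ w = w0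
  have h0D : ∀ w, D w → w ≠ w0 := fun w hw h => h0 (h ▸ hw)
  have hTD : ∀ w, D w → (T w ↔ min (e w) (e (f w)) < min (e (τ w)) (e (τ (f w)))) := by
    intro w hw
    constructor
    · rintro (h | h)
      · exact h.2
      · exact absurd h (h0D w hw)
    · intro h
      exact Or.inl ⟨hw, h⟩
  have hτw0 : τ w0 ≠ w0 := hτ1 w0
  have hT0 : T w0 := Or.inr rfl
  have hTτ0 : ¬ T (τ w0) := by
    rintro (h | h)
    · exact h0 ((Dτ w0).1 h.1)
    · exact hτw0 h
  have hT : ∀ w, T (τ w) ↔ ¬ T w := by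
    intro w
    by_cases hw : D w
    · rw [hTD w hw, hTD (τ w) ((Dτ w).2 hw), hτ, fτ w hw, hτ, not_lt]
      constructor
      · exact fun h => h.le
      · intro h
        refine lt_of_le_of_ne h ?_
        intro heq
        have a1 : e w ≠ e (τ w) := einj (hτ1 w).symm
        have a2 : e w ≠ e (τ (f w)) := einj (fun h' => f2 w hw (by
          have h7 := congrArg τ h'
          rw [hτ] at h7
          exact h7.symm))
        have a3 : e (f w) ≠ e (τ w) := einj (f2 w hw)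
        have a4 : e (f w) ≠ e (τ (f w)) := einj (hτ1 _).symm
        rcases min_choice (e (τ w)) (e (τ (f w))) with h5 | h5 <;> rcases min_choice (e w) (e (f w)) with h6 | h6 <;>
          rw [h5, h6] at heq
        · exact a1 heq.symm
        · exact a3 heq.symm
        · exact a2 heq.symm
        · exact a4 heq.symm
    · rcases h0' w hw with rfl | rfl
      · exact ⟨fun h => absurd h hTτ0, fun h => absurd hT0 h⟩
      · rw [hτ]
        exact ⟨fun _ => hTτ0, fun _ => hT0⟩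
  have hTf : ∀ w, D w → (T (f w) ↔ T w) := by
    intro w hw
    rw [hTD w hw, hTD (f w) (Df w hw), ff w hw, min_comm (e (f w)), min_comm (e (τ (f w)))]
  rw [sign_section x τ hτ hx T hT]
  have hmem : w0 ∈ Finset.univ.filter T := by simp [hT0]
  rw [← Finset.mul_prod_erase _ _ hmem, hx0, if_neg hTτ0]
  have h3 : ∏ t ∈ (Finset.univ.filter T).erase w0, (if T (x t) then (1 : ℤˣ) else -1) = 1 := by
    have hD : ∀ t ∈ (Finset.univ.filter T).erase w0, D t ∧ T t := by
      intro t ht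
      rw [Finset.mem_erase, Finset.mem_filter] at ht
      refine ⟨?_, ht.2.2⟩
      by_contra hc
      rcases h0' t hc with h | h
      · exact ht.1 h
      · rw [h] at ht
        exact hTτ0 ht.2.2
    refine Finset.prod_involution (fun t _ => f t) ?_ ?_ ?_ ?_
    · intro t ht
      obtain ⟨h1, h2⟩ := hD t ht
      have h3 : T (x (f t)) ↔ T (x t) := by
        rw [← fx t h1]
        exact hTf (x t) ((Dx t).2 h1)
      by_cases h4 : T (x t)
      · rw [if_pos h4, if_pos (h3.2 h4), one_mul]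
      · rw [if_neg h4, if_neg (fun h => h4 (h3.1 h))]; decide
    · intro t ht _
      exact f1 t (hD t ht).1
    · intro t ht
      obtain ⟨h1, h2⟩ := hD t ht
      rw [Finset.mem_erase, Finset.mem_filter]
      exact ⟨h0D _ (Df t h1), Finset.mem_univ _, (hTf t h1).2 h2⟩
    · intro t ht
      exact ff t (hD t ht).1
  rw [h3, mul_one]

end perm

/-! ### The equivariant involution -/

section choice

variable {S Ω : Type*} [Group S] [MulAction S Ω]

/-- local elements `v` glue to an equivariant involution -/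
theorem exists_equivariant (τ : Ω → Ω) (D : Ω → Prop) (hτ : ∀ w, τ (τ w) = w)
    (hs : ∀ (s : S) w, s • τ w = τ (s • w)) (Dτ : ∀ w, D (τ w) ↔ D w) (Ds : ∀ (s : S) w, D (s • w) ↔ D w)
    (hv : ∀ w, D w → ∃ v : S, v • w ≠ w ∧ v • w ≠ τ w ∧ v • v • w = w ∧
      (∀ q : S, q • w = w → q • v • w = v • w) ∧ ∀ q : S, q • w = τ w → q • v • w = τ (v • w)) :
    ∃ f : Ω → Ω, (∀ w, D w → D (f w)) ∧ (∀ (s : S) w, D w → f (s • w) = s • f w) ∧ (∀ w, D w → f (τ w) = τ (f w)) ∧
      (∀ w, D w → f (f w) = w) ∧ (∀ w, D w → f w ≠ w) ∧ ∀ w, D w → f w ≠ τ w := by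
  classical
  let R : Setoid Ω :=
    { r := fun a b => ∃ s : S, b = s • a ∨ b = s • τ a
      iseqv :=
        { refl := fun a => ⟨1, Or.inl (one_smul S a).symm⟩
          symm := by
            rintro a b ⟨s, h | h⟩
            · exact ⟨s⁻¹, Or.inl (by rw [h, inv_smul_smul])⟩
            · exact ⟨s⁻¹, Or.inr (by rw [h, ← hs, hτ, inv_smul_smul])⟩
          trans := by
            rintro a b c ⟨s, h | h⟩ ⟨t, h' | h'⟩
            · exact ⟨t * s, Or.inl (by rw [h', h, mul_smul])⟩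
            · exact ⟨t * s, Or.inr (by rw [h', h, mul_smul, ← hs])⟩
            · exact ⟨t * s, Or.inr (by rw [h', h, mul_smul])⟩
            · exact ⟨t * s, Or.inl (by rw [h', h, mul_smul, ← hs, hτ])⟩ } }
  let rep : Ω → Ω := fun w => (Quotient.mk R w).out
  have hrep : ∀ w, ∃ s : S, w = s • rep w ∨ w = s • τ (rep w) := fun w => Quotient.exact (Quotient.out_eq (Quotient.mk R w))
  have hrep_eq : ∀ {a b : Ω}, (∃ s : S, b = s • a ∨ b = s • τ a) → rep b = rep a := by
    intro a b h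
    have h1 : Quotient.mk R a = Quotient.mk R b := Quotient.sound h
    change (Quotient.mk R b).out = (Quotient.mk R a).out
    rw [h1]
  have hrep_rep : ∀ w, rep (rep w) = rep w := by
    intro w
    change (Quotient.mk R (Quotient.mk R w).out).out = _
    rw [Quotient.out_eq]
  have hDrep : ∀ w, D w ↔ D (rep w) := by
    intro w
    obtain ⟨s, h | h⟩ := hrep w
    · conv_lhs => rw [h]
      exact Ds s _
    · conv_lhs => rw [h]
      rw [Ds, Dτ]
  have hv' : ∀ w, ∃ v : S, D w → (v • w ≠ w ∧ v • w ≠ τ w ∧ v • v • w = w ∧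
      (∀ q : S, q • w = w → q • v • w = v • w) ∧ ∀ q : S, q • w = τ w → q • v • w = τ (v • w)) := by
    intro w
    by_cases hw : D w
    · obtain ⟨v, h⟩ := hv w hw
      exact ⟨v, fun _ => h⟩
    · exact ⟨1, fun h => absurd h hw⟩
  choose V hV using hv'
  choose s0 hs0 using hrep
  let f : Ω → Ω := fun w => if w = s0 w • rep w then s0 w • V (rep w) • rep w else s0 w • τ (V (rep w) • rep w)
  -- the two formulas
  have key : ∀ w, D w → ∀ s : S, (w = s • rep w → f w = s • V (rep w) • rep w) ∧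
      (w = s • τ (rep w) → f w = s • τ (V (rep w) • rep w)) := by
    intro w hw s
    obtain ⟨-, -, -, h4, h5⟩ := hV (rep w) ((hDrep w).1 hw)
    constructor
    · intro h
      by_cases hc : w = s0 w • rep w
      · have h6 : f w = s0 w • V (rep w) • rep w := if_pos hc
        have h7 : (s⁻¹ * s0 w) • rep w = rep w := by
          rw [mul_smul, ← hc]
          conv_lhs => rw [h]
          rw [inv_smul_smul]
        have h8 := h4 _ h7
        rw [mul_smul, inv_smul_eq_iff] at h8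
        rw [h6, h8]
      · have h6 : f w = s0 w • τ (V (rep w) • rep w) := if_neg hc
        have hc' := (hs0 w).resolve_left hc
        have h7 : (s⁻¹ * s0 w) • rep w = τ (rep w) := by
          have h9 : s0 w • rep w = τ w := by
            conv_rhs => rw [hc']
            rw [hs, hτ]
          rw [mul_smul, h9]
          conv_lhs => rw [h]
          rw [← hs, inv_smul_smul]
        have h8 := h5 _ h7
        rw [mul_smul, inv_smul_eq_iff] at h8
        rw [h6, hs, h8, ← hs, hτ]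
    · intro h
      by_cases hc : w = s0 w • rep w
      · have h6 : f w = s0 w • V (rep w) • rep w := if_pos hc
        have h7 : (s⁻¹ * s0 w) • rep w = τ (rep w) := by
          rw [mul_smul, ← hc]
          conv_lhs => rw [h]
          rw [inv_smul_smul]
        have h8 := h5 _ h7
        rw [mul_smul, inv_smul_eq_iff] at h8
        rw [h6, h8]
      · have h6 : f w = s0 w • τ (V (rep w) • rep w) := if_neg hc
        have hc' := (hs0 w).resolve_left hc
        have h7 : (s⁻¹ * s0 w) • rep w = rep w := by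
          have h9 : s0 w • rep w = s • rep w := by
            have h10 : s0 w • τ (rep w) = s • τ (rep w) := hc'.symm.trans h
            rw [hs, hs] at h10
            have h11 := congrArg τ h10
            rwa [hτ, hτ] at h11
          rw [mul_smul, h9, inv_smul_smul]
        have h8 := h4 _ h7
        rw [mul_smul, inv_smul_eq_iff] at h8
        rw [h6, hs, h8, ← hs]
  refine ⟨f, ?_, ?_, ?_, ?_, ?_, ?_⟩
  · intro w hw
    obtain h | h := hs0 w
    · rw [(key w hw _).1 h, Ds, Ds, ← hDrep]; exact hw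
    · rw [(key w hw _).2 h, Ds, Dτ, Ds, ← hDrep]; exact hw
  · intro s w hw
    have hr : rep (s • w) = rep w := hrep_eq ⟨s, Or.inl rfl⟩
    obtain h | h := hs0 w
    · rw [(key w hw _).1 h]
      have h1 := (key (s • w) ((Ds s w).2 hw) (s * s0 w)).1 (by rw [hr, mul_smul]; exact congrArg (s • ·) h)
      rw [h1, hr, mul_smul]
    · rw [(key w hw _).2 h]
      have h1 := (key (s • w) ((Ds s w).2 hw) (s * s0 w)).2 (by rw [hr, mul_smul]; exact congrArg (s • ·) h)
      rw [h1, hr, mul_smul]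
  · intro w hw
    have hr : rep (τ w) = rep w := hrep_eq ⟨1, Or.inr (one_smul S _).symm⟩
    obtain h | h := hs0 w
    · rw [(key w hw _).1 h]
      have h1 := (key (τ w) ((Dτ w).2 hw) (s0 w)).2 (by rw [hr, hs]; exact congrArg τ h)
      rw [h1, hr, hs]
    · rw [(key w hw _).2 h]
      have h1 := (key (τ w) ((Dτ w).2 hw) (s0 w)).1 (by
        rw [hr]
        have h2 := congrArg τ h
        rw [hs, hτ] at h2
        exact h2)
      rw [h1, hr, hs, hτ]
  · intro w hw
    obtain ⟨-, -, h3, -, -⟩ := hV (rep w) ((hDrep w).1 hw)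
    obtain h | h := hs0 w
    · have h1 := (key w hw _).1 h
      have hr : rep (f w) = rep w := by
        rw [h1, ← mul_smul]
        exact (hrep_eq ⟨_, Or.inl rfl⟩).trans (hrep_rep w)
      have hD : D (f w) := by rw [h1, Ds, Ds, ← hDrep]; exact hw
      have h2 := (key (f w) hD (s0 w * V (rep w))).1 (by rw [hr, h1, mul_smul])
      rw [h2, hr, mul_smul, h3]
      exact h.symm
    · have h1 := (key w hw _).2 h
      have hr : rep (f w) = rep w := by
        rw [h1, ← hs, ← mul_smul]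
        exact (hrep_eq ⟨_, Or.inr rfl⟩).trans (hrep_rep w)
      have hD : D (f w) := by rw [h1, Ds, Dτ, Ds, ← hDrep]; exact hw
      have h2 := (key (f w) hD (s0 w * V (rep w))).2 (by rw [hr, h1, mul_smul, hs (V (rep w))])
      rw [h2, hr, mul_smul, hs, h3]
      exact h.symm
  · intro w hw h1
    obtain ⟨h2, h2', -, -, -⟩ := hV (rep w) ((hDrep w).1 hw)
    obtain h | h := hs0 w
    · rw [(key w hw _).1 h] at h1
      apply h2
      have h3 : s0 w • V (rep w) • rep w = s0 w • rep w := h1.trans h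
      exact smul_left_cancel _ h3
    · rw [(key w hw _).2 h] at h1
      apply h2
      have h3 : s0 w • τ (V (rep w) • rep w) = s0 w • τ (rep w) := h1.trans h
      have h4 := congrArg τ (smul_left_cancel _ h3)
      rwa [hτ, hτ] at h4
  · intro w hw h1
    obtain ⟨h2, h2', -, -, -⟩ := hV (rep w) ((hDrep w).1 hw)
    obtain h | h := hs0 w
    · rw [(key w hw _).1 h] at h1
      apply h2'
      have h3 : s0 w • V (rep w) • rep w = s0 w • τ (rep w) := h1.trans (by rw [hs]; exact congrArg τ h)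
      exact smul_left_cancel _ h3
    · rw [(key w hw _).2 h] at h1
      apply h2'
      have h3 : s0 w • τ (V (rep w) • rep w) = s0 w • rep w := h1.trans (by
        have h5 := congrArg τ h
        rw [hs, hτ] at h5
        exact h5)
      have h4 := congrArg τ (smul_left_cancel _ h3)
      rwa [hτ] at h4

end choice

/-! ### Normalising elements in 2-groups -/

section grp

variable {G : Type*} [Group G] [Finite G]

open Subgroup

/-- `N` normalised by the `p`-group `S`, `N ≤ S`, `N` not contained in `Q ≤ S`: an element of `N \ Q` normalises `Q`. -/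
theorem exists_norm {p : ℕ} [Fact p.Prime] {S N Q : Subgroup G} (hS : IsPGroup p S) (hN : N ≤ S) (hQ : Q ≤ S)
    (hn : ∀ s ∈ S, ∀ n ∈ N, s * n * s⁻¹ ∈ N) (hNQ : ¬ N ≤ Q) :
    ∃ v ∈ N, v ∉ Q ∧ ∀ q ∈ Q, v⁻¹ * q * v ∈ Q := by
  -- the group `Q N`
  let P : Subgroup G :=
    { carrier := {g | g ∈ S ∧ ∃ q ∈ Q, ∃ n ∈ N, g = q * n}
      one_mem' := ⟨one_mem _, 1, one_mem _, 1, one_mem _, (one_mul 1).symm⟩
      mul_mem' := by
        rintro a b ⟨ha, q, hq, n, hn1, rfl⟩ ⟨hb, q', hq', n', hn', rfl⟩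
        refine ⟨mul_mem ha hb, q * q', mul_mem hq hq', q'⁻¹ * n * q' * n', mul_mem ?_ hn', by group⟩
        have h1 := hn q'⁻¹ (inv_mem (hQ hq')) n hn1
        rwa [inv_inv] at h1
      inv_mem' := by
        rintro a ⟨ha, q, hq, n, hn1, rfl⟩
        refine ⟨inv_mem ha, q⁻¹, inv_mem hq, q * n⁻¹ * q⁻¹, hn q (hQ hq) _ (inv_mem hn1), by group⟩ }
  have hQP : Q ≤ P := fun q hq => ⟨hQ hq, q, hq, 1, one_mem _, (mul_one q).symm⟩
  have hNP : N ≤ P := fun n hn1 => ⟨hN hn1, 1, one_mem _, n, hn1, (one_mul n).symm⟩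
  have hPS : P ≤ S := fun g hg => hg.1
  have hPp : IsPGroup p P := hS.to_le hPS
  have hnil : Group.IsNilpotent P := hPp.isNilpotent
  have hlt : Q.subgroupOf P < ⊤ := by
    rw [lt_top_iff_ne_top]
    intro h
    apply hNQ
    intro n hn1
    have h1 : (⟨n, hNP hn1⟩ : P) ∈ Q.subgroupOf P := by rw [h]; exact mem_top _
    exact mem_subgroupOf.1 h1
  obtain ⟨w, hw, hwQ⟩ := SetLike.exists_of_lt (Group.normalizerCondition_of_isNilpotent (G := P) (Q.subgroupOf P) hlt)
  obtain ⟨hwS, q, hq, n, hn1, e⟩ := w.2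
  have hwn : ∀ x ∈ Q, (w : G)⁻¹ * x * w ∈ Q := by
    intro x hx
    have h1 := (Subgroup.mem_normalizer_iff''.1 hw ⟨x, hQP hx⟩).1 (mem_subgroupOf.2 hx)
    exact mem_subgroupOf.1 h1
  refine ⟨n, hn1, ?_, ?_⟩
  · intro h
    apply hwQ
    refine mem_subgroupOf.2 ?_
    rw [e]
    exact mul_mem hq h
  · intro x hx
    have h1 := hwn (q * x * q⁻¹) (mul_mem (mul_mem hq hx) (inv_mem hq))
    rw [e] at h1
    have h2 : (q * n)⁻¹ * (q * x * q⁻¹) * (q * n) = n⁻¹ * x * n := by group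
    rwa [h2] at h1

variable {Y Y1 S U Z : Subgroup G}

/-- **Lemma W'**: the sign on `G ⧸ Y1`. -/
theorem sign_eq (h1 : Y1 ≤ Y) (hidx : ∀ a ∈ Y, ∀ b ∈ Y, a ∉ Y1 → b ∉ Y1 → a * b ∈ Y1)
    (hSY : S ≤ Y) (hS : IsPGroup 2 S) (hUS : U ≤ S) (hU : ∀ g ∈ S, ∀ u ∈ U, g * u * g⁻¹ ∈ U)
    (hfix : ∀ g, (∀ u ∈ U, g⁻¹ * u * g ∈ Y) → g ∈ Y)
    (hZU : Z ≤ U) (hZ : ∀ g ∈ S, ∀ u ∈ Z, g * u * g⁻¹ ∈ Z) (hZ2 : ∀ u ∈ Z, u * u = 1) (hsq : ∀ u ∈ U, u * u ∈ Z)
    (hFa : ∀ g, ∀ y ∈ Z, y ≠ 1 → g⁻¹ * y * g ∈ Y → g⁻¹ * y * g ∈ Y1)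
    (hFb : ∀ g, (∀ y ∈ Z, g⁻¹ * y * g ∈ Y) → ∀ y ∈ U, g⁻¹ * y * g ∈ Y → g⁻¹ * y * g ∈ Y1)
    [Fintype (G ⧸ Y1)] [DecidableEq (G ⧸ Y1)] {x : G} (hx : x ∈ S) (hx1 : x ∉ Y1) :
    Equiv.Perm.sign (MulAction.toPerm x : Equiv.Perm (G ⧸ Y1)) = -1 := by
  have f2 : Fact (Nat.Prime 2) := ⟨Nat.prime_two⟩
  -- `Y1` is normal in `Y`
  have hnorm : ∀ y ∈ Y, ∀ k ∈ Y1, y⁻¹ * k * y ∈ Y1 := by
    intro y hy k hk
    by_cases hyY : y ∈ Y1
    · exact mul_mem (mul_mem (inv_mem hyY) hk) hyY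
    · have h2 : k * y ∉ Y1 := by
        intro h3
        apply hyY
        have h4 := mul_mem (inv_mem hk) h3
        rwa [inv_mul_cancel_left] at h4
      rw [mul_assoc]
      exact hidx _ (inv_mem hy) _ (mul_mem (h1 hk) hy) (fun h3 => hyY (by simpa using inv_mem h3)) h2
  have hxY := hSY hx
  -- right multiplication by `x`
  let τ : G ⧸ Y1 → G ⧸ Y1 := Quotient.map' (fun g => g * x) (by
    intro a b hab
    rw [QuotientGroup.leftRel_apply] at hab ⊢
    have h2 := hnorm x hxY _ hab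
    have h3 : (a * x)⁻¹ * (b * x) = x⁻¹ * (a⁻¹ * b) * x := by group
    rw [h3]; exact h2)
  have τmk : ∀ g : G, τ (QuotientGroup.mk g) = QuotientGroup.mk (g * x) := fun g => rfl
  have hxx : x * x ∈ Y1 := hidx x hxY x hxY hx1 hx1
  have mk_eq : ∀ a b : G, (QuotientGroup.mk a : G ⧸ Y1) = QuotientGroup.mk b ↔ a⁻¹ * b ∈ Y1 := fun a b => QuotientGroup.eq
  let D : G ⧸ Y1 → Prop := Quotient.lift (fun g => g ∉ Y) (by
    intro a b hab
    have h2 : a⁻¹ * b ∈ Y1 := QuotientGroup.leftRel_apply.1 hab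
    apply propext
    have h3 : a ∈ Y ↔ b ∈ Y := by
      constructor
      · intro ha
        have h4 := mul_mem ha (h1 h2)
        rwa [mul_inv_cancel_left] at h4
      · intro hb
        have h4 := mul_mem hb (inv_mem (h1 h2))
        have h5 : b * (a⁻¹ * b)⁻¹ = a := by group
        rwa [h5] at h4
    exact not_congr h3)
  have Dmk : ∀ g : G, D (QuotientGroup.mk g) ↔ g ∉ Y := fun g => Iff.rfl
  have hτ : ∀ w, τ (τ w) = w := by
    intro w
    induction w using QuotientGroup.induction_on with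
    | H g =>
      rw [τmk, τmk, mk_eq]
      have h2 : (g * x * x)⁻¹ * g = (x * x)⁻¹ := by group
      rw [h2]; exact inv_mem hxx
  have hτ1 : ∀ w, τ w ≠ w := by
    intro w
    induction w using QuotientGroup.induction_on with
    | H g =>
      rw [τmk, Ne, mk_eq]
      have h2 : (g * x)⁻¹ * g = x⁻¹ := by group
      rw [h2]
      exact fun h3 => hx1 (by simpa using inv_mem h3)
  have hs : ∀ (s : S) w, s • τ w = τ (s • w) := by
    intro s w
    induction w using QuotientGroup.induction_on with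
    | H g =>
      change (QuotientGroup.mk ((s : G) * (g * x)) : G ⧸ Y1) = QuotientGroup.mk ((s : G) * g * x)
      rw [mul_assoc]
  have Dτ : ∀ w, D (τ w) ↔ D w := by
    intro w
    induction w using QuotientGroup.induction_on with
    | H g =>
      rw [τmk, Dmk, Dmk, Subgroup.mul_mem_cancel_right _ hxY]
  have Ds : ∀ (s : S) w, D (s • w) ↔ D w := by
    intro s w
    induction w using QuotientGroup.induction_on with
    | H g =>
      change D (QuotientGroup.mk ((s : G) * g)) ↔ _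
      rw [Dmk, Dmk, Subgroup.mul_mem_cancel_left _ (hSY s.2)]
  -- the stabilisers
  have hst : ∀ (g : G) (s : S), s • (QuotientGroup.mk g : G ⧸ Y1) = QuotientGroup.mk g ↔ g⁻¹ * s * g ∈ Y1 := by
    intro g s
    change (QuotientGroup.mk ((s : G) * g) : G ⧸ Y1) = _ ↔ _
    rw [mk_eq]
    have h2 : ((s : G) * g)⁻¹ * g = (g⁻¹ * s * g)⁻¹ := by group
    rw [h2, inv_mem_iff]
  have hst' : ∀ (g : G) (s : S), s • (QuotientGroup.mk g : G ⧸ Y1) = τ (QuotientGroup.mk g) →
      g⁻¹ * s * g ∈ Y := by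
    intro g s h
    rw [τmk] at h
    change (QuotientGroup.mk ((s : G) * g) : G ⧸ Y1) = _ at h
    rw [mk_eq] at h
    have h2 := mul_mem hxY (inv_mem (h1 h))
    have h3 : x * (((s : G) * g)⁻¹ * (g * x))⁻¹ = g⁻¹ * s * g := by group
    rwa [h3] at h2
  have hv : ∀ w, D w → ∃ v : S, v • w ≠ w ∧ v • w ≠ τ w ∧ v • v • w = w ∧
      (∀ q : S, q • w = w → q • v • w = v • w) ∧ ∀ q : S, q • w = τ w → q • v • w = τ (v • w) := by
    intro w
    induction w using QuotientGroup.induction_on with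
    | H g =>
      intro hg
      rw [Dmk] at hg
      let Q : Subgroup G :=
        { carrier := {s | s ∈ S ∧ g⁻¹ * s * g ∈ Y}
          one_mem' := ⟨one_mem _, by
            rw [mul_one, inv_mul_cancel]; exact one_mem _⟩
          mul_mem' := by
            rintro a b ⟨ha, ha'⟩ ⟨hb, hb'⟩
            refine ⟨mul_mem ha hb, ?_⟩
            have h2 := mul_mem ha' hb'
            have h3 : g⁻¹ * a * g * (g⁻¹ * b * g) = g⁻¹ * (a * b) * g := by group
            rwa [h3] at h2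
          inv_mem' := by
            rintro a ⟨ha, ha'⟩
            refine ⟨inv_mem ha, ?_⟩
            have h2 := inv_mem ha'
            have h3 : (g⁻¹ * a * g)⁻¹ = g⁻¹ * a⁻¹ * g := by group
            rwa [h3] at h2 }
      have hQS : Q ≤ S := fun s hs => hs.1
      -- the element `v`
      obtain ⟨v, hvS, hvQ, hvv, hcomm⟩ : ∃ v ∈ S, v ∉ Q ∧ g⁻¹ * (v * v) * g ∈ Y1 ∧
          ∀ q ∈ Q, g⁻¹ * (q⁻¹ * (v⁻¹ * q * v)) * g ∈ Y1 := by
        by_cases hZQ : Z ≤ Q
        · have hUQ : ¬ U ≤ Q := fun h => hg (hfix g fun u hu => (h hu).2)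
          obtain ⟨v, hv, hvQ, hn⟩ := exists_norm hS hUS hQS hU hUQ
          refine ⟨v, hUS hv, hvQ, hFb g (fun y hy => (hZQ hy).2) _ (mul_mem hv hv) (hZQ (hsq v hv)).2, ?_⟩
          intro q hq
          have h2 : q⁻¹ * (v⁻¹ * q * v) ∈ U := by
            have h3 := hU q⁻¹ (inv_mem (hQS hq)) v⁻¹ (inv_mem hv)
            rw [inv_inv] at h3
            have h4 := mul_mem h3 hv
            have h5 : q⁻¹ * v⁻¹ * q * v = q⁻¹ * (v⁻¹ * q * v) := by group
            rwa [h5] at h4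
          exact hFb g (fun y hy => (hZQ hy).2) _ h2 (mul_mem (inv_mem hq) (hn q hq)).2
        · obtain ⟨v, hv, hvQ, hn⟩ := exists_norm hS (hZU.trans hUS) hQS hZ hZQ
          have hone : ∀ y ∈ Z, g⁻¹ * y * g ∈ Y → g⁻¹ * y * g ∈ Y1 := by
            intro y hy h
            by_cases h2 : y = 1
            · rw [h2, mul_one, inv_mul_cancel]; exact one_mem _
            · exact hFa g y hy h2 h
          refine ⟨v, hUS (hZU hv), hvQ, ?_, ?_⟩
          · rw [hZ2 v hv, mul_one, inv_mul_cancel]; exact one_mem _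
          · intro q hq
            have h2 : q⁻¹ * (v⁻¹ * q * v) ∈ Z := by
              have h3 := hZ q⁻¹ (inv_mem (hQS hq)) v⁻¹ (inv_mem hv)
              rw [inv_inv] at h3
              have h4 := mul_mem h3 hv
              have h5 : q⁻¹ * v⁻¹ * q * v = q⁻¹ * (v⁻¹ * q * v) := by group
              rwa [h5] at h4
            exact hone _ h2 (mul_mem (inv_mem hq) (hn q hq)).2
      have hvw : ∀ q : S, (q : G) ∈ Q → ∀ w' : G ⧸ Y1, q • (QuotientGroup.mk g : G ⧸ Y1) = w' →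
          q • (⟨v, hvS⟩ : S) • (QuotientGroup.mk g : G ⧸ Y1) = (⟨v, hvS⟩ : S) • w' := by
        intro q hq w' hw'
        rw [← hw']
        change (QuotientGroup.mk ((q : G) * (v * g)) : G ⧸ Y1) = QuotientGroup.mk (v * ((q : G) * g))
        rw [eq_comm, mk_eq]
        have h2 := hcomm q hq
        have h3 : (v * ((q : G) * g))⁻¹ * ((q : G) * (v * g)) = g⁻¹ * ((q : G)⁻¹ * (v⁻¹ * q * v)) * g := by group
        rwa [h3]
      refine ⟨⟨v, hvS⟩, ?_, ?_, ?_, ?_, ?_⟩
      · intro h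
        rw [hst] at h
        exact hvQ ⟨hvS, h1 h⟩
      · intro h
        exact hvQ ⟨hvS, hst' g _ h⟩
      · rw [← mul_smul, hst]
        exact hvv
      · intro q hq
        exact hvw q ⟨q.2, h1 ((hst g q).1 hq)⟩ _ hq
      · intro q hq
        rw [← hs]
        exact hvw q ⟨q.2, hst' g q hq⟩ _ hq
  obtain ⟨f, Df, fs, fτ, ff, f1', f2'⟩ := exists_equivariant (S := S) τ D hτ hs Dτ Ds hv
  have hxs : ∀ w : G ⧸ Y1, (MulAction.toPerm x : Equiv.Perm (G ⧸ Y1)) w = (⟨x, hx⟩ : S) • w := fun w => rfl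
  refine sign_eq_neg_one (MulAction.toPerm x) τ f D hτ hτ1 ?_ Dτ ?_ Df ?_ fτ ff f1' f2' (w0 := QuotientGroup.mk 1) ?_ ?_ ?_
  · intro w
    rw [hxs, hxs, hs]
  · intro w
    rw [hxs, Ds]
  · intro w hw
    rw [hxs, hxs]
    exact fs _ w hw
  · rw [Dmk, not_not]
    exact one_mem _
  · intro w
    induction w using QuotientGroup.induction_on with
    | H g =>
      intro hg
      rw [Dmk, not_not] at hg
      rw [τmk, mk_eq, mk_eq]
      by_cases hg1 : g ∈ Y1
      · left
        rw [mul_one]; exact inv_mem hg1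
      · right
        rw [one_mul]
        exact hidx _ (inv_mem hg) _ hxY (fun h => hg1 (by simpa using inv_mem h)) hx1
  · rw [τmk]
    change (QuotientGroup.mk (x * 1) : G ⧸ Y1) = _
    rw [mul_one, one_mul]

/-- **Lemma W'**: a homomorphism to `±1`, non-trivial on `S \ Y1`. -/
theorem exists_hom (h1 : Y1 ≤ Y) (hidx : ∀ a ∈ Y, ∀ b ∈ Y, a ∉ Y1 → b ∉ Y1 → a * b ∈ Y1)
    (hSY : S ≤ Y) (hS : IsPGroup 2 S) (hUS : U ≤ S) (hU : ∀ g ∈ S, ∀ u ∈ U, g * u * g⁻¹ ∈ U)
    (hfix : ∀ g, (∀ u ∈ U, g⁻¹ * u * g ∈ Y) → g ∈ Y)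
    (hZU : Z ≤ U) (hZ : ∀ g ∈ S, ∀ u ∈ Z, g * u * g⁻¹ ∈ Z) (hZ2 : ∀ u ∈ Z, u * u = 1) (hsq : ∀ u ∈ U, u * u ∈ Z)
    (hFa : ∀ g, ∀ y ∈ Z, y ≠ 1 → g⁻¹ * y * g ∈ Y → g⁻¹ * y * g ∈ Y1)
    (hFb : ∀ g, (∀ y ∈ Z, g⁻¹ * y * g ∈ Y) → ∀ y ∈ U, g⁻¹ * y * g ∈ Y → g⁻¹ * y * g ∈ Y1) :
    ∃ χ : G →* ℤˣ, ∀ x ∈ S, x ∉ Y1 → χ x = -1 := by
  classical
  have : Fintype (G ⧸ Y1) := Fintype.ofFinite _
  exact ⟨Equiv.Perm.sign.comp (MulAction.toPermHom G (G ⧸ Y1)), fun x hx hx1 =>
    sign_eq h1 hidx hSY hS hUS hU hfix hZU hZ hZ2 hsq hFa hFb hx hx1⟩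

/-- **Lemma W'**: elements of `S \ Y1` lie in no perfect subgroup. -/
theorem not_mem (h1 : Y1 ≤ Y) (hidx : ∀ a ∈ Y, ∀ b ∈ Y, a ∉ Y1 → b ∉ Y1 → a * b ∈ Y1)
    (hSY : S ≤ Y) (hS : IsPGroup 2 S) (hUS : U ≤ S) (hU : ∀ g ∈ S, ∀ u ∈ U, g * u * g⁻¹ ∈ U)
    (hfix : ∀ g, (∀ u ∈ U, g⁻¹ * u * g ∈ Y) → g ∈ Y)
    (hZU : Z ≤ U) (hZ : ∀ g ∈ S, ∀ u ∈ Z, g * u * g⁻¹ ∈ Z) (hZ2 : ∀ u ∈ Z, u * u = 1) (hsq : ∀ u ∈ U, u * u ∈ Z)
    (hFa : ∀ g, ∀ y ∈ Z, y ≠ 1 → g⁻¹ * y * g ∈ Y → g⁻¹ * y * g ∈ Y1)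
    (hFb : ∀ g, (∀ y ∈ Z, g⁻¹ * y * g ∈ Y) → ∀ y ∈ U, g⁻¹ * y * g ∈ Y → g⁻¹ * y * g ∈ Y1)
    {E : Subgroup G} (hE : commutator E = ⊤) {x : G} (hx : x ∈ S) (hxE : x ∈ E) : x ∈ Y1 := by
  by_contra hx1
  obtain ⟨χ, hχ⟩ := exists_hom h1 hidx hSY hS hUS hU hfix hZU hZ hZ2 hsq hFa hFb
  have h2 := hχ x hx hx1
  have h3 : commutator E ≤ (χ.comp E.subtype).ker := by
    rw [commutator_def, Subgroup.commutator_le]
    intro a _ b _
    rw [MonoidHom.mem_ker, map_commutatorElement, commutatorElement_eq_one_iff_mul_comm, mul_comm]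
  rw [hE] at h3
  have h4 : (⟨x, hxE⟩ : E) ∈ (χ.comp E.subtype).ker := h3 (mem_top _)
  rw [MonoidHom.mem_ker] at h4
  have h5 : χ x = 1 := h4
  rw [h5] at h2
  exact absurd h2 (by decide)

end grp

end Cfsg.Agent.StdRank2.SwapSign
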