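import Cfsg.Agent.StdRank2.TXAct

/-!
# Generation of `A` by root groups of the environments, types `U₄`, `U₅`

`gen4`: `A = ⟨X_a, X_b, X_a^na, X_b^nb⟩`; `gen5`: `A = ⟨X_a, p2, X_a^na, p2^nb⟩`; `gen_UU`: `A = ⟨U, na, nb⟩`.
-/

set_option autoImplicit false
set_option linter.unusedSectionVars false

namespace Cfsg.Agent.StdRank2.TXGen

open Subgroup
open Cfsg.Agent.TitsThree.B2Pkg Cfsg.Agent.TitsThree.RankTwoIdentB2
  Cfsg.Agent.TitsThree.CoreB2 Cfsg.Agent.TitsThree.RankTwoIdx Cfsg.Agent.TitsThree.RankTwoRGD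
  Cfsg.Agent.TitsThree.StdData
open Cfsg.Agent.StdRank2.OddLift Cfsg.Agent.StdRank2.B2Lift Cfsg.Agent.StdRank2.B2Std
  Cfsg.Agent.StdRank2.B2Torus Cfsg.Agent.StdRank2.B2Act Cfsg.Agent.StdRank2.B2Act.Std
  Cfsg.Agent.StdRank2.B2Amb Cfsg.Agent.StdRank2.UFour Cfsg.Agent.StdRank2.B2Conn
  Cfsg.Agent.StdRank2.UEnvW Cfsg.Agent.StdRank2.UEnv4 Cfsg.Agent.StdRank2.UEnv5
open Cfsg.Agent.StdRank2.OutB2G Cfsg.Agent.StdRank2.OutB2Aut Cfsg.Agent.StdRank2.OutB2Inv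
open Cfsg.Agent.StdRank2.UFive (Tp)

universe u

section gen

variable {G : Type u} [Group G] {A : Subgroup G}
variable {F : Type*} [Field F] [CharP F 2] {V : Type*} [AddCommGroup V] [Module F V] {D : PQDatum F V}
variable {S : Std D ↥A} (h1 : D.ok 0 1)

theorem x'_eq (a : F) : ((S.m.x' a : ↥A) : G) = (S.m.nI : ↥A) * (S.m.x a : ↥A) * ((S.m.nI : ↥A) : G)⁻¹ :=
  (congrArg A.subtype (B2Rel2.nI_x S a)).symm

theorem z₂'_eq (q : D.T) : ((S.m.z₂' q : ↥A) : G) =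
    (B2Rel2.nb S h1 : ↥A) * (S.m.z₂ q : ↥A) * ((B2Rel2.nb S h1 : ↥A) : G)⁻¹ :=
  (congrArg A.subtype (B2Rel2.nb_z₂ S h1 q)).symm

/-- generation of `A` -/
theorem le_of {P : Subgroup G} (hx : ∀ a, (S.m.x a : G) ∈ P)
    (hx' : ∀ a, (S.m.nI : G) * (S.m.x a : G) * (S.m.nI : G)⁻¹ ∈ P) (hz : ∀ q, (S.m.z₂ q : G) ∈ P)
    (hz' : ∀ q, ((B2Rel2.nb S h1 : ↥A) : G) * (S.m.z₂ q : G) * ((B2Rel2.nb S h1 : ↥A) : G)⁻¹ ∈ P) : A ≤ P :=
  A_le hx (fun a => by rw [x'_eq]; exact hx' a) hz (fun a => by rw [z₂'_eq h1]; exact hz' a)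

end gen

section four

variable {G : Type u} [Group G] {A : Subgroup G} [Finite A] {t : G}
variable {F : Type*} [Field F] [Finite F] [CharP F 2] {B : Bar F}
variable {S : Std (stdU0 F B.s B.invol) ↥A}
variable (hy : Hyp S B t) {lam : B.K} (h0 : lam ≠ 0) (h1 : lam ≠ 1)

/-- **Generation, type `U₄`.** -/
theorem gen4 : A = closure {g | (∃ s, g = (env4 S hy h0 h1).xa s) ∨ (∃ r, g = (env4 S hy h0 h1).xb r) ∨
    (∃ s, g = (env4 S hy h0 h1).na * (env4 S hy h0 h1).xa s * (env4 S hy h0 h1).na⁻¹) ∨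
    (∃ r, g = (env4 S hy h0 h1).nb * (env4 S hy h0 h1).xb r * (env4 S hy h0 h1).nb⁻¹)} := by
  apply le_antisymm
  · apply le_of (S := S) (hy.hB.ok0 1)
    · exact fun a => subset_closure (Or.inl ⟨a, rfl⟩)
    · exact fun a => subset_closure (Or.inr (Or.inr (Or.inl ⟨a, rfl⟩)))
    · intro q
      obtain ⟨k, rfl⟩ := exists_tk hy.hB (p := q) rfl
      exact subset_closure (Or.inr (Or.inl ⟨k, rfl⟩))
    · intro q
      obtain ⟨k, rfl⟩ := exists_tk hy.hB (p := q) rfl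
      exact subset_closure (Or.inr (Or.inr (Or.inr ⟨k, rfl⟩)))
  · rw [closure_le]
    rintro g (⟨s, rfl⟩ | ⟨r, rfl⟩ | ⟨s, rfl⟩ | ⟨r, rfl⟩)
    · exact (S.m.x s).2
    · exact (S.m.z₂ _).2
    · exact (S.m.nI * S.m.x s * S.m.nI⁻¹).2
    · exact (S.m.nII (tk hy.hB 1) * S.m.z₂ (tk hy.hB r) * (S.m.nII (tk hy.hB 1))⁻¹).2

/-- `A = ⟨U, na, nb⟩` -/
theorem gen4_UU : A = closure ((SeedPre.UU (env4 S hy h0 h1).toWEnv : Set G) ∪
    {(env4 S hy h0 h1).na, (env4 S hy h0 h1).nb}) := by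
  have hU : ∀ u ∈ S.U, (u : G) ∈ closure ((SeedPre.UU (env4 S hy h0 h1).toWEnv : Set G) ∪
      {(env4 S hy h0 h1).na, (env4 S hy h0 h1).nb}) := fun u hu =>
    subset_closure (Or.inl (B2CentZ.mem_UU_of hy h0 h1 hu))
  have hna : (env4 S hy h0 h1).na ∈ closure ((SeedPre.UU (env4 S hy h0 h1).toWEnv : Set G) ∪
      {(env4 S hy h0 h1).na, (env4 S hy h0 h1).nb}) := subset_closure (Or.inr (Or.inl rfl))
  have hnb : (env4 S hy h0 h1).nb ∈ closure ((SeedPre.UU (env4 S hy h0 h1).toWEnv : Set G) ∪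
      {(env4 S hy h0 h1).na, (env4 S hy h0 h1).nb}) := subset_closure (Or.inr (Or.inr rfl))
  apply le_antisymm
  · apply le_of (S := S) (hy.hB.ok0 1)
    · exact fun a => hU _ (x_mem a)
    · exact fun a => mul_mem (mul_mem hna (hU _ (x_mem a))) (inv_mem hna)
    · exact fun q => hU _ (z₂_mem q)
    · exact fun q => mul_mem (mul_mem hnb (hU _ (z₂_mem q))) (inv_mem hnb)
  · rw [closure_le]
    rintro g (hg | rfl | rfl)
    · obtain ⟨u, -, rfl⟩ := B2CentZ.UU_le hy h0 h1 hg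
      exact u.2
    · exact (S.m.nI).2
    · exact (S.m.nII (tk hy.hB 1)).2

end four

section five

variable {G : Type u} [Group G] {A : Subgroup G} [Finite A] {t : G}
variable {F : Type*} [Field F] [Finite F] [CharP F 2] {B : Bar F}
variable {S : Std (stdU1 F B.s B.invol) ↥A}
variable (hy : Hyp S B t) {lam : B.K} (h0 : lam ≠ 0) (h1 : lam ≠ 1)

/-- **Generation, type `U₅`.** -/
theorem gen5 : A = closure {g | (∃ s, g = (env5 S hy h0 h1).xa s) ∨ (∃ r, g = (env5 S hy h0 h1).p2 r) ∨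
    (∃ s, g = (env5 S hy h0 h1).na * (env5 S hy h0 h1).xa s * (env5 S hy h0 h1).na⁻¹) ∨
    (∃ r, g = (env5 S hy h0 h1).nb * (env5 S hy h0 h1).p2 r * (env5 S hy h0 h1).nb⁻¹)} := by
  apply le_antisymm
  · apply le_of (S := S) (one_ok hy.hB)
    · exact fun a => subset_closure (Or.inl ⟨a, rfl⟩)
    · exact fun a => subset_closure (Or.inr (Or.inr (Or.inl ⟨a, rfl⟩)))
    · exact fun q => subset_closure (Or.inr (Or.inl ⟨vc q, rfl⟩))
    · exact fun q => subset_closure (Or.inr (Or.inr (Or.inr ⟨vc q, rfl⟩)))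
  · rw [closure_le]
    rintro g (⟨s, rfl⟩ | ⟨r, rfl⟩ | ⟨s, rfl⟩ | ⟨r, rfl⟩)
    · exact (S.m.x s).2
    · exact (S.m.z₂ _).2
    · exact (S.m.nI * S.m.x s * S.m.nI⁻¹).2
    · exact (B2Rel2.nb S (one_ok hy.hB) * S.m.z₂ (cv r) * (B2Rel2.nb S (one_ok hy.hB))⁻¹).2

/-- `A = ⟨U, na, nb⟩` -/
theorem gen5_UU : A = closure ((SeedPre.UU (env5 S hy h0 h1).toWEnv : Set G) ∪
    {(env5 S hy h0 h1).na, (env5 S hy h0 h1).nb}) := by
  have hU : ∀ u ∈ S.U, (u : G) ∈ closure ((SeedPre.UU (env5 S hy h0 h1).toWEnv : Set G) ∪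
      {(env5 S hy h0 h1).na, (env5 S hy h0 h1).nb}) := fun u hu =>
    subset_closure (Or.inl (B2CentZ.mem_UU_of hy h0 h1 hu))
  have hna : (env5 S hy h0 h1).na ∈ closure ((SeedPre.UU (env5 S hy h0 h1).toWEnv : Set G) ∪
      {(env5 S hy h0 h1).na, (env5 S hy h0 h1).nb}) := subset_closure (Or.inr (Or.inl rfl))
  have hnb : (env5 S hy h0 h1).nb ∈ closure ((SeedPre.UU (env5 S hy h0 h1).toWEnv : Set G) ∪
      {(env5 S hy h0 h1).na, (env5 S hy h0 h1).nb}) := subset_closure (Or.inr (Or.inr rfl))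
  apply le_antisymm
  · apply le_of (S := S) (one_ok hy.hB)
    · exact fun a => hU _ (x_mem a)
    · exact fun a => mul_mem (mul_mem hna (hU _ (x_mem a))) (inv_mem hna)
    · exact fun q => hU _ (z₂_mem q)
    · exact fun q => mul_mem (mul_mem hnb (hU _ (z₂_mem q))) (inv_mem hnb)
  · rw [closure_le]
    rintro g (hg | rfl | rfl)
    · obtain ⟨u, -, rfl⟩ := B2CentZ.UU_le hy h0 h1 hg
      exact u.2
    · exact (S.m.nI).2
    · exact (B2Rel2.nb S (one_ok hy.hB)).2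

end five

end Cfsg.Agent.StdRank2.TXGen
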