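import Cfsg.Agent.StdRank2.B2Amb
import Cfsg.Agent.StdRank2.UFour.Env

/-!
# The environment of the `W`-level for `U₄`, `U₅`, characteristic two, from a `B₂` package

`UD B D`: `D` is a parameter system over `F` with involution `B` and `(0, k)` in the parameter group for
`k ∈ K`.  `wenv`: the structure `UFour.WEnv` with `Q = V_I`.
-/

set_option autoImplicit false
set_option linter.unusedSectionVars false
set_option linter.unusedSimpArgs false

namespace Cfsg.Agent.StdRank2.UEnvW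

open Subgroup
open Cfsg.Agent.TitsThree.B2Pkg Cfsg.Agent.TitsThree.RankTwoIdentB2
  Cfsg.Agent.TitsThree.CoreB2 Cfsg.Agent.TitsThree.RankTwoIdx Cfsg.Agent.TitsThree.RankTwoRGD
  Cfsg.Agent.TitsThree.StdData
open Cfsg.Agent.StdRank2.OddLift Cfsg.Agent.StdRank2.B2Lift Cfsg.Agent.StdRank2.B2Std
  Cfsg.Agent.StdRank2.B2Torus Cfsg.Agent.StdRank2.B2Act Cfsg.Agent.StdRank2.B2Act.Std
  Cfsg.Agent.StdRank2.B2Par Cfsg.Agent.StdRank2.B2Par.Std Cfsg.Agent.StdRank2.B2Self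
  Cfsg.Agent.StdRank2.B2Amb Cfsg.Agent.StdRank2.UFour
open scoped commutatorElement Pointwise

universe u

variable {F : Type*} [Field F] {V : Type*} [AddCommGroup V] [Module F V]

/-- compatibility of the parameter system with the involution -/
structure UD (B : Bar F) (D : PQDatum F V) : Prop where
  σ : ∀ x, D.σ x = B.s x
  ε : D.ε = 1
  ok0 : ∀ k : B.K, D.ok 0 (k : F)
  nondeg : ∀ p : D.T, (∀ r : D.T, D.h p.w r.w = 0) → p.w = 0

variable {B : Bar F} {D : PQDatum F V}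

section gen

variable [CharP F 2] (hB : UD B D)
include hB

/-- the central element `(0, k)` -/
def tk (k : B.K) : D.T := ⟨0, k, hB.ok0 k⟩

theorem tk_w (k : B.K) : (tk hB k).w = 0 := rfl
theorem tk_c (k : B.K) : (tk hB k).c = k := rfl

theorem tk_mul (k l : B.K) : tk hB (k + l) = tk hB k * tk hB l := by
  ext
  · simp [tk]
  · simp [tk, D.zero_left]

theorem exists_tk {p : D.T} (hp : p.w = 0) : ∃ k, p = tk hB k := by
  have h1 := p.rel
  rw [hp, D.zero_left, hB.ε, one_mul, hB.σ, neg_zero] at h1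
  have h2 : B.s p.c = p.c := by
    have h3 := eq_neg_of_add_eq_zero_left h1
    rw [CharTwo.neg_eq] at h3
    exact h3.symm
  refine ⟨⟨p.c, h2⟩, ?_⟩
  ext
  · exact hp
  · rfl

theorem sc_neg_one (p : D.T) : D.sc (-1) p = p := by
  have : (-1 : F) = 1 := CharTwo.neg_eq 1
  rw [this, D.sc_one]

theorem tk_eq {p : D.T} (hw : p.w = 0) {k : B.K} (hc : p.c = k) : p = tk hB k := by
  ext
  · exact hw
  · exact hc

theorem lam_U {lam : B.K} (h0 : lam ≠ 0) (h1 : lam ≠ 1) : Lam D (lam : F) where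
  ne0 h := h0 (Subtype.ext h)
  ne1 h := h1 (Subtype.ext h)
  σ := by rw [hB.σ]; exact lam.2
  ok := hB.ok0 lam
  ok1 := by simpa using hB.ok0 1

end gen

/-- the square root -/
theorem exists_rt [Finite F] [CharP F 2] (a : F) : ∃ s : F, s * s = a := by
  have := Fintype.ofFinite F
  obtain ⟨s, hs⟩ := FiniteField.isSquare_of_char_two (F := F)
    (CharP.ringChar_of_prime_eq_zero Nat.prime_two (by exact_mod_cast CharP.cast_eq_zero F 2)) a
  exact ⟨s, hs.symm⟩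

theorem eq_of_sq [CharP F 2] {a b : F} (h : a * a = b * b) : a = b := by
  have h2 : (2 : F) = 0 := by exact_mod_cast CharP.cast_eq_zero F 2
  have h3 : (a + b) * (a + b) = 0 := by linear_combination h + (b * b + a * b) * h2
  have h4 := mul_self_eq_zero.1 h3
  linear_combination h4 - b * h2

section inA

variable {A : Type u} [Group A] (S : B2Std.Std D A) [Finite F] [CharP F 2] (hB : UD B D)
include hB

/-- the torus elements with given weights on `x` and `z₂(0,·)` -/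
theorem exists_h (μ : Fˣ) (ν : B.Kˣ) : ∃ g ∈ S.H, ∃ l m : F, TAct S.m g l m 1 ∧ l * m⁻¹ = μ ∧
    m * D.σ m = ((ν : B.K) : F) := by
  obtain ⟨s, hs⟩ := exists_rt (μ : F)
  have hs0 : s ≠ 0 := by
    rintro rfl
    exact μ.ne_zero (by rw [← hs, mul_zero])
  have hσs := D.σ_ne hs0
  obtain ⟨κ, hκ⟩ := exists_rt (((ν : B.K) : F) * (s * D.σ s))
  have hν0 : ((ν : B.K) : F) ≠ 0 := by
    intro h
    exact ν.ne_zero (Subtype.ext h)
  have hκ0 : κ ≠ 0 := by
    rintro rfl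
    rw [mul_zero] at hκ
    exact (mul_ne_zero hν0 (mul_ne_zero hs0 hσs)) hκ.symm
  have hσκ : B.s κ = κ := by
    apply eq_of_sq
    rw [← map_mul, hκ, map_mul, map_mul, hB.σ s, B.invol, B.s_K]
    ring
  have hok : D.ok 0 κ := hB.ok0 ⟨κ, hσκ⟩
  have hok1 : D.ok 0 1 := by simpa using hB.ok0 1
  obtain ⟨g, hg, tg⟩ := exists_hK S.rel S.hp₀ hok hok1 hκ0
  have tt := (tact_hI S.rel S.hp₀ hs0).mul tg
  rw [mul_one] at tt
  refine ⟨hI S.m s * g, mul_mem (hI_mem_H hs0) hg, _, _, tt, ?_, ?_⟩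
  · rw [← hs]; field_simp
  · rw [map_mul, map_inv₀, hB.σ κ, hσκ]
    have e : s⁻¹ * κ * ((D.σ s)⁻¹ * κ) = κ * κ * (s * D.σ s)⁻¹ := by rw [mul_inv]; ring
    rw [e, hκ, mul_inv_cancel_right₀ (mul_ne_zero hs0 hσs)]

theorem center_VI {v : A} (hv : v ∈ S.VI) (hc : ∀ w ∈ S.VI, v * w = w * v) :
    ∃ x y z, v = S.m.z₁ (tk hB x) * S.m.y y * S.m.z₂ (tk hB z) := by
  obtain ⟨p, b, q, rfl⟩ := mem_VI_iff.1 hv
  have hq : q.w = 0 := by
    apply hB.nondeg
    intro r
    have h1 := hc _ (S.z₁_mem_VI r)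
    rw [z₁_eq_nf S.rel, mul_nf S.rel, mul_nf S.rel] at h1
    have h2 := (S.nf_inj h1).2.2.1
    simp only [PQDatum.T.one_c, PQDatum.T.one_w, map_zero, D.zero_right, D.zero_left,
      mul_zero, zero_mul, add_zero, zero_add] at h2
    exact left_eq_add.1 h2.symm
  have hp : p.w = 0 := by
    apply hB.nondeg
    intro r
    have h1 := hc _ (S.z₂_mem_VI r)
    rw [z₂_eq_nf S.rel, mul_nf S.rel, mul_nf S.rel] at h1
    have h2 := (S.nf_inj h1).2.2.1
    simp only [PQDatum.T.one_c, PQDatum.T.one_w, map_zero, D.zero_right, D.zero_left,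
      mul_zero, zero_mul, add_zero, zero_add] at h2
    have h3 : D.h r.w p.w = 0 := by
      have h4 : b = b + D.h r.w p.w := by
        rw [add_comm]; exact h2
      exact left_eq_add.1 h4
    rw [D.swap, h3, map_zero, mul_zero]
  obtain ⟨k, rfl⟩ := exists_tk hB hp
  obtain ⟨l, rfl⟩ := exists_tk hB hq
  refine ⟨k, b, l, ?_⟩
  unfold B2Std.nf
  rw [show S.m.x 0 = 1 from add_zero' S.rel.x_add, one_mul]

omit [Finite F] hB in
/-- `n_I` is an involution -/
theorem nI_sq (hZ : Subgroup.center A = ⊥) : S.m.nI * S.m.nI = 1 := by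
  have key : ∀ {a b c : A}, S.m.nI * a * S.m.nI⁻¹ = b → S.m.nI * b * S.m.nI⁻¹ = c →
      (S.m.nI * S.m.nI) * a * (S.m.nI * S.m.nI)⁻¹ = c := by
    intro a b c h1 h2
    rw [← h2, ← h1]; group
  have h1 : (-1 : F) = 1 := CharTwo.neg_eq 1
  have h := B2Torus.Std.mem_center S (g := S.m.nI * S.m.nI)
    (fun a => (key (S.rel.nI_x a) (S.rel.nI_x' _)).trans (by rw [neg_neg]))
    (fun a => (key (S.rel.nI_x' a) (S.rel.nI_x _)).trans (by rw [neg_neg]))
    (fun p => (key (S.rel.nI_z₂ p) (S.rel.nI_z₁ _)).trans (by rw [h1, D.sc_one]))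
    (fun p => (key (S.rel.nI_z₂' p) (S.rel.nI_z₁' _)).trans (by rw [h1, D.sc_one]))
  rwa [hZ, mem_bot] at h

theorem one_tk : (tk hB 1).c ≠ 0 := one_ne_zero

/-- the involution `n_II(0,1)` -/
theorem nb_sq (hZ : Subgroup.center A = ⊥) :
    S.m.nII (tk hB 1) * S.m.nII (tk hB 1) = 1 := by
  have key : ∀ {a b c : A}, S.m.nII (tk hB 1) * a * (S.m.nII (tk hB 1))⁻¹ = b →
      S.m.nII (tk hB 1) * b * (S.m.nII (tk hB 1))⁻¹ = c →
      (S.m.nII (tk hB 1) * S.m.nII (tk hB 1)) * a * (S.m.nII (tk hB 1) * S.m.nII (tk hB 1))⁻¹ = c := by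
    intro a b c h1 h2
    rw [← h2, ← h1]; group
  have e1 : (tk hB 1).c = 1 := rfl
  have hc := one_tk hB
  have hr : ∀ q, D.refl (tk hB 1) hc q = q := by
    intro q
    ext
    · rw [D.refl_w, tk_w, smul_zero, add_zero]
    · rfl
  have h := B2Torus.Std.mem_center S (g := S.m.nII (tk hB 1) * S.m.nII (tk hB 1))
    (fun a => (key (S.rel.nII_x _ hc a) (S.rel.nII_y _ hc _)).trans (by
      rw [e1, hB.ε, map_one, inv_one, one_mul, one_mul, one_mul]))
    (fun a => (key (S.rel.nII_x' _ hc a) (S.rel.nII_y' _ hc _)).trans (by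
      rw [e1, hB.ε, inv_one, map_neg, map_mul, map_one, D.σσ]; congr 1; ring))
    (fun p => (key (S.rel.nII_z₂ _ hc p) (S.rel.nII_z₂' _ hc _)).trans (by
      rw [hr, hr, e1, hB.ε, map_one, inv_one, mul_one, D.sc_one, D.sc_one]))
    (fun p => (key (S.rel.nII_z₂' _ hc p) (S.rel.nII_z₂ _ hc _)).trans (by
      rw [hr, hr, e1, hB.ε, map_one, inv_one, mul_one, D.sc_one, D.sc_one]))
  rwa [hZ, mem_bot] at h

end inA

section ambient

variable {G : Type u} [Group G] {A : Subgroup G} [Finite A] (S : B2Std.Std D ↥A)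
variable [Finite F] [CharP F 2] [Finite D.T]

theorem conj_mem_map_iff {H : Subgroup ↥A} {n : ↥A} (h1 : ∀ v ∈ H, n * v * n⁻¹ ∈ H) (g : G) :
    g ∈ H.map A.subtype ↔ (n : G) * g * (n : G)⁻¹ ∈ H.map A.subtype := by
  have h2 : n ∈ Subgroup.normalizer (H : Set ↥A) := mem_normalizer_of_conj h1
  constructor
  · rintro ⟨v, hv, rfl⟩
    exact ⟨n * v * n⁻¹, h1 v hv, rfl⟩
  · rintro ⟨v, hv, e⟩
    refine ⟨n⁻¹ * v * n, ?_, ?_⟩
    · have := (mem_normalizer_iff.1 (inv_mem h2) v).1 hv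
      rwa [inv_inv] at this
    · change ((n : G))⁻¹ * (v : G) * n = g
      have e' : (v : G) = (n : G) * g * (n : G)⁻¹ := e
      rw [e']; group

theorem nI_VI (v : ↥A) (hv : v ∈ S.VI) : S.m.nI * v * S.m.nI⁻¹ ∈ S.VI := by
  have := S.nVI v hv
  rwa [nt_one] at this

theorem nI_H (v : ↥A) (hv : v ∈ S.H) : S.m.nI * v * S.m.nI⁻¹ ∈ S.H := by
  have h1 : S.r2.core.nI * v * S.r2.core.nI⁻¹ ∈ S.r2.core.H := S.r2.core.sI.nH v hv
  rw [core_nI] at h1
  exact h1

theorem nII_H {p : D.T} (hp : p.c ≠ 0) (v : ↥A) (hv : v ∈ S.H) :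
    S.m.nII p * v * (S.m.nII p)⁻¹ ∈ S.H := by
  have h1 : S.m.nII S.p₀ * v * (S.m.nII S.p₀)⁻¹ ∈ S.H := S.r2.core.sJ.nH v hv
  have h2 : S.m.nII p * (S.m.nII S.p₀)⁻¹ ∈ S.H := hII_mem hp S.hp₀
  have h3 := mul_mem (mul_mem h2 h1) (inv_mem h2)
  have e : S.m.nII p * (S.m.nII S.p₀)⁻¹ * (S.m.nII S.p₀ * v * (S.m.nII S.p₀)⁻¹) *
      (S.m.nII p * (S.m.nII S.p₀)⁻¹)⁻¹ = S.m.nII p * v * (S.m.nII p)⁻¹ := by group
  rwa [e] at h3

/-- the hypotheses -/
structure Hyp (S : B2Std.Std D ↥A) (B : Bar F) (t : G) : Prop where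
  hB : UD B D
  hD : Scal D
  hZ : Subgroup.center ↥A = ⊥
  amb : Amb A t
  hT : ∃ g ∈ S.H, ∃ β : F, β ≠ 1 ∧ ActT g S.m.z₂ β 1

/-- **The environment of the `W`-level.** -/
noncomputable def wenv {t : G} (h : Hyp S B t) {lam : B.K} (h0 : lam ≠ 0) (h1 : lam ≠ 1) :
    WEnv B G where
  xa x := (S.m.x x : G)
  xc x := (S.m.y x : G)
  xb k := (S.m.z₂ (tk h.hB k) : G)
  xz k := (S.m.z₁ (tk h.hB k) : G)
  h μ ν := ((exists_h S h.hB μ ν).choose : G)
  T := S.H.map A.subtype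
  Q := S.VI.map A.subtype
  na := (S.m.nI : G)
  t := t
  lam := Units.mk0 lam h0
  lam_ne := h1
  xa_add x y := congrArg A.subtype (S.rel.x_add x y)
  xc_add x y := congrArg A.subtype (S.rel.y_add x y)
  xb_add x y := by
    rw [tk_mul]; exact congrArg A.subtype (S.rel.z₂_mul _ _)
  xz_add x y := by
    rw [tk_mul]; exact congrArg A.subtype (S.rel.z₁_mul _ _)
  z_c x y := congrArg A.subtype (S.rel.y_z₁ y (tk h.hB x)).symm.eq
  z_b x y := congrArg A.subtype (z₁_comm_U (S := S) (tk_w h.hB x) (z₂_mem (tk h.hB y)))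
  z_a x y := congrArg A.subtype (S.rel.x_z₁ y (tk h.hB x)).symm.eq
  c_b x y := congrArg A.subtype (S.rel.y_z₂ x (tk h.hB y)).eq
  a_c s x := by
    have h2 : S.m.x s * S.m.y x * (S.m.x s)⁻¹ = S.m.z₁ (D.tr s x) * S.m.y x := by
      rw [← S.rel.x_y, commutatorElement_def]; group
    have e : D.tr s x = tk h.hB (B.tr (s * B.s x)) := by
      apply tk_eq
      · rfl
      · change D.σ s * x - D.ε * s * D.σ x = s * B.s x + B.s (s * B.s x)
        rw [h.hB.ε, h.hB.σ, h.hB.σ, map_mul, B.invol, one_mul, sub_eq_add_neg, CharTwo.neg_eq]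
        ring
    rw [e] at h2
    exact congrArg A.subtype h2
  a_b s k := by
    have h2 : S.m.x s * S.m.z₂ (tk h.hB k) * (S.m.x s)⁻¹ =
        S.m.z₁ (D.sc s (tk h.hB k)) * S.m.y (-(D.ε * s * D.σ (tk h.hB k).c)) * S.m.z₂ (tk h.hB k) := by
      rw [← S.rel.x_z₂, commutatorElement_def]; group
    have e : D.sc s (tk h.hB k) = tk h.hB (B.nm s * k) := by
      apply tk_eq
      · rw [D.sc_w, tk_w, smul_zero]
      · change s * D.σ s * (k : F) = s * B.s s * k
        rw [h.hB.σ]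
    have e2 : -(D.ε * s * D.σ (tk h.hB k).c) = s * k := by
      rw [CharTwo.neg_eq, h.hB.ε, h.hB.σ, tk_c, B.s_K, one_mul]
    rw [e, e2] at h2
    exact congrArg A.subtype h2
  w_inj x y z hh := by
    have h2 : S.m.z₁ (tk h.hB x) * S.m.y y * S.m.z₂ (tk h.hB z) = 1 := A.subtype_injective hh
    have h3 : B2Std.nf S.m 0 (tk h.hB x) y (tk h.hB z) = 1 := by
      unfold B2Std.nf
      rw [show S.m.x 0 = 1 from add_zero' S.rel.x_add, one_mul, h2]
    obtain ⟨-, i1, i2, i3⟩ := S.nf_eq_one h3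
    exact ⟨Subtype.ext (congrArg PQDatum.T.c i1), i2, Subtype.ext (congrArg PQDatum.T.c i3)⟩
  t_sq := h.amb.tt
  t_a x := h.amb.comm _ (S.m.x x).2
  t_c x := h.amb.comm _ (S.m.y x).2
  t_b x := h.amb.comm _ (S.m.z₂ _).2
  t_z x := h.amb.comm _ (S.m.z₁ _).2
  t_na := h.amb.comm _ (S.m.nI).2
  t_not s x y z hh := h.amb.not_mem h.hZ (by
    rw [hh]
    exact mul_mem (mul_mem (mul_mem (S.m.z₁ _).2 (S.m.y _).2) (S.m.z₂ _).2) (S.m.x _).2)
  h_mem μ ν := ⟨_, (exists_h S h.hB μ ν).choose_spec.1, rfl⟩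
  h_a μ ν x := by
    obtain ⟨l, m, ht, e1, e2⟩ := (exists_h S h.hB μ ν).choose_spec.2
    have := ht.x x
    rw [e1] at this
    exact congrArg A.subtype this
  h_c μ ν x := by
    obtain ⟨l, m, ht, e1, e2⟩ := (exists_h S h.hB μ ν).choose_spec.2
    have := ht.y x
    have e3 : l * D.σ m = μ * ((ν : B.K) : F) := by
      rw [← e1, ← e2]
      have := ht.μ0
      field_simp
    rw [e3] at this
    exact congrArg A.subtype this
  h_b μ ν x := by
    obtain ⟨l, m, ht, e1, e2⟩ := (exists_h S h.hB μ ν).choose_spec.2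
    obtain ⟨q, i1, i2, i3⟩ := ht.z₂ (tk h.hB x)
    have e3 : q = tk h.hB (ν * x) := by
      apply tk_eq
      · rw [i1, tk_w, smul_zero]
      · rw [i2, e2, tk_c]; rfl
    rw [e3] at i3
    exact congrArg A.subtype i3
  h_z μ ν x := by
    obtain ⟨l, m, ht, e1, e2⟩ := (exists_h S h.hB μ ν).choose_spec.2
    obtain ⟨q, i1, i2, i3⟩ := ht.z₁ (tk h.hB x)
    have e3 : q = tk h.hB (B.nm μ * ν * x) := by
      apply tk_eq
      · rw [i1, tk_w, smul_zero]
      · rw [i2, tk_c]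
        change l * D.σ l * (x : F) = (μ : F) * B.s μ * ((ν : B.K) : F) * x
        rw [← e2, ← h.hB.σ, ← e1, map_mul, map_inv₀]
        have h3 := ht.μ0
        have h4 := D.σ_ne h3
        field_simp
    rw [e3] at i3
    exact congrArg A.subtype i3
  T_comm := by
    rintro _ ⟨g, hg, rfl⟩ _ ⟨k, hk, rfl⟩
    exact congrArg A.subtype (H_comm h.hD h.hZ hg hk)
  T_odd := by
    rintro _ ⟨g, hg, rfl⟩
    refine ⟨Nat.card F - 1, odd_card_sub_one F, ?_⟩
    have := B2Torus.Std.pow_mem_center S h.hD hg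
    rw [h.hZ, mem_bot] at this
    rw [← map_pow, this, map_one]
  T_t := by
    rintro _ ⟨g, hg, rfl⟩
    exact h.amb.comm _ g.2
  T_Q := by
    rintro _ ⟨g, hg, rfl⟩ x
    exact conj_mem_map_iff (fun v hv => S.HVI g hg v hv) x
  T_act := by
    rintro _ ⟨g, hg, rfl⟩
    obtain ⟨l, m, n, ht⟩ := exists_tact S.rel S.hp₀ h.hD hg
    have hK : B.s (m * D.σ m) = m * D.σ m := by
      rw [← h.hB.σ, map_mul, D.σσ]; ring
    have hm := ht.μ0
    have hσm := D.σ_ne hm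
    have hne : (⟨m * D.σ m, hK⟩ : B.K) ≠ 0 := by
      intro h3
      exact mul_ne_zero hm hσm (congrArg Subtype.val h3)
    refine ⟨Units.mk0 (l * m⁻¹) (mul_ne_zero ht.l0 (inv_ne_zero hm)), Units.mk0 _ hne, ?_, ?_, ?_, ?_⟩
    · intro x
      exact congrArg A.subtype (ht.x x)
    · intro x
      have := ht.y x
      have e3 : l * D.σ m = l * m⁻¹ * (m * D.σ m) := by field_simp
      rw [e3] at this
      exact congrArg A.subtype this
    · intro x
      obtain ⟨q, i1, i2, i3⟩ := ht.z₂ (tk h.hB x)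
      have e3 : q = tk h.hB ((⟨m * D.σ m, hK⟩ : B.K) * x) := by
        apply tk_eq
        · rw [i1, tk_w, smul_zero]
        · rw [i2, tk_c]; rfl
      rw [e3] at i3
      exact congrArg A.subtype i3
    · intro x
      obtain ⟨q, i1, i2, i3⟩ := ht.z₁ (tk h.hB x)
      have e3 : q = tk h.hB (B.nm (l * m⁻¹) * (⟨m * D.σ m, hK⟩ : B.K) * x) := by
        apply tk_eq
        · rw [i1, tk_w, smul_zero]
        · rw [i2, tk_c]
          change l * D.σ l * (x : F) = (l * m⁻¹) * B.s (l * m⁻¹) * (m * D.σ m) * x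
          rw [← h.hB.σ, map_mul, map_inv₀]
          field_simp
      rw [e3] at i3
      exact congrArg A.subtype i3
  na_z x := by
    have := S.rel.nI_z₁ (tk h.hB x)
    rw [sc_neg_one h.hB] at this
    exact congrArg A.subtype this
  na_b x := congrArg A.subtype (S.rel.nI_z₂ (tk h.hB x))
  na_c x := by
    have := S.rel.nI_y x
    rw [h.hB.ε, one_mul, h.hB.σ] at this
    exact congrArg A.subtype this
  na_T g := conj_mem_map_iff (nI_H S) g
  na_Q g := conj_mem_map_iff (nI_VI S) g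
  na_sq := congrArg A.subtype (nI_sq S h.hZ)
  na_h ν := by
    obtain ⟨l, m, ht, e1, e2⟩ := (exists_h S h.hB 1 ν).choose_spec.2
    have e3 : l = m := (mul_inv_eq_one₀ ht.μ0).1 e1
    rw [← e3] at ht
    exact congrArg A.subtype ht.comm_nI.symm.eq
  xa_Q := by
    rintro s _ ⟨v, hv, rfl⟩
    exact ⟨_, S.UVI _ (x_mem s) v hv, rfl⟩
  z_Q := by
    rintro x _ ⟨v, hv, rfl⟩
    exact congrArg A.subtype (z₁_comm_U (tk_w h.hB x) (S.VI_le hv))
  c_Q := by
    rintro x _ ⟨v, hv, rfl⟩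
    exact congrArg A.subtype (y_comm_VI x hv)
  b_Q := by
    rintro x _ ⟨v, hv, rfl⟩
    exact congrArg A.subtype (z₂_comm_VI (tk_w h.hB x) hv)
  t_Q := by
    rintro _ ⟨v, hv, rfl⟩
    exact h.amb.comm _ v.2
  z_mem x := ⟨_, S.z₁_mem_VI _, rfl⟩
  c_mem x := ⟨_, S.y_mem_VI _, rfl⟩
  b_mem x := ⟨_, S.z₂_mem_VI _, rfl⟩
  cent_W c hc hQ := by
    obtain ⟨φ, hφ⟩ := h.amb.exists_cj hc
    have hV : ∀ v ∈ S.VI, φ v = v := by
      intro v hv
      apply Subtype.ext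
      rw [hφ, hQ v ⟨v, hv, rfl⟩, mul_inv_cancel_right]
    obtain ⟨u, hu, rfl, hcu⟩ := inner_of_VI (lam_U h.hB h0 h1) h.hD h.hT h.hZ hV
    obtain ⟨x, y, z, rfl⟩ := center_VI S h.hB hu hcu
    refine ⟨x, y, z, ?_⟩
    rcases h.amb.eq_of hc hφ rfl with h2 | h2
    · left; exact h2
    · right; exact h2

end ambient

end Cfsg.Agent.StdRank2.UEnvW
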