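import Cfsg.Agent.StdRank2.UFourSplitM
import Cfsg.Agent.WreathFusion.PairWUni

/-!
# Type `U₄(q)`, split case: the data of the weak form of Theorem W

`SplitM.pdataW`: `PDataW (Sh Gr) S₁ (S₁^t) M (M^t)`.
-/

set_option autoImplicit false

namespace Cfsg.Agent.StdRank2.UFourId

open Cfsg.Agent.StdRank2.UFour VSec Subgroup Cfsg.Agent.WreathFusion
open scoped commutatorElement

variable {F : Type*} [Field F] [CharP F 2] {B : Bar F} {G : Type*} [Group G] {E : Env B G} {Gr : Grown E}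
  {M S₁ : Subgroup G}

theorem UU_ne_bot (E : Env B G) : SeedPre.UU E.toWEnv ≠ ⊥ := by
  intro e
  have h1 : E.xa 1 ∈ SeedPre.UU E.toWEnv := (UFourUni.mem_UU_iff E).2 ⟨0, 1, by rw [E.w_zero, one_mul]⟩
  rw [e, mem_bot, ← E.xa_zero] at h1
  exact one_ne_zero (xa_inj E h1)

/-- **The data of the weak form of Theorem W.** -/
theorem SplitM.pdataW [Finite F] (hM : SplitM Gr M S₁) :
    PDataW (Sh Gr) S₁ (S₁.map (MulAut.conj E.t).toMonoidHom) M (M.map (MulAut.conj E.t).toMonoidHom) := by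
  obtain ⟨e, -⟩ := hM.equiv
  refine PDataW.of_swap hM.prod ?_ (ChartUni.centIndec_of_equiv e.symm (UFourUni.centIndec_of_finite E))
    (Zen.of_equiv e (zen_UU E)) (AbC.of_equiv e (abC_UU E)) hM.le hM.perf.ge E.t_sq hM.comm
  intro h1
  apply UU_ne_bot E
  rw [eq_bot_iff]
  intro x hx
  have h2 : (e.symm ⟨x, hx⟩ : G) = 1 := mem_bot.1 (h1.le (e.symm ⟨x, hx⟩).2)
  have h3 : e.symm ⟨x, hx⟩ = 1 := Subtype.ext h2
  have h4 : (⟨x, hx⟩ : SeedPre.UU E.toWEnv) = 1 := by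
    rw [← e.apply_symm_apply ⟨x, hx⟩, h3, map_one]
  exact congrArg Subtype.val h4

end Cfsg.Agent.StdRank2.UFourId
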