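import Mathlib
import Cfsg.Agent.StdRank2.UFourIdSh

/-!
# The field case: `x² + x + d` irreducible

If `ε + B.s ε = 1` and `ε * B.s ε = d`, then the grown group `Sh Gr` has coordinates of type `A₃` over `F`; for `F` finite it is
isomorphic to a Sylow 2-subgroup of `PSL(4, F)`.
-/

set_option autoImplicit false

namespace Cfsg.Agent.StdRank2.UFourId

open Cfsg.Agent.StdRank2.UFour VSec

variable {F : Type*} [Field F] [CharP F 2] {B : Bar F} {G : Type*} [Group G] {E : Env B G} {Gr : Grown E}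

theorem flip_rel {H : Type*} [Group H] {a w c : H} (h3 : a * w = c * w * a) (h4 : c * c = 1) :
    w * a = c * a * w := by
  calc w * a = (c * c) * w * a := by rw [h4, one_mul]
    _ = c * (c * w * a) := by group
    _ = c * (a * w) := by rw [← h3]
    _ = c * a * w := by group

section vec

variable {d : B.K} {ε : F} (h1 : ε + B.s ε = 1) (h2 : ε * B.s ε = (d : F)) (r s : F)

include h1 h2

omit h1 h2 in
theorem v_a1_z (x y : B.K) : pv d s (av r (zv x y)) = (zv x y : Vh B) := by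
  apply Vh_ext
  all_goals simp [pv, av, zv, B.tr_zero]

theorem v_a1_b : pv d r (av (B.s ε * r) (bv (B.tr s) (B.tr (B.s ε * s)))) =
    cv (r * s) (B.s ε * (r * s)) + bv (B.tr s) (B.tr (B.s ε * s)) := by
  apply Vh_ext
  · apply Subtype.ext
    simp [pv, av, zv, cv, bv, map_mul, map_add, B.invol]
    grind
  · apply Subtype.ext
    simp [pv, av, zv, cv, bv, map_mul, map_add, B.invol]
    grind
  · simp [pv, av, zv, cv, bv, map_mul, map_add, B.invol]
    grind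
  · simp [pv, av, zv, cv, bv, map_mul, map_add, B.invol]
    grind
  · simp [pv, av, zv, cv, bv]
  · simp [pv, av, zv, cv, bv]

theorem v_a2_b : pv d (B.s s) (av (ε * B.s s) (bv (B.tr r) (B.tr (B.s ε * r)))) =
    cv (B.s (r * s)) (ε * B.s (r * s)) + bv (B.tr r) (B.tr (B.s ε * r)) := by
  apply Vh_ext
  · apply Subtype.ext
    simp [pv, av, zv, cv, bv, map_mul, map_add, B.invol]
    grind
  · apply Subtype.ext
    simp [pv, av, zv, cv, bv, map_mul, map_add, B.invol]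
    grind
  · simp [pv, av, zv, cv, bv, map_mul, map_add, B.invol]
    grind
  · simp [pv, av, zv, cv, bv, map_mul, map_add, B.invol]
    grind
  · simp [pv, av, zv, cv, bv]
  · simp [pv, av, zv, cv, bv]

theorem v_a1_c2 : pv d r (av (B.s ε * r) (cv (B.s s) (ε * B.s s))) =
    zv (B.tr (r * s)) (B.tr (B.s ε * (r * s))) + cv (B.s s) (ε * B.s s) := by
  apply Vh_ext
  · apply Subtype.ext
    simp [pv, av, zv, cv, bv, map_mul, map_add, B.invol]
    grind
  · apply Subtype.ext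
    simp [pv, av, zv, cv, bv, map_mul, map_add, B.invol]
    grind
  · simp [pv, av, zv, cv, bv, map_mul, map_add, B.invol]
  · simp [pv, av, zv, cv, bv, map_mul, map_add, B.invol]
  · simp [pv, av, zv, cv, bv]
  · simp [pv, av, zv, cv, bv]

theorem v_a2_c1 : pv d (B.s s) (av (ε * B.s s) (cv r (B.s ε * r))) =
    zv (B.tr (r * s)) (B.tr (B.s ε * (r * s))) + cv r (B.s ε * r) := by
  apply Vh_ext
  · apply Subtype.ext
    simp [pv, av, zv, cv, bv, map_mul, map_add, B.invol]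
    grind
  · apply Subtype.ext
    simp [pv, av, zv, cv, bv, map_mul, map_add, B.invol]
    grind
  · simp [pv, av, zv, cv, bv, map_mul, map_add, B.invol]
  · simp [pv, av, zv, cv, bv, map_mul, map_add, B.invol]
  · simp [pv, av, zv, cv, bv]
  · simp [pv, av, zv, cv, bv]

theorem v_a1_c1 : pv d r (av (B.s ε * r) (cv s (B.s ε * s))) = (cv s (B.s ε * s) : Vh B) := by
  apply Vh_ext
  · apply Subtype.ext
    simp [pv, av, zv, cv, bv, map_mul, map_add, B.invol]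
    grind
  · apply Subtype.ext
    simp [pv, av, zv, cv, bv, map_mul, map_add, B.invol]
    grind
  · simp [pv, av, zv, cv, bv, map_mul, map_add, B.invol]
  · simp [pv, av, zv, cv, bv, map_mul, map_add, B.invol]
  · simp [pv, av, zv, cv, bv]
  · simp [pv, av, zv, cv, bv]

theorem v_a2_c2 : pv d (B.s r) (av (ε * B.s r) (cv (B.s s) (ε * B.s s))) = (cv (B.s s) (ε * B.s s) : Vh B) := by
  apply Vh_ext
  · apply Subtype.ext
    simp [pv, av, zv, cv, bv, map_mul, map_add, B.invol]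
    grind
  · apply Subtype.ext
    simp [pv, av, zv, cv, bv, map_mul, map_add, B.invol]
    grind
  · simp [pv, av, zv, cv, bv, map_mul, map_add, B.invol]
  · simp [pv, av, zv, cv, bv, map_mul, map_add, B.invol]
  · simp [pv, av, zv, cv, bv]
  · simp [pv, av, zv, cv, bv]

end vec

namespace Lab

variable {d : B.K} {pa pc : F → G} {pb pz : B.K → G} (h : Lab Gr d pa pc pb pz)
  {ε : F} (h1 : ε + B.s ε = 1) (h2 : ε * B.s ε = (d : F))

/-- Coordinates of type `A₃` in the field case. -/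
def fieldCoord : UTFour.Coord (Sh Gr) F where
  a1 r := ⟨pa r * E.xa (B.s ε * r), h.a_mem_Sh _ _⟩
  b r := ⟨Wh E.toWEnv pc pb pz (bv (B.tr r) (B.tr (B.s ε * r))), h.Wh_mem _⟩
  a2 r := ⟨pa (B.s r) * E.xa (ε * B.s r), h.a_mem_Sh _ _⟩
  c1 r := ⟨Wh E.toWEnv pc pb pz (cv r (B.s ε * r)), h.Wh_mem _⟩
  c2 r := ⟨Wh E.toWEnv pc pb pz (cv (B.s r) (ε * B.s r)), h.Wh_mem _⟩
  z r := ⟨Wh E.toWEnv pc pb pz (zv (B.tr r) (B.tr (B.s ε * r))), h.Wh_mem _⟩
  a1_add r s := by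
    apply Subtype.ext
    change _ = (pa r * E.xa (B.s ε * r)) * (pa s * E.xa (B.s ε * s))
    rw [h.a_mul, mul_add]
  b_add r s := by
    apply Subtype.ext
    change _ = Wh E.toWEnv pc pb pz _ * Wh E.toWEnv pc pb pz _
    rw [← h.Wh_add, ← bv_add, mul_add, B.tr_add, B.tr_add]
  a2_add r s := by
    apply Subtype.ext
    change _ = (pa (B.s r) * E.xa (ε * B.s r)) * (pa (B.s s) * E.xa (ε * B.s s))
    rw [h.a_mul, map_add, mul_add]
  c1_add r s := by
    apply Subtype.ext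
    change _ = Wh E.toWEnv pc pb pz _ * Wh E.toWEnv pc pb pz _
    rw [← h.Wh_add, ← cv_add, mul_add]
  c2_add r s := by
    apply Subtype.ext
    change _ = Wh E.toWEnv pc pb pz _ * Wh E.toWEnv pc pb pz _
    rw [← h.Wh_add, ← cv_add, map_add, mul_add]
  z_add r s := by
    apply Subtype.ext
    change _ = Wh E.toWEnv pc pb pz _ * Wh E.toWEnv pc pb pz _
    rw [← h.Wh_add, ← zv_add, mul_add, B.tr_add, B.tr_add]
  a1_b r s := Subtype.ext (h.rel (v_a1_b h1 h2 r s))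
  b_a2 r s := by
    apply Subtype.ext
    have h3 := h.rel (v_a2_b h1 h2 r s)
    have h4 := h.Wh_sq (cv (B.s (r * s)) (ε * B.s (r * s)))
    exact flip_rel h3 h4
  a1_c2 r s := Subtype.ext (h.rel (v_a1_c2 h1 h2 r s))
  c1_a2 r s := by
    apply Subtype.ext
    have h3 := h.rel (v_a2_c1 h1 h2 r s)
    have h4 := h.Wh_sq (zv (B.tr (r * s)) (B.tr (B.s ε * (r * s))))
    exact flip_rel h3 h4
  a1_a2 r s := Subtype.ext (h.a_comm _ _ _ _)
  a1_c1 r s := Subtype.ext (h.rel' (v_a1_c1 h1 h2 r s))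
  b_c1 r s := Subtype.ext (h.Wh_comm _ _)
  b_c2 r s := Subtype.ext (h.Wh_comm _ _)
  a2_c2 r s := Subtype.ext (h.rel' (v_a2_c2 h1 h2 r s))
  c1_c2 r s := Subtype.ext (h.Wh_comm _ _)
  a1_z r s := Subtype.ext (h.rel' (v_a1_z _ _ _ _))
  b_z r s := Subtype.ext (h.Wh_comm _ _)
  a2_z r s := Subtype.ext (h.rel' (v_a1_z _ _ _ _))
  c1_z r s := Subtype.ext (h.Wh_comm _ _)
  c2_z r s := Subtype.ext (h.Wh_comm _ _)

theorem fieldCoord_gen (K : Subgroup (Sh Gr)) (k1 : ∀ r, (h.fieldCoord h1 h2).a1 r ∈ K)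
    (k2 : ∀ r, (h.fieldCoord h1 h2).b r ∈ K) (k3 : ∀ r, (h.fieldCoord h1 h2).a2 r ∈ K) : K = ⊤ := by
  have c1 : ∀ r, (h.fieldCoord h1 h2).c1 r ∈ K := by
    intro r
    have e := (h.fieldCoord h1 h2).a1_b r 1
    rw [mul_one, mul_assoc] at e
    rw [eq_mul_inv_of_mul_eq e.symm]
    exact K.mul_mem (K.mul_mem (k1 _) (k2 _)) (K.inv_mem (K.mul_mem (k2 _) (k1 _)))
  have c2 : ∀ r, (h.fieldCoord h1 h2).c2 r ∈ K := by
    intro r
    have e := (h.fieldCoord h1 h2).b_a2 r 1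
    rw [mul_one, mul_assoc] at e
    rw [eq_mul_inv_of_mul_eq e.symm]
    exact K.mul_mem (K.mul_mem (k2 _) (k3 _)) (K.inv_mem (K.mul_mem (k3 _) (k2 _)))
  have z : ∀ r, (h.fieldCoord h1 h2).z r ∈ K := by
    intro r
    have e := (h.fieldCoord h1 h2).a1_c2 r 1
    rw [mul_one, mul_assoc] at e
    rw [eq_mul_inv_of_mul_eq e.symm]
    exact K.mul_mem (K.mul_mem (k1 _) (c2 _)) (K.inv_mem (K.mul_mem (c2 _) (k1 _)))
  rw [eq_top_iff]
  rintro ⟨g, hg⟩ -
  obtain ⟨v, s, s', rfl⟩ := h.mem_Sh.1 hg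
  have tr_eq : ∀ x y : B.K, B.tr (ε * x + y) = x ∧ B.tr (B.s ε * (ε * x + y)) = y := by
    intro x y
    constructor
    · apply Subtype.ext
      simp [map_mul, map_add]
      grind
    · apply Subtype.ext
      simp [map_mul, map_add, B.invol]
      grind
  have eb : (⟨Wh E.toWEnv pc pb pz (bv v.2.2.1 v.2.2.2), h.Wh_mem _⟩ : Sh Gr) =
      (h.fieldCoord h1 h2).b (ε * v.2.2.1 + v.2.2.2) := by
    apply Subtype.ext
    change _ = Wh E.toWEnv pc pb pz (bv _ _)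
    rw [(tr_eq _ _).1, (tr_eq _ _).2]
  have ez : (⟨Wh E.toWEnv pc pb pz (zv v.1.1 v.1.2), h.Wh_mem _⟩ : Sh Gr) =
      (h.fieldCoord h1 h2).z (ε * v.1.1 + v.1.2) := by
    apply Subtype.ext
    change _ = Wh E.toWEnv pc pb pz (zv _ _)
    rw [(tr_eq _ _).1, (tr_eq _ _).2]
  have ec : (⟨Wh E.toWEnv pc pb pz (cv v.2.1.1 v.2.1.2), h.Wh_mem _⟩ : Sh Gr) =
      (h.fieldCoord h1 h2).c1 (v.2.1.2 + ε * v.2.1.1) *
        (h.fieldCoord h1 h2).c2 (B.s (v.2.1.2 + B.s ε * v.2.1.1)) := by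
    apply Subtype.ext
    change _ = Wh E.toWEnv pc pb pz (cv _ _) * Wh E.toWEnv pc pb pz (cv _ _)
    rw [← h.Wh_add, ← cv_add, B.invol]
    congr 2 <;> grind
  have ea : (⟨pa s * E.xa s', h.a_mem_Sh _ _⟩ : Sh Gr) =
      (h.fieldCoord h1 h2).a1 (s' + ε * s) * (h.fieldCoord h1 h2).a2 (B.s (s' + B.s ε * s)) := by
    apply Subtype.ext
    change _ = (pa _ * E.xa _) * (pa _ * E.xa _)
    rw [h.a_mul, B.invol]
    congr 2 <;> grind
  have e : (⟨Wh E.toWEnv pc pb pz v * (pa s * E.xa s'), hg⟩ : Sh Gr) =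
      ⟨Wh E.toWEnv pc pb pz (zv v.1.1 v.1.2), h.Wh_mem _⟩ * ⟨Wh E.toWEnv pc pb pz (cv v.2.1.1 v.2.1.2), h.Wh_mem _⟩ *
      ⟨Wh E.toWEnv pc pb pz (bv v.2.2.1 v.2.2.2), h.Wh_mem _⟩ * ⟨pa s * E.xa s', h.a_mem_Sh _ _⟩ := by
    apply Subtype.ext
    change _ = Wh E.toWEnv pc pb pz _ * Wh E.toWEnv pc pb pz _ * Wh E.toWEnv pc pb pz _ * _
    rw [← h.Wh_dec]
  rw [e, ez, ec, eb, ea]
  exact K.mul_mem (K.mul_mem (K.mul_mem (z _) (K.mul_mem (c1 _) (c2 _))) (k2 _)) (K.mul_mem (k1 _) (k3 _))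

include h h1 h2

/-- **The field case.** -/
theorem field_equiv_sylow [Fintype F] (P : Sylow 2 (Matrix.ProjectiveSpecialLinearGroup (Fin 4) F)) :
    Nonempty (Sh Gr ≃* ↥(P : Subgroup (Matrix.ProjectiveSpecialLinearGroup (Fin 4) F))) := by
  have hc : Nat.card (Sh Gr) = Fintype.card F ^ 6 := by rw [h.card_Sh, Nat.card_eq_fintype_card]
  have : Finite (Sh Gr) := Nat.finite_of_card_ne_zero (by rw [hc]; exact pow_ne_zero _ Fintype.card_ne_zero)
  exact (h.fieldCoord h1 h2).exists_equiv_sylow hc (h.fieldCoord_gen h1 h2) P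

end Lab

end Cfsg.Agent.StdRank2.UFourId
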