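import Mathlib
import Cfsg.Agent.StdRank2.UFourIdSh

/-!
# The Weyl elements of type `U₄(q)` on the sections

If the Weyl elements `na`, `nb` satisfy the cubic relations with `xa 1`, `xb 1`, then they permute the sections of the
grown root groups: `na pz na = pb`, `na pc(s) na = pc(s̄)`, `nb pa nb = pc`, `nb pz nb = pz`.
-/

set_option autoImplicit false

namespace Cfsg.Agent.StdRank2.UFourId

open Cfsg.Agent.StdRank2.UFour VSec

variable {F : Type*} [Field F] [CharP F 2] {B : Bar F} {G : Type*} [Group G]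

section sec

variable {E : WEnv B G} {M : Type*} [Field M] {x y : M → G} {R R' : Subgroup G}

/-- two sections differ by a linear map -/
theorem Sec.diff {p p' : M → G} (hp : Sec E x R p) (hp' : Sec E x R p')
    (hinj : ∀ c c', x c = x c' → c = c') (hx0 : x 0 = 1) (ht : ∀ c, E.t * x c = x c * E.t)
    (hh : ∀ μ : Mˣ, ∃ k ∈ E.T, ∀ c, k * x c * k⁻¹ = x (μ * c)) : ∃ κ : M, ∀ s, p' s = p s * x (κ * s) := by
  obtain ⟨s₀, κ, e⟩ := hp.cover _ (hp'.mem 1)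
  have hs : s₀ = 1 := by
    have h1 := hp'.conj_t 1
    have h2 := hp.conj_t s₀
    rw [e] at h1
    have h3 : p s₀ * x κ * E.t * (p s₀ * x κ)⁻¹ = x s₀ * E.t := by
      calc p s₀ * x κ * E.t * (p s₀ * x κ)⁻¹ = p s₀ * (x κ * E.t) * (x κ)⁻¹ * (p s₀)⁻¹ := by group
        _ = p s₀ * E.t * (p s₀)⁻¹ := by rw [← ht]; group
        _ = _ := by rw [h2]
    rw [h3] at h1
    exact hinj _ _ (mul_right_cancel h1)
  subst hs
  refine ⟨κ, fun s => ?_⟩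
  by_cases hs : s = 0
  · rw [hs, mul_zero, hx0, WEnv.hom_zero hp.add, WEnv.hom_zero hp'.add, mul_one]
  · obtain ⟨k, hkT, hk⟩ := hh (Units.mk0 s hs)
    have h1 := hp.tor k hkT _ hk 1
    have h2 := hp'.tor k hkT _ hk 1
    have h3 := hk κ
    rw [Units.val_mk0] at h1 h2 h3
    rw [mul_one] at h1 h2
    rw [← h2, e, mul_comm κ s, ← h3, ← h1]
    group

/-- conjugating a section by a Weyl element -/
theorem Sec.conj {p : M → G} (hR : Root E y R') (hp : Sec E x R p) {n : G} {τ : M ≃+* M}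
    (hn : ∀ g ∈ R, n * g * n⁻¹ ∈ R') (hx : ∀ c, n * x (τ c) * n⁻¹ = y c) (hT : ∀ g, g ∈ E.T ↔ n * g * n⁻¹ ∈ E.T)
    (ht : E.t * n = n * E.t) : Sec E y R' (fun s => n * p (τ s) * n⁻¹) where
  add a b := by
    change n * p (τ (a + b)) * n⁻¹ = (n * p (τ a) * n⁻¹) * (n * p (τ b) * n⁻¹)
    rw [map_add, hp.add]
    group
  mem s := hn _ (hp.mem _)
  conj_t s := by
    have h1 := hp.conj_t (τ s)
    have h2 : n⁻¹ * E.t * n = E.t := by rw [mul_assoc, ht, inv_mul_cancel_left]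
    calc n * p (τ s) * n⁻¹ * E.t * (n * p (τ s) * n⁻¹)⁻¹
        = n * (p (τ s) * (n⁻¹ * E.t * n) * (p (τ s))⁻¹) * n⁻¹ := by group
      _ = n * x (τ s) * E.t * n⁻¹ := by rw [h2, h1]; group
      _ = (n * x (τ s) * n⁻¹) * (n * E.t) * n⁻¹ := by group
      _ = _ := by rw [← ht, hx]; group
  tor k hk μ hμ s := by
    have hk' : n⁻¹ * k * n ∈ E.T := by
      rw [hT]
      have : n * (n⁻¹ * k * n) * n⁻¹ = k := by group
      rwa [this]
    have h1 : ∀ c, (n⁻¹ * k * n) * x c * (n⁻¹ * k * n)⁻¹ = x ((Units.map (τ : M →* M) μ : M) * c) := by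
      intro c
      obtain ⟨c', rfl⟩ := τ.surjective c
      have e1 : (Units.map (τ : M →* M) μ : M) = τ μ := rfl
      rw [e1, ← map_mul]
      have h2 := hx (↑μ * c')
      have h3 := hμ c'
      rw [← hx c', ← h2] at h3
      have h4 : n * ((n⁻¹ * k * n) * x (τ c') * (n⁻¹ * k * n)⁻¹) * n⁻¹ = n * x (τ (↑μ * c')) * n⁻¹ := by
        rw [← h3]; group
      exact mul_left_cancel (mul_right_cancel h4)
    have h2 := hp.tor _ hk' _ h1 (τ s)
    have e1 : (Units.map (τ : M →* M) μ : M) = τ μ := rfl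
    rw [e1, ← map_mul] at h2
    change k * (n * p (τ s) * n⁻¹) * k⁻¹ = n * p (τ (↑μ * s)) * n⁻¹
    rw [← h2]
    group
  cover g hg := by
    obtain ⟨s, hs⟩ := hR.conj_t g hg
    have h1 : (n * p (τ s) * n⁻¹) * E.t * (n * p (τ s) * n⁻¹)⁻¹ = y s * E.t := by
      have h1 := hp.conj_t (τ s)
      have h2 : n⁻¹ * E.t * n = E.t := by rw [mul_assoc, ht, inv_mul_cancel_left]
      calc n * p (τ s) * n⁻¹ * E.t * (n * p (τ s) * n⁻¹)⁻¹
          = n * (p (τ s) * (n⁻¹ * E.t * n) * (p (τ s))⁻¹) * n⁻¹ := by group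
        _ = n * x (τ s) * E.t * n⁻¹ := by rw [h2, h1]; group
        _ = (n * x (τ s) * n⁻¹) * (n * E.t) * n⁻¹ := by group
        _ = _ := by rw [← ht, hx]; group
    have hm : n * p (τ s) * n⁻¹ ∈ R' := hn _ (hp.mem _)
    have h2 : (n * p (τ s) * n⁻¹)⁻¹ * g * E.t = E.t * ((n * p (τ s) * n⁻¹)⁻¹ * g) := by
      have h3 : g * E.t = y s * E.t * g := by rw [← hs]; group
      have h4 : (n * p (τ s) * n⁻¹)⁻¹ * (y s * E.t) = E.t * (n * p (τ s) * n⁻¹)⁻¹ := by rw [← h1]; group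
      calc (n * p (τ s) * n⁻¹)⁻¹ * g * E.t = (n * p (τ s) * n⁻¹)⁻¹ * (g * E.t) := by rw [mul_assoc]
        _ = ((n * p (τ s) * n⁻¹)⁻¹ * (y s * E.t)) * g := by rw [h3]; simp only [mul_assoc]
        _ = _ := by rw [h4]; simp only [mul_assoc]
    obtain ⟨c, hc⟩ := hR.cent _ (mul_mem (inv_mem hm) hg) h2
    refine ⟨s, c, ?_⟩
    rw [← hc, mul_inv_cancel_left]

end sec

section inj

variable (E : Env B G)

theorem xz_inj {a b : B.K} (h : E.xz a = E.xz b) : a = b := by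
  have h1 : E.w (a, 0, 0) = E.w (b, 0, 0) := by rw [E.w_z, E.w_z, h]
  exact congrArg (fun v : B.V => v.1) (E.w_injective h1)

theorem xc_inj {a b : F} (h : E.xc a = E.xc b) : a = b := by
  have h1 : E.w (0, a, 0) = E.w (0, b, 0) := by rw [E.w_c, E.w_c, h]
  exact congrArg (fun v : B.V => v.2.1) (E.w_injective h1)

theorem xb_inj {a b : B.K} (h : E.xb a = E.xb b) : a = b := by
  have h1 : E.w (0, 0, a) = E.w (0, 0, b) := by rw [E.w_b, E.w_b, h]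
  exact congrArg (fun v : B.V => v.2.2) (E.w_injective h1)

theorem xa_inj {a b : F} (h : E.xa a = E.xa b) : a = b := by
  apply xc_inj E
  rw [← E.nb_a, ← E.nb_a, h]

end inj

/-- The relations of the Weyl elements. -/
structure WeylRel (E : Env B G) : Prop where
  na_a : E.na * E.xa 1 * E.na * E.xa 1 * E.na * E.xa 1 = 1
  nb_b : E.nb * E.xb 1 * E.nb * E.xb 1 * E.nb * E.xb 1 = 1
  braid : E.na * E.nb * E.na * E.nb = E.nb * E.na * E.nb * E.na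

variable {E : Env B G} {Gr : Grown E}

namespace Lab

variable {d : B.K} {pa pc : F → G} {pb pz : B.K → G} (h : Lab Gr d pa pc pb pz)

include h

theorem na_z_exists : ∃ κ : B.K, ∀ r, E.na * pz r * E.na⁻¹ = pb r * E.xb (κ * r) := by
  have h1 := Sec.conj (τ := RingEquiv.refl _) Gr.rootB h.z (fun g hg => Gr.na_Z g hg) (fun c => E.na_z c) E.na_T E.t_na
  exact Sec.diff h.b h1 (fun _ _ e => xb_inj E e) E.xb_zero E.t_b
    (fun μ => ⟨E.h 1 μ, E.h_mem _ _, fun c => E.h_b 1 μ c⟩)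

theorem na_b_exists : ∃ κ : B.K, ∀ r, E.na * pb r * E.na⁻¹ = pz r * E.xz (κ * r) := by
  have h1 := Sec.conj (τ := RingEquiv.refl _) Gr.rootZ h.b (fun g hg => Gr.na_B g hg) (fun c => E.na_b c) E.na_T E.t_na
  exact Sec.diff h.z h1 (fun _ _ e => xz_inj E e) E.xz_zero E.t_z
    (fun μ => ⟨E.h 1 μ, E.h_mem _ _, fun c => by rw [E.h_z, Units.val_one, B.nm_one, one_mul]⟩)

theorem na_c_exists : ∃ κ : F, ∀ r, E.na * pc (B.s r) * E.na⁻¹ = pc r * E.xc (κ * r) := by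
  have h1 := Sec.conj (τ := B.s) Gr.rootC h.c (fun g hg => Gr.na_C g hg) (fun c => by rw [E.na_c, B.invol]) E.na_T E.t_na
  exact Sec.diff h.c h1 (fun _ _ e => xc_inj E e) E.xc_zero E.t_c
    (fun μ => ⟨E.h μ 1, E.h_mem _ _, fun c => by rw [E.h_c, Units.val_one, OneMemClass.coe_one, mul_one]⟩)

theorem nb_z_exists : ∃ κ : B.K, ∀ r, E.nb * pz r * E.nb⁻¹ = pz r * E.xz (κ * r) := by
  have h1 := Sec.conj (τ := RingEquiv.refl _) Gr.rootZ h.z (fun g hg => Gr.nb_Z g hg) (fun c => E.nb_z c) E.nb_T E.t_nb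
  exact Sec.diff h.z h1 (fun _ _ e => xz_inj E e) E.xz_zero E.t_z
    (fun μ => ⟨E.h 1 μ, E.h_mem _ _, fun c => by rw [E.h_z, Units.val_one, B.nm_one, one_mul]⟩)

theorem nb_a_exists : ∃ κ : F, ∀ r, E.nb * pa r * E.nb⁻¹ = pc r * E.xc (κ * r) := by
  have h1 := Sec.conj (τ := RingEquiv.refl _) Gr.rootC h.a (fun g hg => Gr.nb_A g hg) (fun c => E.nb_a c) E.nb_T E.t_nb
  exact Sec.diff h.c h1 (fun _ _ e => xc_inj E e) E.xc_zero E.t_c
    (fun μ => ⟨E.h μ 1, E.h_mem _ _, fun c => by rw [E.h_c, Units.val_one, OneMemClass.coe_one, mul_one]⟩)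

theorem na_sections (hw : WeylRel E) : (∀ r, E.na * pz r * E.na⁻¹ = pb r) ∧ (∀ r, E.na * pb r * E.na⁻¹ = pz r) ∧
    ∀ r, E.na * pc r * E.na⁻¹ = pc (B.s r) := by
  obtain ⟨κ, hκ⟩ := h.na_z_exists
  obtain ⟨κ', hκ'⟩ := h.na_b_exists
  obtain ⟨l, hl⟩ := h.na_c_exists
  have hN : ∀ v : Vh B, Cj E.toWEnv pc pb pz E.na v ((v.2.2.1, v.2.2.2 + κ' * v.2.2.1),
      (B.s v.2.1.1, B.s v.2.1.2 + l * B.s v.2.1.1), (v.1.1, v.1.2 + κ * v.1.1)) := by
    intro v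
    have hc := hl (B.s v.2.1.1)
    rw [B.invol] at hc
    have e1 : Cj E.toWEnv pc pb pz E.na (zv v.1.1 v.1.2) (bv v.1.1 (v.1.2 + κ * v.1.1)) := by
      unfold Cj
      rw [h.Wh_z, h.Wh_b, add_comm v.1.2, E.xb_add, ← mul_assoc (pb _), ← hκ, ← E.na_z]
      group
    have e2 : Cj E.toWEnv pc pb pz E.na (cv v.2.1.1 v.2.1.2) (cv (B.s v.2.1.1) (B.s v.2.1.2 + l * B.s v.2.1.1)) := by
      unfold Cj
      rw [h.Wh_c, h.Wh_c, add_comm (B.s v.2.1.2), E.xc_add, ← mul_assoc (pc _), ← hc, ← E.na_c]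
      group
    have e3 : Cj E.toWEnv pc pb pz E.na (bv v.2.2.1 v.2.2.2) (zv v.2.2.1 (v.2.2.2 + κ' * v.2.2.1)) := by
      unfold Cj
      rw [h.Wh_b, h.Wh_z, add_comm v.2.2.2, E.xz_add, ← mul_assoc (pz _), ← hκ', ← E.na_b]
      group
    have e4 := Cj.add h.toVSec (Cj.add h.toVSec e1 e2) e3
    convert e4 using 1
    · apply Vh_ext <;> simp [zv, cv, bv]
    · apply Vh_ext <;> simp [zv, cv, bv]
  have hrel : E.xa 1 * E.na * E.xa 1 = E.na * E.xa 1 * E.na := by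
    have h1 := hw.na_a
    have h2 := E.xa_sq 1
    have h3 := E.na_sq
    calc E.xa 1 * E.na * E.xa 1 = (E.na * E.xa 1 * E.na * E.xa 1 * E.na * E.xa 1) * (E.xa 1 * E.na * E.xa 1) := by
          rw [h1, one_mul]
      _ = E.na * E.xa 1 * E.na * E.xa 1 * E.na * (E.xa 1 * E.xa 1) * E.na * E.xa 1 := by group
      _ = E.na * E.xa 1 * E.na * E.xa 1 * (E.na * E.na) * E.xa 1 := by rw [h2]; group
      _ = E.na * E.xa 1 * E.na * (E.xa 1 * E.xa 1) := by rw [h3]; group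
      _ = _ := by rw [h2, mul_one]
  have h1 := Cj.mul (Cj.mul (h.xact 1 (zv 1 0)) (hN _)) (h.xact 1 _)
  have h2 := Cj.mul (Cj.mul (hN (zv 1 0)) (h.xact 1 _)) (hN _)
  rw [← mul_assoc] at h1 h2
  rw [hrel] at h1
  have h3 := Cj.unique h.toVSec h1 h2
  have e1 := congrArg (fun v : Vh B => v.1.2) h3
  have e2 := congrArg (fun v : Vh B => v.2.1.2) h3
  have e3 := congrArg (fun v : Vh B => v.2.2.2) h3
  simp [av, zv, B.tr_zero, B.nm_one] at e1 e2 e3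
  refine ⟨fun r => ?_, fun r => ?_, fun r => ?_⟩
  · rw [hκ, e3, zero_mul, E.xb_zero, mul_one]
  · rw [hκ', e1, zero_mul, E.xz_zero, mul_one]
  · have h4 := hl (B.s r)
    rw [B.invol, e2, zero_mul, E.xc_zero, mul_one] at h4
    exact h4

theorem nb_sections (hw : WeylRel E) : (∀ r, E.nb * pz r * E.nb⁻¹ = pz r) ∧ (∀ r, E.nb * pa r * E.nb⁻¹ = pc r) ∧
    ∀ r, E.nb * pc r * E.nb⁻¹ = pa r := by
  obtain ⟨κ, hκ⟩ := h.nb_z_exists
  obtain ⟨m, hm⟩ := h.nb_a_exists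
  have hnb : E.nb⁻¹ = E.nb := WEnv.inv_of_sq E.nb_sq
  have hm1 : E.nb * pa 1 * E.nb⁻¹ = Wh E.toWEnv pc pb pz (cv 1 m) := by rw [hm, h.Wh_c, mul_one]
  -- `κ = m`
  have hκm : (κ : F) = m := by
    have e1 : ∀ x, B.tr (x * B.s m) = κ * B.tr x := by
      intro x
      have h1 : Cj E.toWEnv pc pb pz (pa 1) (cv 0 x) (zv (B.tr x) 0 + cv 0 x) := by
        convert h.pact 1 (cv 0 x) using 1
        apply Vh_ext <;> simp [pv, zv, cv, B.tr_zero, B.tr_s]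
      have h2 := h.xact x (cv 1 m)
      unfold Cj at h1 h2
      have hx : Wh E.toWEnv pc pb pz (cv 0 x) = E.xc x := by rw [h.Wh_c, h.pc_zero, one_mul]
      have hz : Wh E.toWEnv pc pb pz (zv (B.tr x) 0) = pz (B.tr x) := by rw [h.Wh_z, E.xz_zero, mul_one]
      rw [h.Wh_add, hx, hz] at h1
      have h3 : (E.nb * pa 1 * E.nb⁻¹) * (E.nb * E.xc x * E.nb⁻¹) * (E.nb * pa 1 * E.nb⁻¹)⁻¹ =
          (E.nb * pz (B.tr x) * E.nb⁻¹) * (E.nb * E.xc x * E.nb⁻¹) := by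
        calc _ = E.nb * (pa 1 * E.xc x * (pa 1)⁻¹) * E.nb⁻¹ := by group
          _ = _ := by rw [h1]; group
      rw [hm1, hκ, E.nb_c] at h3
      have h4 : Wh E.toWEnv pc pb pz (cv 1 m) * Wh E.toWEnv pc pb pz (av x (cv 1 m)) =
          pz (B.tr x) * E.xz (κ * B.tr x) := by
        rw [← h2]
        calc Wh E.toWEnv pc pb pz (cv 1 m) * (E.xa x * Wh E.toWEnv pc pb pz (cv 1 m) * (E.xa x)⁻¹)
            = Wh E.toWEnv pc pb pz (cv 1 m) * E.xa x * (Wh E.toWEnv pc pb pz (cv 1 m))⁻¹ * (E.xa x)⁻¹ := by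
              rw [h.Wh_inv]; group
          _ = _ := by rw [h3]; group
      rw [← h.Wh_z, ← h.Wh_add] at h4
      have h5 := congrArg (fun v : Vh B => v.1.2) (h.Wh_injective h4)
      simpa [av, zv, cv] using h5
    have e2 : (κ : F) + B.s m = 0 := by
      apply tr_nondeg (B := B)
      intro s
      rw [mul_add, B.tr_add, e1, B.tr_mul_K, mul_comm, B.K_add_self]
    have e3 : B.s m = κ := by grind
    rw [← B.invol m, e3, B.s_K]
  -- `m = 0`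
  have hm0 : m = 0 := by
    have hxb : Wh E.toWEnv pc pb pz (bv 0 1) = E.xb 1 := by rw [h.Wh_b, h.pb_zero, one_mul]
    have hpc1 : Wh E.toWEnv pc pb pz (cv 1 0) = pc 1 := by rw [h.Wh_c, E.xc_zero, mul_one]
    have h1 : Cj E.toWEnv pc pb pz (pa 1) (bv 0 1) (zv 1 d + cv 1 0 + bv 0 1) := by
      convert h.pact 1 (bv 0 1) using 1
      apply Vh_ext <;> simp [pv, zv, cv, bv, B.tr_zero, B.nm_one]
    unfold Cj at h1
    rw [h.Wh_add, h.Wh_add, hxb, hpc1] at h1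
    -- conjugate of `pc 1` by `nb`
    have hc1 : E.nb * pc 1 * E.nb⁻¹ = pa 1 * E.xa m := by
      have h2 := hm 1
      rw [mul_one] at h2
      have h3 : pc 1 = E.nb * pa 1 * E.nb⁻¹ * (E.xc m)⁻¹ := by rw [h2, mul_inv_cancel_right]
      have h4 := E.nb_c m
      have h5 : (E.xa m)⁻¹ = E.xa m := WEnv.inv_of_sq (E.xa_sq m)
      rw [h3]
      calc E.nb * (E.nb * pa 1 * E.nb⁻¹ * (E.xc m)⁻¹) * E.nb⁻¹
          = (E.nb * E.nb) * pa 1 * (E.nb * E.nb)⁻¹ * (E.nb * E.xc m * E.nb⁻¹)⁻¹ := by group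
        _ = _ := by rw [E.nb_sq, h4, h5]; group
    obtain ⟨u, u', hu⟩ := h.exists_z (Gr.nb_Z _ (h.Wh_z_mem 1 d))
    have hrel : E.nb * E.xb 1 * E.nb⁻¹ = E.xb 1 * E.nb * E.xb 1 := by
      have h1 := hw.nb_b
      have h2 := E.xb_sq 1
      have h3 := E.nb_sq
      symm
      calc E.xb 1 * E.nb * E.xb 1 = (E.nb * E.xb 1 * E.nb * E.xb 1 * E.nb * E.xb 1) * (E.xb 1 * E.nb * E.xb 1) := by
            rw [h1, one_mul]
        _ = E.nb * E.xb 1 * E.nb * E.xb 1 * E.nb * (E.xb 1 * E.xb 1) * E.nb * E.xb 1 := by group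
        _ = E.nb * E.xb 1 * E.nb * E.xb 1 * (E.nb * E.nb) * E.xb 1 := by rw [h2]; group
        _ = E.nb * E.xb 1 * E.nb * (E.xb 1 * E.xb 1) := by rw [h3]; group
        _ = _ := by rw [h2, mul_one, hnb]
    have h2 : (E.nb * pa 1 * E.nb⁻¹) * (E.nb * E.xb 1 * E.nb⁻¹) * (E.nb * pa 1 * E.nb⁻¹)⁻¹ =
        (E.nb * Wh E.toWEnv pc pb pz (zv 1 d) * E.nb⁻¹) * (E.nb * pc 1 * E.nb⁻¹) * (E.nb * E.xb 1 * E.nb⁻¹) := by
      calc _ = E.nb * (pa 1 * E.xb 1 * (pa 1)⁻¹) * E.nb⁻¹ := by group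
        _ = _ := by rw [h1]; group
    rw [hu, hc1, hrel] at h2
    -- `C₁ = nb pa 1 nb⁻¹` commutes with `xb 1`
    have h3 : (E.nb * pa 1 * E.nb⁻¹) * E.xb 1 = E.xb 1 * (E.nb * pa 1 * E.nb⁻¹) := by
      rw [hm1, ← hxb, h.Wh_comm]
    have h4 : E.nb * (E.nb * pa 1 * E.nb⁻¹)⁻¹ = pa 1 * E.nb := by
      have h5 : (pa 1)⁻¹ = pa 1 := root_inv Gr.rootA (h.a.mem 1)
      calc E.nb * (E.nb * pa 1 * E.nb⁻¹)⁻¹ = (E.nb * E.nb) * (pa 1)⁻¹ * E.nb⁻¹ := by group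
        _ = _ := by rw [E.nb_sq, h5, hnb]; group
    have h5 : E.xb 1 * (E.nb * pa 1 * E.nb⁻¹) * pa 1 =
        Wh E.toWEnv pc pb pz (zv u u') * (pa 1 * E.xa m) * E.xb 1 := by
      have h6 : (E.nb * pa 1 * E.nb⁻¹)⁻¹ = E.nb * pa 1 * E.nb⁻¹ := by
        have h7 : (pa 1)⁻¹ = pa 1 := root_inv Gr.rootA (h.a.mem 1)
        calc (E.nb * pa 1 * E.nb⁻¹)⁻¹ = E.nb * (pa 1)⁻¹ * E.nb⁻¹ := by group
          _ = _ := by rw [h7]
      have h7 : (E.nb * pa 1 * E.nb⁻¹) * (E.xb 1 * E.nb * E.xb 1) * (E.nb * pa 1 * E.nb⁻¹)⁻¹ =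
          E.xb 1 * (E.nb * pa 1 * E.nb⁻¹) * pa 1 * (E.nb * E.xb 1) := by
        calc (E.nb * pa 1 * E.nb⁻¹) * (E.xb 1 * E.nb * E.xb 1) * (E.nb * pa 1 * E.nb⁻¹)⁻¹
            = ((E.nb * pa 1 * E.nb⁻¹) * E.xb 1) * E.nb * (E.xb 1 * (E.nb * pa 1 * E.nb⁻¹)⁻¹) := by group
          _ = (E.xb 1 * (E.nb * pa 1 * E.nb⁻¹)) * E.nb * (E.xb 1 * (E.nb * pa 1 * E.nb⁻¹)) := by rw [h3, h6]
          _ = (E.xb 1 * (E.nb * pa 1 * E.nb⁻¹)) * (E.nb * (E.nb * pa 1 * E.nb⁻¹)⁻¹) * E.xb 1 := by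
              rw [← h3, h6]; group
          _ = _ := by rw [h4]; group
      rw [h7] at h2
      have h8 := mul_right_cancel (b := E.nb * E.xb 1) (a := E.xb 1 * (E.nb * pa 1 * E.nb⁻¹) * pa 1)
        (c := Wh E.toWEnv pc pb pz (zv u u') * (pa 1 * E.xa m) * E.xb 1) (by rw [h2]; group)
      exact h8
    have h6 := h.act 1 m (bv 0 1)
    unfold Cj at h6
    rw [hxb] at h6
    have h7 : Wh E.toWEnv pc pb pz (bv 0 1 + cv 1 m) * (pa 1 * E.xa 0) =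
        Wh E.toWEnv pc pb pz (zv u u' + pv d 1 (av m (bv 0 1))) * (pa 1 * E.xa m) := by
      rw [h.Wh_add, h.Wh_add, ← hm1, hxb, E.xa_zero, mul_one, h5, ← h6]
      group
    exact (h.nf_injective h7).2.2.symm
  subst hm0
  have hκ0 : κ = 0 := Subtype.ext hκm
  subst hκ0
  refine ⟨fun r => ?_, fun r => ?_, fun r => ?_⟩
  · rw [hκ, zero_mul, E.xz_zero, mul_one]
  · rw [hm, zero_mul, E.xc_zero, mul_one]
  · have h4 := hm r
    rw [zero_mul, E.xc_zero, mul_one] at h4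
    rw [← h4, hnb]
    calc E.nb * (E.nb * pa r * E.nb) * E.nb = (E.nb * E.nb) * pa r * (E.nb * E.nb) := by group
      _ = pa r := by rw [E.nb_sq]; group

end Lab

end Cfsg.Agent.StdRank2.UFourId
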