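import Cfsg.Agent.StdRank2.UFourSplitM
import Cfsg.Agent.StdRank2.TXGen
import Cfsg.Agent.StdRank2.SplitLift

/-!
# Type `U₄(q)`: the factor of the split case in `X = N_G(O)/O`

`weylRel`: the Weyl relations of `env4`; `gen`: `⟨genA env4⟩ = A`.
`exists_fac`: in `X`, either `Fac h MX` with `Sh Gr = S₁ × S₁^t`, `S₁ ≤ MX`, or the field case.
-/

set_option autoImplicit false
set_option linter.unusedSectionVars false

namespace Cfsg.Agent.StdRank2.UFourFac

open Subgroup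
open Cfsg.Agent.TitsThree.B2Pkg Cfsg.Agent.TitsThree.RankTwoIdentB2
  Cfsg.Agent.TitsThree.CoreB2 Cfsg.Agent.TitsThree.RankTwoIdx Cfsg.Agent.TitsThree.RankTwoRGD
  Cfsg.Agent.TitsThree.StdData
open Cfsg.Agent.StdRank2.B2Std Cfsg.Agent.StdRank2.UFour Cfsg.Agent.StdRank2.UEnvW
  Cfsg.Agent.StdRank2.UEnv4 Cfsg.Agent.StdRank2.UFourId
open Cfsg.Agent.StdEven Cfsg.Agent.StdEven.CoreQuot

universe u

section env

variable {G : Type u} [Group G] {A : Subgroup G} [Finite A] {t : G}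
variable {F : Type*} [Field F] [Finite F] [CharP F 2] {B : Bar F}
variable {S : Std (stdU0 F B.s B.invol) ↥A}
variable (hy : UEnvW.Hyp S B t) {lam : B.K} (h0 : lam ≠ 0) (h1 : lam ≠ 1)

/-- **The Weyl relations.** -/
theorem weylRel : WeylRel (env4 S hy h0 h1) where
  na_a := congrArg A.subtype (B2Rel2.nI_cube S hy.hZ)
  nb_b := congrArg A.subtype (B2Rel2.nb_cube S hy.hB.ε (hy.hB.ok0 1) hy.hZ)
  braid := congrArg A.subtype (B2Rel2.braid S hy.hB.ε (hy.hB.ok0 1) hy.hZ)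

theorem gen : closure (genA (env4 S hy h0 h1)) = A := (TXGen.gen4 hy h0 h1).symm

end env

section X

variable {G : Type u} [Group G] [Finite G] {A T : Subgroup G} {t : G}
variable {F : Type*} [Field F] [Finite F] [CharP F 2] {B : Bar F}
variable (h : CoreQuot.Hyp A t T) (S : Std (stdU0 F B.s B.invol) ↥A) {lam : B.K} (h0 : lam ≠ 0) (h1 : lam ≠ 1)

theorem weylRel_X : WeylRel (B2Conn.env4 h S h0 h1) := weylRel (B2Conn.hyp4 h S) h0 h1

theorem gen_X : closure (genA (B2Conn.env4 h S h0 h1)) = im A t A := gen (B2Conn.hyp4 h S) h0 h1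

/-- the factor of the split case is a `Fac` -/
theorem fac {Gr : Grown (B2Conn.env4 h S h0 h1)} {MX S₁ : Subgroup (XQ A t)} (hM : SplitM Gr MX S₁) :
    SplitLift.Fac h MX where
  perf := hM.perf
  two := hM.two.trans (closure_mono (fun x hx => ⟨hx.1, 1, by rw [pow_one, pow_two]; exact hx.2⟩))
  comm := hM.comm
  diag := fun x hx => by
    have h2 := hM.diag x hx
    rw [gen_X h S h0 h1] at h2
    exact h2
  onto := fun a ha => by
    rw [← gen_X h S h0 h1] at ha
    exact hM.onto a ha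

/-- **The dichotomy in `X`.** -/
theorem exists_fac (Gr : Grown (B2Conn.env4 h S h0 h1)) :
    (∃ MX S₁, SplitLift.Fac h MX ∧ SplitM Gr MX S₁) ∨
      (∃ (d : B.K) (ε : F) (pa pc : F → XQ A t) (pb pz : B.K → XQ A t), Lab Gr d pa pc pb pz ∧
        ε + B.s ε = 1 ∧ ε * B.s ε = (d : F)) := by
  rcases exists_splitM_or_lab Gr (weylRel_X h S h0 h1) with ⟨MX, S₁, hM⟩ | h2
  · exact Or.inl ⟨MX, S₁, fac h S h0 h1 hM, hM⟩
  · exact Or.inr h2

end X

end Cfsg.Agent.StdRank2.UFourFac
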