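import Mathlib
import Cfsg.Agent.StdRank2.UFourIdWeyl

/-!
# The split case of type `U₄(q)`: two commuting sets of root groups

If `ε * ε + ε = d` with `ε ∈ K`, then the grown group is the product of two commuting groups with the relations of `U₄`,
swapped by `t`: structure `Split4`.
-/

set_option autoImplicit false

namespace Cfsg.Agent.StdRank2.UFourId

open Cfsg.Agent.StdRank2.UFour VSec

variable {F : Type*} [Field F] [CharP F 2] {B : Bar F} {G : Type*} [Group G]

/-- Two commuting sets of root groups of type `U₄`. -/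
structure Split4 {E : Env B G} (Gr : Grown E) (a c : Bool → F → G) (b z : Bool → B.K → G) : Prop where
  a_add : ∀ i s r, a i (s + r) = a i s * a i r
  c_add : ∀ i s r, c i (s + r) = c i s * c i r
  b_add : ∀ i s r, b i (s + r) = b i s * b i r
  z_add : ∀ i s r, z i (s + r) = z i s * z i r
  a_mem : ∀ i s, a i s ∈ Gr.A
  c_mem : ∀ i s, c i s ∈ Gr.C
  b_mem : ∀ i s, b i s ∈ Gr.Bb
  z_mem : ∀ i s, z i s ∈ Gr.Z
  a_cover : ∀ g ∈ Gr.A, ∃ s r, g = a false s * a true r
  c_cover : ∀ g ∈ Gr.C, ∃ s r, g = c false s * c true r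
  b_cover : ∀ g ∈ Gr.Bb, ∃ s r, g = b false s * b true r
  z_cover : ∀ g ∈ Gr.Z, ∃ s r, g = z false s * z true r
  a_c : ∀ i s x, a i s * c i x * (a i s)⁻¹ = z i (B.tr (s * B.s x)) * c i x
  a_b : ∀ i s x, a i s * b i x * (a i s)⁻¹ = z i (B.nm s * x) * c i (s * x) * b i x
  a_c' : ∀ i s x, a i s * c (!i) x = c (!i) x * a i s
  a_b' : ∀ i s x, a i s * b (!i) x = b (!i) x * a i s
  a_mul : ∀ s, a false s * a true s = E.xa s
  c_mul : ∀ s, c false s * c true s = E.xc s
  b_mul : ∀ s, b false s * b true s = E.xb s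
  z_mul : ∀ s, z false s * z true s = E.xz s
  t_a : ∀ i s, E.t * a i s * E.t⁻¹ = a (!i) s
  t_c : ∀ i s, E.t * c i s * E.t⁻¹ = c (!i) s
  t_b : ∀ i s, E.t * b i s * E.t⁻¹ = b (!i) s
  t_z : ∀ i s, E.t * z i s * E.t⁻¹ = z (!i) s
  h_a : ∀ i μ ν x, E.h μ ν * a i x * (E.h μ ν)⁻¹ = a i (μ * x)
  h_c : ∀ i μ ν x, E.h μ ν * c i x * (E.h μ ν)⁻¹ = c i (μ * ((ν : B.K) : F) * x)
  h_b : ∀ i μ ν x, E.h μ ν * b i x * (E.h μ ν)⁻¹ = b i (ν * x)
  h_z : ∀ i μ ν x, E.h μ ν * z i x * (E.h μ ν)⁻¹ = z i (B.nm μ * ν * x)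
  na_z : ∀ i x, E.na * z i x * E.na⁻¹ = b i x
  na_b : ∀ i x, E.na * b i x * E.na⁻¹ = z i x
  na_c : ∀ i x, E.na * c i x * E.na⁻¹ = c i (B.s x)
  nb_a : ∀ i x, E.nb * a i x * E.nb⁻¹ = c i x
  nb_c : ∀ i x, E.nb * c i x * E.nb⁻¹ = a i x
  nb_z : ∀ i x, E.nb * z i x * E.nb⁻¹ = z i x
  disj : ∀ i s s' x x' y y' w w', z i x * c i y * b i w * a i s = z (!i) x' * c (!i) y' * b (!i) w' * a (!i) s' →
    x = 0 ∧ y = 0 ∧ w = 0 ∧ s = 0

/-- the two roots -/
def ep (ε : B.K) (i : Bool) : B.K := if i then ε + 1 else ε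

theorem ep_sq {ε d : B.K} (hε : ε * ε + ε = d) (i : Bool) : ep ε i * ep ε i + ep ε i = d := by
  cases i
  · exact hε
  · change (ε + 1) * (ε + 1) + (ε + 1) = d
    have := B.K_add_self (ε + 1)
    linear_combination hε + this

theorem ep_not {ε : B.K} (i : Bool) : ep ε (!i) = ep ε i + 1 := by
  cases i
  · rfl
  · change ε = ε + 1 + 1
    have := B.K_add_self 1
    linear_combination -this

section vec

variable {d ε : B.K} (h2 : ε * ε + ε = d) (h2' : (ε : F) * ε + ε = d)

include h2 h2'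

theorem v_same_b (s : F) (x : B.K) : pv d s (av (ε * s) (bv x (ε * x))) =
    zv (B.nm s * x) (ε * (B.nm s * x)) + cv (s * x) (ε * (s * x)) + bv x (ε * x) := by
  apply Vh_ext
  · apply Subtype.ext
    simp [pv, av, zv, cv, bv, map_mul, map_add, B.invol]
    grind
  · apply Subtype.ext
    simp [pv, av, zv, cv, bv, map_mul, map_add, B.invol]
    grind
  · simp [pv, av, zv, cv, bv, map_mul, map_add, B.invol]
    grind
  · simp [pv, av, zv, cv, bv, map_mul, map_add, B.invol]
    grind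
  · simp [pv, av, zv, cv, bv]
  · simp [pv, av, zv, cv, bv]

theorem v_same_c (s x : F) : pv d s (av (ε * s) (cv x (ε * x))) =
    zv (B.tr (s * B.s x)) (ε * (B.tr (s * B.s x))) + cv x (ε * x) := by
  apply Vh_ext
  · apply Subtype.ext
    simp [pv, av, zv, cv, bv, map_mul, map_add, B.invol]
    grind
  · apply Subtype.ext
    simp [pv, av, zv, cv, bv, map_mul, map_add, B.invol]
    grind
  · simp [pv, av, zv, cv, bv, map_mul, map_add, B.invol]
  · simp [pv, av, zv, cv, bv, map_mul, map_add, B.invol]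
  · simp [pv, av, zv, cv, bv]
  · simp [pv, av, zv, cv, bv]

theorem v_diff_b (s : F) (x : B.K) : pv d s (av (ε * s) (bv x ((ε + 1) * x))) = bv x ((ε + 1) * x) := by
  apply Vh_ext
  · apply Subtype.ext
    simp [pv, av, zv, cv, bv, map_mul, map_add, B.invol]
    grind
  · apply Subtype.ext
    simp [pv, av, zv, cv, bv, map_mul, map_add, B.invol]
    grind
  · simp [pv, av, zv, cv, bv, map_mul, map_add, B.invol]
    grind
  · simp [pv, av, zv, cv, bv, map_mul, map_add, B.invol]
    grind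
  · simp [pv, av, zv, cv, bv]
  · simp [pv, av, zv, cv, bv]

theorem v_diff_c (s x : F) : pv d s (av (ε * s) (cv x ((ε + 1) * x))) = (cv x ((ε + 1) * x) : Vh B) := by
  apply Vh_ext
  · apply Subtype.ext
    simp [pv, av, zv, cv, bv, map_mul, map_add, B.invol]
    grind
  · apply Subtype.ext
    simp [pv, av, zv, cv, bv, map_mul, map_add, B.invol]
    grind
  · simp [pv, av, zv, cv, bv, map_mul, map_add, B.invol]
  · simp [pv, av, zv, cv, bv, map_mul, map_add, B.invol]
  · simp [pv, av, zv, cv, bv]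
  · simp [pv, av, zv, cv, bv]

end vec

variable {E : Env B G} {Gr : Grown E}

theorem a_split {R : Subgroup G} {M : Type*} [Field M] {x p : M → G} (hR : Root E.toWEnv x R) (hp : Sec E.toWEnv x R p)
    (hx : ∀ a b, x (a + b) = x a * x b) (hM : ∀ a : M, a + a = 0) {e : M} {g : G} (hg : g ∈ R) :
    ∃ s r, g = p s * x (e * s) * (p r * x ((e + 1) * r)) := by
  obtain ⟨u, v, rfl⟩ := hp.cover g hg
  refine ⟨u + (v + e * u), v + e * u, ?_⟩
  have h1 : p (u + (v + e * u)) * x (e * (u + (v + e * u))) * (p (v + e * u) * x ((e + 1) * (v + e * u))) =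
      (p (u + (v + e * u)) * p (v + e * u)) * (x (e * (u + (v + e * u))) * x ((e + 1) * (v + e * u))) := by
    calc _ = p (u + (v + e * u)) * (x (e * (u + (v + e * u))) * p (v + e * u)) * x ((e + 1) * (v + e * u)) := by group
      _ = p (u + (v + e * u)) * (p (v + e * u) * x (e * (u + (v + e * u)))) * x ((e + 1) * (v + e * u)) := by
          rw [root_comm hR (hR.mem _) (hp.mem _)]
      _ = _ := by group
  rw [h1, ← hp.add, ← hx]
  have e1 : u + (v + e * u) + (v + e * u) = u := by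
    have := hM (v + e * u)
    linear_combination this
  have e2 : e * (u + (v + e * u)) + (e + 1) * (v + e * u) = v := by
    have h3 := hM (e * u)
    have h4 := hM (e * (v + e * u))
    linear_combination h3 + h4
  rw [e1, e2]

theorem t_split {R : Subgroup G} {M : Type*} [Field M] {x p : M → G} (hR : Root E.toWEnv x R)
    (hp : Sec E.toWEnv x R p) (hx : ∀ a b, x (a + b) = x a * x b) (ht : ∀ c, E.t * x c = x c * E.t) (e s : M) :
    E.t * (p s * x (e * s)) * E.t⁻¹ = p s * x ((e + 1) * s) := by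
  have h1 := root_t hR (hp.mem s) (hp.conj_t s)
  have h2 : E.t⁻¹ = E.t := WEnv.t_inv _
  have h3 : E.t * E.t = 1 := E.t_sq
  rw [h2]
  calc E.t * (p s * x (e * s)) * E.t = (E.t * p s) * (x (e * s) * E.t) := by group
    _ = (E.t * p s * E.t) * x (e * s) := by rw [← ht]; group
    _ = p s * x s * x (e * s) := by rw [h1, root_comm hR (hR.mem _) (hp.mem _)]
    _ = _ := by rw [mul_assoc, ← hx]; congr 2; ring

namespace Lab

variable {d : B.K} {pa pc : F → G} {pb pz : B.K → G} (h : Lab Gr d pa pc pb pz)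

include h

theorem exists_split4 (hw : WeylRel E) {ε : B.K} (hε : ε * ε + ε = d) :
    Split4 Gr (fun i s => pa s * E.xa ((ep ε i : F) * s)) (fun i s => pc s * E.xc ((ep ε i : F) * s))
      (fun i s => pb s * E.xb (ep ε i * s)) (fun i s => pz s * E.xz (ep ε i * s)) := by
  obtain ⟨na1, na2, na3⟩ := h.na_sections hw
  obtain ⟨nb1, nb2, nb3⟩ := h.nb_sections hw
  have hsq := fun i => ep_sq hε i
  have hsq' : ∀ i, (ep ε i : F) * ep ε i + ep ε i = d := fun i => congrArg Subtype.val (hsq i)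
  have hnot : ∀ i, (ep ε (!i) : F) = ep ε i + 1 := fun i => congrArg Subtype.val (ep_not i)
  have hK : ∀ a : B.K, a + a = 0 := B.K_add_self
  have hF : ∀ a : F, a + a = 0 := fun a => Bar.add_self a
  have hWz : ∀ i (r : B.K), pz r * E.xz (ep ε i * r) = Wh E.toWEnv pc pb pz (zv r (ep ε i * r)) :=
    fun i r => (h.Wh_z _ _).symm
  have hWc : ∀ i (r : F), pc r * E.xc ((ep ε i : F) * r) = Wh E.toWEnv pc pb pz (cv r (ep ε i * r)) :=
    fun i r => (h.Wh_c _ _).symm
  have hWb : ∀ i (r : B.K), pb r * E.xb (ep ε i * r) = Wh E.toWEnv pc pb pz (bv r (ep ε i * r)) :=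
    fun i r => (h.Wh_b _ _).symm
  have hep0 : ep ε false = ε := rfl
  have hep1 : ep ε true = ε + 1 := rfl
  have hep0' : (ep ε false : F) = ε := rfl
  have hep1' : (ep ε true : F) = ε + 1 := rfl
  constructor
  case a_add => intro i s r; change pa (s + r) * _ = _; rw [h.a_mul, mul_add]
  case c_add => intro i s r; simp only [hWc]; rw [← h.Wh_add, ← cv_add, mul_add]
  case b_add => intro i s r; simp only [hWb]; rw [← h.Wh_add, ← bv_add, mul_add]
  case z_add => intro i s r; simp only [hWz]; rw [← h.Wh_add, ← zv_add, mul_add]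
  case a_mem => exact fun i s => h.a_mem _ _
  case c_mem => exact fun i s => h.c_mem _ _
  case b_mem => exact fun i s => h.b_mem _ _
  case z_mem => exact fun i s => h.z_mem _ _
  case a_cover => exact fun g hg => a_split Gr.rootA h.a E.xa_add hF hg
  case c_cover => exact fun g hg => a_split Gr.rootC h.c E.xc_add hF hg
  case b_cover => exact fun g hg => a_split Gr.rootB h.b E.xb_add hK hg
  case z_cover => exact fun g hg => a_split Gr.rootZ h.z E.xz_add hK hg
  case a_c =>
    intro i s x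
    simp only [hWc, hWz]
    rw [h.rel (v_same_c (hsq i) (hsq' i) s x)]
    group
  case a_b =>
    intro i s x
    simp only [hWc, hWz, hWb]
    rw [h.rel (v_same_b (hsq i) (hsq' i) s x), h.Wh_add]
    group
  case a_c' =>
    intro i s x
    simp only [hWc]
    have h1 := hnot i
    rw [h1]
    exact h.rel' (v_diff_c (hsq i) (hsq' i) s x)
  case a_b' =>
    intro i s x
    simp only [hWb]
    have h1 : ep ε (!i) = ep ε i + 1 := ep_not i
    rw [h1]
    exact h.rel' (v_diff_b (hsq i) (hsq' i) s x)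
  case a_mul =>
    intro s
    change (pa s * E.xa _) * (pa s * E.xa _) = _
    rw [h.a_mul, hF, WEnv.hom_zero h.a.add, one_mul]
    congr 1
    rw [hep0', hep1']
    have := hF (ε * s)
    linear_combination this
  case c_mul =>
    intro s
    simp only [hWc]
    rw [← h.Wh_add, ← cv_add, h.Wh_c, hF, h.pc_zero, one_mul]
    congr 1
    rw [hep0', hep1']
    have := hF (ε * s)
    linear_combination this
  case b_mul =>
    intro s
    simp only [hWb]
    rw [← h.Wh_add, ← bv_add, h.Wh_b, hK, h.pb_zero, one_mul]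
    congr 1
    rw [hep0, hep1]
    have := hK (ε * s)
    linear_combination this
  case z_mul =>
    intro s
    simp only [hWz]
    rw [← h.Wh_add, ← zv_add, h.Wh_z, hK, h.pz_zero, one_mul]
    congr 1
    rw [hep0, hep1]
    have := hK (ε * s)
    linear_combination this
  case t_a =>
    intro i s
    rw [hnot i]
    exact t_split Gr.rootA h.a E.xa_add E.t_a _ _
  case t_c =>
    intro i s
    rw [hnot i]
    exact t_split Gr.rootC h.c E.xc_add E.t_c _ _
  case t_b =>
    intro i s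
    rw [ep_not i]
    exact t_split Gr.rootB h.b E.xb_add E.t_b _ _
  case t_z =>
    intro i s
    rw [ep_not i]
    exact t_split Gr.rootZ h.z E.xz_add E.t_z _ _
  case h_a =>
    intro i μ ν x
    have h1 := h.a.tor _ (E.h_mem μ ν) μ (fun c => E.h_a μ ν c) x
    have h2 := E.h_a μ ν ((ep ε i : F) * x)
    calc E.h μ ν * (pa x * E.xa ((ep ε i : F) * x)) * (E.h μ ν)⁻¹
        = (E.h μ ν * pa x * (E.h μ ν)⁻¹) * (E.h μ ν * E.xa ((ep ε i : F) * x) * (E.h μ ν)⁻¹) := by group
      _ = _ := by rw [h1, h2, mul_left_comm]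
  case h_c =>
    intro i μ ν x
    have h1 := h.c.tor _ (E.h_mem μ ν) (μ * (Units.map (B.K.subtype : B.K →* F) ν)) (fun c => E.h_c μ ν c) x
    have h2 := E.h_c μ ν ((ep ε i : F) * x)
    have h3 : ((μ * (Units.map (B.K.subtype : B.K →* F) ν) : Fˣ) : F) = μ * ((ν : B.K) : F) := rfl
    rw [h3] at h1
    calc E.h μ ν * (pc x * E.xc ((ep ε i : F) * x)) * (E.h μ ν)⁻¹
        = (E.h μ ν * pc x * (E.h μ ν)⁻¹) * (E.h μ ν * E.xc ((ep ε i : F) * x) * (E.h μ ν)⁻¹) := by group
      _ = _ := by rw [h1, h2, mul_left_comm _ (ep ε i : F) x]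
  case h_b =>
    intro i μ ν x
    have h1 := h.b.tor _ (E.h_mem μ ν) ν (fun c => E.h_b μ ν c) x
    have h2 := E.h_b μ ν (ep ε i * x)
    calc E.h μ ν * (pb x * E.xb (ep ε i * x)) * (E.h μ ν)⁻¹
        = (E.h μ ν * pb x * (E.h μ ν)⁻¹) * (E.h μ ν * E.xb (ep ε i * x) * (E.h μ ν)⁻¹) := by group
      _ = _ := by rw [h1, h2, mul_left_comm]
  case h_z =>
    intro i μ ν x
    have hnz : B.nm μ * ν ≠ 0 := mul_ne_zero (fun e => μ.ne_zero (B.nm_eq_zero.1 e)) ν.ne_zero
    have h1 := h.z.tor _ (E.h_mem μ ν) (Units.mk0 _ hnz) (fun c => E.h_z μ ν c) x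
    have h2 := E.h_z μ ν (ep ε i * x)
    rw [Units.val_mk0] at h1
    calc E.h μ ν * (pz x * E.xz (ep ε i * x)) * (E.h μ ν)⁻¹
        = (E.h μ ν * pz x * (E.h μ ν)⁻¹) * (E.h μ ν * E.xz (ep ε i * x) * (E.h μ ν)⁻¹) := by group
      _ = _ := by rw [h1, h2, mul_left_comm _ (ep ε i) x]
  case na_z =>
    intro i x
    rw [← na1 x, ← E.na_z (ep ε i * x)]
    group
  case na_b =>
    intro i x
    rw [← na2 x, ← E.na_b (ep ε i * x)]
    group
  case na_c =>
    intro i x
    rw [← na3 x]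
    have h1 := E.na_c ((ep ε i : F) * x)
    rw [map_mul, B.s_K] at h1
    rw [← h1]
    group
  case nb_a =>
    intro i x
    rw [← nb2 x, ← E.nb_a ((ep ε i : F) * x)]
    group
  case nb_c =>
    intro i x
    rw [← nb3 x, ← E.nb_c ((ep ε i : F) * x)]
    group
  case nb_z =>
    intro i x
    conv_rhs => rw [← nb1 x, ← E.nb_z (ep ε i * x)]
    group
  case disj =>
    intro i s s' x x' y y' w w' e
    simp only [hWc, hWz, hWb] at e
    rw [← h.Wh_add, ← h.Wh_add, ← h.Wh_add, ← h.Wh_add] at e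
    obtain ⟨e1, e2, e3⟩ := h.nf_injective e
    subst e2
    have e4 := congrArg (fun v : Vh B => v.1.1) e1
    have e5 := congrArg (fun v : Vh B => v.1.2) e1
    have e6 := congrArg (fun v : Vh B => v.2.1.1) e1
    have e7 := congrArg (fun v : Vh B => v.2.1.2) e1
    have e8 := congrArg (fun v : Vh B => v.2.2.1) e1
    have e9 := congrArg (fun v : Vh B => v.2.2.2) e1
    simp only [zv, cv, bv, Prod.fst_add, Prod.snd_add, add_zero, zero_add] at e4 e5 e6 e7 e8 e9
    subst e4 e6 e8
    rw [ep_not] at e5 e9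
    rw [hnot] at e7 e3
    refine ⟨?_, ?_, ?_, ?_⟩
    · linear_combination -e5
    · linear_combination -e7
    · linear_combination -e9
    · linear_combination -e3

end Lab

end Cfsg.Agent.StdRank2.UFourId
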