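import Mathlib
import Cfsg.Agent.StdRank2.UFourIdSplit

/-!
# The split case of type `U₄(q)`: the two components

`Split4.L a b i`: the group generated by the `i`-th root groups `a`, `b` and their opposites.  The groups `L false`,
`L true` commute elementwise, are perfect, swapped by `t`, normalised by `na`, `nb` and contain the root groups.
-/

set_option autoImplicit false

namespace Cfsg.Agent.StdRank2.UFourId

open Cfsg.Agent.StdRank2.UFour VSec Subgroup
open scoped commutatorElement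

variable {F : Type*} [Field F] [CharP F 2] {B : Bar F} {G : Type*} [Group G] {E : Env B G} {Gr : Grown E}
  {a c : Bool → F → G} {b z : Bool → B.K → G}

/-- The generators of the `i`-th component. -/
inductive LGen (E : Env B G) (a : Bool → F → G) (b : Bool → B.K → G) (i : Bool) : G → Prop
  | a (s : F) : LGen E a b i (a i s)
  | b (r : B.K) : LGen E a b i (b i r)
  | a' (s : F) : LGen E a b i (E.na * a i s * E.na⁻¹)
  | b' (r : B.K) : LGen E a b i (E.nb * b i r * E.nb⁻¹)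

/-- The `i`-th component. -/
def LL (E : Env B G) (a : Bool → F → G) (b : Bool → B.K → G) (i : Bool) : Subgroup G :=
  closure {g | LGen E a b i g}

theorem comm_conj {n x y : G} (h : (n * x * n⁻¹) * (n * y * n⁻¹) = (n * y * n⁻¹) * (n * x * n⁻¹)) : x * y = y * x := by
  have h1 : n * (x * y) * n⁻¹ = n * (y * x) * n⁻¹ := by
    calc n * (x * y) * n⁻¹ = (n * x * n⁻¹) * (n * y * n⁻¹) := by group
      _ = (n * y * n⁻¹) * (n * x * n⁻¹) := h
      _ = _ := by group
  exact mul_left_cancel (mul_right_cancel h1)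

theorem eq_not {i j : Bool} (h : i ≠ j) : j = !i := by
  cases i <;> cases j
  · exact absurd rfl h
  · rfl
  · rfl
  · exact absurd rfl h

namespace Split4

variable (S : Split4 Gr a c b z)

include S

theorem a_zero (i : Bool) : a i 0 = 1 := WEnv.hom_zero (S.a_add i)
theorem c_zero (i : Bool) : c i 0 = 1 := WEnv.hom_zero (S.c_add i)
theorem b_zero (i : Bool) : b i 0 = 1 := WEnv.hom_zero (S.b_add i)
theorem z_zero (i : Bool) : z i 0 = 1 := WEnv.hom_zero (S.z_add i)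

theorem a_sq (i : Bool) (s : F) : a i s * a i s = 1 := Gr.rootA.sq _ (S.a_mem i s)
theorem c_sq (i : Bool) (s : F) : c i s * c i s = 1 := Gr.rootC.sq _ (S.c_mem i s)
theorem b_sq (i : Bool) (s : B.K) : b i s * b i s = 1 := Gr.rootB.sq _ (S.b_mem i s)
theorem z_sq (i : Bool) (s : B.K) : z i s * z i s = 1 := Gr.rootZ.sq _ (S.z_mem i s)

theorem a_a (i j : Bool) (s r : F) : a i s * a j r = a j r * a i s := root_comm Gr.rootA (S.a_mem _ _) (S.a_mem _ _)
theorem b_b (i j : Bool) (s r : B.K) : b i s * b j r = b j r * b i s := root_comm Gr.rootB (S.b_mem _ _) (S.b_mem _ _)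
theorem c_c (i j : Bool) (s r : F) : c i s * c j r = c j r * c i s := root_comm Gr.rootC (S.c_mem _ _) (S.c_mem _ _)
theorem z_z (i j : Bool) (s r : B.K) : z i s * z j r = z j r * z i s := root_comm Gr.rootZ (S.z_mem _ _) (S.z_mem _ _)
theorem z_a (i j : Bool) (s : B.K) (r : F) : z i s * a j r = a j r * z i s := Gr.Z_A _ (S.z_mem _ _) _ (S.a_mem _ _)
theorem z_c (i j : Bool) (s : B.K) (r : F) : z i s * c j r = c j r * z i s := Gr.Z_C _ (S.z_mem _ _) _ (S.c_mem _ _)
theorem z_b (i j : Bool) (s : B.K) (r : B.K) : z i s * b j r = b j r * z i s := Gr.Z_B _ (S.z_mem _ _) _ (S.b_mem _ _)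
theorem c_b (i j : Bool) (s : F) (r : B.K) : c i s * b j r = b j r * c i s := Gr.C_B _ (S.c_mem _ _) _ (S.b_mem _ _)

/-- `c i s` is a product of conjugates. -/
theorem c_eq (i : Bool) (s : F) : c i s = z i (B.nm s) * (a i s * b i 1 * (a i s)⁻¹ * (b i 1)⁻¹) := by
  have h1 := S.a_b i s 1
  rw [mul_one, OneMemClass.coe_one, mul_one] at h1
  rw [h1, mul_assoc (z i (B.nm s)), mul_assoc (z i (B.nm s)), ← mul_assoc (z i (B.nm s)), S.z_sq, one_mul,
    mul_inv_cancel_right]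

theorem z_eq (i : Bool) (s : F) : z i (B.tr s) = a i s * c i 1 * (a i s)⁻¹ * (c i 1)⁻¹ := by
  have h1 := S.a_c i s 1
  rw [map_one, mul_one] at h1
  rw [h1, mul_inv_cancel_right]

variable (hw : WeylRel E)

include hw

/-- (7): opposite to the simple roots -/
theorem a'_b' (i j : Bool) (hij : i ≠ j) (s : F) (r : B.K) :
    (E.na * a i s * E.na⁻¹) * (E.nb * b j r * E.nb⁻¹) = (E.nb * b j r * E.nb⁻¹) * (E.na * a i s * E.na⁻¹) := by
  have hna : E.na⁻¹ = E.na := WEnv.inv_of_sq E.na_sq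
  have hnb : E.nb⁻¹ = E.nb := WEnv.inv_of_sq E.nb_sq
  apply comm_conj (n := E.na * E.nb * E.na * E.nb)
  have e1 : (E.na * E.nb * E.na * E.nb) * (E.na * a i s * E.na⁻¹) * (E.na * E.nb * E.na * E.nb)⁻¹ =
      a i (B.s s) := by
    rw [hw.braid]
    calc (E.nb * E.na * E.nb * E.na) * (E.na * a i s * E.na⁻¹) * (E.nb * E.na * E.nb * E.na)⁻¹
        = E.nb * (E.na * (E.nb * ((E.na * E.na) * a i s * (E.na * E.na)⁻¹) * E.nb⁻¹) * E.na⁻¹) * E.nb⁻¹ := by group
      _ = a i (B.s s) := by rw [E.na_sq, one_mul, inv_one, mul_one, S.nb_a, S.na_c, S.nb_c]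
  have e2 : (E.na * E.nb * E.na * E.nb) * (E.nb * b j r * E.nb⁻¹) * (E.na * E.nb * E.na * E.nb)⁻¹ = b j r := by
    calc (E.na * E.nb * E.na * E.nb) * (E.nb * b j r * E.nb⁻¹) * (E.na * E.nb * E.na * E.nb)⁻¹
        = E.na * (E.nb * (E.na * ((E.nb * E.nb) * b j r * (E.nb * E.nb)⁻¹) * E.na⁻¹) * E.nb⁻¹) * E.na⁻¹ := by group
      _ = b j r := by rw [E.nb_sq, one_mul, inv_one, mul_one, S.na_b, S.nb_z, S.na_z]
  rw [e1, e2]
  have hj : j = !i := eq_not hij
  subst hj
  exact S.a_b' i _ _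

theorem a_b'' (i j : Bool) (hij : i ≠ j) (s : F) (r : B.K) :
    a i s * (E.nb * b j r * E.nb⁻¹) = (E.nb * b j r * E.nb⁻¹) * a i s := by
  have hnb : E.nb⁻¹ = E.nb := WEnv.inv_of_sq E.nb_sq
  apply comm_conj (n := E.nb)
  have e2 : E.nb * (E.nb * b j r * E.nb⁻¹) * E.nb⁻¹ = b j r := by
    calc _ = (E.nb * E.nb) * b j r * (E.nb * E.nb)⁻¹ := by group
      _ = _ := by rw [E.nb_sq]; group
  rw [e2, S.nb_a]
  exact S.c_b _ _ _ _

theorem b_a'' (i j : Bool) (hij : i ≠ j) (s : F) (r : B.K) :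
    b i r * (E.na * a j s * E.na⁻¹) = (E.na * a j s * E.na⁻¹) * b i r := by
  apply comm_conj (n := E.na)
  have e2 : E.na * (E.na * a j s * E.na⁻¹) * E.na⁻¹ = a j s := by
    calc _ = (E.na * E.na) * a j s * (E.na * E.na)⁻¹ := by group
      _ = _ := by rw [E.na_sq]; group
  rw [e2, S.na_b]
  exact S.z_a _ _ _ _

/-- `C` and the opposite of `A` -/
theorem c_a' (i j : Bool) (hij : i ≠ j) (s r : F) :
    c i r * (E.na * a j s * E.na⁻¹) = (E.na * a j s * E.na⁻¹) * c i r := by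
  apply comm_conj (n := E.na)
  have e2 : E.na * (E.na * a j s * E.na⁻¹) * E.na⁻¹ = a j s := by
    calc _ = (E.na * E.na) * a j s * (E.na * E.na)⁻¹ := by group
      _ = _ := by rw [E.na_sq]; group
  rw [e2, S.na_c]
  have hj : i = !j := eq_not hij.symm
  subst hj
  exact (S.a_c' j _ _).symm

theorem z_a' (i j : Bool) (hij : i ≠ j) (s : F) (r : B.K) :
    z i r * (E.na * a j s * E.na⁻¹) = (E.na * a j s * E.na⁻¹) * z i r := by
  apply comm_conj (n := E.na)
  have e2 : E.na * (E.na * a j s * E.na⁻¹) * E.na⁻¹ = a j s := by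
    calc _ = (E.na * E.na) * a j s * (E.na * E.na)⁻¹ := by group
      _ = _ := by rw [E.na_sq]; group
  rw [e2, S.na_z]
  have hj : i = !j := eq_not hij.symm
  subst hj
  exact (S.a_b' j _ _).symm

theorem c_b' (i j : Bool) (hij : i ≠ j) (s : F) (r : B.K) :
    c i s * (E.nb * b j r * E.nb⁻¹) = (E.nb * b j r * E.nb⁻¹) * c i s := by
  apply comm_conj (n := E.nb)
  have e2 : E.nb * (E.nb * b j r * E.nb⁻¹) * E.nb⁻¹ = b j r := by
    calc _ = (E.nb * E.nb) * b j r * (E.nb * E.nb)⁻¹ := by group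
      _ = _ := by rw [E.nb_sq]; group
  rw [e2, S.nb_c]
  have hj : j = !i := eq_not hij
  subst hj
  exact S.a_b' i _ _

/-- (8) -/
theorem a_a' (i j : Bool) (hij : i ≠ j) (s r : F) :
    a i s * (E.na * a j r * E.na⁻¹) = (E.na * a j r * E.na⁻¹) * a i s := by
  have h1 := S.c_eq i s
  have h2 : a i s = z i (B.nm s) * (c i s * (E.nb * b i 1 * E.nb⁻¹) * (c i s)⁻¹ * (E.nb * b i 1 * E.nb⁻¹)⁻¹) := by
    rw [← S.nb_c i s, h1]
    calc E.nb * (z i (B.nm s) * (a i s * b i 1 * (a i s)⁻¹ * (b i 1)⁻¹)) * E.nb⁻¹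
        = (E.nb * z i (B.nm s) * E.nb⁻¹) * ((E.nb * a i s * E.nb⁻¹) * (E.nb * b i 1 * E.nb⁻¹) *
          (E.nb * a i s * E.nb⁻¹)⁻¹ * (E.nb * b i 1 * E.nb⁻¹)⁻¹) := by group
      _ = _ := by rw [S.nb_z, S.nb_a, h1]
  have c1 : Commute (z i (B.nm s)) (E.na * a j r * E.na⁻¹) := S.z_a' hw i j hij _ _
  have c2 : Commute (c i s) (E.na * a j r * E.na⁻¹) := S.c_a' hw i j hij _ _
  have c3 : Commute (E.nb * b i 1 * E.nb⁻¹) (E.na * a j r * E.na⁻¹) := (S.a'_b' hw j i hij.symm r 1).symm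
  rw [h2]
  exact (c1.mul_left (((c2.mul_left c3).mul_left c2.inv_left).mul_left c3.inv_left)).eq

/-- (9) -/
theorem b_b' (i j : Bool) (hij : i ≠ j) (s r : B.K) :
    b i s * (E.nb * b j r * E.nb⁻¹) = (E.nb * b j r * E.nb⁻¹) * b i s := by
  obtain ⟨u, rfl⟩ := B.tr_surj s
  have h2 : b i (B.tr u) = (E.na * a i u * E.na⁻¹) * c i 1 * (E.na * a i u * E.na⁻¹)⁻¹ * (c i 1)⁻¹ := by
    have h3 := S.na_c i 1
    rw [map_one] at h3
    rw [← S.na_z i, S.z_eq]
    calc E.na * (a i u * c i 1 * (a i u)⁻¹ * (c i 1)⁻¹) * E.na⁻¹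
        = (E.na * a i u * E.na⁻¹) * (E.na * c i 1 * E.na⁻¹) * (E.na * a i u * E.na⁻¹)⁻¹ *
          (E.na * c i 1 * E.na⁻¹)⁻¹ := by group
      _ = _ := by rw [h3]
  have c1 : Commute (E.na * a i u * E.na⁻¹) (E.nb * b j r * E.nb⁻¹) := S.a'_b' hw i j hij _ _
  have c2 : Commute (c i 1) (E.nb * b j r * E.nb⁻¹) := S.c_b' hw i j hij _ _
  rw [h2]
  exact (((c1.mul_left c2).mul_left c1.inv_left).mul_left c2.inv_left).eq

/-- **The two components commute.** -/
theorem LL_comm {i j : Bool} (hij : i ≠ j) {x y : G} (hx : x ∈ LL E a b i) (hy : y ∈ LL E a b j) :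
    x * y = y * x := by
  have hj : j = !i := eq_not hij
  have hi : i = !j := eq_not hij.symm
  have key : ∀ x y, LGen E a b i x → LGen E a b j y → x * y = y * x := by
    intro x y hx hy
    cases hx with
    | a s =>
      cases hy with
      | a r => exact S.a_a _ _ _ _
      | b r => rw [hj]; exact S.a_b' i _ _
      | a' r => exact S.a_a' hw i j hij _ _
      | b' r => exact S.a_b'' hw i j hij _ _
    | b s =>
      cases hy with
      | a r => rw [hi]; exact (S.a_b' j _ _).symm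
      | b r => exact S.b_b _ _ _ _
      | a' r => exact S.b_a'' hw i j hij _ _
      | b' r => exact S.b_b' hw i j hij _ _
    | a' s =>
      cases hy with
      | a r => exact (S.a_a' hw j i hij.symm _ _).symm
      | b r => exact (S.b_a'' hw j i hij.symm _ _).symm
      | a' r =>
        have h1 := S.a_a i j s r
        calc (E.na * a i s * E.na⁻¹) * (E.na * a j r * E.na⁻¹) = E.na * (a i s * a j r) * E.na⁻¹ := by group
          _ = _ := by rw [h1]; group
      | b' r => exact S.a'_b' hw i j hij _ _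
    | b' s =>
      cases hy with
      | a r => exact (S.a_b'' hw j i hij.symm _ _).symm
      | b r => exact (S.b_b' hw j i hij.symm _ _).symm
      | a' r => exact (S.a'_b' hw j i hij.symm _ _).symm
      | b' r =>
        have h1 := S.b_b i j s r
        calc (E.nb * b i s * E.nb⁻¹) * (E.nb * b j r * E.nb⁻¹) = E.nb * (b i s * b j r) * E.nb⁻¹ := by group
          _ = _ := by rw [h1]; group
  have h1 : LL E a b i ≤ centralizer (LL E a b j : Set G) := by
    unfold LL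
    rw [centralizer_closure, closure_le]
    intro x hx
    rw [SetLike.mem_coe, mem_centralizer_iff]
    intro y hy
    exact (key x y hx hy).symm
  exact (mem_centralizer_iff.1 (h1 hx) y hy).symm

omit hw in
theorem a_LL (i : Bool) (s : F) : a i s ∈ LL E a b i := subset_closure (.a s)
omit hw in
theorem b_LL (i : Bool) (s : B.K) : b i s ∈ LL E a b i := subset_closure (.b s)
omit hw in
theorem a'_LL (i : Bool) (s : F) : E.na * a i s * E.na⁻¹ ∈ LL E a b i := subset_closure (.a' s)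
omit hw in
theorem b'_LL (i : Bool) (s : B.K) : E.nb * b i s * E.nb⁻¹ ∈ LL E a b i := subset_closure (.b' s)

/-- the Weyl elements of the components -/
theorem na_eq : ∃ n₁ ∈ LL E a b false, ∃ n₂ ∈ LL E a b true, E.na = n₁ * n₂ := by
  refine ⟨a false 1 * (E.na * a false 1 * E.na⁻¹) * a false 1,
    mul_mem (mul_mem (S.a_LL _ _) (S.a'_LL _ _)) (S.a_LL _ _),
    a true 1 * (E.na * a true 1 * E.na⁻¹) * a true 1,
    mul_mem (mul_mem (S.a_LL _ _) (S.a'_LL _ _)) (S.a_LL _ _), ?_⟩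
  have hna : E.na⁻¹ = E.na := WEnv.inv_of_sq E.na_sq
  have h1 : E.na = E.xa 1 * (E.na * E.xa 1 * E.na⁻¹) * E.xa 1 := by
    have h2 := hw.na_a
    have h3 := E.xa_sq 1
    have h4 : E.xa 1 * E.na * E.xa 1 * E.na * E.xa 1 = E.na := by
      calc E.xa 1 * E.na * E.xa 1 * E.na * E.xa 1 =
          (E.na * E.na) * (E.xa 1 * E.na * E.xa 1 * E.na * E.xa 1) := by rw [E.na_sq, one_mul]
        _ = E.na * (E.na * E.xa 1 * E.na * E.xa 1 * E.na * E.xa 1) := by group
        _ = E.na := by rw [h2, mul_one]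
    rw [hna]
    conv_lhs => rw [← h4]
    group
  have c1 : Commute (a true 1) (E.na * a false 1 * E.na⁻¹) := S.a_a' hw true false (by decide) _ _
  have c2 : Commute (a true 1) (a false 1) := S.a_a _ _ _ _
  have c3 : Commute (E.na * a true 1 * E.na⁻¹) (a false 1) := (S.a_a' hw false true (by decide) _ _).symm
  conv_lhs => rw [h1]
  rw [← S.a_mul]
  generalize hx : E.na * a false 1 * E.na⁻¹ = x at c1 ⊢
  generalize hy : E.na * a true 1 * E.na⁻¹ = y at c3 ⊢
  have e1 : E.na * (a false 1 * a true 1) * E.na⁻¹ = x * y := by rw [← hx, ← hy]; group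
  rw [e1]
  calc a false 1 * a true 1 * (x * y) * (a false 1 * a true 1)
      = a false 1 * (a true 1 * x) * (y * a false 1) * a true 1 := by group
    _ = a false 1 * (x * a true 1) * (a false 1 * y) * a true 1 := by rw [c1.eq, c3.eq]
    _ = a false 1 * x * (a true 1 * a false 1) * y * a true 1 := by group
    _ = a false 1 * x * (a false 1 * a true 1) * y * a true 1 := by rw [c2.eq]
    _ = _ := by group

theorem nb_eq : ∃ n₁ ∈ LL E a b false, ∃ n₂ ∈ LL E a b true, E.nb = n₁ * n₂ := by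
  refine ⟨b false 1 * (E.nb * b false 1 * E.nb⁻¹) * b false 1,
    mul_mem (mul_mem (S.b_LL _ _) (S.b'_LL _ _)) (S.b_LL _ _),
    b true 1 * (E.nb * b true 1 * E.nb⁻¹) * b true 1,
    mul_mem (mul_mem (S.b_LL _ _) (S.b'_LL _ _)) (S.b_LL _ _), ?_⟩
  have hna : E.nb⁻¹ = E.nb := WEnv.inv_of_sq E.nb_sq
  have h1 : E.nb = E.xb 1 * (E.nb * E.xb 1 * E.nb⁻¹) * E.xb 1 := by
    have h2 := hw.nb_b
    have h3 := E.xb_sq 1
    have h4 : E.xb 1 * E.nb * E.xb 1 * E.nb * E.xb 1 = E.nb := by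
      calc E.xb 1 * E.nb * E.xb 1 * E.nb * E.xb 1 =
          (E.nb * E.nb) * (E.xb 1 * E.nb * E.xb 1 * E.nb * E.xb 1) := by rw [E.nb_sq, one_mul]
        _ = E.nb * (E.nb * E.xb 1 * E.nb * E.xb 1 * E.nb * E.xb 1) := by group
        _ = E.nb := by rw [h2, mul_one]
    rw [hna]
    conv_lhs => rw [← h4]
    group
  have c1 : Commute (b true 1) (E.nb * b false 1 * E.nb⁻¹) := S.b_b' hw true false (by decide) _ _
  have c2 : Commute (b true 1) (b false 1) := S.b_b _ _ _ _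
  have c3 : Commute (E.nb * b true 1 * E.nb⁻¹) (b false 1) := (S.b_b' hw false true (by decide) _ _).symm
  conv_lhs => rw [h1]
  rw [← S.b_mul]
  generalize hx : E.nb * b false 1 * E.nb⁻¹ = x at c1 ⊢
  generalize hy : E.nb * b true 1 * E.nb⁻¹ = y at c3 ⊢
  have e1 : E.nb * (b false 1 * b true 1) * E.nb⁻¹ = x * y := by rw [← hx, ← hy]; group
  rw [e1]
  calc b false 1 * b true 1 * (x * y) * (b false 1 * b true 1)
      = b false 1 * (b true 1 * x) * (y * b false 1) * b true 1 := by group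
    _ = b false 1 * (x * b true 1) * (b false 1 * y) * b true 1 := by rw [c1.eq, c3.eq]
    _ = b false 1 * x * (b true 1 * b false 1) * y * b true 1 := by group
    _ = b false 1 * x * (b false 1 * b true 1) * y * b true 1 := by rw [c2.eq]
    _ = _ := by group

/-- conjugation by an element of the product -/
theorem conj_LL {n₁ n₂ : G} (h1 : n₁ ∈ LL E a b false) (h2 : n₂ ∈ LL E a b true) (i : Bool) :
    ∃ n ∈ LL E a b i, ∀ x ∈ LL E a b i, (n₁ * n₂) * x * (n₁ * n₂)⁻¹ = n * x * n⁻¹ := by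
  cases i
  · refine ⟨n₁, h1, fun x hx => ?_⟩
    have h3 := S.LL_comm hw (i := true) (j := false) (by decide) h2 hx
    calc (n₁ * n₂) * x * (n₁ * n₂)⁻¹ = n₁ * (n₂ * x) * n₂⁻¹ * n₁⁻¹ := by group
      _ = n₁ * x * n₁⁻¹ := by rw [h3]; group
  · refine ⟨n₂, h2, fun x hx => ?_⟩
    have h4 := S.LL_comm hw (i := false) (j := true) (by decide) h1 (mul_mem (mul_mem h2 hx) (inv_mem h2))
    calc (n₁ * n₂) * x * (n₁ * n₂)⁻¹ = n₁ * (n₂ * x * n₂⁻¹) * n₁⁻¹ := by group
      _ = n₂ * x * n₂⁻¹ := by rw [h4, mul_inv_cancel_right]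

theorem na_LL (i : Bool) {x : G} (hx : x ∈ LL E a b i) : E.na * x * E.na⁻¹ ∈ LL E a b i := by
  obtain ⟨n₁, h1, n₂, h2, e⟩ := S.na_eq hw
  obtain ⟨n, hn, h3⟩ := S.conj_LL hw h1 h2 i
  rw [e, h3 x hx]
  exact mul_mem (mul_mem hn hx) (inv_mem hn)

theorem nb_LL (i : Bool) {x : G} (hx : x ∈ LL E a b i) : E.nb * x * E.nb⁻¹ ∈ LL E a b i := by
  obtain ⟨n₁, h1, n₂, h2, e⟩ := S.nb_eq hw
  obtain ⟨n, hn, h3⟩ := S.conj_LL hw h1 h2 i
  rw [e, h3 x hx]
  exact mul_mem (mul_mem hn hx) (inv_mem hn)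

theorem c_LL (i : Bool) (s : F) : c i s ∈ LL E a b i := by
  rw [← S.nb_a]
  exact S.nb_LL hw i (S.a_LL i s)

theorem z_LL (i : Bool) (s : B.K) : z i s ∈ LL E a b i := by
  rw [← S.na_b]
  exact S.na_LL hw i (S.b_LL i s)

/-- **The components are perfect.** -/
theorem LL_perfect (i : Bool) : LL E a b i ≤ ⁅LL E a b i, LL E a b i⁆ := by
  have hz : ∀ s, z i s ∈ ⁅LL E a b i, LL E a b i⁆ := by
    intro s
    obtain ⟨u, rfl⟩ := B.tr_surj s
    rw [S.z_eq, ← commutatorElement_def]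
    exact commutator_mem_commutator (S.a_LL _ _) (S.c_LL hw _ _)
  have hc : ∀ s, c i s ∈ ⁅LL E a b i, LL E a b i⁆ := by
    intro s
    rw [S.c_eq, ← commutatorElement_def]
    exact mul_mem (hz _) (commutator_mem_commutator (S.a_LL _ _) (S.b_LL _ _))
  have hnorm : ∀ n ∈ LL E a b i, ∀ x ∈ ⁅LL E a b i, LL E a b i⁆, n * x * n⁻¹ ∈ ⁅LL E a b i, LL E a b i⁆ := by
    intro n hn x hx
    have hx' := commutator_le_self (LL E a b i) hx
    have e : n * x * n⁻¹ = ⁅n, x⁆ * x := by rw [commutatorElement_def]; group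
    rw [e]
    exact mul_mem (commutator_mem_commutator hn hx') hx
  have hna : ∀ x ∈ ⁅LL E a b i, LL E a b i⁆, E.na * x * E.na⁻¹ ∈ ⁅LL E a b i, LL E a b i⁆ := by
    intro x hx
    obtain ⟨n₁, h1, n₂, h2, e⟩ := S.na_eq hw
    obtain ⟨n, hn, h3⟩ := S.conj_LL hw h1 h2 i
    rw [e, h3 x (commutator_le_self _ hx)]
    exact hnorm n hn x hx
  have hnb : ∀ x ∈ ⁅LL E a b i, LL E a b i⁆, E.nb * x * E.nb⁻¹ ∈ ⁅LL E a b i, LL E a b i⁆ := by
    intro x hx
    obtain ⟨n₁, h1, n₂, h2, e⟩ := S.nb_eq hw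
    obtain ⟨n, hn, h3⟩ := S.conj_LL hw h1 h2 i
    rw [e, h3 x (commutator_le_self _ hx)]
    exact hnorm n hn x hx
  have ha : ∀ s, a i s ∈ ⁅LL E a b i, LL E a b i⁆ := by
    intro s
    rw [← S.nb_c]
    exact hnb _ (hc s)
  have hb : ∀ s, b i s ∈ ⁅LL E a b i, LL E a b i⁆ := by
    intro s
    rw [← S.na_z]
    exact hna _ (hz s)
  conv_lhs => unfold LL
  rw [closure_le]
  intro x hx
  cases hx with
  | a s => exact ha s
  | b s => exact hb s
  | a' s => exact hna _ (ha s)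
  | b' s => exact hnb _ (hb s)

omit hw in
theorem t_LL (i : Bool) : ∀ x ∈ LL E a b i, E.t * x * E.t⁻¹ ∈ LL E a b (!i) := by
  have h1 : LL E a b i ≤ (LL E a b (!i)).comap (MulAut.conj E.t).toMonoidHom := by
    conv_lhs => unfold LL
    rw [closure_le]
    intro x hx
    change E.t * x * E.t⁻¹ ∈ LL E a b (!i)
    cases hx with
    | a s => rw [S.t_a]; exact S.a_LL _ _
    | b s => rw [S.t_b]; exact S.b_LL _ _
    | a' s =>
      have h2 := E.t_na
      have e : E.t * (E.na * a i s * E.na⁻¹) * E.t⁻¹ = E.na * (E.t * a i s * E.t⁻¹) * E.na⁻¹ := by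
        calc _ = (E.t * E.na) * a i s * (E.t * E.na)⁻¹ := by group
          _ = _ := by rw [h2]; group
      rw [e, S.t_a]
      exact S.a'_LL _ _
    | b' s =>
      have h2 := E.t_nb
      have e : E.t * (E.nb * b i s * E.nb⁻¹) * E.t⁻¹ = E.nb * (E.t * b i s * E.t⁻¹) * E.nb⁻¹ := by
        calc _ = (E.t * E.nb) * b i s * (E.t * E.nb)⁻¹ := by group
          _ = _ := by rw [h2]; group
      rw [e, S.t_b]
      exact S.b'_LL _ _
  exact fun x hx => h1 hx

end Split4

end Cfsg.Agent.StdRank2.UFourId
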