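import Mathlib
import Cfsg.Prelude.Def_TwoFusion
import Cfsg.Agent.StdRank2.UFourSplitL

/-!
# The split case of type `U₄(q)`: the factors of the grown group

`Split4.Su S i = Zᵢ Cᵢ Bᵢ Aᵢ`; `Sh Gr` is the internal direct product of `Su false` and `Su true`.
-/

set_option autoImplicit false

namespace Cfsg.Agent.StdRank2.UFourId

open Cfsg.Agent.StdRank2.UFour VSec Subgroup
open scoped commutatorElement

variable {F : Type*} [Field F] [CharP F 2] {B : Bar F} {G : Type*} [Group G] {E : Env B G} {Gr : Grown E}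
  {a c : Bool → F → G} {b z : Bool → B.K → G}

namespace Split4

variable (S : Split4 Gr a c b z)

include S

theorem a_act (i : Bool) (s : F) (x : B.K) (y : F) (w : B.K) : a i s * (z i x * c i y * b i w) =
    z i (x + B.tr (s * B.s y) + B.nm s * w) * c i (y + s * w) * b i w * a i s := by
  have h1 := S.a_c i s y
  have h2 := S.a_b i s w
  have h3 := S.z_a i i x s
  calc a i s * (z i x * c i y * b i w) = (a i s * z i x) * c i y * b i w := by group
    _ = (z i x * a i s) * c i y * b i w := by rw [h3]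
    _ = z i x * (a i s * c i y * (a i s)⁻¹) * (a i s * b i w * (a i s)⁻¹) * a i s := by group
    _ = z i x * (z i (B.tr (s * B.s y)) * c i y) * (z i (B.nm s * w) * c i (s * w) * b i w) * a i s := by rw [h1, h2]
    _ = z i x * z i (B.tr (s * B.s y)) * (c i y * z i (B.nm s * w)) * c i (s * w) * b i w * a i s := by group
    _ = z i x * z i (B.tr (s * B.s y)) * (z i (B.nm s * w) * c i y) * c i (s * w) * b i w * a i s := by
        rw [S.z_c i i]
    _ = (z i x * z i (B.tr (s * B.s y)) * z i (B.nm s * w)) * (c i y * c i (s * w)) * b i w * a i s := by group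
    _ = _ := by rw [← S.z_add, ← S.z_add, ← S.c_add]

theorem w_mul (i : Bool) (x : B.K) (y : F) (w x' : B.K) (y' : F) (w' : B.K) :
    (z i x * c i y * b i w) * (z i x' * c i y' * b i w') = z i (x + x') * c i (y + y') * b i (w + w') := by
  have h1 := S.z_b i i x' w
  have h2 := S.z_c i i x' y
  have h3 := S.c_b i i y' w
  calc (z i x * c i y * b i w) * (z i x' * c i y' * b i w')
      = z i x * c i y * (b i w * z i x') * c i y' * b i w' := by group
    _ = z i x * (c i y * z i x') * (b i w * c i y') * b i w' := by rw [← h1]; group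
    _ = z i x * (z i x' * c i y) * (c i y' * b i w) * b i w' := by rw [h2, h3]
    _ = (z i x * z i x') * (c i y * c i y') * (b i w * b i w') := by group
    _ = _ := by rw [← S.z_add, ← S.c_add, ← S.b_add]

theorem nf_mul (i : Bool) (x : B.K) (y : F) (w : B.K) (s : F) (x' : B.K) (y' : F) (w' : B.K) (s' : F) :
    (z i x * c i y * b i w * a i s) * (z i x' * c i y' * b i w' * a i s') =
      z i (x + (x' + B.tr (s * B.s y') + B.nm s * w')) * c i (y + (y' + s * w')) * b i (w + w') * a i (s + s') := by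
  have h1 := S.a_act i s x' y' w'
  calc (z i x * c i y * b i w * a i s) * (z i x' * c i y' * b i w' * a i s')
      = (z i x * c i y * b i w) * (a i s * (z i x' * c i y' * b i w')) * a i s' := by group
    _ = ((z i x * c i y * b i w) * (z i (x' + B.tr (s * B.s y') + B.nm s * w') * c i (y' + s * w') * b i w')) *
        (a i s * a i s') := by rw [h1]; group
    _ = _ := by rw [S.w_mul, ← S.a_add]

/-- The `i`-th factor of the grown group. -/
def Su (i : Bool) : Subgroup G where
  carrier := {g | ∃ x y w s, g = z i x * c i y * b i w * a i s}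
  mul_mem' := by
    rintro _ _ ⟨x, y, w, s, rfl⟩ ⟨x', y', w', s', rfl⟩
    exact ⟨_, _, _, _, S.nf_mul i _ _ _ _ _ _ _ _⟩
  one_mem' := ⟨0, 0, 0, 0, by rw [S.z_zero, S.c_zero, S.b_zero, S.a_zero]; group⟩
  inv_mem' := by
    rintro _ ⟨x, y, w, s, rfl⟩
    refine ⟨x + B.tr (s * B.s y) + B.nm s * w, y + s * w, w, s, ?_⟩
    rw [inv_eq_iff_mul_eq_one, S.nf_mul]
    have e1 : x + (x + B.tr (s * B.s y) + B.nm s * w + B.tr (s * B.s (y + s * w)) + B.nm s * w) = 0 := by
      have h1 : B.tr (s * B.s (y + s * w)) = B.tr (s * B.s y) := by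
        rw [map_add, mul_add, B.tr_add]
        have h2 : s * B.s (s * w) = ((B.nm s * w : B.K) : F) := by
          rw [map_mul, B.s_K, ← mul_assoc]
          rfl
        rw [h2, B.tr_K, add_zero]
      rw [h1]
      have h3 := B.K_add_self x
      have h4 := B.K_add_self (B.tr (s * B.s y))
      have h5 := B.K_add_self (B.nm s * w)
      linear_combination h3 + h4 + h5
    have e2 : y + (y + s * w + s * w) = 0 := by
      have h3 := Bar.add_self y
      have h4 := Bar.add_self (s * (w : F))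
      linear_combination h3 + h4
    rw [e1, e2, B.K_add_self, Bar.add_self, S.z_zero, S.c_zero, S.b_zero, S.a_zero]
    group

theorem mem_Su {i : Bool} {g : G} : g ∈ S.Su i ↔ ∃ x y w s, g = z i x * c i y * b i w * a i s := Iff.rfl

theorem a_Su (i : Bool) (s : F) : a i s ∈ S.Su i := ⟨0, 0, 0, s, by rw [S.z_zero, S.c_zero, S.b_zero]; group⟩
theorem b_Su (i : Bool) (s : B.K) : b i s ∈ S.Su i := ⟨0, 0, s, 0, by rw [S.z_zero, S.c_zero, S.a_zero]; group⟩
theorem c_Su (i : Bool) (s : F) : c i s ∈ S.Su i := ⟨0, s, 0, 0, by rw [S.z_zero, S.a_zero, S.b_zero]; group⟩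
theorem z_Su (i : Bool) (s : B.K) : z i s ∈ S.Su i := ⟨s, 0, 0, 0, by rw [S.a_zero, S.c_zero, S.b_zero]; group⟩

theorem Su_le_Sh (i : Bool) : S.Su i ≤ Sh Gr := by
  rintro _ ⟨x, y, w, s, rfl⟩
  unfold Sh
  refine mul_mem (mem_sup_left (mul_mem (mem_sup_left (mul_mem (mem_sup_left ?_) (mem_sup_right ?_)))
    (mem_sup_right ?_))) (mem_sup_right ?_)
  · exact S.z_mem _ _
  · exact S.c_mem _ _
  · exact S.b_mem _ _
  · exact S.a_mem _ _

theorem Su_le_LL (hw : WeylRel E) (i : Bool) : S.Su i ≤ LL E a b i := by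
  rintro _ ⟨x, y, w, s, rfl⟩
  exact mul_mem (mul_mem (mul_mem (S.z_LL hw _ _) (S.c_LL hw _ _)) (S.b_LL _ _)) (S.a_LL _ _)

theorem t_Su (i : Bool) : ∀ s ∈ S.Su i, E.t * s * E.t⁻¹ ∈ S.Su (!i) := by
  rintro _ ⟨x, y, w, s, rfl⟩
  refine ⟨x, y, w, s, ?_⟩
  rw [← S.t_z, ← S.t_c, ← S.t_b, ← S.t_a]
  group

theorem map_t (i : Bool) : (S.Su i).map (MulAut.conj E.t).toMonoidHom = S.Su (!i) := by
  apply le_antisymm
  · rintro _ ⟨s, hs, rfl⟩
    exact S.t_Su i s hs
  · intro g hg
    refine ⟨E.t * g * E.t⁻¹, ?_, ?_⟩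
    · have := S.t_Su (!i) g hg
      rwa [Bool.not_not] at this
    · change E.t * (E.t * g * E.t⁻¹) * E.t⁻¹ = g
      have h1 := E.t_sq
      calc E.t * (E.t * g * E.t⁻¹) * E.t⁻¹ = (E.t * E.t) * g * (E.t * E.t)⁻¹ := by group
        _ = g := by rw [h1]; group

theorem Su_inf : S.Su false ⊓ S.Su true = ⊥ := by
  rw [eq_bot_iff]
  intro g hg
  obtain ⟨⟨x, y, w, s, h1⟩, ⟨x', y', w', s', h2⟩⟩ := mem_inf.1 hg
  have h3 := S.disj false s s' x x' y y' w w' (h1.symm.trans h2)
  obtain ⟨rfl, rfl, rfl, rfl⟩ := h3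
  rw [mem_bot, h1, S.z_zero, S.c_zero, S.b_zero, S.a_zero]
  group

/-- elements of different factors commute -/
theorem Su_comm (hw : WeylRel E) {i j : Bool} (hij : i ≠ j) {x y : G} (hx : x ∈ S.Su i) (hy : y ∈ S.Su j) :
    x * y = y * x := S.LL_comm hw hij (S.Su_le_LL hw i hx) (S.Su_le_LL hw j hy)

/-- **The grown group is the direct product of the two factors.** -/
theorem prod (hw : WeylRel E) : Cfsg.IsInternalDirectProduct (S.Su false) (S.Su true) (Sh Gr) := by
  refine ⟨S.Su_le_Sh _, S.Su_le_Sh _, fun x hx y hy => S.Su_comm hw (by decide) hx hy, S.Su_inf, ?_⟩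
  apply le_antisymm (sup_le (S.Su_le_Sh _) (S.Su_le_Sh _))
  refine sup_le (sup_le (sup_le ?_ ?_) ?_) ?_
  · intro g hg
    obtain ⟨s, r, rfl⟩ := S.z_cover g hg
    exact mul_mem (mem_sup_left (S.z_Su _ _)) (mem_sup_right (S.z_Su _ _))
  · intro g hg
    obtain ⟨s, r, rfl⟩ := S.c_cover g hg
    exact mul_mem (mem_sup_left (S.c_Su _ _)) (mem_sup_right (S.c_Su _ _))
  · intro g hg
    obtain ⟨s, r, rfl⟩ := S.b_cover g hg
    exact mul_mem (mem_sup_left (S.b_Su _ _)) (mem_sup_right (S.b_Su _ _))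
  · intro g hg
    obtain ⟨s, r, rfl⟩ := S.a_cover g hg
    exact mul_mem (mem_sup_left (S.a_Su _ _)) (mem_sup_right (S.a_Su _ _))

theorem card_Su : Nat.card (S.Su false) = Nat.card (S.Su true) := by
  have h1 : S.Su true = (S.Su false).map (MulAut.conj E.t).toMonoidHom := (S.map_t false).symm
  rw [h1]
  exact Nat.card_congr ((S.Su false).equivMapOfInjective _ (MulAut.conj E.t).injective).toEquiv

end Split4

end Cfsg.Agent.StdRank2.UFourId
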