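import Mathlib
import Cfsg.Agent.StdRank2.UFourIdField
import Cfsg.Agent.StdRank2.UFourSplitS
import Cfsg.Agent.WreathFusion.UFourUni
import Cfsg.Agent.WreathFusion.PairW

/-!
# Type `U₄(q)`: the dichotomy field case / split case

`SplitM Gr M S₁`: a perfect group `M` generated by involutions, commuting with `M^t`, such that `{x x^t}` is the group
generated by the root groups of `A`, with `S₁ ≤ M` and `Sh Gr = S₁ × S₁^t`.

`exists_splitM_or_lab`: either such groups exist, or the roots of `x² + x + d` lie outside `K` (the field case, `Lab.field_equiv_sylow`).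
`abC_UU`, `zen_UU`: the conditions on `U` for the weak form of Theorem W.
-/

set_option autoImplicit false

namespace Cfsg.Agent.StdRank2.UFourId

open Cfsg.Agent.StdRank2.UFour VSec Subgroup Cfsg.Agent.WreathFusion
open scoped commutatorElement

variable {F : Type*} [Field F] [CharP F 2] {B : Bar F} {G : Type*} [Group G]

/-- generators of `A` -/
def genA (E : Env B G) : Set G :=
  {g | (∃ s, g = E.xa s) ∨ (∃ r, g = E.xb r) ∨ (∃ s, g = E.na * E.xa s * E.na⁻¹) ∨
    (∃ r, g = E.nb * E.xb r * E.nb⁻¹)}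

/-- The split case. -/
structure SplitM {E : Env B G} (Gr : Grown E) (M S₁ : Subgroup G) : Prop where
  perf : ⁅M, M⁆ = M
  two : M ≤ closure {x | x ∈ M ∧ x * x = 1}
  comm : ∀ x ∈ M, ∀ y ∈ M, x * (E.t * y * E.t) = E.t * y * E.t * x
  diag : ∀ x ∈ M, x * (E.t * x * E.t) ∈ closure (genA E)
  onto : ∀ g ∈ closure (genA E), ∃ x ∈ M, g = x * (E.t * x * E.t)
  na_M : ∀ x ∈ M, E.na * x * E.na⁻¹ ∈ M
  nb_M : ∀ x ∈ M, E.nb * x * E.nb⁻¹ ∈ M
  le : S₁ ≤ M
  prod : Cfsg.IsInternalDirectProduct S₁ (S₁.map (MulAut.conj E.t).toMonoidHom) (Sh Gr)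
  equiv : ∃ e : S₁ ≃* SeedPre.UU E.toWEnv, ∀ s : S₁, (e s : G) = s * (E.t * s * E.t⁻¹)

theorem tr_nondeg2 {s : F} (h : ∀ y, B.tr (s * B.s y) = 0) : s = 0 := by
  apply tr_nondeg (B := B)
  intro y
  have := h (B.s y)
  rw [B.invol, mul_comm] at this
  exact this

section UU

variable (E : Env B G)

/-- `Z(U) ≤ U'` -/
theorem zen_UU : Zen (SeedPre.UU E.toWEnv) := by
  intro x hx
  obtain ⟨hxc, hxU⟩ := mem_inf.1 hx
  exact UFourUni.center_le E hxU (fun s hs => (mem_centralizer_iff.1 hxc s hs).symm)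

/-- `C_U(U')` is abelian -/
theorem abC_UU : AbC (SeedPre.UU E.toWEnv) := by
  have key : ∀ x ∈ SeedPre.UU E.toWEnv,
      x ∈ centralizer ((⁅SeedPre.UU E.toWEnv, SeedPre.UU E.toWEnv⁆ : Subgroup G) : Set G) →
      ∃ v, x = E.w v := by
    intro x hx hxc
    obtain ⟨v, s, rfl⟩ := (UFourUni.mem_UU_iff E).1 hx
    have hs : s = 0 := by
      apply tr_nondeg2 (B := B)
      intro y
      have h1 := mem_centralizer_iff.1 hxc _ (UFourUni.w_mem_comm E (v := (0, y, 0)) rfl)
      have h2 := E.conj_ma s (0, y, 0)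
      have h3 := E.w_comm v (0, y, 0)
      have h4 : E.xa s * E.w (0, y, 0) * (E.xa s)⁻¹ = E.w (0, y, 0) := by
        have h5 : E.w v * (E.xa s * E.w (0, y, 0)) = E.w v * (E.w (0, y, 0) * E.xa s) := by
          calc E.w v * (E.xa s * E.w (0, y, 0)) = E.w v * E.xa s * E.w (0, y, 0) := by group
            _ = E.w (0, y, 0) * (E.w v * E.xa s) := h1.symm
            _ = (E.w (0, y, 0) * E.w v) * E.xa s := by group
            _ = _ := by rw [← h3]; group
        rw [mul_left_cancel h5, mul_inv_cancel_right]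
      rw [h4] at h2
      have h6 := congrArg (fun v : B.V => v.1) (E.w_injective h2)
      simp only [Bar.ma] at h6
      have h7 : (0 : B.K) = 0 + B.tr (s * B.s y) + B.nm s * 0 := h6
      rw [zero_add, mul_zero, add_zero] at h7
      exact h7.symm
    subst hs
    exact ⟨v, by rw [E.xa_zero, mul_one]⟩
  intro x hx hxc y hy hyc
  obtain ⟨u, rfl⟩ := key x hx hxc
  obtain ⟨v, rfl⟩ := key y hy hyc
  exact E.w_comm u v

end UU

namespace Split4

variable {E : Env B G} {Gr : Grown E} {a c : Bool → F → G} {b z : Bool → B.K → G} (S : Split4 Gr a c b z)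
  (hw : WeylRel E)

include S hw

theorem two_LL (i : Bool) : LL E a b i ≤ closure {x | x ∈ LL E a b i ∧ x * x = 1} := by
  conv_lhs => unfold LL
  rw [closure_le]
  intro x hx
  apply Subgroup.subset_closure
  refine ⟨Subgroup.subset_closure hx, ?_⟩
  cases hx with
  | a s => exact S.a_sq i s
  | b s => exact S.b_sq i s
  | a' s =>
    calc E.na * a i s * E.na⁻¹ * (E.na * a i s * E.na⁻¹) = E.na * (a i s * a i s) * E.na⁻¹ := by group
      _ = 1 := by rw [S.a_sq]; group
  | b' s =>
    calc E.nb * b i s * E.nb⁻¹ * (E.nb * b i s * E.nb⁻¹) = E.nb * (b i s * b i s) * E.nb⁻¹ := by group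
      _ = 1 := by rw [S.b_sq]; group

theorem t_comm {x y : G} (hx : x ∈ LL E a b false) (hy : y ∈ LL E a b false) :
    x * (E.t * y * E.t⁻¹) = E.t * y * E.t⁻¹ * x :=
  S.LL_comm hw (i := false) (j := true) (by decide) hx (S.t_LL false y hy)

/-- `x ↦ x (t x t⁻¹)` -/
def dg : ↥(LL E a b false) →* G where
  toFun x := x * (E.t * x * E.t⁻¹)
  map_one' := by simp
  map_mul' x y := by
    change (x : G) * y * (E.t * (x * y) * E.t⁻¹) = x * (E.t * x * E.t⁻¹) * (y * (E.t * y * E.t⁻¹))
    have h1 := S.t_comm hw y.2 x.2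
    calc (x : G) * y * (E.t * (x * y) * E.t⁻¹) = x * (y * (E.t * x * E.t⁻¹)) * (E.t * y * E.t⁻¹) := by group
      _ = x * ((E.t * x * E.t⁻¹) * y) * (E.t * y * E.t⁻¹) := by rw [h1]
      _ = _ := by group

theorem dg_apply (x : ↥(LL E a b false)) : S.dg hw x = x * (E.t * x * E.t⁻¹) := rfl

theorem dg_a (s : F) (h : a false s ∈ LL E a b false) : S.dg hw ⟨a false s, h⟩ = E.xa s := by
  rw [dg_apply]
  change a false s * (E.t * a false s * E.t⁻¹) = _
  rw [S.t_a, ← S.a_mul s]
  rfl

theorem dg_b (s : B.K) (h : b false s ∈ LL E a b false) : S.dg hw ⟨b false s, h⟩ = E.xb s := by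
  rw [dg_apply]
  change b false s * (E.t * b false s * E.t⁻¹) = _
  rw [S.t_b, ← S.b_mul s]
  rfl

theorem dg_a' (s : F) (h : E.na * a false s * E.na⁻¹ ∈ LL E a b false) :
    S.dg hw ⟨E.na * a false s * E.na⁻¹, h⟩ = E.na * E.xa s * E.na⁻¹ := by
  have h2 : E.t * E.na = E.na * E.t := E.t_na
  rw [dg_apply]
  change E.na * a false s * E.na⁻¹ * (E.t * (E.na * a false s * E.na⁻¹) * E.t⁻¹) = _
  have e : E.t * (E.na * a false s * E.na⁻¹) * E.t⁻¹ = E.na * (E.t * a false s * E.t⁻¹) * E.na⁻¹ := by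
    calc _ = (E.t * E.na) * a false s * (E.t * E.na)⁻¹ := by group
      _ = _ := by rw [h2]; group
  rw [e, S.t_a, ← S.a_mul s]
  change E.na * a false s * E.na⁻¹ * (E.na * a true s * E.na⁻¹) = _
  group

theorem dg_b' (s : B.K) (h : E.nb * b false s * E.nb⁻¹ ∈ LL E a b false) :
    S.dg hw ⟨E.nb * b false s * E.nb⁻¹, h⟩ = E.nb * E.xb s * E.nb⁻¹ := by
  have h2 : E.t * E.nb = E.nb * E.t := E.t_nb
  rw [dg_apply]
  change E.nb * b false s * E.nb⁻¹ * (E.t * (E.nb * b false s * E.nb⁻¹) * E.t⁻¹) = _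
  have e : E.t * (E.nb * b false s * E.nb⁻¹) * E.t⁻¹ = E.nb * (E.t * b false s * E.t⁻¹) * E.nb⁻¹ := by
    calc _ = (E.t * E.nb) * b false s * (E.t * E.nb)⁻¹ := by group
      _ = _ := by rw [h2]; group
  rw [e, S.t_b, ← S.b_mul s]
  change E.nb * b false s * E.nb⁻¹ * (E.nb * b true s * E.nb⁻¹) = _
  group

theorem range_dg : (S.dg hw).range = closure (genA E) := by
  apply le_antisymm
  · have h1 : (⊤ : Subgroup ↥(LL E a b false)) =
        Subgroup.closure ((LL E a b false).subtype ⁻¹' {g | LGen E a b false g}) :=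
      (closure_closure_coe_preimage (k := {g | LGen E a b false g})).symm
    rw [MonoidHom.range_eq_map, h1, Subgroup.map_le_iff_le_comap, closure_le]
    rintro ⟨x, hx⟩ hx'
    change S.dg hw ⟨x, hx⟩ ∈ closure (genA E)
    change LGen E a b false x at hx'
    apply Subgroup.subset_closure
    cases hx' with
    | a s => exact Or.inl ⟨s, S.dg_a hw s _⟩
    | b s => exact Or.inr (Or.inl ⟨s, S.dg_b hw s _⟩)
    | a' s => exact Or.inr (Or.inr (Or.inl ⟨s, S.dg_a' hw s _⟩))
    | b' s => exact Or.inr (Or.inr (Or.inr ⟨s, S.dg_b' hw s _⟩))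
  · rw [closure_le]
    rintro g (⟨s, rfl⟩ | ⟨r, rfl⟩ | ⟨s, rfl⟩ | ⟨r, rfl⟩)
    · exact ⟨⟨_, S.a_LL false s⟩, S.dg_a hw s _⟩
    · exact ⟨⟨_, S.b_LL false r⟩, S.dg_b hw r _⟩
    · exact ⟨⟨_, S.a'_LL false s⟩, S.dg_a' hw s _⟩
    · exact ⟨⟨_, S.b'_LL false r⟩, S.dg_b' hw r _⟩

/-- the diagonal of `Su false × Su true` -/
theorem mem_UU_iff {g : G} : g ∈ SeedPre.UU E.toWEnv ↔ ∃ s ∈ S.Su false, g = s * (E.t * s * E.t⁻¹) := by
  have key : ∀ (x : B.K) (y : F) (w : B.K) (s : F),
      E.w (x, y, w) * E.xa s = (z false x * c false y * b false w * a false s) *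
        (E.t * (z false x * c false y * b false w * a false s) * E.t⁻¹) := by
    intro x y w s
    have h1 : ∀ r, z false r * z true r = E.xz r := fun r => S.z_mul r
    have e : E.t * (z false x * c false y * b false w * a false s) * E.t⁻¹ =
        z true x * c true y * b true w * a true s := by
      calc _ = (E.t * z false x * E.t⁻¹) * (E.t * c false y * E.t⁻¹) * (E.t * b false w * E.t⁻¹) *
            (E.t * a false s * E.t⁻¹) := by group
        _ = _ := by rw [S.t_z, S.t_c, S.t_b, S.t_a]; rfl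
    rw [e]
    change E.xz x * E.xc y * E.xb w * E.xa s = _
    rw [← S.z_mul, ← S.c_mul, ← S.b_mul, ← S.a_mul]
    have c1 : ∀ g ∈ S.Su false, z true x * g = g * z true x := fun g hg =>
      S.Su_comm hw (i := true) (j := false) (by decide) (S.z_Su _ _) hg
    have c2 : ∀ g ∈ S.Su false, c true y * g = g * c true y := fun g hg =>
      S.Su_comm hw (i := true) (j := false) (by decide) (S.c_Su _ _) hg
    have c3 : ∀ g ∈ S.Su false, b true w * g = g * b true w := fun g hg =>
      S.Su_comm hw (i := true) (j := false) (by decide) (S.b_Su _ _) hg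
    have d1 := c1 (c false y * b false w * a false s)
      (mul_mem (mul_mem (S.c_Su _ _) (S.b_Su _ _)) (S.a_Su _ _))
    have d2 := c2 (b false w * a false s) (mul_mem (S.b_Su _ _) (S.a_Su _ _))
    have d3 := c3 (a false s) (S.a_Su _ _)
    calc z false x * z true x * (c false y * c true y) * (b false w * b true w) * (a false s * a true s)
        = z false x * z true x * (c false y * c true y) * b false w * (b true w * a false s) * a true s := by group
      _ = z false x * z true x * c false y * (c true y * (b false w * a false s)) * (b true w * a true s) := by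
          rw [d3]; group
      _ = z false x * (z true x * (c false y * b false w * a false s)) * (c true y * b true w * a true s) := by
          rw [d2]; group
      _ = _ := by rw [d1]; group
  rw [UFourUni.mem_UU_iff]
  constructor
  · rintro ⟨⟨x, y, w⟩, s, rfl⟩
    exact ⟨_, ⟨x, y, w, s, rfl⟩, key x y w s⟩
  · rintro ⟨_, ⟨x, y, w, s, rfl⟩, rfl⟩
    exact ⟨(x, y, w), s, (key x y w s).symm⟩

/-- **The split case.** -/
theorem splitM : SplitM Gr (LL E a b false) (S.Su false) := by
  have ht : E.t⁻¹ = E.t := WEnv.t_inv _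
  constructor
  case perf => exact le_antisymm (commutator_le_self _) (S.LL_perfect hw false)
  case two => exact S.two_LL hw false
  case comm =>
    intro x hx y hy
    have := S.t_comm hw hx hy
    rwa [ht] at this
  case diag =>
    intro x hx
    rw [← S.range_dg hw]
    refine ⟨⟨x, hx⟩, ?_⟩
    rw [dg_apply]
    change x * (E.t * x * E.t⁻¹) = _
    rw [ht]
  case onto =>
    intro g hg
    rw [← S.range_dg hw] at hg
    obtain ⟨x, rfl⟩ := hg
    refine ⟨x, x.2, ?_⟩
    rw [dg_apply, ht]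
  case na_M => exact fun x hx => S.na_LL hw false hx
  case nb_M => exact fun x hx => S.nb_LL hw false hx
  case le => exact S.Su_le_LL hw false
  case prod =>
    rw [S.map_t false]
    exact S.prod hw
  case equiv =>
    exact ChartUni.exists_diag_equiv (S₂ := S.Su true)
      (fun x hx y hy => S.Su_comm hw (i := false) (j := true) (by decide) hx hy) S.Su_inf
      (fun s hs => S.t_Su false s hs) (fun g => S.mem_UU_iff hw)

end Split4

/-- **The dichotomy for type `U₄(q)`.** -/
theorem exists_splitM_or_lab [Finite F] {E : Env B G} (Gr : Grown E) (hw : WeylRel E) :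
    (∃ M S₁, SplitM Gr M S₁) ∨
      (∃ (d : B.K) (ε : F) (pa pc : F → G) (pb pz : B.K → G), Lab Gr d pa pc pb pz ∧ ε + B.s ε = 1 ∧
        ε * B.s ε = (d : F)) := by
  obtain ⟨d, pa, pc, pb, pz, h⟩ := exists_lab Gr
  rcases dichotomy d with ⟨ε, hε⟩ | ⟨ε, h1, h2⟩
  · exact Or.inl ⟨_, _, (h.exists_split4 hw hε).splitM hw⟩
  · exact Or.inr ⟨d, ε, pa, pc, pb, pz, h, h1, h2⟩

end Cfsg.Agent.StdRank2.UFourId
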